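import Cfsg.Agent.Cit.Defs
import Cfsg.Agent.KFacts.RgdFld.Two_m3
import Cfsg.Agent.Cit.OneEndSD_m3
import Cfsg.Agent.TwoFusion.Isolated
import Cfsg.Agent.Lib.Cores
import Cfsg.Agent.OddHalf.Stmts_m3
import Cfsg.Agent.Fischer3.SpCase
import Cfsg.Agent.S0270
import Cfsg.Agent.Lib.GenFitting
import Cfsg.Agent.FastGrp
import Cfsg.Agent.Prune
set_option linter.all false

section
prune_inst 0x7ffcfcfbaff83fffffff7e7fffbddffdf9f97fffe6dff9fbffebfbff9bff4b67ebe5fbafefecd2fddef6e29410f87b53ffffee7feb6bd87ffffd5ff45ffbff9fffffbd2c51d6b83e1ffe6ffffbf07f8e7f3fffffffffffffffffffffffffffffffffffffffff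

-- part: Cit/Nil/RTwo/Def
section
set_option linter.all false
open scoped Cfsg.Agent.FastGrp

-- part: Cit/Nil/RTwo/Q3
section
/-!
# Coordinates of a quaternion group of order 8

`Q3 K z x` : `K = {1, z, x i, z x i}`, `(x i)² = z`, `x i x (i+1) = x (i+2)` (`i : Fin 3`).
`Act z x y g σ` : `g` maps `x i` to `y (σ i)` modulo `z`.
-/

set_option autoImplicit false
set_option linter.unusedSectionVars false

namespace Cfsg.Agent.Cit.Nil.RTwo

open Subgroup Cfsg.Agent.Cit

variable {G : Type*} [Group G]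

theorem i11 (i : Fin 3) : i + 1 + 1 = i + 2 := by revert i; decide
theorem i12 (i : Fin 3) : i + 1 + 2 = i := by revert i; decide
theorem i21 (i : Fin 3) : i + 2 + 1 = i := by revert i; decide
theorem i22 (i : Fin 3) : i + 2 + 2 = i + 1 := by revert i; decide
theorem i_ne1 (i : Fin 3) : i ≠ i + 1 := by revert i; decide
theorem i_ne2 (i : Fin 3) : i ≠ i + 2 := by revert i; decide
theorem i_ne12 (i : Fin 3) : i + 1 ≠ i + 2 := by revert i; decide
theorem i_cases {i j : Fin 3} (h : i ≠ j) : j = i + 1 ∨ j = i + 2 := by revert i j; decide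
theorem i_cases3 (i j : Fin 3) : j = i ∨ j = i + 1 ∨ j = i + 2 := by revert i j; decide
theorem i_add1 (i m : Fin 3) : i + m + 1 = i + 1 + m := by revert i m; decide
theorem i_add2 (i m : Fin 3) : i + m + 2 = i + 2 + m := by revert i m; decide
theorem i_subadd (i m : Fin 3) : i - m + m = i := by revert i m; decide
theorem i_subsub (i m : Fin 3) : m - (m - i) = i := by revert i m; decide
theorem i_sub1 (i m : Fin 3) : m - i = m - (i + 1) + 1 := by revert i m; decide
theorem i_sub2 (i m : Fin 3) : m - (i + 2) = m - (i + 1) + 2 := by revert i m; decide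

/-- coordinates of the quaternion group `K` of order 8 with involution `z` -/
structure Q3 (K : Subgroup G) (z : G) (x : Fin 3 → G) : Prop where
  mem : ∀ i, x i ∈ K
  sq : ∀ i, x i * x i = z
  mul : ∀ i, x i * x (i + 1) = x (i + 2)
  z2 : z * z = 1
  z1 : z ≠ 1
  cov : ∀ k ∈ K, k = 1 ∨ k = z ∨ ∃ i, k = x i ∨ k = z * x i

namespace Q3

variable {K L : Subgroup G} {z : G} {x y : Fin 3 → G}

theorem zmem (h : Q3 K z x) : z ∈ K := by
  rw [← h.sq 0]; exact mul_mem (h.mem 0) (h.mem 0)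

theorem zinv (h : Q3 K z x) : z⁻¹ = z := inv_eq_of_mul_eq_one_right h.z2

theorem zc (h : Q3 K z x) (i : Fin 3) : z * x i = x i * z := by
  rw [← h.sq i, mul_assoc]

theorem mul' (h : Q3 K z x) (i : Fin 3) : x (i + 1) * x i = z * x (i + 2) := by
  have h1 := h.mul (i + 1)
  rw [i11, i12] at h1
  rw [← h1, ← mul_assoc, h.sq]

theorem mul2 (h : Q3 K z x) (i : Fin 3) : x (i + 2) * x i = x (i + 1) := by
  have h1 := h.mul (i + 2)
  rwa [i21, i22] at h1

theorem mul2' (h : Q3 K z x) (i : Fin 3) : x i * x (i + 2) = z * x (i + 1) := by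
  have h1 := h.mul' (i + 2)
  rwa [i21, i22] at h1

theorem mul12 (h : Q3 K z x) (i : Fin 3) : x (i + 1) * x (i + 2) = x i := by
  have h1 := h.mul (i + 1)
  rwa [i11, i12] at h1

theorem mul21 (h : Q3 K z x) (i : Fin 3) : x (i + 2) * x (i + 1) = z * x i := by
  have h1 := h.mul' (i + 1)
  rwa [i11, i12] at h1

theorem inv (h : Q3 K z x) (i : Fin 3) : (x i)⁻¹ = z * x i := by
  apply inv_eq_of_mul_eq_one_right
  rw [h.zc, ← mul_assoc, h.sq, h.z2]

theorem conj_self (i : Fin 3) : x i * x i * (x i)⁻¹ = x i := mul_inv_cancel_right _ _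

theorem conj_ne (h : Q3 K z x) {i j : Fin 3} (hij : i ≠ j) : x i * x j * (x i)⁻¹ = z * x j := by
  rw [h.inv]
  rcases i_cases hij with rfl | rfl
  · rw [h.mul, h.zc, ← mul_assoc, h.mul2, h.zc]
  · rw [h.mul2', h.zc i]
    calc z * x (i + 1) * (x i * z) = z * (x (i + 1) * x i) * z := by group
      _ = z * (z * x (i + 2)) * z := by rw [h.mul']
      _ = (z * z) * (x (i + 2) * z) := by group
      _ = z * x (i + 2) := by rw [h.z2, ← h.zc, one_mul]

theorem anti (h : Q3 K z x) {i j : Fin 3} (hij : i ≠ j) : x i * x j = z * x j * x i := by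
  rw [← h.conj_ne hij, inv_mul_cancel_right]

theorem ne_one (h : Q3 K z x) (i : Fin 3) : x i ≠ 1 := fun h1 => h.z1 (by
  have := h.sq i; rw [h1, one_mul] at this; exact this.symm)

theorem ne_z (h : Q3 K z x) (i : Fin 3) : x i ≠ z := fun h1 => h.z1 (by
  have := h.sq i; rw [h1, h.z2] at this; exact this.symm)

theorem zx_ne_one (h : Q3 K z x) (i : Fin 3) : z * x i ≠ 1 := fun h1 => h.ne_z i (by
  have := eq_inv_of_mul_eq_one_right h1; rwa [h.zinv] at this)

theorem zx_ne_z (h : Q3 K z x) (i : Fin 3) : z * x i ≠ z := fun h1 => h.ne_one i (mul_eq_left.1 h1)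

theorem zx_ne (h : Q3 K z x) (i : Fin 3) : z * x i ≠ x i := fun h1 => h.z1 (mul_eq_right.1 h1)

theorem zzx (h : Q3 K z x) (g : G) : z * (z * g) = g := by rw [← mul_assoc, h.z2, one_mul]

theorem ne_of_ne (h : Q3 K z x) {i j : Fin 3} (hij : i ≠ j) : x i ≠ x j := by
  intro h1
  have := h.anti hij
  rw [h1, h.sq] at this
  have h2 : z * x j * x j = z * z := by rw [mul_assoc, h.sq]
  rw [h2, h.z2] at this
  exact h.z1 this

theorem ne_z_of_ne (h : Q3 K z x) {i j : Fin 3} (hij : i ≠ j) : x i ≠ z * x j := by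
  intro h1
  have := h.anti hij
  rw [h1] at this
  have h2 : z * x j * x j = z * z := by rw [mul_assoc, h.sq]
  have h3 : z * x j * (z * x j) = z := by
    calc z * x j * (z * x j) = z * (x j * z) * x j := by group
      _ = z * (z * x j) * x j := by rw [h.zc]
      _ = z := by rw [h.zzx, h.sq]
  rw [h2, h3, h.z2] at this
  exact h.z1 this.symm

theorem inj (h : Q3 K z x) {i j : Fin 3} (hij : x i = x j ∨ x i = z * x j) : i = j := by
  by_contra hne
  rcases hij with h1 | h1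
  · exact h.ne_of_ne hne h1
  · exact h.ne_z_of_ne hne h1

theorem le_of_mem (h : Q3 K z x) {H : Subgroup G} {i j : Fin 3} (hij : i ≠ j) (hi : x i ∈ H) (hj : x j ∈ H) :
    K ≤ H := by
  have hz : z ∈ H := by rw [← h.sq i]; exact mul_mem hi hi
  have hall : ∀ k, x k ∈ H := by
    intro k
    rcases i_cases hij with rfl | rfl
    · rcases i_cases3 i k with rfl | rfl | rfl
      · exact hi
      · exact hj
      · rw [← h.mul]; exact mul_mem hi hj
    · rcases i_cases3 i k with rfl | rfl | rfl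
      · exact hi
      · rw [← h.mul2]; exact mul_mem hj hi
      · exact hj
  intro k hk
  rcases h.cov k hk with rfl | rfl | ⟨m, rfl | rfl⟩
  · exact one_mem _
  · exact hz
  · exact hall m
  · exact mul_mem hz (hall m)

theorem le_of_all (h : Q3 K z x) {H : Subgroup G} (hx : ∀ i, x i ∈ H) : K ≤ H :=
  h.le_of_mem (i_ne1 0) (hx _) (hx _)

/-- an element of `K` of order 4 -/
theorem of_sq (h : Q3 K z x) {k : G} (hk : k ∈ K) (hs : k * k = z) : ∃ i, k = x i ∨ k = z * x i := by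
  rcases h.cov k hk with rfl | rfl | h1
  · exact absurd (by rw [← hs, one_mul]) h.z1
  · exact absurd (by rw [← hs, h.z2]) h.z1
  · exact h1

theorem invol (h : Q3 K z x) {k : G} (hk : k ∈ K) (hs : k * k = 1) : k = 1 ∨ k = z := by
  rcases h.cov k hk with rfl | rfl | ⟨i, rfl | rfl⟩
  · exact Or.inl rfl
  · exact Or.inr rfl
  · exact absurd ((h.sq i).symm.trans hs) h.z1
  · refine absurd ?_ h.z1
    rw [← hs]
    calc z = z * (z * (x i * x i)) := by rw [h.sq, h.z2, mul_one]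
      _ = z * (z * x i) * x i := by group
      _ = z * (x i * z) * x i := by rw [h.zc]
      _ = _ := by group

/-- elements of `K` commuting with two axes -/
theorem cent (h : Q3 K z x) {k : G} (hk : k ∈ K) {i j : Fin 3} (hij : i ≠ j) (hi : k * x i = x i * k)
    (hj : k * x j = x j * k) : k = 1 ∨ k = z := by
  have key : ∀ m, (∀ l, l ≠ m → k * x l ≠ x l * k) → (i = m ∧ j = m) := by
    intro m hm
    refine ⟨?_, ?_⟩
    · by_contra h1; exact hm i h1 hi
    · by_contra h1; exact hm j h1 hj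
  rcases h.cov k hk with rfl | rfl | ⟨m, rfl | rfl⟩
  · exact Or.inl rfl
  · exact Or.inr rfl
  · exfalso
    have := key m (fun l hl h1 => by
      have h2 := h.anti hl.symm
      rw [h1] at h2
      exact h.z1 (mul_eq_right.1 (show z * (x l * x m) = x l * x m by rw [← mul_assoc, ← h2])))
    exact hij (this.1.trans this.2.symm)
  · exfalso
    have := key m (fun l hl h1 => by
      have h2 := h.anti hl.symm
      have h3 : z * x m * x l = x m * z * x l := by rw [h.zc]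
      have h4 : x l * (z * x m) = z * x l * x m := by rw [← mul_assoc, ← h.zc]
      rw [h4, mul_assoc, h2, mul_assoc z (x l) (x m)] at h1
      exact h.z1 (mul_eq_right.1 (mul_left_cancel h1)))
    exact hij (this.1.trans this.2.symm)

theorem not_comm (h : Q3 K z x) : x 0 * x 1 ≠ x 1 * x 0 := by
  intro h1
  have h2 := h.anti (i_ne1 0)
  rw [zero_add, h1] at h2
  exact h.z1 (mul_eq_right.1 (show z * (x 1 * x 0) = x 1 * x 0 by rw [← mul_assoc, ← h2]))

theorem conj (h : Q3 K z x) (g : G) : Q3 (cj g K) (g * z * g⁻¹) (fun i => g * x i * g⁻¹) where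
  mem i := conj_mem_cj (h.mem i)
  sq i := by
    show g * x i * g⁻¹ * (g * x i * g⁻¹) = g * z * g⁻¹
    rw [← h.sq i]; group
  mul i := by
    show g * x i * g⁻¹ * (g * x (i + 1) * g⁻¹) = g * x (i + 2) * g⁻¹
    rw [← h.mul i]; group
  z2 := by
    calc g * z * g⁻¹ * (g * z * g⁻¹) = g * (z * z) * g⁻¹ := by group
      _ = 1 := by rw [h.z2]; group
  z1 h1 := h.z1 (by
    have h2 : z = g⁻¹ * (g * z * g⁻¹) * g := by group
    rw [h2, h1]; group)
  cov k hk := by
    rw [mem_cj] at hk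
    have h1 : k = g * (g⁻¹ * k * g) * g⁻¹ := by group
    rcases h.cov _ hk with h2 | h2 | ⟨i, h2 | h2⟩
    · left; rw [h1, h2]; group
    · right; left; rw [h1, h2]
    · right; right; exact ⟨i, Or.inl (by rw [h1, h2])⟩
    · right; right; exact ⟨i, Or.inr (by rw [h1, h2]; group)⟩

theorem conj_comm (h : Q3 K z x) {g : G} (hg : g * z = z * g) :
    Q3 (cj g K) z (fun i => g * x i * g⁻¹) := by
  have := h.conj g
  rwa [hg, mul_inv_cancel_right] at this

/-- rotated coordinates -/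
theorem rot (h : Q3 K z x) (m : Fin 3) : Q3 K z (fun i => x (i + m)) where
  mem i := h.mem _
  sq i := h.sq _
  mul i := by
    have h1 := h.mul (i + m)
    rwa [i_add1, i_add2] at h1
  z2 := h.z2
  z1 := h.z1
  cov k hk := by
    rcases h.cov k hk with h2 | h2 | ⟨i, h2⟩
    · exact Or.inl h2
    · exact Or.inr (Or.inl h2)
    · refine Or.inr (Or.inr ⟨i - m, ?_⟩)
      rwa [i_subadd]

/-- reflected coordinates -/
theorem refl (h : Q3 K z x) (m : Fin 3) : Q3 K z (fun i => z * x (m - i)) where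
  mem i := mul_mem h.zmem (h.mem _)
  sq i := by
    show z * x (m - i) * (z * x (m - i)) = z
    calc z * x (m - i) * (z * x (m - i)) = z * (x (m - i) * z) * x (m - i) := by group
      _ = z * (z * x (m - i)) * x (m - i) := by rw [h.zc]
      _ = z := by rw [h.zzx, h.sq]
  mul i := by
    show z * x (m - i) * (z * x (m - (i + 1))) = z * x (m - (i + 2))
    rw [i_sub1 i m, i_sub2 i m]
    have h3 := h.mul' (m - (i + 1))
    calc z * x (m - (i + 1) + 1) * (z * x (m - (i + 1)))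
        = z * (x (m - (i + 1) + 1) * z) * x (m - (i + 1)) := by group
      _ = z * (z * x (m - (i + 1) + 1)) * x (m - (i + 1)) := by rw [h.zc]
      _ = _ := by rw [h.zzx, h3]
  z2 := h.z2
  z1 := h.z1
  cov k hk := by
    rcases h.cov k hk with h2 | h2 | ⟨i, h2⟩
    · exact Or.inl h2
    · exact Or.inr (Or.inl h2)
    · refine Or.inr (Or.inr ⟨m - i, ?_⟩)
      rw [i_subsub, h.zzx]
      exact h2.symm

/-- permuted coordinates -/
theorem perm (h : Q3 K z x) (σ : Equiv.Perm (Fin 3)) :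
    ∃ x', Q3 K z x' ∧ ∀ i, x' i = x (σ i) ∨ x' i = z * x (σ i) := by
  have key : ∀ σ : Equiv.Perm (Fin 3), (∃ m, ∀ i, σ i = i + m) ∨ (∃ m, ∀ i, σ i = m - i) := by decide
  rcases key σ with ⟨m, hm⟩ | ⟨m, hm⟩
  · exact ⟨_, h.rot m, fun i => Or.inl (by rw [hm])⟩
  · exact ⟨_, h.refl m, fun i => Or.inr (by rw [hm])⟩

end Q3

/-- `g` maps `x i` to `y (σ i)` modulo `z` -/
def Act (z : G) (x y : Fin 3 → G) (g : G) (σ : Equiv.Perm (Fin 3)) : Prop :=
  ∀ i, g * x i * g⁻¹ = y (σ i) ∨ g * x i * g⁻¹ = z * y (σ i)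

section Act

variable {K L M : Subgroup G} {z g g' : G} {x y w : Fin 3 → G} {σ τ : Equiv.Perm (Fin 3)}

theorem Act.comp (hz : z * z = 1) (h : Act z x y g σ) (h' : Act z y w g' τ) (hg' : g' * z = z * g') :
    Act z x w (g' * g) (τ * σ) := by
  intro i
  have h1 : g' * g * x i * (g' * g)⁻¹ = g' * (g * x i * g⁻¹) * g'⁻¹ := by group
  have h2 : g' * (z * y (σ i)) * g'⁻¹ = z * (g' * y (σ i) * g'⁻¹) := by
    calc g' * (z * y (σ i)) * g'⁻¹ = (g' * z) * y (σ i) * g'⁻¹ := by group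
      _ = (z * g') * y (σ i) * g'⁻¹ := by rw [hg']
      _ = _ := by group
  rw [h1]
  rcases h i with h3 | h3
  · rw [h3]; exact h' (σ i)
  · rw [h3, h2]
    rcases h' (σ i) with h4 | h4
    · right; rw [h4]; rfl
    · left; rw [h4, ← mul_assoc, hz, one_mul]; rfl

theorem Act.unique (hy : Q3 L z y) (h : Act z x y g σ) (h' : Act z x y g τ) : σ = τ := by
  apply Equiv.ext
  intro i
  rcases h i with h1 | h1 <;> rcases h' i with h2 | h2
  · exact hy.inj (Or.inl (h1.symm.trans h2))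
  · exact hy.inj (Or.inr (h1.symm.trans h2))
  · exact (hy.inj (Or.inr (h2.symm.trans h1))).symm
  · exact hy.inj (Or.inl (mul_left_cancel (h1.symm.trans h2)))

theorem Act.one (x : Fin 3 → G) (z : G) : Act z x x 1 1 := fun i => Or.inl (by simp)

theorem Q3.exists_act (hx : Q3 K z x) (hy : Q3 L z y) (hg : cj g K = L) (hgz : g * z = z * g) :
    ∃ σ, Act z x y g σ := by
  have h1 : ∀ i, ∃ j, g * x i * g⁻¹ = y j ∨ g * x i * g⁻¹ = z * y j := by
    intro i
    refine hy.of_sq (by rw [← hg]; exact conj_mem_cj (hx.mem i)) ?_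
    calc g * x i * g⁻¹ * (g * x i * g⁻¹) = g * (x i * x i) * g⁻¹ := by group
      _ = z := by rw [hx.sq, hgz, mul_inv_cancel_right]
  choose f hf using h1
  have hinj : Function.Injective f := by
    intro i j hij
    have h2 : g * x i * g⁻¹ = g * x j * g⁻¹ ∨ g * x i * g⁻¹ = z * (g * x j * g⁻¹) := by
      rcases hf i with h3 | h3 <;> rcases hf j with h4 | h4
      · left; rw [h3, h4, hij]
      · right; rw [h3, h4, hij, hy.zzx]
      · right; rw [h3, h4, hij]
      · left; rw [h3, h4, hij]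
    apply hx.inj
    rcases h2 with h2 | h2
    · left; exact mul_left_cancel (mul_right_cancel h2)
    · right
      have h3 : g * x i * g⁻¹ = g * (z * x j) * g⁻¹ := by
        rw [h2]
        calc z * (g * x j * g⁻¹) = (z * g) * x j * g⁻¹ := by group
          _ = (g * z) * x j * g⁻¹ := by rw [hgz]
          _ = _ := by group
      exact mul_left_cancel (mul_right_cancel h3)
  exact ⟨Equiv.ofBijective f (Finite.injective_iff_bijective.1 hinj), hf⟩

/-- `Act` with the identity is "inner" -/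
theorem Act.inner (hx : Q3 K z x) (h : Act z x x g 1) (hgz : g * z = z * g) :
    ∀ k ∈ K, g * k * g⁻¹ = k ∨ g * k * g⁻¹ = z * k := by
  intro k hk
  rcases hx.cov k hk with rfl | rfl | ⟨i, rfl | rfl⟩
  · left; group
  · left; rw [hgz, mul_inv_cancel_right]
  · exact h i
  · have h1 : g * (z * x i) * g⁻¹ = z * (g * x i * g⁻¹) := by
      calc g * (z * x i) * g⁻¹ = (g * z) * x i * g⁻¹ := by group
        _ = (z * g) * x i * g⁻¹ := by rw [hgz]
        _ = _ := by group
    rw [h1]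
    rcases h i with h2 | h2
    · left; rw [h2]; rfl
    · right; rw [h2]; rfl

theorem Act.of_inner (hx : Q3 K z x) (h : ∀ k ∈ K, g * k * g⁻¹ = k ∨ g * k * g⁻¹ = z * k) : Act z x x g 1 :=
  fun i => h _ (hx.mem i)

/-- an inner automorphism of `K` is trivial or conjugation by an `x j` -/
theorem Q3.inner_cases (hx : Q3 K z x) (h : ∀ k ∈ K, g * k * g⁻¹ = k ∨ g * k * g⁻¹ = z * k) :
    (∀ k ∈ K, g * k * g⁻¹ = k) ∨ ∃ j, ∀ k ∈ K, g * k * g⁻¹ = x j * k * (x j)⁻¹ := by
  have hm : ∀ i, g * x (i + 2) * g⁻¹ = (g * x i * g⁻¹) * (g * x (i + 1) * g⁻¹) := by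
    intro i; rw [← hx.mul i]; group
  -- two elements agreeing on `x 0`, `x 1` agree on `K`
  have hext : ∀ u : G, g * x 0 * g⁻¹ = u * x 0 * u⁻¹ → g * x 1 * g⁻¹ = u * x 1 * u⁻¹ →
      ∀ k ∈ K, g * k * g⁻¹ = u * k * u⁻¹ := by
    intro u h0 h1 k hk
    have hle : K ≤ centralizer {u⁻¹ * g} := by
      refine hx.le_of_mem (i_ne1 0) ?_ ?_
      · rw [mem_centralizer_singleton_iff]
        calc x 0 * (u⁻¹ * g) = u⁻¹ * (u * x 0 * u⁻¹) * g := by group
          _ = u⁻¹ * (g * x 0 * g⁻¹) * g := by rw [h0]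
          _ = _ := by group
      · rw [mem_centralizer_singleton_iff, zero_add]
        calc x 1 * (u⁻¹ * g) = u⁻¹ * (u * x 1 * u⁻¹) * g := by group
          _ = u⁻¹ * (g * x 1 * g⁻¹) * g := by rw [h1]
          _ = _ := by group
    have h2 := mem_centralizer_singleton_iff.1 (hle hk)
    calc g * k * g⁻¹ = u * (u⁻¹ * g * k) * g⁻¹ := by group
      _ = u * (k * (u⁻¹ * g)) * g⁻¹ := by rw [h2]
      _ = _ := by group
  rcases h _ (hx.mem 0) with h0 | h0 <;> rcases h _ (hx.mem 1) with h1 | h1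
  · left
    intro k hk
    have := hext 1 (by rw [h0]; group) (by rw [h1]; group) k hk
    rw [this]; group
  · right
    exact ⟨0, hext _ (by rw [h0, conj_self]) (by rw [h1, hx.conj_ne (by decide)])⟩
  · right
    exact ⟨1, hext _ (by rw [h0, hx.conj_ne (by decide)]) (by rw [h1, conj_self])⟩
  · right
    exact ⟨2, hext _ (by rw [h0, hx.conj_ne (by decide)]) (by rw [h1, hx.conj_ne (by decide)])⟩

end Act

/-- coordinates starting with two given non-commuting elements -/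
theorem Q3.of_pair {K : Subgroup G} {z : G} {x : Fin 3 → G} (h : Q3 K z x) {a b : G} (ha : a ∈ K) (hb : b ∈ K)
    (ha2 : a * a = z) (hb2 : b * b = z) (hab : a * b ≠ b * a) : Q3 K z ![a, b, a * b] := by
  obtain ⟨i, hi⟩ := h.of_sq ha ha2
  obtain ⟨j, hj⟩ := h.of_sq hb hb2
  have hza : z * a = a * z := by rw [← ha2, mul_assoc]
  have hzb : z * b = b * z := by rw [← hb2, mul_assoc]
  have hij : i ≠ j := by
    rintro rfl
    apply hab
    rcases hi with rfl | rfl <;> rcases hj with rfl | rfl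
    · rfl
    · rw [← mul_assoc, ← hza, mul_assoc]
    · rw [← mul_assoc, ← hzb, mul_assoc]
    · rfl
  have hanti : a * b = z * (b * a) := by
    have h1 := h.anti hij
    rcases hi with rfl | rfl <;> rcases hj with rfl | rfl
    · rw [h1, mul_assoc]
    · calc x i * (z * x j) = (x i * z) * x j := by group
        _ = (z * x i) * x j := by rw [h.zc]
        _ = z * (x i * x j) := by group
        _ = z * (z * x j * x i) := by rw [h1]
    · calc z * x i * x j = z * (x i * x j) := by group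
        _ = z * (z * x j * x i) := by rw [h1]
        _ = z * ((x j * z) * x i) := by rw [h.zc j]
        _ = _ := by group
    · calc z * x i * (z * x j) = z * (x i * z) * x j := by group
        _ = z * (z * x i) * x j := by rw [h.zc]
        _ = z * z * (x i * x j) := by group
        _ = z * z * (z * x j * x i) := by rw [h1]
        _ = z * (z * (z * x j) * x i) := by group
        _ = z * (z * (x j * z) * x i) := by rw [h.zc j]
        _ = _ := by group
  have hbab : b * (a * b) = a := by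
    rw [hanti]
    calc b * (z * (b * a)) = (b * z) * (b * a) := by group
      _ = (z * b) * (b * a) := by rw [hzb]
      _ = z * (b * b) * a := by group
      _ = a := by rw [hb2, h.z2, one_mul]
  have haba : a * b * a = b := by
    rw [hanti]
    calc z * (b * a) * a = z * (b * (a * a)) := by group
      _ = z * (b * z) := by rw [ha2]
      _ = z * (z * b) := by rw [hzb]
      _ = b := h.zzx b
  refine ⟨?_, ?_, ?_, h.z2, h.z1, ?_⟩
  · intro m
    fin_cases m
    · exact ha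
    · exact hb
    · exact mul_mem ha hb
  · intro m
    fin_cases m
    · exact ha2
    · exact hb2
    · show a * b * (a * b) = z
      calc a * b * (a * b) = (a * b * a) * b := by group
        _ = z := by rw [haba, hb2]
  · intro m
    fin_cases m
    · rfl
    · exact hbab
    · exact haba
  · -- every coordinate is one of the new ones modulo `z`
    have hnew : ∀ m, ∃ l : Fin 3, x m = ![a, b, a * b] l ∨ x m = z * ![a, b, a * b] l := by
      intro m
      have hx2 : x j * x i = z * (x i * x j) := by rw [h.anti hij.symm, mul_assoc]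
      have hprod : a * b = x i * x j ∨ a * b = z * (x i * x j) := by
        rcases hi with rfl | rfl <;> rcases hj with rfl | rfl
        · left; rfl
        · right
          calc x i * (z * x j) = (x i * z) * x j := by group
            _ = (z * x i) * x j := by rw [h.zc]
            _ = _ := by group
        · right; rw [mul_assoc]
        · left
          calc z * x i * (z * x j) = z * (x i * z) * x j := by group
            _ = z * (z * x i) * x j := by rw [h.zc]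
            _ = _ := by rw [h.zzx]
      by_cases hmi : m = i
      · refine ⟨0, ?_⟩
        subst hmi
        rcases hi with hi | hi
        · left; exact hi.symm
        · right; show x m = z * a; rw [hi, h.zzx]
      by_cases hmj : m = j
      · refine ⟨1, ?_⟩
        subst hmj
        rcases hj with hj | hj
        · left; exact hj.symm
        · right; show x m = z * b; rw [hj, h.zzx]
      refine ⟨2, ?_⟩
      have hm : x i * x j = x m ∨ x i * x j = z * x m := by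
        rcases i_cases hij with rfl | rfl
        · have : m = i + 2 := by
            rcases i_cases (Ne.symm hmi) with h1 | h1
            · exact absurd h1 hmj
            · exact h1
          subst this
          left; exact h.mul i
        · have : m = i + 1 := by
            rcases i_cases (Ne.symm hmi) with h1 | h1
            · exact h1
            · exact absurd h1 hmj
          subst this
          right; exact h.mul2' i
      show x m = a * b ∨ x m = z * (a * b)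
      rcases hprod with h1 | h1 <;> rcases hm with h2 | h2
      · left; rw [h1, h2]
      · right; rw [h1, h2, h.zzx]
      · right; rw [h1, h2, h.zzx]
      · left; rw [h1, h2, h.zzx]
    intro k hk
    rcases h.cov k hk with h1 | h1 | ⟨m, h1⟩
    · exact Or.inl h1
    · exact Or.inr (Or.inl h1)
    · obtain ⟨l, hl⟩ := hnew m
      refine Or.inr (Or.inr ⟨l, ?_⟩)
      rcases h1 with h1 | h1 <;> rcases hl with hl | hl
      · left; rw [h1, hl]
      · right; rw [h1, hl]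
      · right; rw [h1, hl]
      · left; rw [h1, hl, h.zzx]

end Cfsg.Agent.Cit.Nil.RTwo
end

-- part: Cit/Nil/RTwo/Def
section
/-!
# S1309, (6b), (C3), `r = 2`, `m = 1`: the setting

Text: `blueprints/CIT-6b-r2m1-helper274.md`.

* `W2 Om` : members are quaternion of order 8, exactly two over each `z`, commuting members have the same `zz`;
* `Mem Om z K` : `K` is a member over `z`; `InZ Om z`;
* `Inn Om z g` : `g` acts trivially on `K/⟨z⟩` for the two members `K` over `z` (`⟺ g ∈ R_z X_z`);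
* `CX Om z = X_z`, `RZ Om z = R_z`;
* `W2.inn_both` : trichotomy: `t` inner on one member over `z` gives `Inn z t` and `Inn t z` (type I).
-/

set_option autoImplicit false
set_option linter.unusedSectionVars false

namespace Cfsg.Agent.Cit.Nil.RTwo

open Subgroup Cfsg Cfsg.Agent.Cit

variable {G : Type*} [Group G]

/-- the world `r = 2`, `m = 1` -/
structure W2 (Om : Set (Subgroup G)) : Prop where
  hyp : Hyp Om
  card : ∀ K ∈ Om, Nat.card K = 8
  two : ∀ K ∈ Om, ∃ L ∈ Om, L ≠ K ∧ zz L = zz K ∧ ∀ M ∈ Om, zz M = zz K → M = K ∨ M = L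
  one : ∀ K ∈ Om, ∀ L ∈ Om, (∀ k ∈ K, ∀ l ∈ L, k * l = l * k) → zz K = zz L

/-- `K` is a member over `z` -/
def Mem (Om : Set (Subgroup G)) (z : G) (K : Subgroup G) : Prop := K ∈ Om ∧ zz K = z

/-- `z ∈ Z` -/
def InZ (Om : Set (Subgroup G)) (z : G) : Prop := ∃ K, Mem Om z K

/-- `g` acts on the members over `z` as an inner automorphism -/
def Inn (Om : Set (Subgroup G)) (z g : G) : Prop :=
  ∀ K, Mem Om z K → ∀ k ∈ K, g * k * g⁻¹ = k ∨ g * k * g⁻¹ = z * k

/-- `X_z` -/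
def CX (Om : Set (Subgroup G)) (z : G) : Subgroup G := centralizer {k | ∃ K, Mem Om z K ∧ k ∈ K}

/-- `R_z` -/
def RZ (Om : Set (Subgroup G)) (z : G) : Subgroup G := sSup {K | Mem Om z K}

variable {Om : Set (Subgroup G)} {K L M : Subgroup G} {g g' t x y z : G}

theorem mem_CX : g ∈ CX Om z ↔ ∀ K, Mem Om z K → ∀ k ∈ K, g * k = k * g := by
  rw [CX, mem_centralizer_iff]
  constructor
  · intro h K hK k hk
    exact (h k ⟨K, hK, hk⟩).symm
  · rintro h k ⟨K, hK, hk⟩
    exact (h K hK k hk).symm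

theorem Mem.inZ (h : Mem Om z K) : InZ Om z := ⟨K, h⟩

theorem Mem.le_RZ (h : Mem Om z K) : K ≤ RZ Om z := le_sSup h

theorem RZ_le (h : ∀ K, Mem Om z K → K ≤ M) : RZ Om z ≤ M := sSup_le fun K hK => h K hK

section Fin

variable [Finite G]

theorem W2.isPGroup (h : W2 Om) (hK : K ∈ Om) : IsPGroup 2 K := by
  refine IsPGroup.of_card (n := 3) ?_
  rw [h.card K hK]; norm_num

/-- coordinates of a member -/
theorem W2.exists_q3 (h : W2 Om) (hK : Mem Om z K) : ∃ x, Q3 K z x := by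
  obtain ⟨hK, rfl⟩ := hK
  obtain ⟨c, v, n, hgq⟩ := h.hyp.exists_gq hK (syl_self (h.isPGroup hK))
  have hn : n = 0 := by
    have h1 := hgq.card
    rw [h.card K hK] at h1
    have h2 : (2 : ℕ) ^ 3 = 2 ^ (n + 3) := by rw [← h1]; norm_num
    have h3 := Nat.pow_right_injective (le_refl 2) h2
    omega
  subst hn
  have hcc : c * c = zz K := by
    have h1 := hgq.w_sq
    rwa [pow_zero, pow_one] at h1
  have hvv : v * v = zz K := hgq.v_sq
  have hz2 : zz K * zz K = 1 := hgq.z_mul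
  have hzc : zz K * c = c * zz K := by rw [← hcc, mul_assoc]
  have hzv : zz K * v = v * zz K := by rw [← hvv, mul_assoc]
  have hci : c⁻¹ = zz K * c := by
    apply inv_eq_of_mul_eq_one_right
    rw [hzc, ← mul_assoc, hcc, hz2]
  have hvc : v * c = zz K * (c * v) := by
    have h1 := hgq.conj_pow 1
    rw [pow_one] at h1
    rw [h1, hci, mul_assoc]
  have hcvc : c * v * c = v := by
    rw [mul_assoc, hvc]
    calc c * (zz K * (c * v)) = (c * zz K) * (c * v) := by group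
      _ = (zz K * c) * (c * v) := by rw [hzc]
      _ = zz K * (c * c) * v := by group
      _ = v := by rw [hcc, hz2, one_mul]
  have hvcv : v * (c * v) = c := by
    calc v * (c * v) = (v * c) * v := by group
      _ = zz K * (c * v) * v := by rw [hvc]
      _ = zz K * (c * (v * v)) := by group
      _ = zz K * (c * zz K) := by rw [hvv]
      _ = zz K * (zz K * c) := by rw [hzc]
      _ = c := by rw [← mul_assoc, hz2, one_mul]
  -- powers of `c`
  have hpow : ∀ i : ℤ, c ^ i = 1 ∨ c ^ i = c ∨ c ^ i = zz K ∨ c ^ i = zz K * c := by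
    intro i
    have h4 : c ^ (4 : ℤ) = 1 := by
      have : c ^ (4 : ℤ) = (c * c) * (c * c) := by
        rw [show (4 : ℤ) = ((4 : ℕ) : ℤ) from rfl, zpow_natCast]
        simp only [pow_succ, pow_zero, one_mul, mul_assoc]
      rw [this, hcc, hz2]
    have h5 : c ^ i = c ^ (i % 4) := by
      conv_lhs => rw [← Int.emod_add_mul_ediv i 4, zpow_add, zpow_mul, h4, one_zpow, mul_one]
    have h6 : i % 4 = 0 ∨ i % 4 = 1 ∨ i % 4 = 2 ∨ i % 4 = 3 := by omega
    rw [h5]
    rcases h6 with h6 | h6 | h6 | h6 <;> rw [h6]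
    · left; exact zpow_zero c
    · right; left; exact zpow_one c
    · right; right; left
      have : c ^ (2 : ℤ) = c * c := by
        rw [show (2 : ℤ) = ((2 : ℕ) : ℤ) from rfl, zpow_natCast, pow_two]
      rw [this, hcc]
    · right; right; right
      have : c ^ (3 : ℤ) = (c * c) * c := by
        rw [show (3 : ℤ) = ((3 : ℕ) : ℤ) from rfl, zpow_natCast]
        simp only [pow_succ, pow_zero, one_mul]
      rw [this, hcc]
  refine ⟨![c, v, c * v], ?_, ?_, ?_, hz2, hgq.z_ne, ?_⟩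
  · intro m
    fin_cases m
    · exact hgq.c_mem
    · exact hgq.v_mem
    · exact mul_mem hgq.c_mem hgq.v_mem
  · intro m
    fin_cases m
    · exact hcc
    · exact hvv
    · show c * v * (c * v) = zz K
      rw [← mul_assoc, hcvc, hvv]
  · intro m
    fin_cases m
    · rfl
    · exact hvcv
    · exact hcvc
  · intro k hk
    rcases hgq.covZ hk with h1 | ⟨i, h1⟩
    · obtain ⟨i, hi⟩ := mem_zpowers_iff.1 h1
      rcases hpow i with h2 | h2 | h2 | h2
      · left; rw [← hi, h2]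
      · right; right; exact ⟨0, Or.inl (by rw [← hi, h2]; rfl)⟩
      · right; left; rw [← hi, h2]
      · right; right; exact ⟨0, Or.inr (by rw [← hi, h2]; rfl)⟩
    · rcases hpow i with h2 | h2 | h2 | h2
      · right; right; exact ⟨1, Or.inl (by rw [h1, h2, mul_one]; rfl)⟩
      · right; right; exact ⟨2, Or.inr (by rw [h1, h2, hvc]; rfl)⟩
      · right; right; exact ⟨1, Or.inr (by rw [h1, h2, ← hzv]; rfl)⟩
      · right; right
        refine ⟨2, Or.inl ?_⟩
        rw [h1, h2]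
        show v * (zz K * c) = c * v
        calc v * (zz K * c) = (v * zz K) * c := by group
          _ = (zz K * v) * c := by rw [hzv]
          _ = zz K * (v * c) := by group
          _ = c * v := by rw [hvc, ← mul_assoc, hz2, one_mul]

theorem InZ.exists_q3 (hz : InZ Om z) (h : W2 Om) : ∃ K x, Mem Om z K ∧ Q3 K z x := by
  obtain ⟨K, hK⟩ := hz
  obtain ⟨x, hx⟩ := h.exists_q3 hK
  exact ⟨K, x, hK, hx⟩

theorem InZ.z2 (hz : InZ Om z) (h : W2 Om) : z * z = 1 := by
  obtain ⟨K, x, -, hx⟩ := hz.exists_q3 h; exact hx.z2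

theorem InZ.z1 (hz : InZ Om z) (h : W2 Om) : z ≠ 1 := by
  obtain ⟨K, x, -, hx⟩ := hz.exists_q3 h; exact hx.z1

theorem InZ.inv (hz : InZ Om z) (h : W2 Om) : z⁻¹ = z := inv_eq_of_mul_eq_one_right (hz.z2 h)

theorem InZ.orderOf (hz : InZ Om z) (h : W2 Om) : orderOf z = 2 :=
  orderOf_eq_prime (by rw [pow_two]; exact hz.z2 h) (hz.z1 h)

theorem Mem.zmem (hK : Mem Om z K) (h : W2 Om) : z ∈ K := by
  obtain ⟨hK, rfl⟩ := hK; exact h.hyp.zz_mem hK

theorem Mem.comm_z (hK : Mem Om z K) (h : W2 Om) {k : G} (hk : k ∈ K) : k * z = z * k := by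
  obtain ⟨hK, rfl⟩ := hK
  exact h.hyp.comm_zz hK (le_normalizer hk)

theorem Mem.cj (hK : Mem Om z K) (h : W2 Om) (g : G) : Mem Om (g * z * g⁻¹) (Cit.cj g K) := by
  obtain ⟨hK, rfl⟩ := hK
  exact ⟨h.hyp.conj K hK g, h.hyp.zz_cj hK g⟩

theorem Mem.cj_comm (hK : Mem Om z K) (h : W2 Om) (hg : g * z = z * g) : Mem Om z (Cit.cj g K) := by
  have := hK.cj h g
  rwa [hg, mul_inv_cancel_right] at this

theorem Mem.of_cj (hK : Mem Om z K) (h : W2 Om) (hg : Cit.cj g K = K) : g * z = z * g := by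
  have h1 := hK.cj h g
  rw [hg] at h1
  have h2 : g * z * g⁻¹ = z := h1.2.symm.trans hK.2
  rw [← mul_inv_eq_iff_eq_mul, h2]

theorem InZ.conj (hz : InZ Om z) (h : W2 Om) (g : G) : InZ Om (g * z * g⁻¹) := by
  obtain ⟨K, hK⟩ := hz; exact ⟨_, hK.cj h g⟩

theorem Mem.comm (hK : Mem Om z K) (hL : Mem Om z L) (h : W2 Om) (hne : K ≠ L) {k l : G} (hk : k ∈ K)
    (hl : l ∈ L) : k * l = l * k := by
  rcases h.hyp.h2 K hK.1 L hL.1 (hK.2.trans hL.2.symm) with h1 | h1
  · exact absurd h1 hne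
  rw [OO_eq_bot_of_two (h.isPGroup hK.1), bot_inf_eq, le_bot_iff, Subgroup.commutator_eq_bot_iff_le_centralizer] at h1
  exact (mem_centralizer_iff.1 (h1 hk) l hl).symm

theorem Mem.other (hK : Mem Om z K) (h : W2 Om) :
    ∃ L, Mem Om z L ∧ K ≠ L ∧ ∀ M, Mem Om z M → M = K ∨ M = L := by
  obtain ⟨L, hL, hne, hz, hall⟩ := h.two K hK.1
  exact ⟨L, ⟨hL, hz.trans hK.2⟩, hne.symm, fun M hM => hall M hM.1 (hM.2.trans hK.2.symm)⟩

theorem Mem.cases (hK : Mem Om z K) (hL : Mem Om z L) (h : W2 Om) (hne : K ≠ L) (hM : Mem Om z M) :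
    M = K ∨ M = L := by
  obtain ⟨L', hL', hne', hall⟩ := hK.other h
  have h1 : L = L' := by
    rcases hall L hL with h1 | h1
    · exact absurd h1.symm hne
    · exact h1
  rw [h1]; exact hall M hM

theorem Mem.inf (hK : Mem Om z K) (hL : Mem Om z L) (h : W2 Om) (hne : K ≠ L) {k : G} (hk : k ∈ K)
    (hl : k ∈ L) : k = 1 ∨ k = z := by
  obtain ⟨x, hx⟩ := h.exists_q3 hK
  exact hx.cent hk (i_ne1 0) (hK.comm hL h hne (hx.mem _) hl).symm (hK.comm hL h hne (hx.mem _) hl).symm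

/-! ### `R_z` and `X_z` -/

theorem mem_RZ (hK : Mem Om z K) (hL : Mem Om z L) (h : W2 Om) (hne : K ≠ L) {r : G} :
    r ∈ RZ Om z ↔ ∃ k ∈ K, ∃ l ∈ L, k * l = r := by
  have h1 : RZ Om z = K ⊔ L := by
    refine le_antisymm (RZ_le fun M hM => ?_) (sup_le hK.le_RZ hL.le_RZ)
    rcases hK.cases hL h hne hM with rfl | rfl
    · exact le_sup_left
    · exact le_sup_right
  rw [h1]
  constructor
  · intro hr
    have hn : L ≤ normalizer (K : Set G) := by
      intro l hl
      rw [mem_normalizer_iff]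
      intro k
      constructor
      · intro hk
        rw [← hK.comm hL h hne hk hl, mul_inv_cancel_right]; exact hk
      · intro hk
        have h2 := hK.comm hL h hne hk (L.inv_mem hl)
        have h3 : k = l⁻¹ * (l * k * l⁻¹) * l := by group
        rw [h3, ← h2, inv_mul_cancel_right]; exact hk
    obtain ⟨a, ha, b, hb, hab⟩ := LB.exists_mul_of_mem_sup hn hr
    exact ⟨a, ha, b, hb, hab.symm⟩
  · rintro ⟨k, hk, l, hl, rfl⟩
    exact mul_mem (mem_sup_left hk) (mem_sup_right hl)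

theorem z_mem_RZ (hz : InZ Om z) (h : W2 Om) : z ∈ RZ Om z := by
  obtain ⟨K, hK⟩ := hz; exact hK.le_RZ (hK.zmem h)

theorem z_mem_CX (h : W2 Om) : z ∈ CX Om z := by
  rw [mem_CX]
  intro K hK k hk
  exact (hK.comm_z h hk).symm

theorem CX_comm (hr : t ∈ RZ Om z) (hx : x ∈ CX Om z) : x * t = t * x := by
  have h1 : RZ Om z ≤ centralizer {x} := by
    refine RZ_le fun K hK k hk => ?_
    rw [mem_centralizer_singleton_iff]
    exact (mem_CX.1 hx K hK k hk).symm
  exact (mem_centralizer_singleton_iff.1 (h1 hr)).symm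

theorem CX_le (hz : InZ Om z) (h : W2 Om) (hx : x ∈ CX Om z) : x * z = z * x := by
  exact CX_comm (z_mem_RZ hz h) hx

theorem RZ_le_centralizer (h : W2 Om) (hx : x ∈ RZ Om z) : x * z = z * x := by
  have h1 : RZ Om z ≤ centralizer {z} := by
    refine RZ_le fun K hK k hk => ?_
    rw [mem_centralizer_singleton_iff]
    exact hK.comm_z h hk
  exact mem_centralizer_singleton_iff.1 (h1 hx)

theorem CX_conj (h : W2 Om) (g : G) : g * x * g⁻¹ ∈ CX Om (g * z * g⁻¹) ↔ x ∈ CX Om z := by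
  have key : ∀ (g x z : G), x ∈ CX Om z → g * x * g⁻¹ ∈ CX Om (g * z * g⁻¹) := by
    intro g x z hx
    rw [mem_CX] at hx ⊢
    intro K hK k hk
    have h1 := hK.cj h g⁻¹
    have h2 : g⁻¹ * (g * z * g⁻¹) * g⁻¹⁻¹ = z := by group
    rw [h2] at h1
    have h3 := hx _ h1 _ (conj_mem_cj (g := g⁻¹) hk)
    calc g * x * g⁻¹ * k = g * (x * (g⁻¹ * k * g⁻¹⁻¹)) * g⁻¹ := by group
      _ = g * (g⁻¹ * k * g⁻¹⁻¹ * x) * g⁻¹ := by rw [h3]
      _ = _ := by group
  refine ⟨fun hx => ?_, key g x z⟩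
  have := key g⁻¹ _ _ hx
  have h1 : g⁻¹ * (g * x * g⁻¹) * g⁻¹⁻¹ = x := by group
  have h2 : g⁻¹ * (g * z * g⁻¹) * g⁻¹⁻¹ = z := by group
  rwa [h1, h2] at this

theorem CX_conj_comm (h : W2 Om) (hg : g * z = z * g) (hx : x ∈ CX Om z) : g * x * g⁻¹ ∈ CX Om z := by
  have := (CX_conj h g).2 hx
  rwa [hg, mul_inv_cancel_right] at this

theorem RZ_conj (h : W2 Om) (g : G) (hx : x ∈ RZ Om z) : g * x * g⁻¹ ∈ RZ Om (g * z * g⁻¹) := by
  have h1 : RZ Om z ≤ (RZ Om (g * z * g⁻¹)).comap (MulAut.conj g).toMonoidHom := by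
    refine RZ_le fun K hK k hk => ?_
    exact (hK.cj h g).le_RZ (conj_mem_cj hk)
  exact h1 hx

theorem RZ_conj_comm (h : W2 Om) (hg : g * z = z * g) (hx : x ∈ RZ Om z) : g * x * g⁻¹ ∈ RZ Om z := by
  have := RZ_conj h g hx
  rwa [hg, mul_inv_cancel_right] at this

/-! ### `Inn` -/

theorem Inn.comm_z (hi : Inn Om z g) (hz : InZ Om z) (h : W2 Om) : g * z = z * g := by
  obtain ⟨K, hK⟩ := hz
  rcases hi K hK z (hK.zmem h) with h1 | h1
  · rw [← mul_inv_eq_iff_eq_mul, h1]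
  · rw [hK.inZ.z2 h, mul_inv_eq_one] at h1
    exact absurd (mul_eq_left.1 h1) (hK.inZ.z1 h)

theorem Inn.one : Inn Om z (1 : G) := fun _ _ _ _ => Or.inl (by group)

theorem Inn.mul (hg : Inn Om z g) (hg' : Inn Om z g') (hz : InZ Om z) (h : W2 Om) : Inn Om z (g * g') := by
  intro K hK k hk
  have hgz := hg.comm_z hz h
  have h1 : g * g' * k * (g * g')⁻¹ = g * (g' * k * g'⁻¹) * g⁻¹ := by group
  have h2 : g * (z * k) * g⁻¹ = z * (g * k * g⁻¹) := by
    calc g * (z * k) * g⁻¹ = (g * z) * k * g⁻¹ := by group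
      _ = (z * g) * k * g⁻¹ := by rw [hgz]
      _ = _ := by group
  rw [h1]
  rcases hg' K hK k hk with h3 | h3
  · rw [h3]; exact hg K hK k hk
  · rw [h3, h2]
    rcases hg K hK k hk with h4 | h4
    · right; rw [h4]
    · left; rw [h4, ← mul_assoc, hz.z2 h, one_mul]

theorem Inn.inv (hg : Inn Om z g) (hz : InZ Om z) (h : W2 Om) : Inn Om z g⁻¹ := by
  intro K hK k hk
  have hgz := hg.comm_z hz h
  rcases hg K hK k hk with h1 | h1
  · left
    conv_lhs => rw [← h1]
    group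
  · right
    have h2 : k = z * (g * k * g⁻¹) := by rw [h1, ← mul_assoc, hz.z2 h, one_mul]
    calc g⁻¹ * k * g⁻¹⁻¹ = g⁻¹ * (z * (g * k * g⁻¹)) * g⁻¹⁻¹ := by rw [← h2]
      _ = g⁻¹ * (z * g) * k := by group
      _ = g⁻¹ * (g * z) * k := by rw [hgz]
      _ = _ := by group

theorem Inn.mul_left (hg : Inn Om z g) (hgg : Inn Om z (g * g')) (hz : InZ Om z) (h : W2 Om) : Inn Om z g' := by
  have := (hg.inv hz h).mul hgg hz h
  rwa [inv_mul_cancel_left] at this

theorem Inn.mul_right (hg : Inn Om z g') (hgg : Inn Om z (g * g')) (hz : InZ Om z) (h : W2 Om) : Inn Om z g := by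
  have := hgg.mul (hg.inv hz h) hz h
  rwa [mul_inv_cancel_right] at this

theorem Inn.of_CX (hx : x ∈ CX Om z) : Inn Om z x := by
  intro K hK k hk
  left
  rw [mem_CX.1 hx K hK k hk, mul_inv_cancel_right]

theorem Inn.of_mem (hL : Mem Om z L) (h : W2 Om) (hg : g ∈ L) : Inn Om z g := by
  intro K hK k hk
  by_cases hne : K = L
  · subst hne
    obtain ⟨x, hx⟩ := h.exists_q3 hK
    have hz : z ∈ K := hK.zmem h
    rcases hx.cov g hg with rfl | rfl | ⟨i, hi⟩
    · left; group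
    · left; rw [← hK.comm_z h hk, mul_inv_cancel_right]
    · have h1 : g * k * g⁻¹ = x i * k * (x i)⁻¹ := by
        rcases hi with rfl | rfl
        · rfl
        · have h2 : (z * x i * k * (z * x i)⁻¹) = z * (x i * k * (x i)⁻¹) * z⁻¹ := by group
          rw [h2, ← hK.comm_z h (mul_mem (mul_mem (hx.mem i) hk) (inv_mem (hx.mem i))), mul_inv_cancel_right]
      rw [h1]
      rcases hx.cov k hk with rfl | rfl | ⟨j, hj⟩
      · left; group
      · left; rw [← hx.zc, mul_inv_cancel_right]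
      · have h3 : x i * x j * (x i)⁻¹ = x j ∨ x i * x j * (x i)⁻¹ = z * x j := by
          by_cases hij : i = j
          · subst hij; left; exact Q3.conj_self i
          · right; exact hx.conj_ne hij
        rcases hj with rfl | rfl
        · exact h3
        · have h4 : x i * (z * x j) * (x i)⁻¹ = z * (x i * x j * (x i)⁻¹) := by
            calc x i * (z * x j) * (x i)⁻¹ = (x i * z) * x j * (x i)⁻¹ := by group
              _ = (z * x i) * x j * (x i)⁻¹ := by rw [hx.zc]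
              _ = _ := by group
          rw [h4]
          rcases h3 with h3 | h3
          · left; rw [h3]
          · right; rw [h3]
  · left
    rw [← hK.comm hL h hne hk hg, mul_inv_cancel_right]

theorem Inn.of_RZ (hz : InZ Om z) (h : W2 Om) (hr : g ∈ RZ Om z) : Inn Om z g := by
  obtain ⟨K, hK⟩ := hz
  obtain ⟨L, hL, hne, -⟩ := hK.other h
  obtain ⟨k, hk, l, hl, rfl⟩ := (mem_RZ hK hL h hne).1 hr
  exact (Inn.of_mem hK h hk).mul (Inn.of_mem hL h hl) hK.inZ h

theorem Inn.conj (hi : Inn Om z x) (h : W2 Om) (g : G) : Inn Om (g * z * g⁻¹) (g * x * g⁻¹) := by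
  intro K hK k hk
  have h1 := hK.cj h g⁻¹
  have h2 : g⁻¹ * (g * z * g⁻¹) * g⁻¹⁻¹ = z := by group
  rw [h2] at h1
  have h3 : g * x * g⁻¹ * k * (g * x * g⁻¹)⁻¹ = g * (x * (g⁻¹ * k * g⁻¹⁻¹) * x⁻¹) * g⁻¹ := by group
  rcases hi _ h1 _ (conj_mem_cj (g := g⁻¹) hk) with h4 | h4
  · left; rw [h3, h4]; group
  · right; rw [h3, h4]; group

theorem Inn.conj_comm (hi : Inn Om z x) (h : W2 Om) (hg : g * z = z * g) : Inn Om z (g * x * g⁻¹) := by
  have := hi.conj h g
  rwa [hg, mul_inv_cancel_right] at this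

theorem Inn.cj_eq (hi : Inn Om z g) (hK : Mem Om z K) (h : W2 Om) : Cit.cj g K = K := by
  have key : ∀ g, Inn Om z g → Cit.cj g K ≤ K := by
    rintro g hi _ ⟨k, hk, rfl⟩
    rcases hi K hK k hk with h1 | h1
    · show g * k * g⁻¹ ∈ K
      rw [h1]; exact hk
    · show g * k * g⁻¹ ∈ K
      rw [h1]; exact mul_mem (hK.zmem h) hk
  refine le_antisymm (key g hi) ?_
  have h1 := key g⁻¹ (hi.inv hK.inZ h)
  have h2 := cj_mono g h1
  rwa [cj_cj_inv] at h2

/-- `g` inner on the members: `g = r x`, `r ∈ R_z`, `x ∈ X_z` -/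
theorem Inn.exists_mul (hi : Inn Om z g) (hK : Mem Om z K) (hL : Mem Om z L) (h : W2 Om) (hne : K ≠ L)
    {a b : Fin 3 → G} (ha : Q3 K z a) (hb : Q3 L z b) :
    ∃ u ∈ K, ∃ v ∈ L, (u = 1 ∨ ∃ i, u = a i) ∧ (v = 1 ∨ ∃ i, v = b i) ∧ (u * v)⁻¹ * g ∈ CX Om z := by
  obtain ⟨u, hu, hu', hgu⟩ : ∃ u ∈ K, (u = 1 ∨ ∃ i, u = a i) ∧ ∀ k ∈ K, g * k * g⁻¹ = u * k * u⁻¹ := by
    rcases ha.inner_cases (hi K hK) with h1 | ⟨j, h1⟩
    · exact ⟨1, one_mem _, Or.inl rfl, fun k hk => by rw [h1 k hk]; group⟩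
    · exact ⟨a j, ha.mem j, Or.inr ⟨j, rfl⟩, h1⟩
  obtain ⟨v, hv, hv', hgv⟩ : ∃ v ∈ L, (v = 1 ∨ ∃ i, v = b i) ∧ ∀ k ∈ L, g * k * g⁻¹ = v * k * v⁻¹ := by
    rcases hb.inner_cases (hi L hL) with h1 | ⟨j, h1⟩
    · exact ⟨1, one_mem _, Or.inl rfl, fun k hk => by rw [h1 k hk]; group⟩
    · exact ⟨b j, hb.mem j, Or.inr ⟨j, rfl⟩, h1⟩
  refine ⟨u, hu, v, hv, hu', hv', ?_⟩
  rw [mem_CX]
  intro M hM k hk
  have huv : u * v = v * u := hK.comm hL h hne hu hv
  rcases hK.cases hL h hne hM with rfl | rfl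
  · have h1 := hgu k hk
    have h2 : v * k = k * v := (hK.comm hL h hne hk hv).symm
    calc (u * v)⁻¹ * g * k = (v * u)⁻¹ * (g * k * g⁻¹) * g := by rw [huv]; group
      _ = (v * u)⁻¹ * (u * k * u⁻¹) * g := by rw [h1]
      _ = u⁻¹ * (v⁻¹ * (u * k * u⁻¹)) * g := by group
      _ = u⁻¹ * ((u * k * u⁻¹) * v⁻¹) * g := by
        rw [(hK.comm hL h hne (mul_mem (mul_mem hu hk) (inv_mem hu)) (inv_mem hv))]
      _ = k * ((u⁻¹ * v⁻¹) * g) := by group
      _ = k * ((v * u)⁻¹ * g) := by group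
      _ = _ := by rw [huv]
  · have h1 := hgv k hk
    calc (u * v)⁻¹ * g * k = v⁻¹ * (u⁻¹ * (g * k * g⁻¹)) * g := by group
      _ = v⁻¹ * (u⁻¹ * (v * k * v⁻¹)) * g := by rw [h1]
      _ = v⁻¹ * ((v * k * v⁻¹) * u⁻¹) * g := by
        rw [(hK.comm hL h hne (inv_mem hu) (mul_mem (mul_mem hv hk) (inv_mem hv)))]
      _ = k * ((v⁻¹ * u⁻¹) * g) := by group
      _ = _ := by group

/-! ### The trichotomy -/

/-- `t ∈ Z` centralising a member over `z` is `z` -/
theorem InZ.eq_of_cent (ht : InZ Om t) (hK : Mem Om z K) (h : W2 Om) (hc : ∀ k ∈ K, t * k = k * t) : t = z := by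
  obtain ⟨L, hL⟩ := ht
  by_cases hKL : K = L
  · rw [← hKL] at hL; rw [← hK.2]; exact hL.2.symm
  · have h1 := h.hyp.comm_of_zz_comm hK.1 hL.1 (h.isPGroup hK.1) (h.isPGroup hL.1)
      (fun k hk => by rw [hL.2]; exact (hc k hk).symm) hKL
    rw [← hK.2, ← hL.2]
    exact (h.one K hK.1 L hL.1 h1).symm

/-- (H3) -/
theorem W2.h3 (h : W2 Om) (hK : Mem Om z K) (hL : Mem Om t L) (hy : y ∈ K) (hs : y * y = z)
    (hyt : y * t = t * y) : cj y L = L := by
  rw [← mem_normalizer_iff_cj]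
  refine h.hyp.h3 K hK.1 L hL.1 y hy ?_ ?_ (by rw [hL.2]; exact hyt)
  · exact (h.isPGroup hK.1).to_le (by rwa [zpowers_le])
  · have h1 : orderOf y = 4 := by
      have h2 := orderOf_eq_prime_pow (p := 2) (n := 1) (x := y)
        (by rw [pow_one, pow_two, hs]; exact hK.inZ.z1 h)
        (by
          have : y ^ 2 ^ (1 + 1) = (y * y) * (y * y) := by
            show y ^ 4 = _
            simp only [pow_succ, pow_zero, one_mul, mul_assoc]
          rw [this, hs, hK.inZ.z2 h])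
      simpa using h2
    omega

/-- `t` inner on one member over `z`: `z` is inner on the members over `t` -/
theorem W2.inn_of_one (h : W2 Om) (hK : Mem Om z K) (ht : InZ Om t) (hne : t ≠ z)
    (hi : ∀ k ∈ K, t * k * t⁻¹ = k ∨ t * k * t⁻¹ = z * k) : Inn Om t z := by
  obtain ⟨x, hx⟩ := h.exists_q3 hK
  rcases hx.inner_cases hi with h1 | ⟨j, h1⟩
  · exact absurd (ht.eq_of_cent hK h fun k hk => by
      have := h1 k hk; rwa [mul_inv_eq_iff_eq_mul] at this) hne
  have hyt : x j * t = t * x j := by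
    have := h1 (x j) (hx.mem j)
    rw [Q3.conj_self, mul_inv_eq_iff_eq_mul] at this
    exact this.symm
  have hzt : z * t = t * z := by
    rw [← hx.sq j, mul_assoc, hyt, ← mul_assoc, hyt, mul_assoc]
  intro L hL
  obtain ⟨l, hl⟩ := h.exists_q3 hL
  have h2 := h.h3 hK hL (hx.mem j) (hx.sq j) hyt
  obtain ⟨σ, hσ⟩ := hl.exists_act hl h2 hyt
  have h3 : Act t l l z (σ * σ) := by
    have := hσ.comp hl.z2 hσ hyt
    rwa [hx.sq] at this
  -- `z` does not centralise `L`
  have h4 : ¬ ∀ k ∈ L, z * k = k * z := fun h5 => hne (hK.inZ.eq_of_cent hL h h5).symm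
  have h5 : Act t l l (z * z) (σ * σ * (σ * σ)) := h3.comp hl.z2 h3 hzt
  rw [hx.z2] at h5
  have h6 := h5.unique hl (Act.one l t)
  have h7 : ∀ σ : Equiv.Perm (Fin 3), σ * σ * (σ * σ) = 1 → σ * σ = 1 := by decide
  have h8 := h7 σ h6
  rw [h8] at h3
  exact h3.inner hl hzt

/-- **trichotomy**: `t` inner on one member over `z` implies type I -/
theorem W2.inn_both (h : W2 Om) (hK : Mem Om z K) (ht : InZ Om t) (hne : t ≠ z)
    (hi : ∀ k ∈ K, t * k * t⁻¹ = k ∨ t * k * t⁻¹ = z * k) : Inn Om z t ∧ Inn Om t z := by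
  have h1 := h.inn_of_one hK ht hne hi
  obtain ⟨L, hL⟩ := ht
  exact ⟨h.inn_of_one hL hK.inZ hne.symm (h1 L hL), h1⟩

theorem Inn.symm (hi : Inn Om z t) (hz : InZ Om z) (ht : InZ Om t) (h : W2 Om) : Inn Om t z := by
  by_cases hne : t = z
  · subst hne; exact Inn.of_CX (z_mem_CX h)
  obtain ⟨K, hK⟩ := hz
  exact h.inn_of_one hK ht hne (hi K hK)

end Fin

end Cfsg.Agent.Cit.Nil.RTwo
end

private theorem dce_9044a5cf0f52 : _root_.True := by
  try have : _root_.True := by simp only [_root_.Cfsg.Agent.Cit.Nil.RTwo.CX.eq_1]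
  exact _root_.True.intro
end

-- part: Cit/Nil/RTwo/QLem
section
set_option linter.all false
open scoped Cfsg.Agent.FastGrp

/-!
# Frames of quaternion groups of order 8: further elementary calculations
-/

set_option autoImplicit false
set_option linter.style.haveILetI false
set_option linter.unusedSectionVars false
set_option maxHeartbeats 400000

namespace Cfsg.Agent.Cit.Nil.RTwo

open Subgroup Cfsg Cit

variable {G : Type*} [Group G]

namespace Q3

variable {K : Subgroup G} {z g h : G} {x : Fin 3 → G}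

theorem zcomm (q : Q3 K z x) {k : G} (hk : k ∈ K) : z * k = k * z := by
  rcases q.cov k hk with rfl | rfl | ⟨i, rfl | rfl⟩
  · simp
  · rfl
  · exact q.zc i
  · rw [mul_assoc, q.zc]

theorem zne (q : Q3 K z x) (k : G) : z * k ≠ k := fun h => q.z1 (mul_eq_right.1 h)

theorem sw (q : Q3 K z x) {i j : Fin 3} (h : i ≠ j) : x i * x j = z * (x j * x i) := by
  rw [q.anti h, mul_assoc]

theorem ne_z_mul (q : Q3 K z x) (i j : Fin 3) : x i ≠ z * x j := by
  intro h1
  have h2 := q.inj (Or.inr h1)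
  subst h2
  exact q.zne _ h1.symm

/-- the elements of `K` commuting with `K` -/
theorem center (q : Q3 K z x) {k : G} (hk : k ∈ K) (h0 : k * x 0 = x 0 * k) (h1 : k * x 1 = x 1 * k) :
    k = 1 ∨ k = z := by
  rcases q.cov k hk with h | h | ⟨i, h⟩
  · exact Or.inl h
  · exact Or.inr h
  exfalso
  have h3 : x i * x 0 = x 0 * x i ∧ x i * x 1 = x 1 * x i := by
    rcases h with rfl | rfl
    · exact ⟨h0, h1⟩
    · constructor
      · rw [← mul_assoc, ← q.zc, mul_assoc, mul_assoc] at h0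
        exact mul_left_cancel h0
      · rw [← mul_assoc, ← q.zc, mul_assoc, mul_assoc] at h1
        exact mul_left_cancel h1
  by_cases hi : i = 0
  · subst hi
    have h4 := q.sw (show (0 : Fin 3) ≠ 1 by decide)
    rw [h3.2] at h4
    exact q.zne _ h4.symm
  · have h4 := q.sw hi
    rw [h3.1] at h4
    exact q.zne _ h4.symm

/-- two elements of `K` which act on `K` in the same way -/
theorem eq_or_of_act (q : Q3 K z x) {k l : G} (hk : k ∈ K) (hl : l ∈ K)
    (h0 : k * x 0 * k⁻¹ = l * x 0 * l⁻¹) (h1 : k * x 1 * k⁻¹ = l * x 1 * l⁻¹) : k = l ∨ k = z * l := by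
  have h2 : l⁻¹ * k * x 0 = x 0 * (l⁻¹ * k) := by
    calc l⁻¹ * k * x 0 = l⁻¹ * (k * x 0 * k⁻¹) * k := by group
      _ = l⁻¹ * (l * x 0 * l⁻¹) * k := by rw [h0]
      _ = _ := by group
  have h3 : l⁻¹ * k * x 1 = x 1 * (l⁻¹ * k) := by
    calc l⁻¹ * k * x 1 = l⁻¹ * (k * x 1 * k⁻¹) * k := by group
      _ = l⁻¹ * (l * x 1 * l⁻¹) * k := by rw [h1]
      _ = _ := by group
  rcases q.center (K.mul_mem (K.inv_mem hl) hk) h2 h3 with h4 | h4
  · left; rw [inv_mul_eq_one] at h4; exact h4.symm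
  · right; rw [inv_mul_eq_iff_eq_mul] at h4; rw [h4, q.zcomm hl]

/-- commuting with `x 0` and `x 1` is commuting with `K` -/
theorem comm_of (q : Q3 K z x) (h0 : g * x 0 = x 0 * g) (h1 : g * x 1 = x 1 * g) {k : G} (hk : k ∈ K) :
    g * k = k * g := by
  have hz : g * z = z * g := by
    rw [← q.sq 0, ← mul_assoc, h0, mul_assoc, h0, mul_assoc]
  have h2 : g * x 2 = x 2 * g := by
    have h3 := q.mul 0
    rw [zero_add, zero_add] at h3
    rw [← h3, ← mul_assoc, h0, mul_assoc, h1, mul_assoc]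
  have hx : ∀ i, g * x i = x i * g := by
    intro i
    fin_cases i
    · exact h0
    · exact h1
    · exact h2
  rcases q.cov k hk with rfl | rfl | ⟨i, rfl | rfl⟩
  · simp
  · exact hz
  · exact hx i
  · rw [← mul_assoc, hz, mul_assoc, hx, mul_assoc]

theorem flip (q : Q3 K z x) : Q3 K z (fun i => if i = 1 then x 1 else z * x i) where
  mem i := by
    split_ifs
    · exact q.mem _
    · exact K.mul_mem q.zmem (q.mem _)
  sq i := by
    split_ifs
    · exact q.sq _
    · rw [mul_assoc, ← mul_assoc (x i), ← q.zc, mul_assoc, q.sq, q.zzx]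
  mul i := by
    fin_cases i
    · have h := q.mul 0
      simp only [Fin.isValue, Fin.zero_eta, zero_add, zero_ne_one, if_false, if_true] at h ⊢
      rw [mul_assoc, h]; rfl
    · have h := q.mul 1
      simp only [Fin.isValue, Fin.mk_one, if_true] at h ⊢
      have e1 : (1 : Fin 3) + 1 = 2 := rfl
      have e2 : (1 : Fin 3) + 2 = 0 := rfl
      rw [e1, e2] at h ⊢
      simp only [Fin.isValue, zero_ne_one, if_false]
      rw [if_neg (by decide), ← mul_assoc, ← q.zc, mul_assoc, h]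
    · have h := q.mul 2
      have e1 : (2 : Fin 3) + 1 = 0 := rfl
      have e2 : (2 : Fin 3) + 2 = 1 := rfl
      change (if (2 : Fin 3) = 1 then x 1 else z * x 2) * (if (2 : Fin 3) + 1 = 1 then x 1 else z * x (2 + 1)) =
        (if (2 : Fin 3) + 2 = 1 then x 1 else z * x (2 + 2))
      rw [e1, e2] at h ⊢
      rw [if_neg (by decide), if_neg (by decide), if_pos rfl, mul_assoc, ← mul_assoc (x 2), ← q.zc, mul_assoc, h,
        q.zzx]
  z2 := q.z2
  z1 := q.z1
  cov k hk := by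
    rcases q.cov k hk with h | h | ⟨i, h⟩
    · exact Or.inl h
    · exact Or.inr (Or.inl h)
    · refine Or.inr (Or.inr ⟨i, ?_⟩)
      by_cases hi : i = 1
      · subst hi; simpa using h
      · rw [if_neg hi, q.zzx]
        exact h.symm

/-! ### Rotations by a quarter -/

/-- `g` normalises `K` and `g²` acts on `K` as `x 0` -/
theorem quarter (q : Q3 K z x) (hg : ∀ k ∈ K, g * k * g⁻¹ ∈ K)
    (h2 : ∀ k ∈ K, g * (g * k * g⁻¹) * g⁻¹ = x 0 * k * (x 0)⁻¹) :
    g * x 0 * g⁻¹ = x 0 ∧ (g * x 1 * g⁻¹ = x 2 ∨ g * x 1 * g⁻¹ = z * x 2) := by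
  have hz : g * z * g⁻¹ = z := by
    -- `z` is the only involution of `K`
    have h3 := hg z q.zmem
    have h4 : (g * z * g⁻¹) * (g * z * g⁻¹) = 1 := by
      have : (g * z * g⁻¹) * (g * z * g⁻¹) = g * (z * z) * g⁻¹ := by group
      rw [this, q.z2]; group
    have h5 : g * z * g⁻¹ ≠ 1 := by
      intro h6
      rw [mul_inv_eq_one, mul_eq_left] at h6
      exact q.z1 h6
    rcases q.cov _ h3 with h | h | ⟨i, h | h⟩
    · exact absurd h h5
    · exact h
    · rw [h, q.sq] at h4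
      exact absurd h4 q.z1
    · rw [h, mul_assoc, ← mul_assoc (x i), ← q.zc, mul_assoc, q.sq, q.zzx] at h4
      exact absurd h4 q.z1
  have hmul : ∀ k l : G, g * (k * l) * g⁻¹ = (g * k * g⁻¹) * (g * l * g⁻¹) := fun k l => by group
  have h01 : x 0 * x 1 = x 2 := by simpa using q.mul 0
  have h02 : x 0 * x 2 = z * x 1 := by simpa using q.mul2' 0
  have hsq : g * (g * x 1 * g⁻¹) * g⁻¹ = z * x 1 := by
    rw [h2 _ (q.mem 1)]
    exact q.conj_ne (by decide)
  -- `g` and `g²` commute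
  have hy : g * x 0 * g⁻¹ = x 0 ∨ g * x 0 * g⁻¹ = z * x 0 := by
    have key : ∀ k ∈ K, (g * x 0 * g⁻¹) * (g * k * g⁻¹) * (g * x 0 * g⁻¹)⁻¹ = x 0 * (g * k * g⁻¹) * (x 0)⁻¹ := by
      intro k hk
      rw [← h2 _ (hg k hk), h2 k hk]
      group
    have hall : ∀ k ∈ K, (g * x 0 * g⁻¹) * k * (g * x 0 * g⁻¹)⁻¹ = x 0 * k * (x 0)⁻¹ := by
      intro k hk
      -- `k = g k' g⁻¹`
      have h5 : x 0 * (g * (g * k * g⁻¹) * g⁻¹) * (x 0)⁻¹ ∈ K := by
        exact K.mul_mem (K.mul_mem (q.mem 0) (hg _ (hg _ hk))) (K.inv_mem (q.mem 0))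
      have h6 : g⁻¹ * k * g ∈ K := by
        have h7 : ∀ k ∈ K, k = g * (g * ((x 0)⁻¹ * k * x 0) * g⁻¹) * g⁻¹ := by
          intro k hk
          rw [h2 _ (K.mul_mem (K.mul_mem (K.inv_mem (q.mem 0)) hk) (q.mem 0))]
          group
        rw [h7 k hk]
        have h8 := hg _ (K.mul_mem (K.mul_mem (K.inv_mem (q.mem 0)) hk) (q.mem 0))
        have h9 : g⁻¹ * (g * (g * ((x 0)⁻¹ * k * x 0) * g⁻¹) * g⁻¹) * g = g * ((x 0)⁻¹ * k * x 0) * g⁻¹ := by group
        rwa [h9]
      have h7 := key _ h6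
      have h8 : g * (g⁻¹ * k * g) * g⁻¹ = k := by group
      rwa [h8] at h7
    exact q.eq_or_of_act (hg _ (q.mem 0)) (q.mem 0) (hall _ (q.mem 0)) (hall _ (q.mem 1))
  have hu := q.cov _ (hg _ (q.mem 1))
  have hne : ¬ (g * x 1 * g⁻¹ = x 1) ∧ ¬ (g * x 1 * g⁻¹ = z * x 1) := by
    constructor
    · intro h
      rw [h, h] at hsq
      exact q.zne _ hsq.symm
    · intro h
      rw [h, hmul, hz, h, q.zzx] at hsq
      exact q.zne _ hsq.symm
  have hsq1 : (g * x 1 * g⁻¹) * (g * x 1 * g⁻¹) = z := by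
    rw [← hmul, q.sq, hz]
  have hx0 : g * x 1 * g⁻¹ ≠ x 0 ∧ g * x 1 * g⁻¹ ≠ z * x 0 := by
    -- otherwise `g x 1 g⁻¹ = ± g x 0 g⁻¹`
    constructor
    · intro h
      rcases hy with hy | hy
      · rw [← hy] at h
        have := mul_left_cancel (mul_right_cancel h)
        exact q.ne_of_ne (by decide) this
      · rw [← q.zzx (x 0), ← hy] at h
        rw [show z * (g * x 0 * g⁻¹) = (g * z * g⁻¹) * (g * x 0 * g⁻¹) by rw [hz], ← hmul] at h
        have := mul_left_cancel (mul_right_cancel h)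
        exact q.ne_z_mul 1 0 this
    · intro h
      rcases hy with hy | hy
      · rw [← hy] at h
        rw [show z * (g * x 0 * g⁻¹) = (g * z * g⁻¹) * (g * x 0 * g⁻¹) by rw [hz], ← hmul] at h
        have := mul_left_cancel (mul_right_cancel h)
        exact q.ne_z_mul 1 0 this
      · rw [← hy] at h
        have := mul_left_cancel (mul_right_cancel h)
        exact q.ne_of_ne (by decide) this
  have hu2 : g * x 1 * g⁻¹ = x 2 ∨ g * x 1 * g⁻¹ = z * x 2 := by
    rcases hu with h | h | ⟨i, h⟩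
    · rw [h, mul_one] at hsq1
      exact absurd hsq1.symm q.z1
    · rw [h, q.z2] at hsq1
      exact absurd hsq1.symm q.z1
    · fin_cases i
      · rcases h with h | h
        · exact absurd h hx0.1
        · exact absurd h hx0.2
      · rcases h with h | h
        · exact absurd h hne.1
        · exact absurd h hne.2
      · exact h
  refine ⟨?_, hu2⟩
  rcases hy with hy | hy
  · exact hy
  exfalso
  have h2' : g * x 2 * g⁻¹ = (g * x 0 * g⁻¹) * (g * x 1 * g⁻¹) := by rw [← hmul, h01]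
  rcases hu2 with h | h
  · rw [h, h2', hy, h, mul_assoc, h02, q.zzx] at hsq
    exact q.zne _ hsq.symm
  · rw [h, hmul, hz, h2', hy, h, mul_assoc, ← mul_assoc (x 0), ← q.zc, mul_assoc, h02, q.zzx, q.zzx] at hsq
    exact q.zne _ hsq.symm

end Q3

end Cfsg.Agent.Cit.Nil.RTwo
end

-- part: Cit/Nil/RTwo/Pair
section
prune_inst 0x2030440058000000001800042200204048000192006000014040064002488141a045010130c022109112ae70280a800001180149427800002a008a0040040000042832c29048100001000040f807180c00000000000000000000000000000000000000000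
set_option linter.all false
open scoped Cfsg.Agent.FastGrp

/-!
# S1309, `r = 2`, `m = 1`: pairs of `Z` of type p and f

* `PR Om z t` : `z ≠ t` commute, `t` interchanges the two members over `z`;
* `FR Om z t` : `z ≠ t` commute, `t` fixes the two members over `z`;
* `ee z t x i = z x_i x_i^t`; `HP Om z t K x` : `PR` with coordinates;
* `RZ_comm` : `C_{R_z}(t) = {1, z, e_i, z e_i}`.
-/

set_option autoImplicit false
set_option linter.unusedSectionVars false

namespace Cfsg.Agent.Cit.Nil.RTwo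

open Subgroup Cfsg Cfsg.Agent.Cit

variable {G : Type*} [Group G]

/-- `t` interchanges the members over `z` -/
structure PR (Om : Set (Subgroup G)) (z t : G) : Prop where
  hz : InZ Om z
  ht : InZ Om t
  ne : z ≠ t
  comm : z * t = t * z
  sw : ∀ K, Mem Om z K → cj t K ≠ K

/-- `t` fixes the members over `z` -/
structure FR (Om : Set (Subgroup G)) (z t : G) : Prop where
  hz : InZ Om z
  ht : InZ Om t
  ne : z ≠ t
  comm : z * t = t * z
  fx : ∀ K, Mem Om z K → cj t K = K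

/-- no pairs of type I -/
def TO (Om : Set (Subgroup G)) : Prop := ∀ z t : G, InZ Om z → InZ Om t → Inn Om z t → t = z

/-- `z x_i x_i^t` -/
def ee (z t : G) (x : Fin 3 → G) (i : Fin 3) : G := z * x i * (t * x i * t⁻¹)

/-! ### Two commuting quaternion groups over the same `z` -/

section QQ

variable {K K' : Subgroup G} {z : G} {a b : Fin 3 → G}

theorem qq_sq (ha : Q3 K z a) (hb : Q3 K' z b) (hc : ∀ i j, a i * b j = b j * a i) (i : Fin 3) :
    z * a i * b i * (z * a i * b i) = 1 := by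
  calc z * a i * b i * (z * a i * b i) = z * a i * (b i * z) * (a i * b i) := by group
    _ = z * a i * (z * b i) * (a i * b i) := by rw [hb.zc]
    _ = z * (a i * z) * (b i * a i) * b i := by group
    _ = z * (z * a i) * (a i * b i) * b i := by rw [ha.zc, hc]
    _ = z * z * (a i * a i) * (b i * b i) := by group
    _ = 1 := by rw [ha.sq, hb.sq, ha.z2, one_mul, ha.z2]

theorem qq_mul (ha : Q3 K z a) (hb : Q3 K' z b) (hc : ∀ i j, a i * b j = b j * a i) (i : Fin 3) :
    z * a i * b i * (z * a (i + 1) * b (i + 1)) = a (i + 2) * b (i + 2) := by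
  calc z * a i * b i * (z * a (i + 1) * b (i + 1)) = z * a i * (b i * z) * (a (i + 1) * b (i + 1)) := by group
    _ = z * a i * (z * b i) * (a (i + 1) * b (i + 1)) := by rw [hb.zc]
    _ = z * (a i * z) * (b i * a (i + 1)) * b (i + 1) := by group
    _ = z * (z * a i) * (a (i + 1) * b i) * b (i + 1) := by rw [ha.zc, hc]
    _ = z * z * (a i * a (i + 1)) * (b i * b (i + 1)) := by group
    _ = _ := by rw [ha.mul, hb.mul, ha.z2, one_mul]

theorem qq_mul' (ha : Q3 K z a) (hb : Q3 K' z b) (hc : ∀ i j, a i * b j = b j * a i) (i : Fin 3) :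
    z * a (i + 1) * b (i + 1) * (z * a i * b i) = a (i + 2) * b (i + 2) := by
  calc z * a (i + 1) * b (i + 1) * (z * a i * b i) = z * a (i + 1) * (b (i + 1) * z) * (a i * b i) := by group
    _ = z * a (i + 1) * (z * b (i + 1)) * (a i * b i) := by rw [hb.zc]
    _ = z * (a (i + 1) * z) * (b (i + 1) * a i) * b i := by group
    _ = z * (z * a (i + 1)) * (a i * b (i + 1)) * b i := by rw [ha.zc, hc]
    _ = z * z * (a (i + 1) * a i) * (b (i + 1) * b i) := by group
    _ = z * a (i + 2) * (z * b (i + 2)) := by rw [ha.mul', hb.mul', ha.z2, one_mul]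
    _ = z * (a (i + 2) * z) * b (i + 2) := by group
    _ = _ := by rw [← ha.zc, ← mul_assoc, ha.z2, one_mul]

end QQ

section Fin

variable [Finite G] {Om : Set (Subgroup G)} {K L M : Subgroup G} {g t x y z : G}

theorem pr_or_fr (h : W2 Om) (hz : InZ Om z) (ht : InZ Om t) (hne : z ≠ t) (hc : z * t = t * z) :
    PR Om z t ∨ FR Om z t := by
  obtain ⟨K, hK⟩ := hz
  obtain ⟨L, hL, hKL, hall⟩ := hK.other h
  have htK := hK.cj_comm h hc.symm
  have htL := hL.cj_comm h hc.symm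
  by_cases hf : cj t K = K
  · right
    refine ⟨hK.inZ, ht, hne, hc, fun M hM => ?_⟩
    rcases hall M hM with rfl | rfl
    · exact hf
    · rcases hall _ htL with h1 | h1
      · exact absurd (cj_inj.1 (h1.trans hf.symm)).symm hKL
      · exact h1
  · left
    refine ⟨hK.inZ, ht, hne, hc, fun M hM => ?_⟩
    rcases hall M hM with rfl | rfl
    · exact hf
    · intro h1
      rcases hall _ htK with h2 | h2
      · exact hf h2
      · exact hKL (cj_inj.1 (h2.trans h1.symm))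

theorem PR.not_fr (hp : PR Om z t) (hf : FR Om z t) : False := by
  obtain ⟨K, hK⟩ := hp.hz
  exact hp.sw K hK (hf.fx K hK)

theorem PR.tinv (hp : PR Om z t) (h : W2 Om) : t⁻¹ = t := hp.ht.inv h

theorem PR.t2 (hp : PR Om z t) (h : W2 Om) : t * t = 1 := hp.ht.z2 h

theorem PR.conj (hp : PR Om z t) (h : W2 Om) (g : G) : PR Om (g * z * g⁻¹) (g * t * g⁻¹) where
  hz := hp.hz.conj h g
  ht := hp.ht.conj h g
  ne h1 := hp.ne (mul_left_cancel (mul_right_cancel h1))
  comm := by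
    calc g * z * g⁻¹ * (g * t * g⁻¹) = g * (z * t) * g⁻¹ := by group
      _ = g * (t * z) * g⁻¹ := by rw [hp.comm]
      _ = _ := by group
  sw K hK h1 := by
    have h2 := hK.cj h g⁻¹
    have h3 : g⁻¹ * (g * z * g⁻¹) * g⁻¹⁻¹ = z := by group
    rw [h3] at h2
    apply hp.sw _ h2
    rw [← cj_mul]
    have h4 : t * g⁻¹ = g⁻¹ * (g * t * g⁻¹) := by group
    rw [h4, cj_mul, h1]

theorem PR.conj_comm (hp : PR Om z t) (h : W2 Om) (hg : g * z = z * g) : PR Om z (g * t * g⁻¹) := by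
  have := hp.conj h g
  rwa [hg, mul_inv_cancel_right] at this

theorem FR.conj (hp : FR Om z t) (h : W2 Om) (g : G) : FR Om (g * z * g⁻¹) (g * t * g⁻¹) where
  hz := hp.hz.conj h g
  ht := hp.ht.conj h g
  ne h1 := hp.ne (mul_left_cancel (mul_right_cancel h1))
  comm := by
    calc g * z * g⁻¹ * (g * t * g⁻¹) = g * (z * t) * g⁻¹ := by group
      _ = g * (t * z) * g⁻¹ := by rw [hp.comm]
      _ = _ := by group
  fx K hK := by
    have h2 := hK.cj h g⁻¹
    have h3 : g⁻¹ * (g * z * g⁻¹) * g⁻¹⁻¹ = z := by group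
    rw [h3] at h2
    have h4 := hp.fx _ h2
    have h5 : cj (g * t * g⁻¹) K = cj g (cj t (cj g⁻¹ K)) := by
      rw [← cj_mul, ← cj_mul, mul_assoc]
    rw [h5, h4, cj_cj_inv]

/-- two elements interchanging the members: the product fixes them -/
theorem sw_mul (h : W2 Om) (hM : Mem Om z M) {a b : G} (ha : ∀ K, Mem Om z K → cj a K ≠ K)
    (hb : ∀ K, Mem Om z K → cj b K ≠ K) (haz : a * z = z * a) (hbz : b * z = z * b) : cj (a * b) M = M := by
  obtain ⟨L, hL, hne, hall⟩ := hM.other h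
  have h1 : cj b M = L := by
    rcases hall _ (hM.cj_comm h hbz) with h1 | h1
    · exact absurd h1 (hb M hM)
    · exact h1
  have h2 : cj a L = M := by
    rcases hall _ (hL.cj_comm h haz) with h2 | h2
    · exact h2
    · exact absurd h2 (ha L hL)
  rw [cj_mul, h1, h2]

/-! ### Type f -/

/-- coordinates adapted to an outer involution -/
theorem FR.coord (hp : FR Om z t) (h : W2 Om) (hT : TO Om) (hK : Mem Om z K) :
    ∃ x, Q3 K z x ∧ t * x 0 * t⁻¹ = x 1 ∧ t * x 1 * t⁻¹ = x 0 ∧ t * x 2 * t⁻¹ = z * x 2 := by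
  obtain ⟨x, hx⟩ := h.exists_q3 hK
  have h1 : ∃ k ∈ K, ¬ (t * k * t⁻¹ = k ∨ t * k * t⁻¹ = z * k) := by
    by_contra hcon
    push Not at hcon
    have h2 := (h.inn_both hK hp.ht hp.ne.symm hcon).1
    exact hp.ne (hT z t hp.hz hp.ht h2).symm
  obtain ⟨k, hk, hk1⟩ := h1
  rw [not_or] at hk1
  obtain ⟨hk1, hk2⟩ := hk1
  have ht1 : t⁻¹ = t := hp.ht.inv h
  have ht2 : t * t = 1 := hp.ht.z2 h
  have hkk : k * k = z := by
    rcases hx.cov k hk with rfl | rfl | ⟨i, rfl | rfl⟩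
    · exact absurd (by group) hk1
    · exact absurd (by rw [← hp.comm, mul_inv_cancel_right]) hk1
    · exact hx.sq i
    · calc z * x i * (z * x i) = z * (x i * z) * x i := by group
        _ = z * (z * x i) * x i := by rw [hx.zc]
        _ = z := by rw [hx.zzx, hx.sq]
  have hbK : t * k * t⁻¹ ∈ K := by
    rw [← hp.fx K hK]; exact conj_mem_cj hk
  have hbb : t * k * t⁻¹ * (t * k * t⁻¹) = z := by
    calc t * k * t⁻¹ * (t * k * t⁻¹) = t * (k * k) * t⁻¹ := by group
      _ = z := by rw [hkk, ← hp.comm, mul_inv_cancel_right]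
  obtain ⟨i, hi⟩ := hx.of_sq hk hkk
  obtain ⟨j, hj⟩ := hx.of_sq hbK hbb
  have hij : i ≠ j := by
    rintro rfl
    rcases hi with hi | hi <;> rcases hj with hj | hj
    · exact hk1 (hj.trans hi.symm)
    · exact hk2 (by rw [hj, hi])
    · exact hk2 (by rw [hj, hi, hx.zzx])
    · exact hk1 (hj.trans hi.symm)
  have hzk : z * k = k * z := by rw [← hkk, mul_assoc]
  have hanti : k * (t * k * t⁻¹) = z * ((t * k * t⁻¹) * k) := by
    rw [← hkk]
    have h3 := hx.anti hij
    rcases hi with hi | hi <;> rcases hj with hj | hj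
    · rw [hj, hkk, hi, h3, mul_assoc]
    · rw [hj, hkk, hi]
      calc x i * (z * x j) = (x i * z) * x j := by group
        _ = (z * x i) * x j := by rw [hx.zc]
        _ = z * (x i * x j) := by group
        _ = z * (z * x j * x i) := by rw [h3]
    · rw [hj, hkk, hi]
      calc z * x i * x j = z * (x i * x j) := by group
        _ = z * (z * x j * x i) := by rw [h3]
        _ = z * ((x j * z) * x i) := by rw [hx.zc j]
        _ = _ := by group
    · rw [hj, hkk, hi]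
      calc z * x i * (z * x j) = z * (x i * z) * x j := by group
        _ = z * (z * x i) * x j := by rw [hx.zc]
        _ = z * z * (x i * x j) := by group
        _ = z * z * (z * x j * x i) := by rw [h3]
        _ = z * (z * (z * x j) * x i) := by group
        _ = z * (z * (x j * z) * x i) := by rw [hx.zc j]
        _ = _ := by group
  have hnc : k * (t * k * t⁻¹) ≠ (t * k * t⁻¹) * k := by
    intro h3
    rw [h3] at hanti
    exact hx.z1 (mul_eq_right.1 hanti.symm)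
  refine ⟨_, hx.of_pair hk hbK hkk hbb hnc, rfl, ?_, ?_⟩
  · show t * (t * k * t⁻¹) * t⁻¹ = k
    rw [ht1]
    calc t * (t * k * t) * t = (t * t) * k * (t * t) := by group
      _ = k := by rw [ht2]; group
  · show t * (k * (t * k * t⁻¹)) * t⁻¹ = z * (k * (t * k * t⁻¹))
    have h3 : t * (k * (t * k * t⁻¹)) * t⁻¹ = (t * k * t⁻¹) * (t * t * k * (t * t)⁻¹) := by group
    rw [h3, ht2, hanti, hx.zzx]
    group

/-- `z t ∈ Z`, and `t` is conjugate under `R_z` to `t w` with `w ∈ R_z - ⟨z⟩` commuting with `t` -/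
theorem FR.exists_w (hp : FR Om z t) (h : W2 Om) (hT : TO Om) :
    InZ Om (z * t) ∧ ∃ w ∈ RZ Om z, ∃ r ∈ RZ Om z, w ≠ 1 ∧ w ≠ z ∧ w * t = t * w ∧ r * t * r⁻¹ = t * w := by
  obtain ⟨K, hK⟩ := hp.hz
  obtain ⟨L, hL, hne, -⟩ := hK.other h
  obtain ⟨x, hx, h0, h1, h2⟩ := hp.coord h hT hK
  obtain ⟨y, hy, k0, k1, k2⟩ := hp.coord h hT hL
  have ht1 : t⁻¹ = t := hp.ht.inv h
  have ht2 : t * t = 1 := hp.ht.z2 h
  have hxy : ∀ i j, x i * y j = y j * x i := fun i j => hK.comm hL h hne (hx.mem i) (hy.mem j)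
  have m2 : x 0 * x 1 = x 2 := hx.mul 0
  have n2 : y 0 * y 1 = y 2 := hy.mul 0
  -- `x 2 t (x 2)⁻¹ = z t`
  have e1 : x 2 * t * (x 2)⁻¹ = z * t := by
    have : t * (x 2)⁻¹ * t⁻¹ = x 2 := by
      have h3 : t * (x 2)⁻¹ * t⁻¹ = (t * x 2 * t⁻¹)⁻¹ := by group
      rw [h3, h2, mul_inv_rev, hx.zinv, hx.inv, hx.zc 2, mul_assoc, hx.z2, mul_one]
    calc x 2 * t * (x 2)⁻¹ = x 2 * (t * (x 2)⁻¹ * t⁻¹) * t := by group
      _ = z * t := by rw [this, hx.sq]
  -- `x 0 t (x 0)⁻¹ = t (x 2)`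
  have conj0 : ∀ (a : Fin 3 → G) (N : Subgroup G), Q3 N z a → t * a 0 * t⁻¹ = a 1 → t * a 2 * t⁻¹ = z * a 2 →
      a 0 * t * (a 0)⁻¹ = t * a 2 := by
    intro a N ha q0 q2
    have m2 : a 0 * a 1 = a 2 := ha.mul 0
    have r0 : t * (a 0)⁻¹ * t⁻¹ = z * a 1 := by
      have h3 : t * (a 0)⁻¹ * t⁻¹ = (t * a 0 * t⁻¹)⁻¹ := by group
      rw [h3, q0, ha.inv]
    calc a 0 * t * (a 0)⁻¹ = a 0 * (t * (a 0)⁻¹ * t⁻¹) * t := by group
      _ = a 0 * (z * a 1) * t := by rw [r0]
      _ = (a 0 * z) * a 1 * t := by group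
      _ = (z * a 0) * a 1 * t := by rw [ha.zc]
      _ = (z * (a 0 * a 1)) * t := by group
      _ = (t * a 2 * t⁻¹) * t := by rw [m2, q2]
      _ = _ := by group
  have e2 := conj0 x K hx h0 h2
  have e3 := conj0 y L hy k0 k2
  refine ⟨?_, x 2 * y 2, mul_mem (hK.le_RZ (hx.mem 2)) (hL.le_RZ (hy.mem 2)), x 0 * y 0,
    mul_mem (hK.le_RZ (hx.mem 0)) (hL.le_RZ (hy.mem 0)), ?_, ?_, ?_, ?_⟩
  · rw [← e1]; exact hp.ht.conj h (x 2)
  · intro h3
    have h4 : x 2 = (y 2)⁻¹ := eq_inv_of_mul_eq_one_left h3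
    rcases hK.inf hL h hne (hx.mem 2) (by rw [h4]; exact inv_mem (hy.mem 2)) with h5 | h5
    · exact hx.ne_one 2 h5
    · exact hx.ne_z 2 h5
  · intro h3
    have h4 : x 2 = z * (y 2)⁻¹ := by rw [← h3]; group
    rcases hK.inf hL h hne (hx.mem 2) (by rw [h4]; exact mul_mem hy.zmem (inv_mem (hy.mem 2))) with h5 | h5
    · exact hx.ne_one 2 h5
    · exact hx.ne_z 2 h5
  · have h3 : t * (x 2 * y 2) * t⁻¹ = x 2 * y 2 := by
      calc t * (x 2 * y 2) * t⁻¹ = (t * x 2 * t⁻¹) * (t * y 2 * t⁻¹) := by group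
        _ = z * x 2 * (z * y 2) := by rw [h2, k2]
        _ = z * (x 2 * z) * y 2 := by group
        _ = _ := by rw [← hx.zc, hx.zzx]
    rw [mul_inv_eq_iff_eq_mul] at h3
    exact h3.symm
  · calc x 0 * y 0 * t * (x 0 * y 0)⁻¹ = x 0 * (y 0 * t * (y 0)⁻¹) * (x 0)⁻¹ := by group
      _ = x 0 * (t * y 2) * (x 0)⁻¹ := by rw [e3]
      _ = (x 0 * t * (x 0)⁻¹) * (x 0 * y 2) * (x 0)⁻¹ := by group
      _ = (t * x 2) * (y 2 * x 0) * (x 0)⁻¹ := by rw [e2, hxy]
      _ = _ := by group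

/-- (8.1) -/
theorem FR.symm (hp : FR Om z t) (h : W2 Om) (hT : TO Om) : FR Om t z := by
  rcases pr_or_fr h hp.ht hp.hz hp.ne.symm hp.comm.symm with h1 | h1
  swap
  · exact h1
  exfalso
  obtain ⟨hzt, w, hw, r, hr, hw1, hwz, hwt, hrt⟩ := hp.exists_w h hT
  have hrz := RZ_le_centralizer h hr
  have hwz' := RZ_le_centralizer h hw
  -- `s = t w`
  have hs : InZ Om (t * w) := by rw [← hrt]; exact hp.ht.conj h r
  have hsz : PR Om (t * w) z := by
    have := h1.conj h r
    rwa [hrt, hrz, mul_inv_cancel_right] at this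
  have t2 : t * t = 1 := hp.ht.z2 h
  have hst : t * w ≠ t := fun h2 => hw1 (mul_eq_left.1 h2)
  have hInw : ∀ v ∈ RZ Om z, InZ Om v → v = z := fun v hv hv' => hT z v hp.hz hv' (Inn.of_RZ hp.hz h hv)
  rcases pr_or_fr h hs hp.ht hst (by rw [mul_assoc, hwt, ← mul_assoc]) with h2 | h2
  · -- `z t` fixes the members over `s`
    have h3 : FR Om (t * w) (z * t) := by
      refine ⟨hs, hzt, ?_, ?_, fun M hM => ?_⟩
      · intro h4
        apply hwz
        rw [hp.comm] at h4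
        exact mul_left_cancel h4
      · calc t * w * (z * t) = t * (w * z) * t := by group
          _ = t * (z * w) * t := by rw [hwz']
          _ = (t * z) * (w * t) := by group
          _ = (z * t) * (t * w) := by rw [hwt, hp.comm]
          _ = _ := by group
      · exact sw_mul h hM hsz.sw h2.sw hsz.comm.symm h2.comm.symm
    have h4 := (h3.exists_w h hT).1
    have h5 : t * w * (z * t) = w * z := by
      calc t * w * (z * t) = t * w * (t * z) := by rw [hp.comm]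
        _ = t * (w * t) * z := by group
        _ = t * (t * w) * z := by rw [hwt]
        _ = (t * t) * (w * z) := by group
        _ = w * z := by rw [t2, one_mul]
    rw [h5] at h4
    have h6 := hInw _ (mul_mem hw (z_mem_RZ hp.hz h)) h4
    exact hw1 (mul_eq_right.1 h6)
  · have h4 := (h2.exists_w h hT).1
    have h5 : t * w * t = w := by rw [mul_assoc, hwt, ← mul_assoc, t2, one_mul]
    rw [h5] at h4
    exact hwz (hInw w hw h4)

theorem PR.symm (hp : PR Om z t) (h : W2 Om) (hT : TO Om) : PR Om t z := by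
  rcases pr_or_fr h hp.ht hp.hz hp.ne.symm hp.comm.symm with h1 | h1
  · exact h1
  · exact (hp.not_fr (h1.symm h hT)).elim

/-! ### Type p: coordinates -/

/-- a pair of type p with coordinates -/
structure HP (Om : Set (Subgroup G)) (z t : G) (K : Subgroup G) (x : Fin 3 → G) : Prop where
  pr : PR Om z t
  hK : Mem Om z K
  q : Q3 K z x

theorem PR.exists_hp (hp : PR Om z t) (h : W2 Om) : ∃ K x, HP Om z t K x := by
  obtain ⟨K, hK⟩ := hp.hz
  obtain ⟨x, hx⟩ := h.exists_q3 hK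
  exact ⟨K, x, hp, hK, hx⟩

namespace HP

variable {x : Fin 3 → G} {i j : Fin 3}

theorem hK' (P : HP Om z t K x) (h : W2 Om) : Mem Om z (cj t K) := P.hK.cj_comm h P.pr.comm.symm

theorem ne' (P : HP Om z t K x) : K ≠ cj t K := (P.pr.sw K P.hK).symm

theorem q' (P : HP Om z t K x) : Q3 (cj t K) z (fun i => t * x i * t⁻¹) := P.q.conj_comm P.pr.comm.symm

theorem cases (P : HP Om z t K x) (h : W2 Om) (hM : Mem Om z M) : M = K ∨ M = cj t K :=
  P.hK.cases (P.hK' h) h P.ne' hM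

theorem xx' (P : HP Om z t K x) (h : W2 Om) (i j : Fin 3) : x i * (t * x j * t⁻¹) = t * x j * t⁻¹ * x i :=
  P.hK.comm (P.hK' h) h P.ne' (P.q.mem i) (P.q'.mem j)

theorem tinv (P : HP Om z t K x) (h : W2 Om) : t⁻¹ = t := P.pr.tinv h

theorem t2 (P : HP Om z t K x) (h : W2 Om) : t * t = 1 := P.pr.t2 h

theorem tt (P : HP Om z t K x) (h : W2 Om) (g : G) : t * (t * g * t⁻¹) * t⁻¹ = g := by
  have h1 : t * (t * g * t⁻¹) * t⁻¹ = (t * t) * g * (t * t)⁻¹ := by group
  rw [h1, P.t2 h]; group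

theorem rot (P : HP Om z t K x) (m : Fin 3) : HP Om z t K (fun i => x (i + m)) := ⟨P.pr, P.hK, P.q.rot m⟩

theorem e_mem (P : HP Om z t K x) (h : W2 Om) (i : Fin 3) : ee z t x i ∈ RZ Om z :=
  mul_mem (mul_mem (z_mem_RZ P.pr.hz h) (P.hK.le_RZ (P.q.mem i))) ((P.hK' h).le_RZ (P.q'.mem i))

theorem e_sq (P : HP Om z t K x) (h : W2 Om) (i : Fin 3) : ee z t x i * ee z t x i = 1 :=
  qq_sq P.q P.q' (P.xx' h) i

theorem e_inv (P : HP Om z t K x) (h : W2 Om) (i : Fin 3) : (ee z t x i)⁻¹ = ee z t x i :=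
  inv_eq_of_mul_eq_one_right (P.e_sq h i)

theorem xx_eq (P : HP Om z t K x) (i : Fin 3) : x i * (t * x i * t⁻¹) = z * ee z t x i := by
  rw [ee, mul_assoc z, P.q.zzx]

theorem e_mul (P : HP Om z t K x) (h : W2 Om) (i : Fin 3) :
    ee z t x i * ee z t x (i + 1) = z * ee z t x (i + 2) := by
  rw [← P.xx_eq]; exact qq_mul P.q P.q' (P.xx' h) i

theorem e_mul' (P : HP Om z t K x) (h : W2 Om) (i : Fin 3) :
    ee z t x (i + 1) * ee z t x i = z * ee z t x (i + 2) := by
  rw [← P.xx_eq]; exact qq_mul' P.q P.q' (P.xx' h) i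

theorem e_z (P : HP Om z t K x) (h : W2 Om) (i : Fin 3) : ee z t x i * z = z * ee z t x i :=
  RZ_le_centralizer h (P.e_mem h i)

theorem e_t (P : HP Om z t K x) (h : W2 Om) (i : Fin 3) : ee z t x i * t = t * ee z t x i := by
  have h1 : t * ee z t x i * t⁻¹ = ee z t x i := by
    calc t * ee z t x i * t⁻¹ = (t * z) * x i * t⁻¹ * (t * (t * x i * t⁻¹) * t⁻¹) := by rw [ee]; group
      _ = (z * t) * x i * t⁻¹ * x i := by rw [P.tt h, P.pr.comm]
      _ = z * ((t * x i * t⁻¹) * x i) := by group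
      _ = _ := by rw [← P.xx' h, ee]; simp only [mul_assoc]
  rw [mul_inv_eq_iff_eq_mul] at h1
  exact h1.symm

theorem e_comm (P : HP Om z t K x) (h : W2 Om) (i j : Fin 3) :
    ee z t x i * ee z t x j = ee z t x j * ee z t x i := by
  rcases i_cases3 i j with rfl | rfl | rfl
  · rfl
  · rw [P.e_mul h, P.e_mul' h]
  · have h1 := P.e_mul h (i + 2)
    have h2 := P.e_mul' h (i + 2)
    rw [i21, i22] at h1 h2
    rw [h1, h2]

/-- `t^{x_i} = t e_i` -/
theorem conj_t (P : HP Om z t K x) (h : W2 Om) (i : Fin 3) : x i * t * (x i)⁻¹ = t * ee z t x i := by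
  have h2 : t * (x i)⁻¹ * t⁻¹ = z * (t * x i * t⁻¹) := by
    calc t * (x i)⁻¹ * t⁻¹ = t * (z * x i) * t⁻¹ := by rw [P.q.inv]
      _ = (t * z) * x i * t⁻¹ := by group
      _ = (z * t) * x i * t⁻¹ := by rw [P.pr.comm]
      _ = _ := by group
  calc x i * t * (x i)⁻¹ = x i * (t * (x i)⁻¹ * t⁻¹) * t := by group
    _ = x i * (z * (t * x i * t⁻¹)) * t := by rw [h2]
    _ = (x i * z) * (t * x i * t⁻¹) * t := by group
    _ = (z * x i) * (t * x i * t⁻¹) * t := by rw [P.q.zc]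
    _ = _ := P.e_t h i

theorem x_e_self (P : HP Om z t K x) (h : W2 Om) (i : Fin 3) : x i * ee z t x i * (x i)⁻¹ = ee z t x i := by
  calc x i * ee z t x i * (x i)⁻¹ = (x i * z) * x i * (t * x i * t⁻¹) * (x i)⁻¹ := by rw [ee]; group
    _ = (z * x i) * (x i * (t * x i * t⁻¹)) * (x i)⁻¹ := by rw [P.q.zc]; group
    _ = (z * x i) * ((t * x i * t⁻¹) * x i) * (x i)⁻¹ := by rw [P.xx' h]
    _ = _ := by rw [ee]; group

theorem x_e_ne (P : HP Om z t K x) (h : W2 Om) (hij : i ≠ j) : x i * ee z t x j * (x i)⁻¹ = z * ee z t x j := by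
  calc x i * ee z t x j * (x i)⁻¹ = (x i * z) * x j * ((t * x j * t⁻¹) * (x i)⁻¹) := by rw [ee]; group
    _ = (z * x i) * x j * ((x i)⁻¹ * (t * x j * t⁻¹)) := by
      rw [P.q.zc]
      congr 1
      have h1 := P.xx' h i j
      rw [eq_inv_mul_iff_mul_eq, ← mul_assoc, h1, mul_inv_cancel_right]
    _ = z * (x i * x j * (x i)⁻¹) * (t * x j * t⁻¹) := by group
    _ = z * (z * x j) * (t * x j * t⁻¹) := by rw [P.q.conj_ne hij]
    _ = _ := by rw [ee]; group

theorem e_ne_one (P : HP Om z t K x) (h : W2 Om) (i : Fin 3) : ee z t x i ≠ 1 := by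
  intro h1
  have h2 := P.x_e_ne h (i_ne1 (i + 2))
  rw [i21, h1] at h2
  apply P.q.z1
  rw [mul_one, mul_one, mul_inv_cancel] at h2
  exact h2.symm

theorem e_ne_z (P : HP Om z t K x) (h : W2 Om) (i : Fin 3) : ee z t x i ≠ z := by
  intro h1
  have h2 := P.x_e_ne h (i_ne1 (i + 2))
  rw [i21, h1, ← P.q.zc, mul_inv_cancel_right, P.q.z2] at h2
  exact P.q.z1 h2

theorem e_not_CX (P : HP Om z t K x) (h : W2 Om) (i : Fin 3) : ee z t x i ∉ CX Om z := by
  intro h1
  have h2 := mem_CX.1 h1 K P.hK (x (i + 2)) (P.q.mem _)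
  have h3 := P.x_e_ne h (i_ne1 (i + 2))
  rw [i21, ← h2, mul_inv_cancel_right] at h3
  exact P.q.z1 (mul_eq_right.1 h3.symm)

theorem c_not_CX (P : HP Om z t K x) (h : W2 Om) (i : Fin 3) : z * ee z t x i ∉ CX Om z := by
  intro h1
  apply P.e_not_CX h i
  have := mul_mem (z_mem_CX (Om := Om) (z := z) h) h1
  rwa [P.q.zzx] at this

/-- `C_{R_z}(t)` -/
theorem RZ_comm (P : HP Om z t K x) (h : W2 Om) {r : G} (hr : r ∈ RZ Om z) (hrt : r * t = t * r) :
    r = 1 ∨ r = z ∨ ∃ i, r = ee z t x i ∨ r = z * ee z t x i := by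
  obtain ⟨k, hk, l, hl, rfl⟩ := (mem_RZ P.hK (P.hK' h) h P.ne').1 hr
  obtain ⟨m, hm, rfl⟩ : ∃ m ∈ K, t * m * t⁻¹ = l := by
    obtain ⟨m, hm, rfl⟩ := hl; exact ⟨m, hm, rfl⟩
  have hmt : ∀ a ∈ K, ∀ b ∈ K, a * (t * b * t⁻¹) = t * b * t⁻¹ * a := fun a ha b hb =>
    P.hK.comm (P.hK' h) h P.ne' ha (conj_mem_cj hb)
  have h1 : t * (k * (t * m * t⁻¹)) * t⁻¹ = m * (t * k * t⁻¹) := by
    calc t * (k * (t * m * t⁻¹)) * t⁻¹ = (t * k * t⁻¹) * (t * (t * m * t⁻¹) * t⁻¹) := by group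
      _ = (t * k * t⁻¹) * m := by rw [P.tt h]
      _ = _ := (hmt m hm k hk).symm
  rw [← hrt, mul_inv_cancel_right] at h1
  have h2 : m⁻¹ * k = (t * k * t⁻¹) * (t * m * t⁻¹)⁻¹ := by
    rw [eq_mul_inv_iff_mul_eq, mul_assoc, h1, inv_mul_cancel_left]
  have h3 : m⁻¹ * k = 1 ∨ m⁻¹ * k = z :=
    P.hK.inf (P.hK' h) h P.ne' (mul_mem (inv_mem hm) hk)
      (by rw [h2]; exact mul_mem (conj_mem_cj hk) (inv_mem (conj_mem_cj hm)))
  have hzK : ∀ a ∈ K, a * z = z * a := fun a ha => P.hK.comm_z h ha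
  have h4 : k * (t * m * t⁻¹) = m * (t * m * t⁻¹) ∨ k * (t * m * t⁻¹) = z * (m * (t * m * t⁻¹)) := by
    rcases h3 with h3 | h3
    · left; rw [inv_mul_eq_one.1 h3]
    · right
      rw [inv_mul_eq_iff_eq_mul, hzK m hm] at h3
      rw [h3]; group
  have h5 : m * (t * m * t⁻¹) = 1 ∨ ∃ i, m * (t * m * t⁻¹) = z * ee z t x i := by
    rcases P.q.cov m hm with rfl | rfl | ⟨i, rfl | rfl⟩
    · left; group
    · left; rw [← P.pr.comm, mul_inv_cancel_right, P.q.z2]
    · right; exact ⟨i, P.xx_eq i⟩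
    · right
      refine ⟨i, ?_⟩
      rw [← P.xx_eq]
      calc z * x i * (t * (z * x i) * t⁻¹) = z * x i * ((t * z) * x i * t⁻¹) := by group
        _ = z * x i * ((z * t) * x i * t⁻¹) := by rw [P.pr.comm]
        _ = z * (x i * z) * (t * x i * t⁻¹) := by group
        _ = _ := by rw [← P.q.zc, P.q.zzx]
  rcases h4 with h4 | h4 <;> rcases h5 with h5 | ⟨i, h5⟩
  · left; rw [h4, h5]
  · right; right; exact ⟨i, Or.inr (by rw [h4, h5])⟩
  · right; left; rw [h4, h5, mul_one]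
  · right; right; exact ⟨i, Or.inl (by rw [h4, h5, P.q.zzx])⟩

/-- an element commuting with `t`, acting on `K` as `x j`: times `e j` it centralises `R_z` -/
theorem mul_e_mem (P : HP Om z t K x) (h : W2 Om) {y : G} (hyt : y * t = t * y)
    (hy : ∀ k ∈ K, y * k * y⁻¹ = x j * k * (x j)⁻¹) : y * ee z t x j ∈ CX Om z := by
  have key : ∀ k ∈ K, y * ee z t x j * k = k * (y * ee z t x j) := by
    intro k hk
    have h1 : ee z t x j * k * (ee z t x j)⁻¹ = x j * k * (x j)⁻¹ := by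
      have h2 : (t * x j * t⁻¹) * k = k * (t * x j * t⁻¹) :=
        (P.hK.comm (P.hK' h) h P.ne' hk (P.q'.mem j)).symm
      calc ee z t x j * k * (ee z t x j)⁻¹
          = z * x j * ((t * x j * t⁻¹) * k) * (t * x j * t⁻¹)⁻¹ * (x j)⁻¹ * z⁻¹ := by rw [ee]; group
        _ = z * x j * (k * (t * x j * t⁻¹)) * (t * x j * t⁻¹)⁻¹ * (x j)⁻¹ * z⁻¹ := by rw [h2]
        _ = z * (x j * k * (x j)⁻¹) * z⁻¹ := by group
        _ = _ := by
          rw [← P.hK.comm_z h (mul_mem (mul_mem (P.q.mem j) hk) (inv_mem (P.q.mem j))), mul_inv_cancel_right]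
    have hxk : x j * k * (x j)⁻¹ ∈ K := mul_mem (mul_mem (P.q.mem j) hk) (inv_mem (P.q.mem j))
    have h3 : y * ee z t x j * k = (y * (x j * k * (x j)⁻¹) * y⁻¹) * (y * ee z t x j) := by
      rw [← h1]; group
    rw [h3, hy _ hxk]
    have h4 : x j * (x j * k * (x j)⁻¹) * (x j)⁻¹ = (x j * x j) * k * (x j * x j)⁻¹ := by group
    rw [h4, P.q.sq, ← P.hK.comm_z h hk, mul_inv_cancel_right]
  rw [mem_CX]
  intro M hM k hk
  rcases P.cases h hM with rfl | rfl
  · exact key k hk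
  · obtain ⟨m, hm, rfl⟩ : ∃ m ∈ K, t * m * t⁻¹ = k := by
      obtain ⟨m, hm, rfl⟩ := hk; exact ⟨m, hm, rfl⟩
    have h1 := key m hm
    have h2 : y * ee z t x j * t = t * (y * ee z t x j) := by
      rw [mul_assoc, P.e_t h, ← mul_assoc, hyt, mul_assoc]
    have h3 : t⁻¹ * (y * ee z t x j) = y * ee z t x j * t⁻¹ := by
      rw [inv_mul_eq_iff_eq_mul, ← mul_assoc, ← h2, mul_inv_cancel_right]
    calc y * ee z t x j * (t * m * t⁻¹) = (y * ee z t x j * t) * m * t⁻¹ := by group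
      _ = t * (y * ee z t x j * m) * t⁻¹ := by rw [h2]; group
      _ = t * m * ((y * ee z t x j) * t⁻¹) := by rw [h1]; group
      _ = _ := by rw [← h3]; group

/-- an element commuting with `t` and with `K` centralises `R_z` -/
theorem mem_CX_of (P : HP Om z t K x) (h : W2 Om) {y : G} (hyt : y * t = t * y)
    (hy : ∀ k ∈ K, y * k * y⁻¹ = k) : y ∈ CX Om z := by
  rw [mem_CX]
  intro M hM k hk
  rcases P.cases h hM with rfl | rfl
  · have := hy k hk
    rwa [mul_inv_eq_iff_eq_mul] at this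
  · obtain ⟨m, hm, rfl⟩ : ∃ m ∈ K, t * m * t⁻¹ = k := by
      obtain ⟨m, hm, rfl⟩ := hk; exact ⟨m, hm, rfl⟩
    have h1 := hy m hm
    rw [mul_inv_eq_iff_eq_mul] at h1
    have h3 : t⁻¹ * y = y * t⁻¹ := by
      rw [inv_mul_eq_iff_eq_mul, ← mul_assoc, ← hyt, mul_inv_cancel_right]
    calc y * (t * m * t⁻¹) = (y * t) * m * t⁻¹ := by group
      _ = t * (y * m) * t⁻¹ := by rw [hyt]; group
      _ = t * m * (y * t⁻¹) := by rw [h1]; group
      _ = _ := by rw [← h3]; group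

/-- `Inn z y` for `y` commuting with `t` can be tested on `K` -/
theorem inn_of (P : HP Om z t K x) (h : W2 Om) {y : G} (hyt : y * t = t * y)
    (hy : ∀ k ∈ K, y * k * y⁻¹ = k ∨ y * k * y⁻¹ = z * k) : Inn Om z y := by
  rcases P.q.inner_cases hy with h1 | ⟨j, h1⟩
  · exact Inn.of_CX (P.mem_CX_of h hyt h1)
  · exact (Inn.of_RZ P.pr.hz h (P.e_mem h j)).mul_right (Inn.of_CX (P.mul_e_mem h hyt h1)) P.pr.hz h

end HP

end Fin

end Cfsg.Agent.Cit.Nil.RTwo

private theorem dce_322be786f98d : _root_.True := by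
  try have : _root_.True := by simp only [_root_.Cfsg.Agent.Cit.Nil.RTwo.ee.eq_1]
  exact _root_.True.intro
end

-- part: Cit/Nil/RTwo/TPair
section
prune_inst 0x30440058000000001800042200204048000192006000014040064003488141a045010130c0221091128e70280a800001180149427000002a008a0040040000042832c29048100001000040f807180c00000000000000000000000000000000000000000
set_option linter.all false
open scoped Cfsg.Agent.FastGrp

-- part: Cit/Nil/RTwo/TypeI
section
/-!
# Type I pairs (section 1 of the blueprint)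

`Cf Om z t K1 K2 L1 L2 a b c d` : a pair `(z, t)` of type I with frames: `K1, K2` the members over `z`, `L1, L2` the
members over `t`, `t` acts on `K1, K2` as `a 0, b 0`, `z` acts on `L1, L2` as `c 0, d 0`.
-/

set_option autoImplicit false
set_option linter.style.haveILetI false
set_option linter.unusedSectionVars false
set_option maxHeartbeats 400000

namespace Cfsg.Agent.Cit.Nil.RTwo

open Subgroup Cfsg Cit

variable {G : Type*} [Group G]

/-- `(z, t)` is a pair of type I -/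
def TI (Om : Set (Subgroup G)) (z t : G) : Prop :=
  InZ Om z ∧ InZ Om t ∧ z ≠ t ∧ z * t = t * z ∧ Inn Om z t

/-- `x` fixes the members over `t` -/
def Fx (Om : Set (Subgroup G)) (t x : G) : Prop := ∀ K, Mem Om t K → cj x K = K

/-- `x` moves the members over `t` -/
def Sw (Om : Set (Subgroup G)) (t x : G) : Prop := ∀ K, Mem Om t K → cj x K ≠ K

/-- the structure of a type I line: label `c` -/
structure Lab (Om : Set (Subgroup G)) (z t c : G) : Prop where
  ti : TI Om z t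
  sq : c * c = 1
  cz : c ∈ CX Om z
  ct : c ∈ CX Om t
  wz : t * c ∈ RZ Om z
  wt : z * c ∈ RZ Om t

/-- see the head of the file -/
structure Cf (Om : Set (Subgroup G)) (z t : G) (K1 K2 L1 L2 : Subgroup G) (a b c d : Fin 3 → G) : Prop where
  k1 : Mem Om z K1
  k2 : Mem Om z K2
  kne : K1 ≠ K2
  l1 : Mem Om t L1
  l2 : Mem Om t L2
  lne : L1 ≠ L2
  qa : Q3 K1 z a
  qb : Q3 K2 z b
  qc : Q3 L1 t c
  qd : Q3 L2 t d
  ne : z ≠ t
  comm : z * t = t * z
  ta : ∀ k ∈ K1, t * k * t⁻¹ = a 0 * k * (a 0)⁻¹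
  tb : ∀ k ∈ K2, t * k * t⁻¹ = b 0 * k * (b 0)⁻¹
  zc : ∀ k ∈ L1, z * k * z⁻¹ = c 0 * k * (c 0)⁻¹
  zd : ∀ k ∈ L2, z * k * z⁻¹ = d 0 * k * (d 0)⁻¹

section

variable [Finite G] {Om : Set (Subgroup G)} {K K1 K2 L L1 L2 : Subgroup G} {z t g x y : G} {a b c d : Fin 3 → G}

/-- a frame in which an inner involutory automorphism is `x 0` -/
theorem exists_frame (h : W2 Om) (hK : Mem Om z K) (ht : InZ Om t) (hne : t ≠ z)
    (hi : ∀ k ∈ K, t * k * t⁻¹ = k ∨ t * k * t⁻¹ = z * k) :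
    ∃ a, Q3 K z a ∧ ∀ k ∈ K, t * k * t⁻¹ = a 0 * k * (a 0)⁻¹ := by
  obtain ⟨x, hx⟩ := h.exists_q3 hK
  rcases hx.inner_cases hi with h1 | ⟨j, h1⟩
  · exfalso
    exact hne (ht.eq_of_cent hK h fun k hk => by
      have := h1 k hk
      rwa [mul_inv_eq_iff_eq_mul] at this)
  · refine ⟨_, hx.rot j, ?_⟩
    simpa only [_root_.Fin.isValue, _root_.zero_add] using h1

theorem TI.exists_cf (h : W2 Om) (hti : TI Om z t) : ∃ K1 K2 L1 L2 a b c d, Cf Om z t K1 K2 L1 L2 a b c d := by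
  obtain ⟨⟨K1, hK1⟩, ⟨L1, hL1⟩, hne, hc, hi⟩ := hti
  obtain ⟨K2, hK2, hkne, -⟩ := hK1.other h
  obtain ⟨L2, hL2, hlne, -⟩ := hL1.other h
  have hi' := hi.symm hK1.inZ hL1.inZ h
  obtain ⟨a, qa, ha⟩ := exists_frame h hK1 hL1.inZ hne.symm (hi K1 hK1)
  obtain ⟨b, qb, hb⟩ := exists_frame h hK2 hL1.inZ hne.symm (hi K2 hK2)
  obtain ⟨c, qc, hc'⟩ := exists_frame h hL1 hK1.inZ hne (hi' L1 hL1)
  obtain ⟨d, qd, hd⟩ := exists_frame h hL2 hK1.inZ hne (hi' L2 hL2)
  exact ⟨K1, K2, L1, L2, a, b, c, d, hK1, hK2, hkne, hL1, hL2, hlne, qa, qb, qc, qd, hne, hc, ha, hb, hc', hd⟩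

namespace Cf

variable (C : Cf Om z t K1 K2 L1 L2 a b c d) (h : W2 Om)

include C

theorem symm : Cf Om t z L1 L2 K1 K2 c d a b :=
  ⟨C.l1, C.l2, C.lne, C.k1, C.k2, C.kne, C.qc, C.qd, C.qa, C.qb, C.ne.symm, C.comm.symm, C.zc, C.zd, C.ta, C.tb⟩

theorem swk : Cf Om z t K2 K1 L1 L2 b a c d :=
  ⟨C.k2, C.k1, C.kne.symm, C.l1, C.l2, C.lne, C.qb, C.qa, C.qc, C.qd, C.ne, C.comm, C.tb, C.ta, C.zc, C.zd⟩

theorem swl : Cf Om z t K1 K2 L2 L1 a b d c :=
  ⟨C.k1, C.k2, C.kne, C.l2, C.l1, C.lne.symm, C.qa, C.qb, C.qd, C.qc, C.ne, C.comm, C.ta, C.tb, C.zd, C.zc⟩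

theorem ta0 : t * a 0 = a 0 * t := by
  have h1 := C.ta _ (C.qa.mem 0)
  rwa [Q3.conj_self, mul_inv_eq_iff_eq_mul] at h1

theorem ta1 : t * a 1 * t⁻¹ = z * a 1 := by
  rw [C.ta _ (C.qa.mem 1), C.qa.conj_ne (by decide)]

theorem z2 : z * z = 1 := C.qa.z2
theorem t2 : t * t = 1 := C.qc.z2
theorem zinv : z⁻¹ = z := C.qa.zinv
theorem tinv : t⁻¹ = t := C.qc.zinv

include h

/-- `a 0` acts on `L1` as a rotation by a quarter about `c 0` -/
theorem rot : a 0 * c 0 * (a 0)⁻¹ = c 0 ∧ (a 0 * c 1 * (a 0)⁻¹ = c 2 ∨ a 0 * c 1 * (a 0)⁻¹ = t * c 2) := by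
  have h1 := h.h3 C.k1 C.l1 (C.qa.mem 0) (C.qa.sq 0) C.ta0.symm
  refine C.qc.quarter (fun k hk => ?_) fun k hk => ?_
  · have := conj_mem_cj (g := a 0) hk
    rwa [h1] at this
  · rw [← C.zc k hk]
    have : a 0 * (a 0 * k * (a 0)⁻¹) * (a 0)⁻¹ = (a 0 * a 0) * k * (a 0 * a 0)⁻¹ := by group
    rw [this, C.qa.sq]

theorem ab : a 0 * b 0 = b 0 * a 0 := C.k1.comm C.k2 h C.kne (C.qa.mem 0) (C.qb.mem 0)

/-- `a 1 c 0 (a 1)⁻¹ = ± a 0 c 0` -/
theorem conj_ac : a 1 * c 0 * (a 1)⁻¹ = a 0 * c 0 ∨ a 1 * c 0 * (a 1)⁻¹ = z * (a 0 * c 0) := by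
  have h1 := (C.symm.rot h).2
  have h12 : a 1 * a 2 = a 0 := C.qa.mul12 0
  have e : a 1 * c 0 * (a 1)⁻¹ = a 1 * (c 0 * a 1 * (c 0)⁻¹)⁻¹ * c 0 := by group
  rw [e]
  rcases h1 with h1 | h1
  · right
    rw [h1, C.qa.inv, ← mul_assoc (a 1), ← C.qa.zc, mul_assoc z, h12, mul_assoc]
  · left
    rw [h1, mul_inv_rev, C.qa.inv, C.zinv, mul_assoc z, ← C.qa.zc, C.qa.zzx, h12]

omit h in
/-- `a 1 t (a 1)⁻¹ = z t` -/
theorem a1t : a 1 * t * (a 1)⁻¹ = z * t := by
  have h1 := C.ta1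
  have h3 : t * a 1 = z * a 1 * t := by rwa [mul_inv_eq_iff_eq_mul] at h1
  have h4 : a 1 * t = z * (t * a 1) := by
    rw [h3, ← mul_assoc, ← mul_assoc, C.z2, one_mul]
  rw [h4]; group

omit h in
theorem b1t : b 1 * t * (b 1)⁻¹ = z * t := C.swk.a1t

omit h in
theorem a1z : a 1 * z = z * a 1 := (C.qa.zc 1).symm

/-- `a 1 b 1` commutes with `t` -/
theorem vt : (a 1 * b 1) * t = t * (a 1 * b 1) := by
  have h1 := C.a1t
  have h2 := C.b1t
  rw [mul_inv_eq_iff_eq_mul] at h1 h2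
  calc a 1 * b 1 * t = a 1 * (b 1 * t) := by group
    _ = a 1 * (z * t * b 1) := by rw [h2]
    _ = (a 1 * z) * t * b 1 := by group
    _ = z * (a 1 * t) * b 1 := by rw [C.a1z]; group
    _ = z * (z * t * a 1) * b 1 := by rw [h1]
    _ = (z * z) * t * (a 1 * b 1) := by group
    _ = _ := by rw [C.z2, one_mul]

/-- `a 1 b 1` commutes with `a 0 b 0` -/
theorem vw : (a 1 * b 1) * (a 0 * b 0) = (a 0 * b 0) * (a 1 * b 1) := by
  have h1 := C.qa.sw (show (1 : Fin 3) ≠ 0 by decide)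
  have h2 := C.qb.sw (show (1 : Fin 3) ≠ 0 by decide)
  have e1 : b 1 * a 0 = a 0 * b 1 := (C.k1.comm C.k2 h C.kne (C.qa.mem 0) (C.qb.mem 1)).symm
  have e2 : b 0 * a 1 = a 1 * b 0 := (C.k1.comm C.k2 h C.kne (C.qa.mem 1) (C.qb.mem 0)).symm
  calc (a 1 * b 1) * (a 0 * b 0) = a 1 * (b 1 * a 0) * b 0 := by group
    _ = (a 1 * a 0) * (b 1 * b 0) := by rw [e1]; group
    _ = (z * (a 0 * a 1)) * (z * (b 0 * b 1)) := by rw [h1, h2]
    _ = z * (a 0 * a 1 * z) * (b 0 * b 1) := by group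
    _ = z * (z * (a 0 * a 1)) * (b 0 * b 1) := by rw [C.qa.zcomm (mul_mem (C.qa.mem 0) (C.qa.mem 1))]
    _ = (a 0 * a 1) * (b 0 * b 1) := by rw [C.qa.zzx]
    _ = a 0 * (a 1 * b 0) * b 1 := by group
    _ = a 0 * (b 0 * a 1) * b 1 := by rw [e2]
    _ = _ := by group

omit h in
/-- `z` acts on `cj g L1` as `g c 0 g⁻¹` if `g` commutes with `z` -/
theorem act_cj (hg : g * z = z * g) {m : G} (hm : m ∈ cj g L1) :
    (g * c 0 * g⁻¹) * m * (g * c 0 * g⁻¹)⁻¹ = z * m * z⁻¹ := by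
  rw [mem_cj] at hm
  have h1 := C.zc _ hm
  calc (g * c 0 * g⁻¹) * m * (g * c 0 * g⁻¹)⁻¹ = g * (c 0 * (g⁻¹ * m * g) * (c 0)⁻¹) * g⁻¹ := by group
    _ = g * (z * (g⁻¹ * m * g) * z⁻¹) * g⁻¹ := by rw [h1]
    _ = (g * z) * (g⁻¹ * m * g) * (g * z)⁻¹ := by group
    _ = (z * g) * (g⁻¹ * m * g) * (z * g)⁻¹ := by rw [hg]
    _ = _ := by group

/-- `a 0` is not in `K2` -/
theorem a0_not : a 0 ∉ K2 := by
  intro h1
  rcases C.k1.inf C.k2 h C.kne (C.qa.mem 0) h1 with h2 | h2
  · exact C.qa.ne_one 0 h2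
  · exact C.qa.ne_z 0 h2

/-- `z` does not centralise `L1` -/
theorem z_not (h1 : ∀ k ∈ L1, z * k = k * z) : False :=
  C.ne (C.k1.inZ.eq_of_cent C.l1 h h1)

/-- `P1`: `t` lies in `R_z` -/
theorem p1 (hv : cj (a 1 * b 1) L1 = L1) : t = a 0 * b 0 ∨ t = z * (a 0 * b 0) := by
  have hz1 : cj z L1 = L1 := by
    have := h.h3 C.k1 C.l1 (C.qa.mem 0) (C.qa.sq 0) C.ta0.symm
    rw [← C.qa.sq 0, cj_mul, this, this]
  have hM : cj (b 1) L1 = cj (a 1) L1 := by
    have h1 : cj (a 1) (cj (a 1) (cj (b 1) L1)) = cj (a 1) L1 := by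
      rw [← cj_mul, ← cj_mul, mul_assoc, cj_mul, hv]
    have h2 : a 1 * (a 1) = z := C.qa.sq 1
    rw [← cj_mul, h2, ← cj_mul, (C.qb.zc 1), cj_mul, hz1] at h1
    exact h1
  have q := C.qc.conj (a 1)
  rw [C.a1t] at q
  have hu : a 1 * c 0 * (a 1)⁻¹ ∈ cj (a 1) L1 := conj_mem_cj (C.qc.mem 0)
  have hv' : b 1 * c 0 * (b 1)⁻¹ ∈ cj (a 1) L1 := by rw [← hM]; exact conj_mem_cj (C.qc.mem 0)
  have key : ∀ m ∈ cj (a 1) L1, (a 1 * c 0 * (a 1)⁻¹) * m * (a 1 * c 0 * (a 1)⁻¹)⁻¹ =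
      (b 1 * c 0 * (b 1)⁻¹) * m * (b 1 * c 0 * (b 1)⁻¹)⁻¹ := by
    intro m hm
    rw [C.act_cj C.a1z hm]
    rw [← hM] at hm
    rw [C.act_cj C.swk.a1z hm]
  have h5 := q.eq_or_of_act hu hv' (key _ (q.mem 0)) (key _ (q.mem 1))
  -- `a 0 = z^i (z t)^j b 0`
  have h6 := C.conj_ac h
  have h7 := C.swk.conj_ac h
  have hcan : ∀ e : G, a 0 * c 0 = e * (b 0 * c 0) → a 0 = e * b 0 := by
    intro e he
    rw [← mul_assoc] at he
    exact mul_right_cancel he
  have hno : ¬ (a 0 = b 0) ∧ ¬ (a 0 = z * b 0) := by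
    constructor
    · intro h8; exact C.a0_not h (h8 ▸ C.qb.mem 0)
    · intro h8; exact C.a0_not h (h8 ▸ K2.mul_mem C.qb.zmem (C.qb.mem 0))
  have hbi : (b 0)⁻¹ = z * b 0 := C.qb.inv 0
  have hfin : a 0 = t * b 0 ∨ a 0 = z * (t * b 0) → t = a 0 * b 0 ∨ t = z * (a 0 * b 0) := by
    rintro (h8 | h8)
    · right
      rw [h8]
      have : z * (t * b 0 * b 0) = (z * t) * (b 0 * b 0) := by group
      rw [this, C.qb.sq, C.comm, mul_assoc, C.z2, mul_one]
    · left
      rw [h8]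
      have : z * (t * b 0) * b 0 = (z * t) * (b 0 * b 0) := by group
      rw [this, C.qb.sq, C.comm, mul_assoc, C.z2, mul_one]
  rcases h5 with h5 | h5 <;> rcases h6 with h6 | h6 <;> rcases h7 with h7 | h7 <;> rw [h6, h7] at h5
  · exact absurd (mul_right_cancel h5) hno.1
  · exact absurd (hcan z h5) hno.2
  · rw [← C.qa.zzx (b 0 * c 0)] at h5
    exact absurd (hcan z (mul_left_cancel h5)) hno.2
  · exact absurd (mul_right_cancel (mul_left_cancel h5)) hno.1
  · refine hfin (Or.inr ?_)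
    rw [hcan _ h5, mul_assoc]
  · refine hfin (Or.inl ?_)
    rw [hcan (z * t * z) (by rw [h5]; group), C.comm, mul_assoc t, C.z2, mul_one]
  · refine hfin (Or.inl ?_)
    rw [mul_assoc] at h5
    exact hcan _ (mul_left_cancel h5)
  · refine hfin (Or.inr ?_)
    rw [mul_assoc] at h5
    have h8 := mul_left_cancel h5
    rw [hcan (t * z) (by rw [h8]; group), ← C.comm, mul_assoc]

/-- `P2`: `c 0 d 0 = z^i t^j a 0 b 0` -/
theorem p2 (hv : cj (a 1 * b 1) L1 = L2) : c 0 * d 0 = a 0 * b 0 ∨ c 0 * d 0 = z * (a 0 * b 0) ∨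
    c 0 * d 0 = t * (a 0 * b 0) ∨ c 0 * d 0 = z * (t * (a 0 * b 0)) := by
  have hz1 : cj z L1 = L1 := by
    have := h.h3 C.k1 C.l1 (C.qa.mem 0) (C.qa.sq 0) C.ta0.symm
    rw [← C.qa.sq 0, cj_mul, this, this]
  have hM : cj (b 1) L1 = cj (a 1) L2 := by
    have h1 : cj (a 1) (cj (a 1) (cj (b 1) L1)) = cj (a 1) L2 := by
      rw [← hv, cj_mul (a 1) (b 1)]
    have h2 : a 1 * (a 1) = z := C.qa.sq 1
    rw [← cj_mul, h2, ← cj_mul, (C.qb.zc 1), cj_mul, hz1] at h1
    exact h1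
  have q := C.qd.conj (a 1)
  rw [C.a1t] at q
  have hu : a 1 * d 0 * (a 1)⁻¹ ∈ cj (a 1) L2 := conj_mem_cj (C.qd.mem 0)
  have hv' : b 1 * c 0 * (b 1)⁻¹ ∈ cj (a 1) L2 := by rw [← hM]; exact conj_mem_cj (C.qc.mem 0)
  have key : ∀ m ∈ cj (a 1) L2, (b 1 * c 0 * (b 1)⁻¹) * m * (b 1 * c 0 * (b 1)⁻¹)⁻¹ =
      (a 1 * d 0 * (a 1)⁻¹) * m * (a 1 * d 0 * (a 1)⁻¹)⁻¹ := by
    intro m hm
    rw [C.swl.act_cj C.a1z hm]
    rw [← hM] at hm
    rw [C.swk.act_cj C.swk.a1z hm]
  have h5 := q.eq_or_of_act hv' hu (key _ (q.mem 0)) (key _ (q.mem 1))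
  have h6 := C.swl.conj_ac h
  have h7 := C.swk.conj_ac h
  have hbi : (b 0)⁻¹ = z * b 0 := C.qb.inv 0
  have hta : t * a 0 = a 0 * t := C.ta0
  have htb : t * b 0 = b 0 * t := C.swk.ta0
  have hza : z * a 0 = a 0 * z := C.qa.zc 0
  have hzb : z * b 0 = b 0 * z := C.qb.zc 0
  have hab : a 0 * b 0 = b 0 * a 0 := C.ab h
  have hcan : ∀ e : G, e * b 0 = b 0 * e → b 0 * c 0 = e * (a 0 * d 0) → c 0 * d 0 = z * e * t * (a 0 * b 0) := by
    intro e he h8
    calc c 0 * d 0 = (b 0)⁻¹ * (b 0 * c 0) * d 0 := by group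
      _ = z * b 0 * (e * (a 0 * d 0)) * d 0 := by rw [h8, hbi]
      _ = z * (b 0 * e) * a 0 * (d 0 * d 0) := by group
      _ = z * (e * b 0) * a 0 * t := by rw [he, C.qd.sq]
      _ = z * e * (b 0 * (a 0 * t)) := by group
      _ = z * e * (b 0 * (t * a 0)) := by rw [hta]
      _ = z * e * ((b 0 * t) * a 0) := by group
      _ = z * e * (t * (b 0 * a 0)) := by rw [← htb]; group
      _ = z * e * (t * (a 0 * b 0)) := by rw [hab]
      _ = _ := by group
  have e1 : b 0 * c 0 = 1 * (a 0 * d 0) → c 0 * d 0 = z * (t * (a 0 * b 0)) := by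
    intro h8
    rw [hcan 1 (by group) h8]; group
  have e2 : b 0 * c 0 = z * (a 0 * d 0) → c 0 * d 0 = t * (a 0 * b 0) := by
    intro h8
    rw [hcan z hzb h8, C.z2]; group
  have e3 : b 0 * c 0 = t * (a 0 * d 0) → c 0 * d 0 = z * (a 0 * b 0) := by
    intro h8
    rw [hcan t htb h8]
    have : z * t * t * (a 0 * b 0) = z * (t * t) * (a 0 * b 0) := by group
    rw [this, C.t2]; group
  have e4 : b 0 * c 0 = z * t * (a 0 * d 0) → c 0 * d 0 = a 0 * b 0 := by
    intro h8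
    rw [hcan (z * t) (by rw [mul_assoc, htb, ← mul_assoc, hzb, mul_assoc]) h8]
    have : z * (z * t) * t * (a 0 * b 0) = (z * z) * (t * t) * (a 0 * b 0) := by group
    rw [this, C.t2, C.z2]; group
  have hzt : ∀ y : G, z * (z * t * (z * y)) = z * t * y := by
    intro y
    calc z * (z * t * (z * y)) = (z * z) * (t * z) * y := by group
      _ = z * t * y := by rw [C.z2, C.comm]; group
  rcases h5 with h5 | h5 <;> rcases h7 with h7 | h7 <;> rcases h6 with h6 | h6 <;> rw [h6, h7] at h5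
  · exact Or.inr (Or.inr (Or.inr (e1 (by rw [h5]; group))))
  · exact Or.inr (Or.inr (Or.inl (e2 h5)))
  · exact Or.inr (Or.inr (Or.inl (e2 (by rw [← h5, C.qa.zzx]))))
  · exact Or.inr (Or.inr (Or.inr (e1 (by rw [mul_left_cancel h5]; group))))
  · exact Or.inl (e4 h5)
  · refine Or.inr (Or.inl (e3 ?_))
    rw [h5]
    calc z * t * (z * (a 0 * d 0)) = (z * (t * z)) * (a 0 * d 0) := by group
      _ = (z * z) * t * (a 0 * d 0) := by rw [← C.comm]; group
      _ = _ := by rw [C.z2, one_mul]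
  · refine Or.inr (Or.inl (e3 ?_))
    have h8 : b 0 * c 0 = z * (z * t * (a 0 * d 0)) := by rw [← h5, C.qa.zzx]
    rw [h8, mul_assoc z t, C.qa.zzx]
  · refine Or.inl (e4 ?_)
    have h8 : b 0 * c 0 = z * (z * t * (z * (a 0 * d 0))) := by rw [← h5, C.qa.zzx]
    rw [h8, hzt]

/-- `a 0 b 0` or `z a 0 b 0` centralises `L1` -/
theorem s_or : (∀ k ∈ L1, (a 0 * b 0) * k = k * (a 0 * b 0)) ∨ (∀ k ∈ L1, (z * (a 0 * b 0)) * k = k * (z * (a 0 * b 0))) := by
  obtain ⟨r1, r2⟩ := C.rot h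
  obtain ⟨r3, r4⟩ := C.swk.rot h
  have hc0 : (a 0 * b 0) * c 0 = c 0 * (a 0 * b 0) := by
    rw [mul_inv_eq_iff_eq_mul] at r1 r3
    rw [mul_assoc, r3, ← mul_assoc, r1, mul_assoc]
  have hc01 : c 0 * c 1 = c 2 := C.qc.mul 0
  have hc02 : c 0 * c 2 = t * c 1 := C.qc.mul2' 0
  have hta : t * a 0 = a 0 * t := C.ta0
  have htb : t * b 0 = b 0 * t := C.swk.ta0
  have hat : a 0 * t * (a 0)⁻¹ = t := by rw [← hta, mul_inv_cancel_right]
  -- action of `a 0` on `c 2`
  have hac2 : a 0 * c 2 * (a 0)⁻¹ = c 0 * (a 0 * c 1 * (a 0)⁻¹) := by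
    rw [← hc01]
    calc a 0 * (c 0 * c 1) * (a 0)⁻¹ = (a 0 * c 0 * (a 0)⁻¹) * (a 0 * c 1 * (a 0)⁻¹) := by group
      _ = _ := by rw [r1]
  have hmain : (a 0 * b 0) * c 1 * (a 0 * b 0)⁻¹ = c 1 ∨ (a 0 * b 0) * c 1 * (a 0 * b 0)⁻¹ = t * c 1 := by
    have e1 : (a 0 * b 0) * c 1 * (a 0 * b 0)⁻¹ = a 0 * (b 0 * c 1 * (b 0)⁻¹) * (a 0)⁻¹ := by group
    have e2 : a 0 * (t * c 2) * (a 0)⁻¹ = t * (a 0 * c 2 * (a 0)⁻¹) := by
      calc a 0 * (t * c 2) * (a 0)⁻¹ = (a 0 * t * (a 0)⁻¹) * (a 0 * c 2 * (a 0)⁻¹) := by group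
        _ = _ := by rw [hat]
    have e3 : c 0 * (t * c 2) = c 1 := by
      rw [← mul_assoc, ← C.qc.zc, mul_assoc, hc02, C.qc.zzx]
    rw [e1]
    rcases r4 with r4 | r4 <;> rcases r2 with r2 | r2
    · right; rw [r4, hac2, r2, hc02]
    · left; rw [r4, hac2, r2, e3]
    · left; rw [r4, e2, hac2, r2, hc02, C.qc.zzx]
    · right; rw [r4, e2, hac2, r2, e3]
  rcases hmain with h1 | h1
  · left
    intro k hk
    refine C.qc.comm_of hc0 ?_ hk
    rwa [mul_inv_eq_iff_eq_mul] at h1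
  · right
    intro k hk
    have hz0 := C.symm.ta0
    have hz1 := C.symm.ta1
    refine C.qc.comm_of ?_ ?_ hk
    · rw [mul_assoc, hc0, ← mul_assoc, hz0, mul_assoc]
    · rw [mul_inv_eq_iff_eq_mul] at h1 hz1
      calc z * (a 0 * b 0) * c 1 = z * ((a 0 * b 0) * c 1) := by group
        _ = z * (t * c 1 * (a 0 * b 0)) := by rw [h1]
        _ = (z * t) * c 1 * (a 0 * b 0) := by group
        _ = t * (z * c 1) * (a 0 * b 0) := by rw [C.comm]; group
        _ = t * (t * c 1 * z) * (a 0 * b 0) := by rw [hz1]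
        _ = (t * t) * c 1 * (z * (a 0 * b 0)) := by group
        _ = _ := by rw [C.t2, one_mul]

/-- no Hadamard: one of `a 0 b 0`, `z a 0 b 0` centralises `L1` and `L2` -/
theorem exists_w : ∃ w, (w = a 0 * b 0 ∨ w = z * (a 0 * b 0)) ∧ (∀ k ∈ L1, w * k = k * w) ∧ (∀ k ∈ L2, w * k = k * w) := by
  have key : ∀ {K1 K2 L1 L2 : Subgroup G} {a b c d : Fin 3 → G}, Cf Om z t K1 K2 L1 L2 a b c d →
      (∀ k ∈ L1, (a 0 * b 0) * k = k * (a 0 * b 0)) → (∀ k ∈ L2, (z * (a 0 * b 0)) * k = k * (z * (a 0 * b 0))) →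
      False := by
    intro K1 K2 L1 L2 a b c d C h1 h2
    have hzne : ∀ {L : Subgroup G}, (∀ k ∈ L, (a 0 * b 0) * k = k * (a 0 * b 0)) →
        (∀ k ∈ L, (z * (a 0 * b 0)) * k = k * (z * (a 0 * b 0))) → ∀ k ∈ L, z * k = k * z := by
      intro L h3 h4 k hk
      have h5 := h3 k hk
      have h6 := h4 k hk
      rw [mul_assoc, h5, ← mul_assoc, ← mul_assoc] at h6
      exact mul_right_cancel (by rw [mul_assoc]; rw [mul_assoc, mul_assoc] at h6; simpa only [mul_assoc, _root_.Fin.isValue] using h6)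
    rcases C.l1.cases C.l2 h C.lne (C.l1.cj_comm h (C.vt h)) with h3 | h3
    · rcases C.p1 h h3 with h4 | h4
      · refine C.swl.z_not h (hzne (fun k hk => ?_) h2)
        rw [← h4]; exact C.qd.zcomm hk
      · refine C.z_not h (hzne h1 fun k hk => ?_)
        rw [← h4]; exact C.qc.zcomm hk
    · refine C.swl.z_not h (hzne (fun k hk => ?_) h2)
      rw [← h3, mem_cj] at hk
      have h4 := h1 _ hk
      have h5 := C.vw h
      have h6 : (a 0 * b 0) * (a 1 * b 1)⁻¹ = (a 1 * b 1)⁻¹ * (a 0 * b 0) := by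
        rw [mul_inv_eq_iff_eq_mul, mul_assoc, ← h5]; group
      calc a 0 * b 0 * k = ((a 0 * b 0) * (a 1 * b 1)) * ((a 1 * b 1)⁻¹ * k * (a 1 * b 1)) * (a 1 * b 1)⁻¹ := by group
        _ = (a 1 * b 1) * ((a 0 * b 0) * ((a 1 * b 1)⁻¹ * k * (a 1 * b 1))) * (a 1 * b 1)⁻¹ := by rw [← h5]; group
        _ = (a 1 * b 1) * (((a 1 * b 1)⁻¹ * k * (a 1 * b 1)) * (a 0 * b 0)) * (a 1 * b 1)⁻¹ := by rw [h4]
        _ = k * (a 1 * b 1) * ((a 0 * b 0) * (a 1 * b 1)⁻¹) := by group
        _ = k * (a 1 * b 1) * ((a 1 * b 1)⁻¹ * (a 0 * b 0)) := by rw [h6]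
        _ = _ := by group
  rcases C.s_or h with h1 | h1 <;> rcases C.swl.s_or h with h2 | h2
  · exact ⟨_, Or.inl rfl, h1, h2⟩
  · exact (key C h1 h2).elim
  · exact (key C.swl h2 h1).elim
  · exact ⟨_, Or.inr rfl, h1, h2⟩

omit h in
/-- `s = a 0 b 0` and `z s` act on `K1` as `a 0` -/
theorem act_w (h : W2 Om) {w : G} (hw : w = a 0 * b 0 ∨ w = z * (a 0 * b 0)) :
    ∀ k ∈ K1, w * k * w⁻¹ = a 0 * k * (a 0)⁻¹ := by
  intro k hk
  have h1 : ∀ k ∈ K1, (a 0 * b 0) * k * (a 0 * b 0)⁻¹ = a 0 * k * (a 0)⁻¹ := by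
    intro k hk
    have h2 := C.k1.comm C.k2 h C.kne hk (C.qb.mem 0)
    calc (a 0 * b 0) * k * (a 0 * b 0)⁻¹ = a 0 * (b 0 * k) * (b 0)⁻¹ * (a 0)⁻¹ := by group
      _ = a 0 * (k * b 0) * (b 0)⁻¹ * (a 0)⁻¹ := by rw [h2]
      _ = _ := by group
  rcases hw with rfl | rfl
  · exact h1 k hk
  · have h2 : z * (a 0 * b 0) * k * (z * (a 0 * b 0))⁻¹ = z * ((a 0 * b 0) * k * (a 0 * b 0)⁻¹) * z⁻¹ := by group
    rw [h2, h1 k hk, C.qa.zcomm (mul_mem (mul_mem (C.qa.mem 0) hk) (inv_mem (C.qa.mem 0))), mul_inv_cancel_right]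

theorem w_swap {w : G} (hw : w = a 0 * b 0 ∨ w = z * (a 0 * b 0)) : w = b 0 * a 0 ∨ w = z * (b 0 * a 0) := by
  rwa [← C.ab h]

theorem w_comm_t {w : G} (hw : w = a 0 * b 0 ∨ w = z * (a 0 * b 0)) : w * t = t * w := by
  have hta : t * a 0 = a 0 * t := C.ta0
  have htb : t * b 0 = b 0 * t := C.swk.ta0
  have h1 : a 0 * b 0 * t = t * (a 0 * b 0) := by
    rw [mul_assoc, ← htb, ← mul_assoc, ← hta, mul_assoc]
  rcases hw with rfl | rfl
  · exact h1
  · rw [mul_assoc, h1, ← mul_assoc, C.comm, mul_assoc]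

theorem w_sq {w : G} (hw : w = a 0 * b 0 ∨ w = z * (a 0 * b 0)) : w * w = 1 := by
  have h1 : a 0 * b 0 * (a 0 * b 0) = 1 := by
    calc a 0 * b 0 * (a 0 * b 0) = a 0 * (b 0 * a 0) * b 0 := by group
      _ = a 0 * (a 0 * b 0) * b 0 := by rw [C.ab h]
      _ = (a 0 * a 0) * (b 0 * b 0) := by group
      _ = 1 := by rw [C.qa.sq, C.qb.sq, C.z2]
  rcases hw with rfl | rfl
  · exact h1
  · have hza : z * a 0 = a 0 * z := C.qa.zc 0
    have hzb : z * b 0 = b 0 * z := C.qb.zc 0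
    calc z * (a 0 * b 0) * (z * (a 0 * b 0)) = z * (a 0 * (b 0 * z)) * (a 0 * b 0) := by group
      _ = z * (a 0 * (z * b 0)) * (a 0 * b 0) := by rw [hzb]
      _ = z * ((a 0 * z) * b 0) * (a 0 * b 0) := by group
      _ = z * (z * (a 0 * b 0)) * (a 0 * b 0) := by rw [← hza]; group
      _ = 1 := by rw [C.qa.zzx, h1]

theorem w_mem_RZ {w : G} (hw : w = a 0 * b 0 ∨ w = z * (a 0 * b 0)) : w ∈ RZ Om z := by
  have h1 : a 0 * b 0 ∈ RZ Om z := mul_mem (C.k1.le_RZ (C.qa.mem 0)) (C.k2.le_RZ (C.qb.mem 0))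
  rcases hw with rfl | rfl
  · exact h1
  · exact mul_mem (C.k1.le_RZ C.qa.zmem) h1

/-- `t w` centralises `K1` -/
theorem tw_comm {w : G} (hw : w = a 0 * b 0 ∨ w = z * (a 0 * b 0)) : ∀ k ∈ K1, (t * w) * k = k * (t * w) := by
  intro k hk
  have h1 := C.act_w h hw k hk
  have h2 := C.ta (w * k * w⁻¹) (by rw [h1]; exact mul_mem (mul_mem (C.qa.mem 0) hk) (inv_mem (C.qa.mem 0)))
  have h3 : t * w * k * (t * w)⁻¹ = k := by
    calc t * w * k * (t * w)⁻¹ = t * (w * k * w⁻¹) * t⁻¹ := by group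
      _ = a 0 * (a 0 * k * (a 0)⁻¹) * (a 0)⁻¹ := by rw [h2, h1]
      _ = (a 0 * a 0) * k * (a 0 * a 0)⁻¹ := by group
      _ = k := by rw [C.qa.sq, C.qa.zcomm hk, mul_inv_cancel_right]
  rwa [mul_inv_eq_iff_eq_mul] at h3

/-- an element which centralises `K1` and lies in `{w, z w}` does not exist -/
theorem w_not {w : G} (hw : w = a 0 * b 0 ∨ w = z * (a 0 * b 0)) (hc : ∀ k ∈ K1, w * k = k * w) : False := by
  have h1 := C.act_w h hw (a 1) (C.qa.mem 1)
  rw [hc _ (C.qa.mem 1), mul_inv_cancel_right, C.qa.conj_ne (by decide)] at h1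
  exact C.qa.zne _ h1.symm

/-- the label -/
theorem exists_lab : ∃ c', Lab Om z t c' := by
  obtain ⟨w, hw, hw1, hw2⟩ := C.exists_w h
  obtain ⟨w', hw', hw1', hw2'⟩ := C.symm.exists_w h
  have hwt := C.w_comm_t h hw
  have hti : TI Om z t := ⟨C.k1.inZ, C.l1.inZ, C.ne, C.comm, by
    intro K hK k hk
    have key : ∀ {K : Subgroup G} {a : Fin 3 → G}, Q3 K z a → (∀ k ∈ K, t * k * t⁻¹ = a 0 * k * (a 0)⁻¹) →
        ∀ k ∈ K, t * k * t⁻¹ = k ∨ t * k * t⁻¹ = z * k := by
      intro K a q h1 k hk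
      rw [h1 k hk]
      rcases q.cov k hk with rfl | rfl | ⟨i, rfl | rfl⟩
      · left; group
      · left; rw [← q.zc, mul_inv_cancel_right]
      · by_cases hi : i = 0
        · subst hi; left; exact Q3.conj_self 0
        · right; exact q.conj_ne (Ne.symm hi)
      · have h4 : a 0 * (z * a i) * (a 0)⁻¹ = z * (a 0 * a i * (a 0)⁻¹) := by
          calc a 0 * (z * a i) * (a 0)⁻¹ = (a 0 * z) * a i * (a 0)⁻¹ := by group
            _ = (z * a 0) * a i * (a 0)⁻¹ := by rw [q.zc]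
            _ = _ := by group
        rw [h4]
        by_cases hi : i = 0
        · subst hi; left; rw [Q3.conj_self 0]
        · right; rw [q.conj_ne (Ne.symm hi)]
    rcases C.k1.cases C.k2 h C.kne hK with rfl | rfl
    · exact key C.qa C.ta k hk
    · exact key C.qb C.tb k hk⟩
  have hzw : ∀ y : G, z * (z * y) = y := C.qa.zzx
  have htt : ∀ y : G, t * (t * y) = y := C.qc.zzx
  refine ⟨t * w, hti, ?_, ?_, ?_, ?_, ?_⟩
  · calc t * w * (t * w) = t * (w * t) * w := by group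
      _ = (t * t) * (w * w) := by rw [hwt]; group
      _ = 1 := by rw [C.t2, C.w_sq h hw, mul_one]
  · rw [mem_CX]
    intro K hK k hk
    rcases C.k1.cases C.k2 h C.kne hK with rfl | rfl
    · exact C.tw_comm h hw k hk
    · exact C.swk.tw_comm h (C.w_swap h hw) k hk
  · rw [mem_CX]
    intro K hK k hk
    rcases C.l1.cases C.l2 h C.lne hK with rfl | rfl
    · rw [mul_assoc, hw1 k hk, ← mul_assoc, C.qc.zcomm hk, mul_assoc]
    · rw [mul_assoc, hw2 k hk, ← mul_assoc, C.qd.zcomm hk, mul_assoc]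
  · rw [htt]; exact C.w_mem_RZ h hw
  · -- `z t w ∈ R_t`
    have hw'R := C.symm.w_mem_RZ h hw'
    have htR : t ∈ RZ Om t := C.l1.le_RZ C.qc.zmem
    -- no `w' ∈ {w, t w, z w}`
    have n1 : w' ≠ w := fun e => C.symm.w_not h hw' (by rw [e]; exact hw1)
    have n2 : w' ≠ t * w := fun e => C.symm.w_not h hw' (by
      rw [e]; intro k hk; rw [mul_assoc, hw1 k hk, ← mul_assoc, C.qc.zcomm hk, mul_assoc])
    have n3 : w' ≠ z * w := fun e => by
      refine C.w_not h (w := w') ?_ hw1'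
      rcases hw with rfl | rfl
      · exact Or.inr e
      · left; rw [e, hzw]
    have hfour : w' = z * (t * w) ∨ (t = w ∧ z ∈ RZ Om t) := by
      rcases C.l1.cases C.l2 h C.lne (C.l1.cj_comm h (C.vt h)) with h3 | h3
      · -- `P1`
        right
        have htw : t = w := by
          have h4 := C.p1 h h3
          by_contra hne
          -- then `t = z w`
          have h5 : t = z * w := by
            rcases h4 with h4 | h4 <;> rcases hw with h6 | h6
            · exact absurd (h4.trans h6.symm) hne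
            · rw [h6, hzw]; exact h4
            · rw [h6]; exact h4
            · exact absurd (h4.trans h6.symm) hne
          apply C.z_not h
          intro k hk
          have h6 : z = t * w⁻¹ := by rw [h5, mul_inv_cancel_right]
          have h7 : w⁻¹ * k = k * w⁻¹ := by
            rw [inv_mul_eq_iff_eq_mul, ← mul_assoc, hw1 k hk, mul_inv_cancel_right]
          rw [h6, mul_assoc, h7, ← mul_assoc, C.qc.zcomm hk, mul_assoc]
        refine ⟨htw, ?_⟩
        rcases C.k1.cases C.k2 h C.kne (C.k1.cj_comm h (C.symm.vt h)) with h4 | h4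
        · have h5 : z = w' ∨ z = t * w' := by
            rcases C.symm.p1 h h4 with h5 | h5 <;> rcases hw' with h6 | h6
            · left; rw [h6]; exact h5
            · right; rw [h6, htt]; exact h5
            · right; rw [h6]; exact h5
            · left; rw [h6]; exact h5
          rcases h5 with h5 | h5
          · rw [h5]; exact hw'R
          · rw [h5]; exact mul_mem htR hw'R
        · -- `w = z^i t^j w'`
          have h5 : w = w' ∨ w = t * w' ∨ w = z * w' ∨ w = z * (t * w') := by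
            have h6 := C.symm.p2 h h4
            have e1 : ∀ y, t * (z * y) = z * (t * y) := fun y => by rw [← mul_assoc, ← C.comm, mul_assoc]
            rcases hw with h7 | h7 <;> rcases hw' with h8 | h8 <;> rcases h6 with h6 | h6 | h6 | h6 <;>
              rw [h7, h8, h6]
            · left; rfl
            · right; left; rfl
            · right; right; left; rfl
            · right; right; right; exact e1 _
            · right; left; rw [htt]
            · left; rfl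
            · right; right; right; rw [htt]
            · right; right; left; rw [e1]
            · right; right; left; rfl
            · right; right; right; rfl
            · left; rw [hzw]
            · right; left; rw [e1, hzw]
            · right; right; right; rw [htt]
            · right; right; left; rfl
            · right; left; rw [htt, hzw]
            · left; rw [e1, hzw]
          rcases h5 with h5 | h5 | h5 | h5
          · exact absurd h5.symm n1
          · exact absurd (by rw [h5, htt]) n2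
          · have h6 : z = w * w'⁻¹ := by rw [h5, mul_inv_cancel_right]
            rw [h6, ← htw]; exact mul_mem htR (inv_mem hw'R)
          · have h6 : z = w * (t * w')⁻¹ := by rw [h5, mul_inv_cancel_right]
            rw [h6, ← htw]; exact mul_mem htR (inv_mem (mul_mem htR hw'R))
      · left
        have h5 : w' = w ∨ w' = z * w ∨ w' = t * w ∨ w' = z * (t * w) := by
          have h6 := C.p2 h h3
          have e1 : ∀ y, t * (z * y) = z * (t * y) := fun y => by rw [← mul_assoc, ← C.comm, mul_assoc]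
          rcases hw with h7 | h7 <;> rcases hw' with h8 | h8 <;> rcases h6 with h6 | h6 | h6 | h6 <;>
            rw [h7, h8, h6]
          · left; rfl
          · right; left; rfl
          · right; right; left; rfl
          · right; right; right; rfl
          · right; right; left; rfl
          · right; right; right; exact e1 _
          · left; rw [htt]
          · right; left; rw [e1, htt]
          · right; left; rw [hzw]
          · left; rfl
          · right; right; right; rw [e1, hzw]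
          · right; right; left; exact (e1 _).symm
          · right; right; right; rw [e1, hzw]
          · right; right; left; rfl
          · right; left; rw [htt, hzw]
          · left; rw [e1, htt]
        rcases h5 with h5 | h5 | h5 | h5
        · exact absurd h5 n1
        · exact absurd h5 n3
        · exact absurd h5 n2
        · exact h5
    rcases hfour with h4 | ⟨h4, h5⟩
    · rw [← h4]; exact hw'R
    · rw [← h4, C.t2, mul_one]; exact h5

end Cf

end

end Cfsg.Agent.Cit.Nil.RTwo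
end

-- part: Cit/Nil/RTwo/Lab
section
/-!
# Labels of type I lines: (1.3)-(1.6) of the blueprint
-/

set_option autoImplicit false
set_option linter.style.haveILetI false
set_option linter.unusedSectionVars false
set_option maxHeartbeats 400000

namespace Cfsg.Agent.Cit.Nil.RTwo

open Subgroup Cfsg Cit

variable {G : Type*} [Group G]

section

variable [Finite G] {Om : Set (Subgroup G)} {K K1 K2 L L1 L2 : Subgroup G} {z t g x y c c' : G}
  {a b p q : Fin 3 → G}

/-- `R_z ∩ X_z = ⟨z⟩` -/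
theorem RZ_inf_CX (h : W2 Om) (hz : InZ Om z) (hx : x ∈ RZ Om z) (hx' : x ∈ CX Om z) : x = 1 ∨ x = z := by
  obtain ⟨K1, h1⟩ := hz
  obtain ⟨K2, h2, hne, -⟩ := h1.other h
  obtain ⟨a, qa⟩ := h.exists_q3 h1
  obtain ⟨b, qb⟩ := h.exists_q3 h2
  obtain ⟨k, hk, l, hl, rfl⟩ := (mem_RZ h1 h2 h hne).1 hx
  have hk' : ∀ y ∈ K1, k * y = y * k := by
    intro y hy
    have h3 := mem_CX.1 hx' K1 h1 y hy
    have h4 := h1.comm h2 h hne hy hl
    have h5 : k * y * l = y * k * l := by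
      rw [mul_assoc, h4, ← mul_assoc, h3, mul_assoc]
    exact mul_right_cancel h5
  have hl' : ∀ y ∈ K2, l * y = y * l := by
    intro y hy
    have h3 := mem_CX.1 hx' K2 h2 y hy
    have h4 := h1.comm h2 h hne hk hy
    have h5 : k * (l * y) = k * (y * l) := by
      rw [← mul_assoc, h3, ← mul_assoc, ← mul_assoc, h4]
    exact mul_left_cancel h5
  rcases qa.center hk (hk' _ (qa.mem 0)) (hk' _ (qa.mem 1)) with rfl | rfl <;>
  rcases qb.center hl (hl' _ (qb.mem 0)) (hl' _ (qb.mem 1)) with rfl | rfl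
  · left; simp
  · right; simp
  · right; simp
  · left; exact qa.z2

theorem TI.symm (h : W2 Om) (hti : TI Om z t) : TI Om t z :=
  ⟨hti.2.1, hti.1, hti.2.2.1.symm, hti.2.2.2.1.symm, hti.2.2.2.2.symm hti.1 hti.2.1 h⟩

theorem TI.conj (h : W2 Om) (hti : TI Om z t) (g : G) : TI Om (g * z * g⁻¹) (g * t * g⁻¹) := by
  obtain ⟨h1, h2, h3, h4, h5⟩ := hti
  refine ⟨h1.conj h g, h2.conj h g, fun e => h3 (mul_left_cancel (mul_right_cancel e)), ?_, h5.conj h g⟩
  calc g * z * g⁻¹ * (g * t * g⁻¹) = g * (z * t) * g⁻¹ := by group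
    _ = g * (t * z) * g⁻¹ := by rw [h4]
    _ = _ := by group

theorem TI.exists_lab (h : W2 Om) (hti : TI Om z t) : ∃ c, Lab Om z t c := by
  obtain ⟨K1, K2, L1, L2, a, b, p, q, C⟩ := hti.exists_cf h
  exact C.exists_lab h

theorem z_not_CX (h : W2 Om) (hz : InZ Om z) (ht : InZ Om t) (hne : z ≠ t) : z ∉ CX Om t := by
  intro h1
  obtain ⟨L, hL⟩ := ht
  exact hne (hz.eq_of_cent hL h fun k hk => mem_CX.1 h1 L hL k hk)

namespace Lab

variable (h : W2 Om) (l : Lab Om z t c)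

include h l

theorem symm : Lab Om t z c := ⟨l.ti.symm h, l.sq, l.ct, l.cz, l.wt, l.wz⟩

theorem conj (g : G) : Lab Om (g * z * g⁻¹) (g * t * g⁻¹) (g * c * g⁻¹) := by
  refine ⟨l.ti.conj h g, ?_, (CX_conj h g).2 l.cz, (CX_conj h g).2 l.ct, ?_, ?_⟩
  · calc g * c * g⁻¹ * (g * c * g⁻¹) = g * (c * c) * g⁻¹ := by group
      _ = 1 := by rw [l.sq]; group
  · have := RZ_conj h g l.wz
    have e : g * (t * c) * g⁻¹ = g * t * g⁻¹ * (g * c * g⁻¹) := by group
    rwa [e] at this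
  · have := RZ_conj h g l.wt
    have e : g * (z * c) * g⁻¹ = g * z * g⁻¹ * (g * c * g⁻¹) := by group
    rwa [e] at this

omit h in
theorem cinv : c⁻¹ = c := inv_eq_of_mul_eq_one_right l.sq

theorem zinv : z⁻¹ = z := l.ti.1.inv h
theorem tinv : t⁻¹ = t := l.ti.2.1.inv h
theorem z2 : z * z = 1 := l.ti.1.z2 h
theorem t2 : t * t = 1 := l.ti.2.1.z2 h

omit h in
theorem zt : z * t = t * z := l.ti.2.2.2.1

omit h in
theorem ne_zt : z ≠ t := l.ti.2.2.1

theorem ne_z : c ≠ z := by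
  rintro rfl
  exact z_not_CX h l.ti.1 l.ti.2.1 l.ne_zt l.ct

theorem ne_t : c ≠ t := (l.symm h).ne_z h

theorem ne_zmt : c ≠ z * t := by
  intro e
  apply (l.symm h).ne_z h
  have h1 := l.cz
  rw [e] at h1
  exact absurd (by simpa using mul_mem (inv_mem (z_mem_CX h)) h1) (z_not_CX h l.ti.2.1 l.ti.1 l.ne_zt.symm)

theorem unique (l' : Lab Om z t c') : c = c' := by
  have h1 : t * (c * c'⁻¹) * t⁻¹ ∈ RZ Om z := by
    have h2 := mul_mem l.wz (inv_mem l'.wz)
    have e : t * c * (t * c')⁻¹ = t * (c * c'⁻¹) * t⁻¹ := by group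
    rwa [e] at h2
  have h2 : t * (c * c'⁻¹) * t⁻¹ ∈ CX Om z := CX_conj_comm h l.zt.symm (mul_mem l.cz (inv_mem l'.cz))
  rcases RZ_inf_CX h l.ti.1 h1 h2 with h3 | h3
  · rw [mul_inv_eq_one, mul_eq_left, mul_inv_eq_one] at h3
    exact h3
  · exfalso
    have h4 : c * c'⁻¹ = z := by
      rw [mul_inv_eq_iff_eq_mul, l.zt] at h3
      exact mul_left_cancel h3
    have h5 : z ∈ CX Om t := by rw [← h4]; exact mul_mem l.ct (inv_mem l'.ct)
    exact z_not_CX h l.ti.1 l.ti.2.1 l.ne_zt h5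

/-- the label of `⟨z, t⟩` does not depend on the pair -/
theorem mul : Lab Om z (z * t) c := by
  obtain ⟨K1, K2, L1, L2, a, b, p, q, C⟩ := l.ti.exists_cf h
  have h1 := l.conj h (a 1)
  rw [C.a1t] at h1
  have h2 : a 1 * z * (a 1)⁻¹ = z := by rw [C.a1z, mul_inv_cancel_right]
  have h3 : a 1 * c * (a 1)⁻¹ = c := by
    rw [← mem_CX.1 l.cz K1 C.k1 (a 1) (C.qa.mem 1), mul_inv_cancel_right]
  rwa [h2, h3] at h1

theorem comm_z : c * z = z * c := CX_le l.ti.1 h l.cz
theorem comm_t : c * t = t * c := CX_le l.ti.2.1 h l.ct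

/-- `X_V = C_X(z') = C_X(c)` -/
theorem comm_iff (hx : x ∈ CX Om z) : x * c = c * x ↔ x * t = t * x := by
  have h1 : x * (t * c) = t * c * x := CX_comm l.wz hx
  constructor
  · intro h2
    have h3 : t = (t * c) * c⁻¹ := by group
    have h4 : x * c⁻¹ = c⁻¹ * x := by rw [l.cinv]; exact h2
    rw [h3, ← mul_assoc, h1, mul_assoc, h4, ← mul_assoc]
  · intro h2
    have h3 : c = t⁻¹ * (t * c) := by group
    have h4 : x * t⁻¹ = t⁻¹ * x := by rw [l.tinv h]; exact h2
    rw [h3, ← mul_assoc, h4, mul_assoc, h1, ← mul_assoc]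

end Lab

/-! ### The action of `X_V` on `R_t` -/

namespace Cf

variable {K1 K2 L1 L2 : Subgroup G} {a b p q : Fin 3 → G} (C : Cf Om z t K1 K2 L1 L2 a b p q) (h : W2 Om)

include C

/-- `x` commutes with `z`, normalises `L1` -/
theorem fix_or (hxz : x * z = z * x) (hx : cj x L1 = L1) : x * p 0 * x⁻¹ = p 0 ∨ x * p 0 * x⁻¹ = t * p 0 := by
  have h1 : ∀ m ∈ L1, x * p 0 * x⁻¹ * m * (x * p 0 * x⁻¹)⁻¹ = p 0 * m * (p 0)⁻¹ := by
    intro m hm
    rw [C.act_cj hxz (by rw [hx]; exact hm), C.zc m hm]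
  exact C.qc.eq_or_of_act (by rw [← hx]; exact conj_mem_cj (C.qc.mem 0)) (C.qc.mem 0) (h1 _ (C.qc.mem 0))
    (h1 _ (C.qc.mem 1))

include h

/-- `x` commutes with `z, t, a 0` and normalises `L1`: it acts on `L1` as a power of `a 0` -/
theorem pow_or (hxz : x * z = z * x) (hxt : x * t = t * x) (hxa : x * a 0 = a 0 * x) (hx : cj x L1 = L1) :
    x * p 0 * x⁻¹ = p 0 ∧ ((x * p 1 * x⁻¹ = p 1 ∨ x * p 1 * x⁻¹ = t * p 1) ∨
      (x * p 1 * x⁻¹ = p 2 ∨ x * p 1 * x⁻¹ = t * p 2)) := by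
  have hh := C.fix_or hxz hx
  obtain ⟨r1, r2⟩ := C.rot h
  have h01 : p 0 * p 1 = p 2 := C.qc.mul 0
  have h02 : p 0 * p 2 = t * p 1 := C.qc.mul2' 0
  have hxt' : x * t * x⁻¹ = t := by rw [hxt, mul_inv_cancel_right]
  have hmem : x * p 1 * x⁻¹ ∈ L1 := by
    have := conj_mem_cj (g := x) (C.qc.mem 1)
    rwa [hx] at this
  have hsq : x * p 1 * x⁻¹ * (x * p 1 * x⁻¹) = t := by
    calc x * p 1 * x⁻¹ * (x * p 1 * x⁻¹) = x * (p 1 * p 1) * x⁻¹ := by group
      _ = t := by rw [C.qc.sq, hxt']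
  -- the image of `p 1` is not `± p 0`
  have hcase : (x * p 1 * x⁻¹ = p 1 ∨ x * p 1 * x⁻¹ = t * p 1) ∨ (x * p 1 * x⁻¹ = p 2 ∨ x * p 1 * x⁻¹ = t * p 2) := by
    obtain ⟨i, hi⟩ := C.qc.of_sq hmem hsq
    have h3 : (x * p 0 * x⁻¹) * (x * p 1 * x⁻¹) = t * ((x * p 1 * x⁻¹) * (x * p 0 * x⁻¹)) := by
      have e := C.qc.sw (show (0 : Fin 3) ≠ 1 by decide)
      calc (x * p 0 * x⁻¹) * (x * p 1 * x⁻¹) = x * (p 0 * p 1) * x⁻¹ := by group
        _ = x * (t * (p 1 * p 0)) * x⁻¹ := by rw [e]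
        _ = (x * t * x⁻¹) * ((x * p 1 * x⁻¹) * (x * p 0 * x⁻¹)) := by group
        _ = _ := by rw [hxt']
    have hcomm : ∀ u v : G, (u = p 0 ∨ u = t * p 0) → (v = p 0 ∨ v = t * p 0) → u * v = v * u := by
      have e := C.qc.zc 0
      rintro u v (rfl | rfl) (rfl | rfl)
      · rfl
      · rw [← mul_assoc, ← e]
      · rw [← mul_assoc (p 0), ← e]
      · rfl
    fin_cases i
    · exfalso
      have h4 := hcomm _ _ hh hi
      rw [h4] at h3
      exact C.qc.zne _ h3.symm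
    · exact Or.inl hi
    · exact Or.inr hi
  refine ⟨?_, hcase⟩
  rcases hh with hh | hh
  · exact hh
  exfalso
  -- `x a 0 (p 1) = a 0 x (p 1)`
  have hcm : x * (a 0 * p 1 * (a 0)⁻¹) * x⁻¹ = a 0 * (x * p 1 * x⁻¹) * (a 0)⁻¹ := by
    calc x * (a 0 * p 1 * (a 0)⁻¹) * x⁻¹ = (x * a 0) * p 1 * (x * a 0)⁻¹ := by group
      _ = (a 0 * x) * p 1 * (a 0 * x)⁻¹ := by rw [hxa]
      _ = _ := by group
  have hat : a 0 * t * (a 0)⁻¹ = t := by rw [← C.ta0, mul_inv_cancel_right]
  have hx2 : x * p 2 * x⁻¹ = t * p 0 * (x * p 1 * x⁻¹) := by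
    rw [← h01, ← hh]; group
  have ha2 : a 0 * p 2 * (a 0)⁻¹ = p 0 * (a 0 * p 1 * (a 0)⁻¹) := by
    rw [← h01]
    calc a 0 * (p 0 * p 1) * (a 0)⁻¹ = (a 0 * p 0 * (a 0)⁻¹) * (a 0 * p 1 * (a 0)⁻¹) := by group
      _ = _ := by rw [r1]
  have hxm : ∀ k : G, x * (t * k) * x⁻¹ = t * (x * k * x⁻¹) := by
    intro k
    calc x * (t * k) * x⁻¹ = (x * t * x⁻¹) * (x * k * x⁻¹) := by group
      _ = _ := by rw [hxt']
  have ham : ∀ k : G, a 0 * (t * k) * (a 0)⁻¹ = t * (a 0 * k * (a 0)⁻¹) := by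
    intro k
    calc a 0 * (t * k) * (a 0)⁻¹ = (a 0 * t * (a 0)⁻¹) * (a 0 * k * (a 0)⁻¹) := by group
      _ = _ := by rw [hat]
  have htp : ∀ k : G, p 0 * (t * k) = t * (p 0 * k) := by
    intro k; rw [← mul_assoc, ← C.qc.zc, mul_assoc]
  have hzz := C.qc.zzx
  -- all cases
  rcases r2 with r2 | r2
  · rcases hcase with (h5 | h5) | (h5 | h5)
    · rw [r2, h5, r2, hx2, h5, mul_assoc, h01] at hcm
      exact C.qc.zne _ hcm
    · rw [r2, h5, ham, r2, hx2, h5, mul_assoc, htp, h01, hzz] at hcm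
      exact C.qc.zne _ hcm.symm
    · rw [r2, h5, ha2, r2, h02, hx2, h5, mul_assoc, h02, hzz] at hcm
      exact C.qc.zne _ hcm.symm
    · rw [r2, h5, ham, ha2, r2, h02, hx2, h5, mul_assoc, htp, h02, hzz, hzz] at hcm
      exact C.qc.zne _ hcm
  · rcases hcase with (h5 | h5) | (h5 | h5)
    · rw [r2, h5, r2, hxm, hx2, h5, mul_assoc, h01, hzz] at hcm
      exact C.qc.zne _ hcm.symm
    · rw [r2, h5, ham, r2, hxm, hx2, h5, mul_assoc, htp, h01, hzz, hzz] at hcm
      exact C.qc.zne _ hcm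
    · rw [r2, h5, ha2, r2, htp, h02, hzz, hxm, hx2, h5, mul_assoc, h02, hzz] at hcm
      exact C.qc.zne _ hcm
    · rw [r2, h5, ham, ha2, r2, htp, h02, hzz, hxm, hx2, h5, mul_assoc, htp, h02, hzz, hzz] at hcm
      exact C.qc.zne _ hcm.symm

/-- an involution: trivial or `p 0` -/
theorem inv_or (hxz : x * z = z * x) (hxt : x * t = t * x) (hxa : x * a 0 = a 0 * x) (hx : cj x L1 = L1)
    (hx2 : x * x = 1) : (∀ k ∈ L1, x * k = k * x) ∨ (∀ k ∈ L1, (z * x) * k = k * (z * x)) := by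
  obtain ⟨h1, h2⟩ := C.pow_or h hxz hxt hxa hx
  have h01 : p 0 * p 1 = p 2 := C.qc.mul 0
  have h02 : p 0 * p 2 = t * p 1 := C.qc.mul2' 0
  have hxt' : x * t * x⁻¹ = t := by rw [hxt, mul_inv_cancel_right]
  have hxm : ∀ k : G, x * (t * k) * x⁻¹ = t * (x * k * x⁻¹) := by
    intro k
    calc x * (t * k) * x⁻¹ = (x * t * x⁻¹) * (x * k * x⁻¹) := by group
      _ = _ := by rw [hxt']
  have hxx : ∀ k : G, x * (x * k * x⁻¹) * x⁻¹ = k := by
    intro k
    calc x * (x * k * x⁻¹) * x⁻¹ = (x * x) * k * (x * x)⁻¹ := by group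
      _ = k := by rw [hx2]; group
  have hx2' : x * p 2 * x⁻¹ = p 0 * (x * p 1 * x⁻¹) := by
    rw [← h01]
    calc x * (p 0 * p 1) * x⁻¹ = (x * p 0 * x⁻¹) * (x * p 1 * x⁻¹) := by group
      _ = _ := by rw [h1]
  have htp : ∀ k : G, p 0 * (t * k) = t * (p 0 * k) := by
    intro k; rw [← mul_assoc, ← C.qc.zc, mul_assoc]
  have h3 := hxx (p 1)
  rcases h2 with (h2 | h2) | (h2 | h2)
  · left
    intro k hk
    rw [mul_inv_eq_iff_eq_mul] at h1 h2
    exact C.qc.comm_of h1 h2 hk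
  · right
    intro k hk
    have hz0 := C.symm.ta0
    have hz1 := C.symm.ta1
    rw [mul_inv_eq_iff_eq_mul] at h1 h2 hz1
    refine C.qc.comm_of ?_ ?_ hk
    · rw [mul_assoc, h1, ← mul_assoc, hz0, mul_assoc]
    · calc z * x * p 1 = z * (x * p 1) := by group
        _ = (z * t) * p 1 * x := by rw [h2]; group
        _ = t * (z * p 1) * x := by rw [C.comm]; group
        _ = (t * t) * p 1 * (z * x) := by rw [hz1]; group
        _ = _ := by rw [C.t2, one_mul]
  · exfalso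
    rw [h2, hx2', h2, h02] at h3
    exact C.qc.zne _ h3
  · exfalso
    rw [h2, hxm, hx2', h2, htp, h02, C.qc.zzx] at h3
    exact C.qc.zne _ h3

/-- not mixed -/
theorem no_mix (hx : x ∈ CX Om z) (h1 : ∀ k ∈ L1, (z * x) * k = k * (z * x))
    (h2 : ∀ k ∈ L2, x * k = k * x) : False := by
  have hxz : x * z = z * x := CX_le C.k1.inZ h hx
  -- `p 1` conjugates `x` to `t x`
  have hz1 := C.symm.ta1
  have e1 : p 1 * x * (p 1)⁻¹ = t * x := by
    -- `x p 1 x⁻¹ = z⁻¹ p 1 z = t p 1`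
    have h3 := h1 _ (C.qc.mem 1)
    rw [mul_inv_eq_iff_eq_mul] at hz1
    -- `z p 1 = t p 1 z`
    have h4 : x * p 1 = t * (p 1 * x) := by
      have h5 : z * (x * p 1) = z * (t * (p 1 * x)) := by
        calc z * (x * p 1) = (z * x) * p 1 := by group
          _ = p 1 * (z * x) := h3
          _ = t * (t * (p 1 * z)) * x := by rw [C.qc.zzx]; group
          _ = t * (t * p 1 * z) * x := by group
          _ = t * (z * p 1) * x := by rw [← hz1]
          _ = (z * t) * (p 1 * x) := by rw [C.comm]; group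
          _ = _ := by group
      exact mul_left_cancel h5
    have h5 : p 1 * x = t * (x * p 1) := by rw [h4, C.qc.zzx]
    rw [h5]; group
  have hq : p 1 * z * (p 1)⁻¹ = z * t := by
    have := C.symm.a1t
    rw [this, C.comm]
  have h3 : t * x ∈ CX Om (z * t) := by
    rw [← e1, ← hq]; exact (CX_conj h (p 1)).2 hx
  -- `x` and `t x` centralise `cj (a 1) L2`
  have hM : Mem Om (z * t) (cj (a 1) L2) := by
    have := C.l2.cj h (a 1)
    rwa [C.a1t] at this
  have hxa : x * a 1 = a 1 * x := mem_CX.1 hx K1 C.k1 _ (C.qa.mem 1)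
  have h4 : ∀ k ∈ cj (a 1) L2, x * k = k * x := by
    intro k hk
    rw [mem_cj] at hk
    have h5 := h2 _ hk
    have h6 : x * (a 1)⁻¹ = (a 1)⁻¹ * x := by
      rw [mul_inv_eq_iff_eq_mul, mul_assoc, hxa]; group
    calc x * k = (x * a 1) * ((a 1)⁻¹ * k * a 1) * (a 1)⁻¹ := by group
      _ = a 1 * (x * ((a 1)⁻¹ * k * a 1)) * (a 1)⁻¹ := by rw [hxa]; group
      _ = a 1 * ((a 1)⁻¹ * k * a 1) * (x * (a 1)⁻¹) := by rw [h5]; group
      _ = _ := by rw [h6]; group
  have h5 : t = z * t := by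
    refine C.l1.inZ.eq_of_cent hM h fun k hk => ?_
    have h6 := mem_CX.1 h3 _ hM k hk
    have h7 := h4 k hk
    rw [mul_assoc, h7, ← mul_assoc, ← mul_assoc] at h6
    exact mul_right_cancel h6
  exact C.qa.z1 (mul_eq_right.1 h5.symm)

end Cf

namespace Lab

variable (h : W2 Om) (l : Lab Om z t c)

include h l

/-- (1.4) -/
theorem fx_or (hx : x ∈ CX Om z) (hxc : x * c = c * x) (hx2 : x * x = 1) (hfx : Fx Om t x) :
    x ∈ CX Om t ∨ z * x ∈ CX Om t := by
  obtain ⟨K1, K2, L1, L2, a, b, p, q, C⟩ := l.ti.exists_cf h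
  have hxt := (l.comm_iff h hx).1 hxc
  have hxz : x * z = z * x := CX_le l.ti.1 h hx
  have hxa : x * a 0 = a 0 * x := mem_CX.1 hx K1 C.k1 _ (C.qa.mem 0)
  rcases C.inv_or h hxz hxt hxa (hfx _ C.l1) hx2 with h1 | h1 <;>
  rcases C.swl.inv_or h hxz hxt hxa (hfx _ C.l2) hx2 with h2 | h2
  · left
    rw [mem_CX]
    intro K hK
    rcases C.l1.cases C.l2 h C.lne hK with rfl | rfl
    · exact h1
    · exact h2
  · exact (C.swl.no_mix h hx h2 h1).elim
  · exact (C.no_mix h hx h1 h2).elim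
  · right
    rw [mem_CX]
    intro K hK
    rcases C.l1.cases C.l2 h C.lne hK with rfl | rfl
    · exact h1
    · exact h2

end Lab

end

end Cfsg.Agent.Cit.Nil.RTwo
end

-- part: Cit/Nil/RTwo/Theta
section
/-!
# The reflections `θ` ((1.5) of the blueprint)
-/

set_option autoImplicit false
set_option linter.style.haveILetI false
set_option linter.unusedSectionVars false
set_option maxHeartbeats 400000

namespace Cfsg.Agent.Cit.Nil.RTwo

open Subgroup Cfsg Cit

variable {G : Type*} [Group G]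

/-- frames for the two members over `z` -/
structure Frame (Om : Set (Subgroup G)) (z : G) (K1 K2 : Subgroup G) (a b : Fin 3 → G) : Prop where
  k1 : Mem Om z K1
  k2 : Mem Om z K2
  ne : K1 ≠ K2
  qa : Q3 K1 z a
  qb : Q3 K2 z b

/-- `w` has the direction `(i, j)` -/
def Dir (z : G) (a b : Fin 3 → G) (w : G) (i j : Fin 3) : Prop := w = a i * b j ∨ w = z * (a i * b j)

/-- the reflection at `i` -/
def rf (i : Fin 3) : Equiv.Perm (Fin 3) := Equiv.swap (i + 1) (i + 2)

theorem rf_apply (i k : Fin 3) : rf i k = -i - k := by revert i k; decide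

theorem rf_of {σ : Equiv.Perm (Fin 3)} {i : Fin 3} (h1 : σ i = i) (h2 : σ ≠ 1) : σ = rf i := by
  revert σ i; decide +kernel

section

variable [Finite G] {Om : Set (Subgroup G)} {K K1 K2 L L1 L2 : Subgroup G} {z t g x y w c c' : G}
  {a b p q : Fin 3 → G}

theorem InZ.exists_frame (hz : InZ Om z) (h : W2 Om) : ∃ K1 K2 a b, Frame Om z K1 K2 a b := by
  obtain ⟨K1, h1⟩ := hz
  obtain ⟨K2, h2, hne, -⟩ := h1.other h
  obtain ⟨a, qa⟩ := h.exists_q3 h1
  obtain ⟨b, qb⟩ := h.exists_q3 h2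
  exact ⟨K1, K2, a, b, h1, h2, hne, qa, qb⟩

theorem Frame.swap (F : Frame Om z K1 K2 a b) : Frame Om z K2 K1 b a := ⟨F.k2, F.k1, F.ne.symm, F.qb, F.qa⟩

theorem Frame.ab (F : Frame Om z K1 K2 a b) (h : W2 Om) (i j : Fin 3) : a i * b j = b j * a i :=
  F.k1.comm F.k2 h F.ne (F.qa.mem i) (F.qb.mem j)

/-- directions are unique -/
theorem Frame.dir_unique (F : Frame Om z K1 K2 a b) (h : W2 Om) {i j i' j' : Fin 3} (h1 : Dir z a b w i j)
    (h2 : Dir z a b w i' j') : i = i' ∧ j = j' := by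
  have h3 : a i * b j = a i' * b j' ∨ a i * b j = z * (a i' * b j') := by
    rcases h1 with h1 | h1 <;> rcases h2 with h2 | h2
    · exact Or.inl (h1.symm.trans h2)
    · exact Or.inr (h1.symm.trans h2)
    · right; rw [← h2, h1, F.qa.zzx]
    · left; exact mul_left_cancel (h1.symm.trans h2)
  obtain ⟨u, hu, hu'⟩ : ∃ u, (u = 1 ∨ u = z) ∧ a i * b j = u * (a i' * b j') := by
    rcases h3 with h3 | h3
    · exact ⟨1, Or.inl rfl, by rw [h3, one_mul]⟩
    · exact ⟨z, Or.inr rfl, h3⟩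
  have huK1 : u ∈ K1 := by rcases hu with rfl | rfl; exacts [one_mem _, F.qa.zmem]
  -- `(u a i')⁻¹ a i = b j' (b j)⁻¹`
  have h4 : (u * a i')⁻¹ * a i = b j' * (b j)⁻¹ := by
    rw [inv_mul_eq_iff_eq_mul, ← mul_assoc, eq_mul_inv_iff_mul_eq, hu', mul_assoc]
  have h5 : (u * a i')⁻¹ * a i ∈ K1 := mul_mem (inv_mem (mul_mem huK1 (F.qa.mem _))) (F.qa.mem _)
  have h6 : (u * a i')⁻¹ * a i ∈ K2 := by rw [h4]; exact mul_mem (F.qb.mem _) (inv_mem (F.qb.mem _))
  constructor
  · rcases F.k1.inf F.k2 h F.ne h5 h6 with h7 | h7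
    · rw [inv_mul_eq_one] at h7
      apply F.qa.inj
      rcases hu with rfl | rfl
      · left; rw [← h7, one_mul]
      · right; exact h7.symm
    · rw [inv_mul_eq_iff_eq_mul] at h7
      apply F.qa.inj
      rcases hu with rfl | rfl
      · right; rw [h7, one_mul, F.qa.zc]
      · left; rw [h7, F.qa.zc, mul_assoc, F.qa.z2, mul_one]
  · rw [h4] at h5 h6
    rcases F.k1.inf F.k2 h F.ne h5 h6 with h7 | h7
    · rw [mul_inv_eq_one] at h7
      exact F.qb.inj (Or.inl h7.symm)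
    · rw [mul_inv_eq_iff_eq_mul] at h7
      exact (F.qb.inj (Or.inr h7)).symm

/-- a non-central involution of `R_z` has a direction -/
theorem Frame.exists_dir (F : Frame Om z K1 K2 a b) (h : W2 Om) (hw : w ∈ RZ Om z) (hw2 : w * w = 1)
    (h1 : w ≠ 1) (hz : w ≠ z) : ∃ i j, Dir z a b w i j := by
  obtain ⟨k, hk, l, hl, rfl⟩ := (mem_RZ F.k1 F.k2 h F.ne).1 hw
  have hc := F.k1.comm F.k2 h F.ne hk hl
  have hsq : (k * k) * (l * l) = 1 := by
    rw [← hw2]
    calc k * k * (l * l) = k * (k * l) * l := by group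
      _ = k * (l * k) * l := by rw [hc]
      _ = _ := by group
  have hzz := F.qa.zzx
  have key : ∀ {K : Subgroup G} {x : Fin 3 → G}, Q3 K z x → ∀ k ∈ K, (k * k = 1 ∧ (k = 1 ∨ k = z)) ∨
      (k * k = z ∧ ∃ i, k = x i ∨ k = z * x i) := by
    intro K x Q k hk
    rcases Q.cov k hk with rfl | rfl | ⟨i, rfl | rfl⟩
    · left; exact ⟨by group, Or.inl rfl⟩
    · left; exact ⟨Q.z2, Or.inr rfl⟩
    · right; exact ⟨Q.sq i, i, Or.inl rfl⟩
    · right
      refine ⟨?_, i, Or.inr rfl⟩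
      calc z * x i * (z * x i) = z * (x i * z) * x i := by group
        _ = z * (z * x i) * x i := by rw [Q.zc]
        _ = z := by rw [Q.zzx, Q.sq]
  rcases key F.qa k hk with ⟨h3, h4⟩ | ⟨h3, i, h4⟩ <;> rcases key F.qb l hl with ⟨h5, h6⟩ | ⟨h5, j, h6⟩
  · exfalso
    rcases h4 with rfl | rfl <;> rcases h6 with rfl | rfl
    · exact h1 (by group)
    · exact hz (by group)
    · exact hz (by group)
    · exact h1 F.qa.z2
  · rw [h3, h5, one_mul] at hsq
    exact absurd hsq F.qa.z1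
  · rw [h3, h5, mul_one] at hsq
    exact absurd hsq F.qa.z1
  · refine ⟨i, j, ?_⟩
    rcases h4 with rfl | rfl <;> rcases h6 with rfl | rfl
    · exact Or.inl rfl
    · right; rw [← mul_assoc, ← F.qa.zc, mul_assoc]
    · right; rw [mul_assoc]
    · left; rw [mul_assoc, ← mul_assoc (a i), ← F.qa.zc, mul_assoc, hzz]

/-- the action of `C(z)` on the directions, `K1, K2` fixed -/
theorem Frame.dir_conj (F : Frame Om z K1 K2 a b) {σ τ : Equiv.Perm (Fin 3)} {i j : Fin 3}
    (hg : g * z = z * g) (h1 : Act z a a g σ) (h2 : Act z b b g τ) (hd : Dir z a b w i j) :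
    Dir z a b (g * w * g⁻¹) (σ i) (τ j) := by
  have hgz : g * z * g⁻¹ = z := by rw [hg, mul_inv_cancel_right]
  have hab : Dir z a b (g * (a i * b j) * g⁻¹) (σ i) (τ j) := by
    have e : g * (a i * b j) * g⁻¹ = (g * a i * g⁻¹) * (g * b j * g⁻¹) := by group
    rw [e]
    rcases h1 i with h3 | h3 <;> rcases h2 j with h4 | h4 <;> rw [h3, h4]
    · exact Or.inl rfl
    · right; rw [← mul_assoc, ← F.qa.zc, mul_assoc]
    · right; rw [mul_assoc]
    · left; rw [mul_assoc, ← mul_assoc (a (σ i)), ← F.qa.zc, mul_assoc, F.qa.zzx]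
  rcases hd with rfl | rfl
  · exact hab
  · have e : g * (z * (a i * b j)) * g⁻¹ = (g * z * g⁻¹) * (g * (a i * b j) * g⁻¹) := by group
    rw [e, hgz]
    rcases hab with h3 | h3
    · right; rw [h3]
    · left; rw [h3, F.qa.zzx]

/-- the action of `C(z)` on the directions, `K1, K2` interchanged -/
theorem Frame.dir_conj' (F : Frame Om z K1 K2 a b) (h : W2 Om) {σ τ : Equiv.Perm (Fin 3)} {i j : Fin 3}
    (hg : g * z = z * g) (h1 : Act z a b g σ) (h2 : Act z b a g τ) (hd : Dir z a b w i j) :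
    Dir z a b (g * w * g⁻¹) (τ j) (σ i) := by
  have hgz : g * z * g⁻¹ = z := by rw [hg, mul_inv_cancel_right]
  have hab : Dir z a b (g * (a i * b j) * g⁻¹) (τ j) (σ i) := by
    have e : g * (a i * b j) * g⁻¹ = (g * a i * g⁻¹) * (g * b j * g⁻¹) := by group
    rw [e]
    rcases h1 i with h3 | h3 <;> rcases h2 j with h4 | h4 <;> rw [h3, h4]
    · left; exact (F.ab h _ _).symm
    · right; rw [← mul_assoc, ← F.qb.zc, mul_assoc, F.ab h]
    · right; rw [mul_assoc, F.ab h]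
    · left; rw [mul_assoc, ← mul_assoc (b (σ i)), ← F.qb.zc, mul_assoc, F.qa.zzx, F.ab h]
  rcases hd with rfl | rfl
  · exact hab
  · have e : g * (z * (a i * b j)) * g⁻¹ = (g * z * g⁻¹) * (g * (a i * b j) * g⁻¹) := by group
    rw [e, hgz]
    rcases hab with h3 | h3
    · right; rw [h3]
    · left; rw [h3, F.qa.zzx]

/-- an element of `C(z)` acts on the frames -/
theorem Frame.act_cases (F : Frame Om z K1 K2 a b) (h : W2 Om) (hg : g * z = z * g) :
    (cj g K1 = K1 ∧ cj g K2 = K2 ∧ ∃ σ τ, Act z a a g σ ∧ Act z b b g τ) ∨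
      (cj g K1 = K2 ∧ cj g K2 = K1 ∧ ∃ σ τ, Act z a b g σ ∧ Act z b a g τ) := by
  have h5 : cj g K1 ≠ cj g K2 := fun e => F.ne (cj_inj.1 e)
  rcases F.k1.cases F.k2 h F.ne (F.k1.cj_comm h hg) with h1 | h1 <;>
  rcases F.k1.cases F.k2 h F.ne (F.k2.cj_comm h hg) with h2 | h2
  · exact absurd (h1.trans h2.symm) h5
  · left
    obtain ⟨σ, h3⟩ := F.qa.exists_act F.qa h1 hg
    obtain ⟨τ, h4⟩ := F.qb.exists_act F.qb h2 hg
    exact ⟨h1, h2, σ, τ, h3, h4⟩
  · right
    obtain ⟨σ, h3⟩ := F.qa.exists_act F.qb h1 hg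
    obtain ⟨τ, h4⟩ := F.qb.exists_act F.qa h2 hg
    exact ⟨h1, h2, σ, τ, h3, h4⟩
  · exact absurd (h1.trans h2.symm) h5

/-! ### The reflection `θ` -/

namespace Cf

variable {a' b' : Fin 3 → G} (C : Cf Om z t K1 K2 L1 L2 a' b' p q) (h : W2 Om)

include C h

/-- `p 0` is a reflection on the axes of `K1` -/
theorem act_theta (qa : Q3 K1 z a) : ∃ i, (a' 0 = a i ∨ a' 0 = z * a i) ∧ Act z a a (p 0) (rf i) := by
  obtain ⟨r1, r2⟩ := C.symm.rot h
  have hpz : p 0 * z = z * p 0 := C.symm.ta0.symm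
  have hK : cj (p 0) K1 = K1 := h.h3 C.l1 C.k1 (C.qc.mem 0) (C.qc.sq 0) hpz
  obtain ⟨σ, hσ⟩ := qa.exists_act qa hK hpz
  obtain ⟨i, hi⟩ := qa.of_sq (C.qa.mem 0) (C.qa.sq 0)
  have hzz := qa.zzx
  have hm : ∀ k : G, p 0 * (z * k) * (p 0)⁻¹ = z * (p 0 * k * (p 0)⁻¹) := by
    intro k
    calc p 0 * (z * k) * (p 0)⁻¹ = (p 0 * z) * k * (p 0)⁻¹ := by group
      _ = (z * p 0) * k * (p 0)⁻¹ := by rw [hpz]
      _ = _ := by group
  have h1 : σ i = i := by
    have h2 : p 0 * a i * (p 0)⁻¹ = a i := by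
      rcases hi with hi | hi
      · rw [← hi]; exact r1
      · have h3 : a i = z * a' 0 := by rw [hi, hzz]
        rw [h3, hm, r1]
    rcases hσ i with h3 | h3
    · exact (qa.inj (Or.inl (h2.symm.trans h3))).symm
    · exact (qa.inj (Or.inr (h2.symm.trans h3))).symm
  have h2 : σ ≠ 1 := by
    rintro rfl
    have h3 := hσ.inner qa hpz (a' 1) (C.qa.mem 1)
    rcases r2 with r2 | r2 <;> rcases h3 with h3 | h3
    · exact absurd (C.qa.inj (Or.inl (r2.symm.trans h3))) (by decide)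
    · exact absurd (C.qa.inj (Or.inr (r2.symm.trans h3))) (by decide)
    · exact absurd (C.qa.inj (Or.inr (h3.symm.trans r2))) (by decide)
    · exact absurd (C.qa.inj (Or.inl (mul_left_cancel (r2.symm.trans h3)))) (by decide)
  exact ⟨i, hi, by rw [← rf_of h1 h2]; exact hσ⟩

/-- `t c` has the direction of `a' 0 b' 0` -/
theorem tc_eq (l : Lab Om z t c) : t * c = a' 0 * b' 0 ∨ t * c = z * (a' 0 * b' 0) := by
  obtain ⟨k, hk, m, hm, hkm⟩ := (mem_RZ C.k1 C.k2 h C.kne).1 l.wz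
  have hact : ∀ k' ∈ K1, t * c * k' * (t * c)⁻¹ = a' 0 * k' * (a' 0)⁻¹ := by
    intro k' hk'
    rw [← C.ta k' hk']
    have e := mem_CX.1 l.cz K1 C.k1 k' hk'
    calc t * c * k' * (t * c)⁻¹ = t * (c * k') * c⁻¹ * t⁻¹ := by group
      _ = _ := by rw [e]; group
  have hact2 : ∀ k' ∈ K2, t * c * k' * (t * c)⁻¹ = b' 0 * k' * (b' 0)⁻¹ := by
    intro k' hk'
    rw [← C.tb k' hk']
    have e := mem_CX.1 l.cz K2 C.k2 k' hk'
    calc t * c * k' * (t * c)⁻¹ = t * (c * k') * c⁻¹ * t⁻¹ := by group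
      _ = _ := by rw [e]; group
  have h1 : ∀ k' ∈ K1, k * k' * k⁻¹ = a' 0 * k' * (a' 0)⁻¹ := by
    intro k' hk'
    rw [← hact k' hk', ← hkm]
    have e := C.k1.comm C.k2 h C.kne hk' hm
    calc k * k' * k⁻¹ = k * (k' * m) * m⁻¹ * k⁻¹ := by group
      _ = _ := by rw [e]; group
  have h2 : ∀ k' ∈ K2, m * k' * m⁻¹ = b' 0 * k' * (b' 0)⁻¹ := by
    intro k' hk'
    rw [← hact2 k' hk', ← hkm]
    have e := C.k1.comm C.k2 h C.kne hk (mul_mem (mul_mem hm hk') (inv_mem hm))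
    calc m * k' * m⁻¹ = (m * k' * m⁻¹) * k * k⁻¹ := by group
      _ = (k * (m * k' * m⁻¹)) * k⁻¹ := by rw [e]
      _ = _ := by group
  have h3 := C.qa.eq_or_of_act hk (C.qa.mem 0) (h1 _ (C.qa.mem 0)) (h1 _ (C.qa.mem 1))
  have h4 := C.qb.eq_or_of_act hm (C.qb.mem 0) (h2 _ (C.qb.mem 0)) (h2 _ (C.qb.mem 1))
  rw [← hkm]
  rcases h3 with rfl | rfl <;> rcases h4 with rfl | rfl
  · left; rfl
  · right; rw [← mul_assoc, ← C.qa.zc, mul_assoc]
  · right; rw [mul_assoc]
  · left; rw [mul_assoc, ← mul_assoc (a' 0), ← C.qa.zc, mul_assoc, C.qa.zzx]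

/-- (1.5), the swap case -/
theorem theta_sw (l : Lab Om z t c) (hx : x ∈ CX Om z) (hxc : x * c = c * x) (hL : cj x L1 = L2)
    (hL' : cj x L2 = L1) : p 0 * x * (p 0)⁻¹ = x * z * c := by
  have hxt := (l.comm_iff h hx).1 hxc
  have hxz : x * z = z * x := CX_le l.ti.1 h hx
  have hzc := C.symm.tc_eq h (l.symm h)
  have hpz : p 0 * z = z * p 0 := C.symm.ta0.symm
  have hxt' : x * t * x⁻¹ = t := by rw [hxt, mul_inv_cancel_right]
  have htt := C.qc.zzx
  have hxpq : (x * p 0 * x⁻¹) * (x * q 0 * x⁻¹) = p 0 * q 0 := by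
    have h1 : x * (z * c) * x⁻¹ = z * c := by
      rw [← mul_assoc, hxz, mul_assoc z, hxc]; group
    have h2 : ∀ u : G, x * (t * u) * x⁻¹ = t * (x * u * x⁻¹) := by
      intro u
      calc x * (t * u) * x⁻¹ = (x * t * x⁻¹) * (x * u * x⁻¹) := by group
        _ = _ := by rw [hxt']
    have h3 : x * (p 0 * q 0) * x⁻¹ = p 0 * q 0 := by
      rcases hzc with h4 | h4
      · rw [← h4]; exact h1
      · have h5 : p 0 * q 0 = t * (z * c) := by rw [h4, htt]
        rw [h5, h2, h1]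
    rw [← h3]; group
  have hm1 : x * q 0 * x⁻¹ ∈ L1 := by rw [← hL']; exact conj_mem_cj (C.qd.mem 0)
  have hm2 : x * p 0 * x⁻¹ ∈ L2 := by rw [← hL]; exact conj_mem_cj (C.qc.mem 0)
  have hcm := C.l1.comm C.l2 h C.lne hm1 hm2
  -- `(p 0)⁻¹ (x q 0 x⁻¹) = q 0 (x p 0 x⁻¹)⁻¹`
  have h1 : (p 0)⁻¹ * (x * q 0 * x⁻¹) = q 0 * (x * p 0 * x⁻¹)⁻¹ := by
    rw [inv_mul_eq_iff_eq_mul, ← mul_assoc, eq_mul_inv_iff_mul_eq, hcm, hxpq]
  have h2 := C.l1.inf C.l2 h C.lne (mul_mem (inv_mem (C.qc.mem 0)) hm1)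
    (by rw [h1]; exact mul_mem (C.qd.mem 0) (inv_mem hm2))
  rw [h1] at h2
  -- `x p 0 x⁻¹ = q 0` or `t q 0`
  have h3 : x * p 0 * x⁻¹ = q 0 ∨ x * p 0 * x⁻¹ = t * q 0 := by
    rcases h2 with h2 | h2
    · left; rw [mul_inv_eq_one] at h2; exact h2.symm
    · right
      rw [mul_inv_eq_iff_eq_mul] at h2
      rw [h2, htt]
  have h4 : p 0 * x * (p 0)⁻¹ * x⁻¹ = p 0 * (x * p 0 * x⁻¹)⁻¹ := by group
  have h5 : p 0 * x * (p 0)⁻¹ * x⁻¹ = z * c ∨ p 0 * x * (p 0)⁻¹ * x⁻¹ = t * (z * c) := by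
    have hq : (q 0)⁻¹ = t * q 0 := C.qd.inv 0
    have hq2 : (t * q 0)⁻¹ = q 0 := by
      rw [mul_inv_rev, hq, C.tinv, mul_assoc, ← C.qd.zc, htt]
    have hpt : ∀ u, p 0 * (t * u) = t * (p 0 * u) := fun u => by rw [← mul_assoc, ← C.qc.zc, mul_assoc]
    rw [h4]
    rcases h3 with h3 | h3 <;> rcases hzc with h6 | h6
    · right; rw [h3, hq, h6, hpt]
    · left; rw [h3, hq, h6, hpt]
    · left; rw [h3, hq2, h6]
    · right; rw [h3, hq2, h6, htt]
  have h6 : p 0 * x * (p 0)⁻¹ * x⁻¹ ∈ CX Om z := mul_mem (CX_conj_comm h hpz hx) (inv_mem hx)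
  have h7 : p 0 * x * (p 0)⁻¹ * x⁻¹ = z * c := by
    rcases h5 with h5 | h5
    · exact h5
    · exfalso
      rw [h5] at h6
      have h8 : t ∈ CX Om z := by
        have := mul_mem h6 (inv_mem (mul_mem (z_mem_CX h) l.cz))
        rwa [mul_inv_cancel_right] at this
      exact z_not_CX h l.ti.2.1 l.ti.1 l.ne_zt.symm h8
  rw [mul_inv_eq_iff_eq_mul] at h7
  rw [h7, mul_assoc, ← hxc, ← mul_assoc, ← hxz]

end Cf

namespace Lab

variable (h : W2 Om) (l : Lab Om z t c)

include h l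

/-- (1.5) -/
theorem theta (F : Frame Om z K1 K2 a b) : ∃ th i j, th * th = t ∧ th * z = z * th ∧ th * c = c * th ∧
    (∃ L, Mem Om t L ∧ th ∈ L) ∧ Dir z a b (t * c) i j ∧ Act z a a th (rf i) ∧ Act z b b th (rf j) ∧
    ∀ x ∈ CX Om z, x * c = c * x → (Fx Om t x ∧ th * x * th⁻¹ = x) ∨ (Sw Om t x ∧ th * x * th⁻¹ = x * z * c) := by
  obtain ⟨K1', K2', L1, L2, a', b', p, q, C⟩ := l.ti.exists_cf h
  wlog hK : K1' = K1 generalizing K1' K2' a' b'
  · refine this K2' K1' b' a' C.swk ?_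
    rcases F.k1.cases F.k2 h F.ne C.k1 with h1 | h1
    · exact absurd h1 hK
    · rcases F.k1.cases F.k2 h F.ne C.k2 with h2 | h2
      · exact h2
      · exact absurd (h1.trans h2.symm) C.kne
  subst hK
  have hK2 : K2' = K2 := by
    rcases F.k1.cases F.k2 h F.ne C.k2 with h2 | h2
    · exact absurd h2.symm C.kne
    · exact h2
  subst hK2
  obtain ⟨i, hi, hai⟩ := C.act_theta h F.qa
  obtain ⟨j, hj, haj⟩ := C.swk.act_theta h F.qb
  have hpc : p 0 * c = c * p 0 := (mem_CX.1 l.ct L1 C.l1 _ (C.qc.mem 0)).symm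
  refine ⟨p 0, i, j, C.qc.sq 0, C.symm.ta0.symm, hpc, ⟨L1, C.l1, C.qc.mem 0⟩, ?_, hai, haj, ?_⟩
  · have h1 := C.tc_eq h l
    have e1 : a' 0 * b' 0 = a i * b j ∨ a' 0 * b' 0 = z * (a i * b j) := by
      rcases hi with hi | hi <;> rcases hj with hj | hj <;> rw [hi, hj]
      · left; rfl
      · right; rw [← mul_assoc, ← F.qa.zc, mul_assoc]
      · right; rw [mul_assoc]
      · left; rw [mul_assoc, ← mul_assoc (a i), ← F.qa.zc, mul_assoc, F.qa.zzx]
    rcases h1 with h1 | h1 <;> rcases e1 with e1 | e1 <;> rw [Dir, h1, e1]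
    · left; rfl
    · right; rfl
    · right; rfl
    · left; rw [F.qa.zzx]
  · intro x hx hxc
    have hxt := (l.comm_iff h hx).1 hxc
    have hxz : x * z = z * x := CX_le l.ti.1 h hx
    have hxa : x * a' 0 = a' 0 * x := mem_CX.1 hx _ C.k1 _ (C.qa.mem 0)
    have h5 : cj x L1 ≠ cj x L2 := fun e => C.lne (cj_inj.1 e)
    rcases C.l1.cases C.l2 h C.lne (C.l1.cj_comm h hxt) with h1 | h1 <;>
    rcases C.l1.cases C.l2 h C.lne (C.l2.cj_comm h hxt) with h2 | h2
    · exact absurd (h1.trans h2.symm) h5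
    · left
      refine ⟨?_, ?_⟩
      · intro K hK
        rcases C.l1.cases C.l2 h C.lne hK with rfl | rfl
        · exact h1
        · exact h2
      · have h3 := (C.pow_or h hxz hxt hxa h1).1
        rw [mul_inv_eq_iff_eq_mul] at h3
        rw [← h3, mul_inv_cancel_right]
    · right
      refine ⟨?_, C.theta_sw h l hx hxc h1 h2⟩
      intro K hK
      rcases C.l1.cases C.l2 h C.lne hK with rfl | rfl
      · rw [h1]; exact C.lne.symm
      · rw [h2]; exact C.lne
    · exact absurd (h1.trans h2.symm) h5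

end Lab

end

end Cfsg.Agent.Cit.Nil.RTwo
end

-- part: Cit/Nil/RTwo/TPair
section
/-!
# Pairs of type p and f in the presence of lines of type I (section 6 of the blueprint)
-/

set_option autoImplicit false
set_option linter.style.haveILetI false
set_option linter.unusedSectionVars false
set_option maxHeartbeats 400000

namespace Cfsg.Agent.Cit.Nil.RTwo

open Subgroup Cfsg Cit

variable {G : Type*} [Group G]

/-- type f -/
structure FT (Om : Set (Subgroup G)) (z t : G) : Prop where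
  fr : FR Om z t
  ninn : ¬ Inn Om z t

/-- there is an element of `R_z` centralising `t` and moving the members over `t` (`P2`) -/
def PTwo (Om : Set (Subgroup G)) (z t : G) : Prop := ∃ r ∈ RZ Om z, r * t = t * r ∧ Sw Om t r

/-- the connected component of `z` in the type I graph -/
def DI (Om : Set (Subgroup G)) (z t : G) : Prop := Relation.ReflTransGen (TI Om) z t

section

variable [Finite G] {Om : Set (Subgroup G)} {K K1 K2 L M L1 L2 : Subgroup G} {z t u v g r s x y w c c' : G}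
  {a b p q : Fin 3 → G}

theorem tcases (h : W2 Om) (hz : InZ Om z) (ht : InZ Om t) (hne : z ≠ t) (hc : z * t = t * z) :
    PR Om z t ∨ FT Om z t ∨ TI Om z t := by
  rcases pr_or_fr h hz ht hne hc with h1 | h1
  · exact Or.inl h1
  · by_cases h2 : Inn Om z t
    · exact Or.inr (Or.inr ⟨hz, ht, hne, hc, h2⟩)
    · exact Or.inr (Or.inl ⟨h1, h2⟩)

theorem TI.fr (h : W2 Om) (hti : TI Om z t) : FR Om z t :=
  ⟨hti.1, hti.2.1, hti.2.2.1, hti.2.2.2.1, fun _ hM => hti.2.2.2.2.cj_eq hM h⟩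

theorem FT.conj (hp : FT Om z t) (h : W2 Om) (g : G) : FT Om (g * z * g⁻¹) (g * t * g⁻¹) := by
  refine ⟨hp.fr.conj h g, fun h1 => hp.ninn ?_⟩
  have h2 := h1.conj h g⁻¹
  have e1 : g⁻¹ * (g * z * g⁻¹) * g⁻¹⁻¹ = z := by group
  have e2 : g⁻¹ * (g * t * g⁻¹) * g⁻¹⁻¹ = t := by group
  rwa [e1, e2] at h2

/-- coordinates adapted to an outer involution -/
theorem FT.coord (hp : FT Om z t) (h : W2 Om) (hK : Mem Om z K) :
    ∃ x, Q3 K z x ∧ t * x 0 * t⁻¹ = x 1 ∧ t * x 1 * t⁻¹ = x 0 ∧ t * x 2 * t⁻¹ = z * x 2 := by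
  obtain ⟨x, hx⟩ := h.exists_q3 hK
  have h1 : ∃ k ∈ K, ¬ (t * k * t⁻¹ = k ∨ t * k * t⁻¹ = z * k) := by
    by_contra hcon
    push Not at hcon
    have h2 := (h.inn_both hK hp.fr.ht hp.fr.ne.symm hcon).1
    exact hp.ninn h2
  obtain ⟨k, hk, hk1⟩ := h1
  rw [not_or] at hk1
  obtain ⟨hk1, hk2⟩ := hk1
  have ht1 : t⁻¹ = t := hp.fr.ht.inv h
  have ht2 : t * t = 1 := hp.fr.ht.z2 h
  have hkk : k * k = z := by
    rcases hx.cov k hk with rfl | rfl | ⟨i, rfl | rfl⟩
    · exact absurd (by group) hk1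
    · exact absurd (by rw [← hp.fr.comm, mul_inv_cancel_right]) hk1
    · exact hx.sq i
    · calc z * x i * (z * x i) = z * (x i * z) * x i := by group
        _ = z * (z * x i) * x i := by rw [hx.zc]
        _ = z := by rw [hx.zzx, hx.sq]
  have hbK : t * k * t⁻¹ ∈ K := by
    rw [← hp.fr.fx K hK]; exact conj_mem_cj hk
  have hbb : t * k * t⁻¹ * (t * k * t⁻¹) = z := by
    calc t * k * t⁻¹ * (t * k * t⁻¹) = t * (k * k) * t⁻¹ := by group
      _ = z := by rw [hkk, ← hp.fr.comm, mul_inv_cancel_right]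
  obtain ⟨i, hi⟩ := hx.of_sq hk hkk
  obtain ⟨j, hj⟩ := hx.of_sq hbK hbb
  have hij : i ≠ j := by
    rintro rfl
    rcases hi with hi | hi <;> rcases hj with hj | hj
    · exact hk1 (hj.trans hi.symm)
    · exact hk2 (by rw [hj, hi])
    · exact hk2 (by rw [hj, hi, hx.zzx])
    · exact hk1 (hj.trans hi.symm)
  have hzk : z * k = k * z := by rw [← hkk, mul_assoc]
  have hanti : k * (t * k * t⁻¹) = z * ((t * k * t⁻¹) * k) := by
    rw [← hkk]
    have h3 := hx.anti hij
    rcases hi with hi | hi <;> rcases hj with hj | hj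
    · rw [hj, hkk, hi, h3, mul_assoc]
    · rw [hj, hkk, hi]
      calc x i * (z * x j) = (x i * z) * x j := by group
        _ = (z * x i) * x j := by rw [hx.zc]
        _ = z * (x i * x j) := by group
        _ = z * (z * x j * x i) := by rw [h3]
    · rw [hj, hkk, hi]
      calc z * x i * x j = z * (x i * x j) := by group
        _ = z * (z * x j * x i) := by rw [h3]
        _ = z * ((x j * z) * x i) := by rw [hx.zc j]
        _ = _ := by group
    · rw [hj, hkk, hi]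
      calc z * x i * (z * x j) = z * (x i * z) * x j := by group
        _ = z * (z * x i) * x j := by rw [hx.zc]
        _ = z * z * (x i * x j) := by group
        _ = z * z * (z * x j * x i) := by rw [h3]
        _ = z * (z * (z * x j) * x i) := by group
        _ = z * (z * (x j * z) * x i) := by rw [hx.zc j]
        _ = _ := by group
  have hnc : k * (t * k * t⁻¹) ≠ (t * k * t⁻¹) * k := by
    intro h3
    rw [h3] at hanti
    exact hx.z1 (mul_eq_right.1 hanti.symm)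
  refine ⟨_, hx.of_pair hk hbK hkk hbb hnc, rfl, ?_, ?_⟩
  · show t * (t * k * t⁻¹) * t⁻¹ = k
    rw [ht1]
    calc t * (t * k * t) * t = (t * t) * k * (t * t) := by group
      _ = k := by rw [ht2]; group
  · show t * (k * (t * k * t⁻¹)) * t⁻¹ = z * (k * (t * k * t⁻¹))
    have h3 : t * (k * (t * k * t⁻¹)) * t⁻¹ = (t * k * t⁻¹) * (t * t * k * (t * t)⁻¹) := by group
    rw [h3, ht2, hanti, hx.zzx]
    group


/-- the axis of an outer involution -/
theorem FT.inv_axis (hp : FT Om z t) (h : W2 Om) (hK : Mem Om z K) (hy : y ∈ K) (hyy : y * y = z)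
    (hty : t * y * t⁻¹ = y ∨ t * y * t⁻¹ = z * y) : t * y * t⁻¹ = z * y ∧ ∃ r ∈ K, r * t * r⁻¹ = t * y := by
  obtain ⟨x, hx, h0, h1, h2⟩ := hp.coord h hK
  obtain ⟨i, hi⟩ := hx.of_sq hy hyy
  have htz : t * z * t⁻¹ = z := by rw [← hp.fr.comm, mul_inv_cancel_right]
  have hm : ∀ k : G, t * (z * k) * t⁻¹ = z * (t * k * t⁻¹) := by
    intro k
    calc t * (z * k) * t⁻¹ = (t * z * t⁻¹) * (t * k * t⁻¹) := by group
      _ = _ := by rw [htz]
  have hti : t * x i * t⁻¹ = x i ∨ t * x i * t⁻¹ = z * x i := by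
    rcases hi with rfl | rfl
    · exact hty
    · rw [hm] at hty
      rcases hty with h3 | h3
      · left; exact mul_left_cancel h3
      · right; exact mul_left_cancel h3
  have hi2 : i = 2 := by
    fin_cases i
    · exfalso
      rcases hti with h3 | h3
      · exact absurd (hx.inj (Or.inl (h0.symm.trans h3))) (by decide)
      · exact absurd (hx.inj (Or.inr (h0.symm.trans h3))) (by decide)
    · exfalso
      rcases hti with h3 | h3
      · exact absurd (hx.inj (Or.inl (h1.symm.trans h3))) (by decide)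
      · exact absurd (hx.inj (Or.inr (h1.symm.trans h3))) (by decide)
    · rfl
  subst hi2
  have m2 : x 0 * x 1 = x 2 := hx.mul 0
  -- `x 0 t (x 0)⁻¹ = t x 2`, `x 1 t (x 1)⁻¹ = t z x 2`
  have e0 : x 0 * t * (x 0)⁻¹ = t * x 2 := by
    have r0 : t * (x 0)⁻¹ * t⁻¹ = z * x 1 := by
      have h3 : t * (x 0)⁻¹ * t⁻¹ = (t * x 0 * t⁻¹)⁻¹ := by group
      rw [h3, h0, hx.inv]
    calc x 0 * t * (x 0)⁻¹ = x 0 * (t * (x 0)⁻¹ * t⁻¹) * t := by group
      _ = x 0 * (z * x 1) * t := by rw [r0]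
      _ = (x 0 * z) * x 1 * t := by group
      _ = (z * x 0) * x 1 * t := by rw [hx.zc]
      _ = (z * (x 0 * x 1)) * t := by group
      _ = (t * x 2 * t⁻¹) * t := by rw [m2, h2]
      _ = _ := by group
  have e1 : x 1 * t * (x 1)⁻¹ = t * (z * x 2) := by
    have r1 : t * (x 1)⁻¹ * t⁻¹ = z * x 0 := by
      have h3 : t * (x 1)⁻¹ * t⁻¹ = (t * x 1 * t⁻¹)⁻¹ := by group
      rw [h3, h1, hx.inv]
    have m3 : x 1 * x 0 = z * x 2 := by simpa only [_root_.Fin.isValue, _root_.zero_add] using hx.mul' 0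
    calc x 1 * t * (x 1)⁻¹ = x 1 * (t * (x 1)⁻¹ * t⁻¹) * t := by group
      _ = x 1 * (z * x 0) * t := by rw [r1]
      _ = (x 1 * z) * x 0 * t := by group
      _ = (z * x 1) * x 0 * t := by rw [hx.zc]
      _ = (z * (x 1 * x 0)) * t := by group
      _ = (t * (z * x 2) * t⁻¹) * t := by rw [m3, hm, h2]
      _ = _ := by group
  rcases hi with rfl | rfl
  · exact ⟨h2, x 0, hx.mem 0, e0⟩
  · exact ⟨by rw [hm, h2], x 1, hx.mem 1, e1⟩

/-- the action of an outer involution on the axes -/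
theorem FT.act (hp : FT Om t u) (h : W2 Om) (hL : Mem Om t L) {l : Fin 3 → G} (q : Q3 L t l) :
    ∃ σ, Act t l l u σ ∧ σ * σ = 1 ∧ σ ≠ 1 := by
  have hut : u * t = t * u := hp.fr.comm.symm
  obtain ⟨σ, hσ⟩ := q.exists_act q (hp.fr.fx L hL) hut
  refine ⟨σ, hσ, ?_, ?_⟩
  · have h1 := hσ.comp q.z2 hσ hut
    rw [hp.fr.ht.z2 h] at h1
    exact h1.unique q (Act.one l t)
  · rintro rfl
    exact hp.ninn (h.inn_both hL hp.fr.ht hp.fr.ne.symm (hσ.inner q hut)).1

/-- the product of two commuting outer involutions is not outer -/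
theorem FT.mul_not (hu : FT Om t u) (hv : FT Om t v) (huv : u * v = v * u) (h : W2 Om) (h3 : FT Om t (u * v)) :
    False := by
  obtain ⟨L, hL⟩ := hu.fr.hz
  obtain ⟨l, q⟩ := h.exists_q3 hL
  obtain ⟨σ, hσ, h1, h2⟩ := hu.act h hL q
  obtain ⟨τ, hτ, h4, h5⟩ := hv.act h hL q
  have e1 := hτ.comp q.z2 hσ hu.fr.comm.symm
  have e2 := hσ.comp q.z2 hτ hv.fr.comm.symm
  rw [huv] at e1
  have e3 := e1.unique q e2
  have key : ∀ σ τ : Equiv.Perm (Fin 3), σ * σ = 1 ∧ σ ≠ 1 ∧ τ * τ = 1 ∧ τ ≠ 1 ∧ σ * τ = τ * σ → σ * τ = 1 := by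
    decide +kernel
  have e4 := key σ τ ⟨h1, h2, h4, h5, e3⟩
  rw [e4, ← huv] at e1
  exact h3.ninn (h.inn_both hL h3.fr.ht h3.fr.ne.symm (e1.inner q h3.fr.comm.symm)).1

theorem fx_or_sw (h : W2 Om) (hs : InZ Om s) (hg : g * s = s * g) : Fx Om s g ∨ Sw Om s g := by
  obtain ⟨K, hK⟩ := hs
  obtain ⟨L, hL, hKL, hall⟩ := hK.other h
  have hgK := hK.cj_comm h hg
  have hgL := hL.cj_comm h hg
  by_cases hf : cj g K = K
  · left
    intro M hM
    rcases hall M hM with rfl | rfl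
    · exact hf
    · rcases hall _ hgL with h1 | h1
      · exact absurd (cj_inj.1 (h1.trans hf.symm)).symm hKL
      · exact h1
  · right
    intro M hM
    rcases hall M hM with rfl | rfl
    · exact hf
    · intro h1
      rcases hall _ hgK with h2 | h2
      · exact hf h2
      · exact hKL (cj_inj.1 (h2.trans h1.symm))

theorem fx_sw_false (hs : InZ Om s) (h1 : Fx Om s g) (h2 : Sw Om s g) : False := by
  obtain ⟨K, hK⟩ := hs; exact h2 K hK (h1 K hK)

theorem Fx.mul {g g' : G} (h1 : Fx Om s g) (h2 : Fx Om s g') : Fx Om s (g * g') := fun K hK => by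
  rw [cj_mul, h2 K hK, h1 K hK]

theorem Fx.mul_sw {g g' : G} (h1 : Fx Om s g) (h2 : Sw Om s g') : Sw Om s (g * g') := fun K hK h3 => by
  apply h2 K hK
  rw [cj_mul] at h3
  exact cj_inj.1 (h3.trans (h1 K hK).symm)

theorem Sw.mul_fx {g g' : G} (h1 : Sw Om s g) (h2 : Fx Om s g') : Sw Om s (g * g') := fun K hK h3 => by
  apply h1 K hK
  rwa [cj_mul, h2 K hK] at h3

theorem Sw.mul {g g' : G} (h : W2 Om) (h1 : Sw Om s g) (h2 : Sw Om s g') (hg : g * s = s * g)
    (hg' : g' * s = s * g') : Fx Om s (g * g') := fun _ hK => sw_mul h hK h1 h2 hg hg'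

theorem Fx.conj (h : W2 Om) (h1 : Fx Om s g) (k : G) : Fx Om (k * s * k⁻¹) (k * g * k⁻¹) := by
  intro K hK
  have h2 := hK.cj h k⁻¹
  have h3 : k⁻¹ * (k * s * k⁻¹) * k⁻¹⁻¹ = s := by group
  rw [h3] at h2
  have h4 := h1 _ h2
  rw [cj_mul, cj_mul, h4, cj_cj_inv]

theorem Sw.conj (h : W2 Om) (h1 : Sw Om s g) (k : G) : Sw Om (k * s * k⁻¹) (k * g * k⁻¹) := by
  intro K hK h5
  have h2 := hK.cj h k⁻¹
  have h3 : k⁻¹ * (k * s * k⁻¹) * k⁻¹⁻¹ = s := by group
  rw [h3] at h2
  apply h1 _ h2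
  rw [cj_mul, cj_mul] at h5
  have h6 := congrArg (cj k⁻¹) h5
  rwa [cj_inv_cj] at h6

theorem PR.sw' (hp : PR Om z t) : Sw Om z t := hp.sw
theorem FR.fx' (hp : FR Om z t) : Fx Om z t := hp.fx

/-- **FOUR** -/
theorem four (h : W2 Om) (hu : InZ Om u) (hv : InZ Om v) (huv' : InZ Om (u * v)) (ht : InZ Om t)
    (huv : u * v = v * u) (htu : t * u = u * t) (htv : t * v = v * t) (h1 : t ≠ u) (h2 : t ≠ v) (h3 : t ≠ u * v)
    (n1 : ¬ TI Om t u) (n2 : ¬ TI Om t v) (n3 : ¬ TI Om t (u * v)) :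
    (PR Om t u ∧ PR Om t v ∧ FT Om t (u * v)) ∨ (PR Om t u ∧ FT Om t v ∧ PR Om t (u * v)) ∨
      (FT Om t u ∧ PR Om t v ∧ PR Om t (u * v)) := by
  have htuv : t * (u * v) = u * v * t := by rw [← mul_assoc, htu, mul_assoc, htv, mul_assoc]
  have c1 : PR Om t u ∨ FT Om t u := by
    rcases tcases h ht hu h1 htu with h4 | h4 | h4
    · exact Or.inl h4
    · exact Or.inr h4
    · exact absurd h4 n1
  have c2 : PR Om t v ∨ FT Om t v := by
    rcases tcases h ht hv h2 htv with h4 | h4 | h4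
    · exact Or.inl h4
    · exact Or.inr h4
    · exact absurd h4 n2
  have c3 : PR Om t (u * v) ∨ FT Om t (u * v) := by
    rcases tcases h ht huv' h3 htuv with h4 | h4 | h4
    · exact Or.inl h4
    · exact Or.inr h4
    · exact absurd h4 n3
  rcases c1 with c1 | c1 <;> rcases c2 with c2 | c2 <;> rcases c3 with c3 | c3
  · exact (fx_sw_false ht (Sw.mul h c1.sw c2.sw htu.symm htv.symm) c3.sw).elim
  · exact Or.inl ⟨c1, c2, c3⟩
  · exact Or.inr (Or.inl ⟨c1, c2, c3⟩)
  · exact (fx_sw_false ht c3.fr.fx (Sw.mul_fx c1.sw c2.fr.fx)).elim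
  · exact Or.inr (Or.inr ⟨c1, c2, c3⟩)
  · exact (fx_sw_false ht c3.fr.fx (Fx.mul_sw c1.fr.fx c2.sw)).elim
  · exact (fx_sw_false ht (Fx.mul c1.fr.fx c2.fr.fx) c3.sw).elim
  · exact (c1.mul_not c2 huv h c3).elim

/-- **OCT** -/
theorem oct (h : W2 Om) {A : Subgroup G} (hA : ∀ a ∈ A, a ≠ 1 → InZ Om a) (hAc : ∀ a ∈ A, ∀ b ∈ A, a * b = b * a)
    (hu : u ∈ A) (hv : v ∈ A) (hw : w ∈ A) (hu1 : u ≠ 1) (hv1 : v ≠ 1) (hvu : v ≠ u) (hw1 : w ≠ 1) (hwu : w ≠ u)
    (hwv : w ≠ v) (hwuv : w ≠ u * v) (ht : InZ Om t) (htA : t ∉ A) (htc : ∀ a ∈ A, t * a = a * t) :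
    ∃ a ∈ A, a ≠ 1 ∧ TI Om t a := by
  by_contra hcon
  push Not at hcon
  have hsq : ∀ a ∈ A, a * a = 1 := by
    intro a ha
    by_cases h1 : a = 1
    · rw [h1, mul_one]
    · exact (hA a ha h1).z2 h
  have hinv : ∀ a ∈ A, a⁻¹ = a := fun a ha => inv_eq_of_mul_eq_one_right (hsq a ha)
  -- two different elements `≠ 1` of `A` fixing the members over `t` give a contradiction
  have key : ∀ a ∈ A, ∀ b ∈ A, a ≠ 1 → b ≠ 1 → a ≠ b → Fx Om t a → Fx Om t b → False := by
    intro a ha b hb ha1 hb1 hab fa fb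
    have hft : ∀ a ∈ A, a ≠ 1 → Fx Om t a → FT Om t a := by
      intro a ha ha1 fa
      have hne : t ≠ a := fun e => htA (e ▸ ha)
      rcases tcases h ht (hA a ha ha1) hne (htc a ha) with h4 | h4 | h4
      · exact (fx_sw_false ht fa h4.sw).elim
      · exact h4
      · exact absurd h4 (hcon a ha ha1)
    have hab1 : a * b ≠ 1 := fun e => hab (by
      have := eq_inv_of_mul_eq_one_left e
      rwa [hinv b hb] at this)
    exact (hft a ha ha1 fa).mul_not (hft b hb hb1 fb) (hAc a ha b hb) h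
      (hft _ (mul_mem ha hb) hab1 (fa.mul fb))
  have huv1 : u * v ≠ 1 := fun e => hvu (by
    have := eq_inv_of_mul_eq_one_left e
    rw [hinv v hv] at this; exact this.symm)
  have hvw1 : v * w ≠ 1 := fun e => hwv (by
    have := eq_inv_of_mul_eq_one_left e
    rw [hinv w hw] at this; exact this.symm)
  have huw1 : u * w ≠ 1 := fun e => hwu (by
    have := eq_inv_of_mul_eq_one_left e
    rw [hinv w hw] at this; exact this.symm)
  have ct : ∀ a ∈ A, a * t = t * a := fun a ha => (htc a ha).symm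
  rcases fx_or_sw h ht (ct u hu) with fu | fu <;> rcases fx_or_sw h ht (ct v hv) with fv | fv <;>
  rcases fx_or_sw h ht (ct w hw) with fw | fw
  · exact key u hu v hv hu1 hv1 hvu.symm fu fv
  · exact key u hu v hv hu1 hv1 hvu.symm fu fv
  · exact key u hu w hw hu1 hw1 hwu.symm fu fw
  · refine key u hu (v * w) (mul_mem hv hw) hu1 hvw1 ?_ fu (fv.mul h fw (ct v hv) (ct w hw))
    intro e
    apply hwuv
    rw [e, hAc (v * w) (mul_mem hv hw) v hv, ← mul_assoc, hsq v hv, one_mul]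
  · exact key v hv w hw hv1 hw1 hwv.symm fv fw
  · refine key v hv (u * w) (mul_mem hu hw) hv1 huw1 ?_ fv (fu.mul h fw (ct u hu) (ct w hw))
    intro e
    apply hwuv
    rw [e, ← mul_assoc, hsq u hu, one_mul]
  · refine key w hw (u * v) (mul_mem hu hv) hw1 huv1 hwuv fw (fu.mul h fv (ct u hu) (ct v hv))
  · refine key (u * v) (mul_mem hu hv) (v * w) (mul_mem hv hw) huv1 hvw1 ?_ (fu.mul h fv (ct u hu) (ct v hv))
      (fv.mul h fw (ct v hv) (ct w hw))
    intro e
    apply hwu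
    rw [hAc u hu v hv] at e
    exact (mul_left_cancel e).symm

end

end Cfsg.Agent.Cit.Nil.RTwo
end

private theorem dce_26048171dc55 : _root_.True := by
  try have : _root_.True := by simp only [_root_.Cfsg.Agent.Cit.Nil.RTwo.Dir.eq_1]
  exact _root_.True.intro
end

-- part: Cit/Nil/RTwo/TLine
section
set_option linter.all false
open scoped Cfsg.Agent.FastGrp

/-!
# Elements centralising a line of type I: (6.5)-(6.7), (9.1) of the blueprint
-/

set_option autoImplicit false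
set_option linter.style.haveILetI false
set_option linter.unusedSectionVars false
set_option maxHeartbeats 400000

namespace Cfsg.Agent.Cit.Nil.RTwo

open Subgroup Cfsg Cit

variable {G : Type*} [Group G]

section

variable [Finite G] {Om : Set (Subgroup G)} {K K1 K2 L M L1 L2 : Subgroup G} {z t u v g r s x y w c c' : G}
  {a b p q : Fin 3 → G}

/-! ### The component -/

theorem DI.conj (h : W2 Om) (hd : DI Om z t) (g : G) : DI Om (g * z * g⁻¹) (g * t * g⁻¹) := by
  induction hd with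
  | refl => exact Relation.ReflTransGen.refl
  | tail _ h2 ih => exact Relation.ReflTransGen.tail ih (h2.conj h g)

theorem DI.symm (h : W2 Om) (hd : DI Om z t) : DI Om t z := by
  induction hd with
  | refl => exact Relation.ReflTransGen.refl
  | tail _ h2 ih => exact Relation.ReflTransGen.head (h2.symm h) ih

theorem DI.trans (h1 : DI Om z t) (h2 : DI Om t s) : DI Om z s := Relation.ReflTransGen.trans h1 h2

theorem TI.di (hti : TI Om z t) : DI Om z t := Relation.ReflTransGen.single hti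

/-- if `s` is a type I neighbour of `z` and `r` commutes with `s`: `t` and `r t r⁻¹` are in `Δ_I(z)` together -/
theorem di_conj_iff (h : W2 Om) (hs : DI Om z s) (hr : r * s = s * r) : DI Om z t ↔ DI Om z (r * t * r⁻¹) := by
  have hrs : r * s * r⁻¹ = s := by rw [hr, mul_inv_cancel_right]
  constructor
  · intro h1
    have h2 := ((hs.symm h).trans h1).conj h r
    rw [hrs] at h2
    exact hs.trans h2
  · intro h1
    have h2 := ((hs.symm h).trans h1).conj h r⁻¹
    have e1 : r⁻¹ * s * r⁻¹⁻¹ = s := by rw [inv_inv, mul_assoc, ← hr]; group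
    have e2 : r⁻¹ * (r * t * r⁻¹) * r⁻¹⁻¹ = t := by group
    rw [e1, e2] at h2
    exact hs.trans h2

/-! ### (6.6) -/

namespace Cf

variable (C : Cf Om z s K1 K2 L1 L2 a b p q) (h : W2 Om)

include C h

/-- in its own frame `p 0` acts as the reflection at `0` -/
theorem act_p0 : Act z a a (p 0) (rf 0) := by
  obtain ⟨i, hi, hact⟩ := C.act_theta h C.qa
  have h1 : (0 : Fin 3) = i := C.qa.inj hi
  rwa [← h1] at hact

theorem p0z : p 0 * z = z * p 0 := C.symm.ta0.symm

/-- `t` of type f with respect to `s`, commuting with `z` -/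
theorem star (ht : FT Om s t) (htz : t * z = z * t) : t * p 0 * t⁻¹ = s * p 0 ∧ ∃ r ∈ L1, r * t * r⁻¹ = t * p 0 :=
  ht.inv_axis h C.l1 (C.qc.mem 0) (C.qc.sq 0) (C.fix_or htz (ht.fr.fx L1 C.l1))

theorem star_inZ (ht : FT Om s t) (htz : t * z = z * t) : InZ Om (t * p 0) := by
  obtain ⟨-, r, -, hr⟩ := C.star h ht htz
  rw [← hr]; exact ht.fr.ht.conj h r

theorem star_z (htz : t * z = z * t) : t * p 0 * z = z * (t * p 0) := by
  rw [mul_assoc, C.p0z h, ← mul_assoc, htz, mul_assoc]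

theorem star_s (hts : t * s = s * t) : t * p 0 * s = s * (t * p 0) := by
  rw [mul_assoc, ← C.qc.zc, ← mul_assoc, hts, mul_assoc]

theorem star_di (ht : FT Om s t) (htz : t * z = z * t) (hti : TI Om z s) : DI Om z t ↔ DI Om z (t * p 0) := by
  obtain ⟨-, r, hr, hrt⟩ := C.star h ht htz
  rw [← hrt]
  exact di_conj_iff h hti.di (C.l1.comm_z h hr)

theorem star_ne (ht : FT Om s t) : z ≠ t * p 0 := by
  intro e
  have h1 : t = z * (p 0)⁻¹ := by rw [e]; group
  have h2 := ht.fr.ht.z2 h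
  have hpz := C.p0z h
  have h3 : t * t = s := by
    rw [h1, C.qc.inv]
    calc z * (s * p 0) * (z * (s * p 0)) = z * s * (p 0 * z) * (s * p 0) := by group
      _ = z * s * (z * p 0) * (s * p 0) := by rw [hpz]
      _ = z * (s * z) * (p 0 * s) * p 0 := by group
      _ = z * (z * s) * (s * p 0) * p 0 := by rw [C.comm, ← C.qc.zc]
      _ = (z * z) * (s * s) * (p 0 * p 0) := by group
      _ = s := by rw [C.z2, C.t2, C.qc.sq]; group
  exact C.qc.z1 (h3.symm.trans h2)

end Cf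

/-- (6.6) -/
theorem f_twice (h : W2 Om) (hti : TI Om z s) (h1 : FT Om z t) (h2 : FT Om s t) : DI Om z t := by
  obtain ⟨K1, K2, L1, L2, a, b, p, q, C⟩ := hti.exists_cf h
  have htz : t * z = z * t := h1.fr.comm.symm
  have hts : t * s = s * t := h2.fr.comm.symm
  rw [C.star_di h h2 htz hti]
  obtain ⟨σ, hσ, e1, e2⟩ := h1.act h C.k1 C.qa
  -- `σ` fixes `0`
  have hK1 : cj t K1 = K1 := h1.fr.fx K1 C.k1
  have e3 : σ 0 = 0 := by
    rcases C.symm.fix_or hts hK1 with e4 | e4 <;> rcases hσ 0 with e5 | e5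
    · exact (C.qa.inj (Or.inl (e4.symm.trans e5))).symm
    · exact (C.qa.inj (Or.inr (e4.symm.trans e5))).symm
    · exact C.qa.inj (Or.inr (e5.symm.trans e4))
    · exact (C.qa.inj (Or.inl (mul_left_cancel (e4.symm.trans e5)))).symm
  have e4 := rf_of e3 e2
  rw [e4] at hσ
  have e5 := (C.act_p0 h).comp C.z2 hσ htz
  have e6 : rf 0 * rf 0 = 1 := by decide
  rw [e6] at e5
  have hz' := C.star_z h htz
  have e7 := h.inn_both C.k1 (C.star_inZ h h2 htz) (C.star_ne h h2).symm (e5.inner C.qa hz')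
  exact TI.di ⟨C.k1.inZ, C.star_inZ h h2 htz, C.star_ne h h2, hz'.symm, e7.1⟩

/-! ### (9.1) -/

namespace Cf

variable (C : Cf Om z s K1 K2 L1 L2 a b p q) (h : W2 Om)

include C h

theorem fx_a0 : Fx Om s (a 0) := fun _ hM => h.h3 C.k1 hM (C.qa.mem 0) (C.qa.sq 0) C.ta0.symm

theorem fx_z : Fx Om s z := fun M hM => by
  have h1 := C.fx_a0 h M hM
  rw [← C.qa.sq 0, cj_mul, h1, h1]

/-- the elements of `K1` commuting with `s` fix the members over `s` -/
theorem fx_of_pow {k : G} (hk : k ∈ K1) (hks : k * s = s * k) : Fx Om s k ∧ (k = 1 ∨ k = z ∨ k = a 0 ∨ k = z * a 0) := by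
  have key : ∀ i, i ≠ 0 → a i * s ≠ s * a i := by
    intro i hi e
    have h1 := C.ta (a i) (C.qa.mem i)
    rw [← e, mul_inv_cancel_right, C.qa.conj_ne (Ne.symm hi)] at h1
    exact C.qa.zne _ h1.symm
  have hzs := C.comm
  rcases C.qa.cov k hk with rfl | rfl | ⟨i, rfl | rfl⟩
  · exact ⟨fun _ _ => cj_one _, Or.inl rfl⟩
  · exact ⟨C.fx_z h, Or.inr (Or.inl rfl)⟩
  · by_cases hi : i = 0
    · subst hi; exact ⟨C.fx_a0 h, Or.inr (Or.inr (Or.inl rfl))⟩
    · exact absurd hks (key i hi)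
  · by_cases hi : i = 0
    · subst hi; exact ⟨(C.fx_z h).mul (C.fx_a0 h), Or.inr (Or.inr (Or.inr rfl))⟩
    · exfalso
      apply key i hi
      rw [mul_assoc] at hks
      have h1 : z * (a i * s) = z * (s * a i) := by
        rw [hks, ← mul_assoc, ← hzs, mul_assoc]
      exact mul_left_cancel h1

theorem sw_iff_of_fx {g g' : G} (hf : Fx Om s g) : Sw Om s (g * g') ↔ Sw Om s g' := by
  constructor
  · intro h1 M hM h2
    apply h1 M hM
    rw [cj_mul, h2, hf M hM]
  · exact fun h1 => hf.mul_sw h1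

/-- `P2` in terms of `a 1 b 1` -/
theorem pTwo_iff : PTwo Om z s ↔ Sw Om s (a 1 * b 1) := by
  constructor
  · rintro ⟨r, hr, hrs, hsw⟩
    obtain ⟨k, hk, l, hl, rfl⟩ := (mem_RZ C.k1 C.k2 h C.kne).1 hr
    -- `[s, k] = [s, l]⁻¹ ∈ ⟨z⟩`
    have hinn : ∀ {K : Subgroup G} {x : Fin 3 → G}, Q3 K z x → (∀ k ∈ K, s * k * s⁻¹ = x 0 * k * (x 0)⁻¹) →
        ∀ k ∈ K, (s * k * s⁻¹ = k ∨ (s * k * s⁻¹ = z * k ∧ s * ((x 1)⁻¹ * k) * s⁻¹ = (x 1)⁻¹ * k)) := by
      intro K x Q hx k hk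
      have c0 : s * x 0 * s⁻¹ = x 0 := by rw [hx _ (Q.mem 0), Q3.conj_self]
      have cne : ∀ i, i ≠ 0 → s * x i * s⁻¹ = z * x i := fun i hi => by rw [hx _ (Q.mem i), Q.conj_ne (Ne.symm hi)]
      have cz : s * z * s⁻¹ = z := by rw [← C.comm, mul_inv_cancel_right]
      have hmul : ∀ u v : G, s * (u * v) * s⁻¹ = (s * u * s⁻¹) * (s * v * s⁻¹) := fun u v => by group
      have cneg : ∀ i, i ≠ 0 → s * ((x 1)⁻¹ * x i) * s⁻¹ = (x 1)⁻¹ * x i := by
        intro i hi
        have h1 : s * (x 1)⁻¹ * s⁻¹ = (s * x 1 * s⁻¹)⁻¹ := by group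
        rw [hmul, h1, cne 1 (by decide), cne i hi, mul_inv_rev, mul_assoc, inv_mul_cancel_left]
      rcases Q.cov k hk with rfl | rfl | ⟨i, rfl | rfl⟩
      · left; group
      · left; exact cz
      · by_cases hi : i = 0
        · subst hi; left; exact c0
        · right; exact ⟨cne i hi, cneg i hi⟩
      · by_cases hi : i = 0
        · subst hi; left; rw [hmul, cz, c0]
        · right
          refine ⟨by rw [hmul, cz, cne i hi], ?_⟩
          have e : (x 1)⁻¹ * (z * x i) = z * ((x 1)⁻¹ * x i) := by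
            rw [← mul_assoc, ← Q.zcomm (inv_mem (Q.mem 1)), mul_assoc]
          rw [e, hmul, cz, cneg i hi]
    have hs : s * (k * l) * s⁻¹ = k * l := by rw [← hrs, mul_inv_cancel_right]
    have hs' : (s * k * s⁻¹) * (s * l * s⁻¹) = k * l := by rw [← hs]; group
    have hzne := C.qa.zne
    rcases hinn C.qa C.ta k hk with h1 | ⟨h1, h1'⟩ <;> rcases hinn C.qb C.tb l hl with h2 | ⟨h2, h2'⟩
    · exfalso
      rw [mul_inv_eq_iff_eq_mul] at h1 h2
      have f1 := (C.fx_of_pow h hk h1.symm).1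
      have f2 := (C.swk.fx_of_pow h hl h2.symm).1
      exact fx_sw_false C.l1.inZ (f1.mul f2) hsw
    · exfalso
      rw [h1, h2, ← mul_assoc, ← C.qa.zcomm hk, mul_assoc] at hs'
      exact hzne _ hs'
    · exfalso
      rw [h1, h2, mul_assoc] at hs'
      exact hzne _ hs'
    · -- `k = a 1 k'`, `l = b 1 l'`
      rw [mul_inv_eq_iff_eq_mul] at h1' h2'
      have f1 := (C.fx_of_pow h (mul_mem (inv_mem (C.qa.mem 1)) hk) h1'.symm).1
      have f2 := (C.swk.fx_of_pow h (mul_mem (inv_mem (C.qb.mem 1)) hl) h2'.symm).1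
      have e : k * l = (a 1 * b 1) * (((a 1)⁻¹ * k) * ((b 1)⁻¹ * l)) := by
        have e1 := C.k1.comm C.k2 h C.kne hk (inv_mem (C.qb.mem 1))
        have e2 := C.k1.comm C.k2 h C.kne (inv_mem (C.qa.mem 1)) (C.qb.mem 1)
        calc k * l = a 1 * ((a 1)⁻¹ * k) * l := by group
          _ = a 1 * (b 1 * (b 1)⁻¹) * ((a 1)⁻¹ * k) * l := by group
          _ = a 1 * b 1 * ((b 1)⁻¹ * (a 1)⁻¹ * k) * l := by group
          _ = a 1 * b 1 * ((a 1)⁻¹ * (b 1)⁻¹ * k) * l := by
            rw [C.k1.comm C.k2 h C.kne (inv_mem (C.qa.mem 1)) (inv_mem (C.qb.mem 1))]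
          _ = a 1 * b 1 * ((a 1)⁻¹ * ((b 1)⁻¹ * k)) * l := by group
          _ = a 1 * b 1 * ((a 1)⁻¹ * (k * (b 1)⁻¹)) * l := by rw [e1]
          _ = _ := by group
      intro M hM h3
      apply hsw M hM
      rw [e, cj_mul, (f1.mul f2) M hM, h3]
  · intro h1
    exact ⟨a 1 * b 1, mul_mem (C.k1.le_RZ (C.qa.mem 1)) (C.k2.le_RZ (C.qb.mem 1)), C.vt h, h1⟩

/-- the action of `g ∈ C(z, s)` on the members over `z s` -/
theorem sw_zs (hgz : g * z = z * g) (hgs : g * s = s * g) :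
    Sw Om (z * s) g ↔ ((Fx Om z g ∧ Sw Om s g) ∨ (Sw Om z g ∧ Sw Om s (a 1 * b 1 * g))) := by
  -- `Sw (z s) g ↔ Sw s ((a 1)⁻¹ g a 1)`
  have h0 : Sw Om (z * s) g ↔ Sw Om s ((a 1)⁻¹ * g * a 1) := by
    have e1 : a 1 * s * (a 1)⁻¹ = z * s := C.a1t
    have e2 : a 1 * ((a 1)⁻¹ * g * a 1) * (a 1)⁻¹ = g := by group
    constructor
    · intro h1
      have h2 := h1.conj h (a 1)⁻¹
      have e3 : (a 1)⁻¹ * (z * s) * (a 1)⁻¹⁻¹ = s := by rw [← e1]; group
      have e4 : (a 1)⁻¹ * g * (a 1)⁻¹⁻¹ = (a 1)⁻¹ * g * a 1 := by group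
      rwa [e3, e4] at h2
    · intro h1
      have h2 := h1.conj h (a 1)
      rwa [e1, e2] at h2
  have e0 : (a 1)⁻¹ * g * a 1 = ((a 1)⁻¹ * (g * a 1 * g⁻¹)) * g := by group
  have hga1s : ∀ (x : G), s * x * s⁻¹ = z * x → s * (g * x * g⁻¹) * s⁻¹ = z * (g * x * g⁻¹) := by
    intro x hx
    calc s * (g * x * g⁻¹) * s⁻¹ = (s * g) * x * (s * g)⁻¹ := by group
      _ = (g * s) * x * (g * s)⁻¹ := by rw [hgs]
      _ = g * (s * x * s⁻¹) * g⁻¹ := by group
      _ = (g * z) * x * g⁻¹ := by rw [hx]; group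
      _ = _ := by rw [hgz]; group
  have h1 := hga1s _ C.ta1
  have hinv : s * (a 1)⁻¹ * s⁻¹ = z * (a 1)⁻¹ := by
    have : s * (a 1)⁻¹ * s⁻¹ = (s * a 1 * s⁻¹)⁻¹ := by group
    rw [this, C.ta1, mul_inv_rev, C.zinv, C.qa.zcomm (inv_mem (C.qa.mem 1))]
  have hcomm : ((a 1)⁻¹ * (g * a 1 * g⁻¹)) * s = s * ((a 1)⁻¹ * (g * a 1 * g⁻¹)) := by
    have : s * ((a 1)⁻¹ * (g * a 1 * g⁻¹)) * s⁻¹ = (a 1)⁻¹ * (g * a 1 * g⁻¹) := by
      calc s * ((a 1)⁻¹ * (g * a 1 * g⁻¹)) * s⁻¹ = (s * (a 1)⁻¹ * s⁻¹) * (s * (g * a 1 * g⁻¹) * s⁻¹) := by group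
        _ = z * (a 1)⁻¹ * (z * (g * a 1 * g⁻¹)) := by rw [hinv, h1]
        _ = z * ((a 1)⁻¹ * z) * (g * a 1 * g⁻¹) := by group
        _ = z * (z * (a 1)⁻¹) * (g * a 1 * g⁻¹) := by rw [← C.qa.zcomm (inv_mem (C.qa.mem 1))]
        _ = (z * z) * ((a 1)⁻¹ * (g * a 1 * g⁻¹)) := by group
        _ = _ := by rw [C.z2, one_mul]
    rw [mul_inv_eq_iff_eq_mul] at this
    exact this.symm
  rw [h0, e0]
  rcases fx_or_sw h C.k1.inZ hgz with hf | hf
  · -- `g` fixes `K1`
    have h2 : (a 1)⁻¹ * (g * a 1 * g⁻¹) ∈ K1 := by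
      refine mul_mem (inv_mem (C.qa.mem 1)) ?_
      have := conj_mem_cj (g := g) (C.qa.mem 1)
      rwa [hf K1 C.k1] at this
    have h3 := (C.fx_of_pow h h2 hcomm).1
    rw [C.sw_iff_of_fx h h3]
    constructor
    · exact fun h4 => Or.inl ⟨hf, h4⟩
    · rintro (⟨-, h4⟩ | ⟨h4, -⟩)
      · exact h4
      · exact (fx_sw_false C.k1.inZ hf h4).elim
  · -- `g` interchanges `K1` and `K2`
    have hK : cj g K1 = K2 := by
      rcases C.k1.cases C.k2 h C.kne (C.k1.cj_comm h hgz) with h2 | h2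
      · exact absurd h2 (hf K1 C.k1)
      · exact h2
    have h2 : g * a 1 * g⁻¹ ∈ K2 := by rw [← hK]; exact conj_mem_cj (C.qa.mem 1)
    -- `(g a 1 g⁻¹) (b 1)⁻¹` commutes with `s`
    have hb1 : s * (b 1)⁻¹ * s⁻¹ = z * (b 1)⁻¹ := by
      have : s * (b 1)⁻¹ * s⁻¹ = (s * b 1 * s⁻¹)⁻¹ := by group
      rw [this, C.swk.ta1, mul_inv_rev, C.zinv, C.qb.zcomm (inv_mem (C.qb.mem 1))]
    have h3 : ((g * a 1 * g⁻¹) * (b 1)⁻¹) * s = s * ((g * a 1 * g⁻¹) * (b 1)⁻¹) := by
      have : s * ((g * a 1 * g⁻¹) * (b 1)⁻¹) * s⁻¹ = (g * a 1 * g⁻¹) * (b 1)⁻¹ := by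
        calc s * ((g * a 1 * g⁻¹) * (b 1)⁻¹) * s⁻¹ = (s * (g * a 1 * g⁻¹) * s⁻¹) * (s * (b 1)⁻¹ * s⁻¹) := by group
          _ = z * (g * a 1 * g⁻¹) * (z * (b 1)⁻¹) := by rw [hb1, h1]
          _ = z * ((g * a 1 * g⁻¹) * z) * (b 1)⁻¹ := by group
          _ = z * (z * (g * a 1 * g⁻¹)) * (b 1)⁻¹ := by rw [C.qb.zcomm h2]
          _ = (z * z) * ((g * a 1 * g⁻¹) * (b 1)⁻¹) := by group
          _ = _ := by rw [C.z2, one_mul]
      rw [mul_inv_eq_iff_eq_mul] at this
      exact this.symm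
    have h4 := (C.swk.fx_of_pow h (mul_mem h2 (inv_mem (C.qb.mem 1))) h3).1
    -- `(a 1)⁻¹ (g a 1 g⁻¹) g = z ((g a 1 g⁻¹) (b 1)⁻¹) (a 1 b 1 g)`
    have e1 : (a 1)⁻¹ * (g * a 1 * g⁻¹) * g = (z * ((g * a 1 * g⁻¹) * (b 1)⁻¹)) * (a 1 * b 1 * g) := by
      have e2 := C.k1.comm C.k2 h C.kne (C.qa.mem 1) h2
      have e3 := C.k1.comm C.k2 h C.kne (C.qa.mem 1) (C.qb.mem 1)
      rw [C.qa.inv]
      calc z * a 1 * (g * a 1 * g⁻¹) * g = z * (a 1 * (g * a 1 * g⁻¹)) * g := by group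
        _ = z * ((g * a 1 * g⁻¹) * a 1) * g := by rw [e2]
        _ = z * ((g * a 1 * g⁻¹) * (b 1)⁻¹) * (b 1 * a 1) * g := by group
        _ = z * ((g * a 1 * g⁻¹) * (b 1)⁻¹) * (a 1 * b 1) * g := by rw [e3]
        _ = _ := by group
    rw [e1, C.sw_iff_of_fx h ((C.fx_z h).mul h4)]
    constructor
    · exact fun h5 => Or.inr ⟨hf, h5⟩
    · rintro (⟨h5, -⟩ | ⟨-, h5⟩)
      · exact (fx_sw_false C.k1.inZ h5 hf).elim
      · exact h5

end Cf

/-! ### `P1` and `P2` -/

theorem PTwo.conj (h : W2 Om) (h2 : PTwo Om z s) (g : G) : PTwo Om (g * z * g⁻¹) (g * s * g⁻¹) := by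
  obtain ⟨r, hr, hrs, hsw⟩ := h2
  refine ⟨g * r * g⁻¹, RZ_conj h g hr, ?_, hsw.conj h g⟩
  calc g * r * g⁻¹ * (g * s * g⁻¹) = g * (r * s) * g⁻¹ := by group
    _ = g * (s * r) * g⁻¹ := by rw [hrs]
    _ = _ := by group

/-- an element interchanging `z` and `s` -/
theorem TI.exists_swap (h : W2 Om) (hti : TI Om z s) : ∃ g, g * z * g⁻¹ = s ∧ g * s * g⁻¹ = z := by
  obtain ⟨K1, K2, L1, L2, a, b, p, q, C⟩ := hti.exists_cf h
  have h1 : a 1 * s * (a 1)⁻¹ = z * s := C.a1t
  have h2 : a 1 * z * (a 1)⁻¹ = z := by rw [C.a1z, mul_inv_cancel_right]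
  have h3 : p 1 * z * (p 1)⁻¹ = s * z := C.symm.a1t
  have h4 : p 1 * s * (p 1)⁻¹ = s := by rw [C.symm.a1z, mul_inv_cancel_right]
  refine ⟨a 1 * p 1 * a 1, ?_, ?_⟩
  · calc a 1 * p 1 * a 1 * z * (a 1 * p 1 * a 1)⁻¹ = a 1 * (p 1 * (a 1 * z * (a 1)⁻¹) * (p 1)⁻¹) * (a 1)⁻¹ := by group
      _ = a 1 * (s * z) * (a 1)⁻¹ := by rw [h2, h3]
      _ = (a 1 * s * (a 1)⁻¹) * (a 1 * z * (a 1)⁻¹) := by group
      _ = z * s * z := by rw [h1, h2]
      _ = s := by rw [C.comm, mul_assoc, C.z2, mul_one]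
  · calc a 1 * p 1 * a 1 * s * (a 1 * p 1 * a 1)⁻¹ = a 1 * (p 1 * (a 1 * s * (a 1)⁻¹) * (p 1)⁻¹) * (a 1)⁻¹ := by group
      _ = a 1 * ((p 1 * z * (p 1)⁻¹) * (p 1 * s * (p 1)⁻¹)) * (a 1)⁻¹ := by rw [h1]; group
      _ = a 1 * (s * z * s) * (a 1)⁻¹ := by rw [h3, h4]
      _ = a 1 * z * (a 1)⁻¹ := by rw [← C.comm, mul_assoc z, C.t2, mul_one]
      _ = z := h2

theorem PTwo.symm (h : W2 Om) (hti : TI Om z s) (h2 : PTwo Om z s) : PTwo Om s z := by
  obtain ⟨g, h3, h4⟩ := hti.exists_swap h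
  have := h2.conj h g
  rwa [h3, h4] at this

theorem TI.mul (h : W2 Om) (hti : TI Om z s) : TI Om z (z * s) := by
  obtain ⟨c, l⟩ := hti.exists_lab h
  exact (l.mul h).ti

theorem PTwo.mul (h : W2 Om) (hti : TI Om z s) (h2 : PTwo Om z s) : PTwo Om z (z * s) := by
  obtain ⟨K1, K2, L1, L2, a, b, p, q, C⟩ := hti.exists_cf h
  have := h2.conj h (a 1)
  rwa [C.a1t, C.a1z, mul_inv_cancel_right] at this

/-- (9.1) for `P2` -/
theorem eps_two (h : W2 Om) (hti : TI Om z s) (h2 : PTwo Om z s) (hgz : g * z = z * g) (hgs : g * s = s * g) :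
    (Fx Om z g ∧ Fx Om s g ∧ Fx Om (z * s) g) ∨ (Sw Om z g ∧ Sw Om s g ∧ Fx Om (z * s) g) ∨
      (Sw Om z g ∧ Fx Om s g ∧ Sw Om (z * s) g) ∨ (Fx Om z g ∧ Sw Om s g ∧ Sw Om (z * s) g) := by
  obtain ⟨K1, K2, L1, L2, a, b, p, q, C⟩ := hti.exists_cf h
  have h3 := (C.pTwo_iff h).1 h2
  have h4 := C.sw_zs h hgz hgs
  have hzs : InZ Om (z * s) := (hti.mul h).2.1
  have hgzs : g * (z * s) = z * s * g := by rw [← mul_assoc, hgz, mul_assoc, hgs, ← mul_assoc]
  have hv := C.vt h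
  rcases fx_or_sw h hti.1 hgz with h5 | h5 <;> rcases fx_or_sw h hti.2.1 hgs with h6 | h6
  · left
    refine ⟨h5, h6, ?_⟩
    rcases fx_or_sw h hzs hgzs with h7 | h7
    · exact h7
    · exfalso
      rcases h4.1 h7 with ⟨-, h8⟩ | ⟨h8, -⟩
      · exact fx_sw_false hti.2.1 h6 h8
      · exact fx_sw_false hti.1 h5 h8
  · exact Or.inr (Or.inr (Or.inr ⟨h5, h6, h4.2 (Or.inl ⟨h5, h6⟩)⟩))
  · exact Or.inr (Or.inr (Or.inl ⟨h5, h6, h4.2 (Or.inr ⟨h5, h3.mul_fx h6⟩)⟩))
  · right; left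
    refine ⟨h5, h6, ?_⟩
    rcases fx_or_sw h hzs hgzs with h7 | h7
    · exact h7
    · exfalso
      rcases h4.1 h7 with ⟨h8, -⟩ | ⟨-, h8⟩
      · exact fx_sw_false hti.1 h8 h5
      · exact fx_sw_false hti.2.1 (h3.mul h h6 hv hgs) h8

/-- (9.1) for `P1` -/
theorem eps_one (h : W2 Om) (hti : TI Om z s) (h2 : ¬ PTwo Om z s) (hgz : g * z = z * g) (hgs : g * s = s * g) :
    (Fx Om z g ∧ Fx Om s g ∧ Fx Om (z * s) g) ∨ (Sw Om z g ∧ Sw Om s g ∧ Sw Om (z * s) g) := by
  have key : ∀ {z s : G}, TI Om z s → ¬ PTwo Om z s → g * z = z * g → g * s = s * g →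
      (Sw Om (z * s) g ↔ Sw Om s g) := by
    intro z s hti h2 hgz hgs
    obtain ⟨K1, K2, L1, L2, a, b, p, q, C⟩ := hti.exists_cf h
    have h3 : Fx Om s (a 1 * b 1) := by
      rcases fx_or_sw h hti.2.1 (C.vt h) with h3 | h3
      · exact h3
      · exact absurd ((C.pTwo_iff h).2 h3) h2
    rw [C.sw_zs h hgz hgs, C.sw_iff_of_fx h h3]
    rcases fx_or_sw h hti.1 hgz with h5 | h5
    · exact ⟨fun h6 => h6.elim (fun h7 => h7.2) (fun h7 => h7.2), fun h6 => Or.inl ⟨h5, h6⟩⟩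
    · exact ⟨fun h6 => h6.elim (fun h7 => h7.2) (fun h7 => h7.2), fun h6 => Or.inr ⟨h5, h6⟩⟩
  have k1 := key hti h2 hgz hgs
  have k2 := key (hti.symm h) (fun h3 => h2 (h3.symm h (hti.symm h))) hgs hgz
  rw [hti.2.2.2.1.symm] at k2
  have hzs : InZ Om (z * s) := (hti.mul h).2.1
  have hgzs : g * (z * s) = z * s * g := by rw [← mul_assoc, hgz, mul_assoc, hgs, ← mul_assoc]
  rcases fx_or_sw h hzs hgzs with h7 | h7
  · left
    refine ⟨?_, ?_, h7⟩
    · rcases fx_or_sw h hti.1 hgz with h5 | h5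
      · exact h5
      · exact (fx_sw_false hzs h7 (k2.2 h5)).elim
    · rcases fx_or_sw h hti.2.1 hgs with h5 | h5
      · exact h5
      · exact (fx_sw_false hzs h7 (k1.2 h5)).elim
  · right
    exact ⟨k2.1 h7, k1.1 h7, h7⟩

/-- `P1` implies `c = 1` -/
theorem Lab.eq_one (h : W2 Om) (l : Lab Om z s c) (h2 : ¬ PTwo Om z s) : c = 1 := by
  obtain ⟨K1, K2, L1, L2, a, b, p, q, C⟩ := l.ti.exists_cf h
  have h3 : Fx Om s (a 1 * b 1) := by
    rcases fx_or_sw h l.ti.2.1 (C.vt h) with h3 | h3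
    · exact h3
    · exact absurd ((C.pTwo_iff h).2 h3) h2
  have h4 : s ∈ RZ Om z := by
    have h5 : a 0 * b 0 ∈ RZ Om z := mul_mem (C.k1.le_RZ (C.qa.mem 0)) (C.k2.le_RZ (C.qb.mem 0))
    rcases C.p1 h (h3 L1 C.l1) with h6 | h6
    · rw [h6]; exact h5
    · rw [h6]; exact mul_mem (C.k1.le_RZ C.qa.zmem) h5
  have h5 : c ∈ RZ Om z := by
    have := mul_mem (inv_mem h4) l.wz
    rwa [inv_mul_cancel_left] at this
  rcases RZ_inf_CX h l.ti.1 h5 l.cz with h6 | h6
  · exact h6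
  · exact absurd h6 (l.ne_z h)

/-! ### (6.7): the types of `t` with respect to a line centralised by `t` -/

theorem tp_or_f (h : W2 Om) (hz : InZ Om z) (ht : InZ Om t) (hc : z * t = t * z) (hnd : ¬ DI Om z t) :
    PR Om z t ∨ FT Om z t := by
  have hne : z ≠ t := by
    rintro rfl; exact hnd Relation.ReflTransGen.refl
  rcases tcases h hz ht hne hc with h1 | h1 | h1
  · exact Or.inl h1
  · exact Or.inr h1
  · exact absurd h1.di hnd

/-- the types of `t` with respect to the points of a line `⟨z, s⟩` centralised by `t`, if `t ∉ Δ_I(z)` -/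
theorem status (h : W2 Om) (hti : TI Om z s) (ht : InZ Om t) (hzt : z * t = t * z) (hst : s * t = t * s)
    (hnd : ¬ DI Om z t) :
    (¬ PTwo Om z s → PR Om z t ∧ PR Om s t ∧ PR Om (z * s) t) ∧
    (PTwo Om z s → (PR Om z t ∧ PR Om s t ∧ FT Om (z * s) t) ∨ (PR Om z t ∧ FT Om s t ∧ PR Om (z * s) t) ∨
      (FT Om z t ∧ PR Om s t ∧ PR Om (z * s) t)) := by
  have hti2 := hti.mul h
  have hzst : z * s * t = t * (z * s) := by rw [mul_assoc, hst, ← mul_assoc, hzt, mul_assoc]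
  have hnd1 : ¬ DI Om s t := fun h1 => hnd (hti.di.trans h1)
  have hnd2 : ¬ DI Om (z * s) t := fun h1 => hnd (hti2.di.trans h1)
  have c1 := tp_or_f h hti.1 ht hzt hnd
  have c2 := tp_or_f h hti.2.1 ht hst hnd1
  have c3 := tp_or_f h hti2.2.1 ht hzst hnd2
  -- not f with respect to `z` and `s`
  have n1 : ¬ (FT Om z t ∧ FT Om s t) := fun h1 => hnd (f_twice h hti h1.1 h1.2)
  constructor
  · intro h2
    rcases eps_one h hti h2 hzt.symm hst.symm with ⟨e1, e2, e3⟩ | ⟨e1, e2, e3⟩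
    · exfalso
      apply n1
      constructor
      · rcases c1 with c1 | c1
        · exact (fx_sw_false hti.1 e1 c1.sw).elim
        · exact c1
      · rcases c2 with c2 | c2
        · exact (fx_sw_false hti.2.1 e2 c2.sw).elim
        · exact c2
    · refine ⟨?_, ?_, ?_⟩
      · rcases c1 with c1 | c1
        · exact c1
        · exact (fx_sw_false hti.1 c1.fr.fx e1).elim
      · rcases c2 with c2 | c2
        · exact c2
        · exact (fx_sw_false hti.2.1 c2.fr.fx e2).elim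
      · rcases c3 with c3 | c3
        · exact c3
        · exact (fx_sw_false hti2.2.1 c3.fr.fx e3).elim
  · intro h2
    rcases c1 with c1 | c1 <;> rcases c2 with c2 | c2 <;> rcases c3 with c3 | c3
    · exfalso
      rcases eps_two h hti h2 hzt.symm hst.symm with ⟨e1, e2, e3⟩ | ⟨e1, e2, e3⟩ | ⟨e1, e2, e3⟩ | ⟨e1, e2, e3⟩
      · exact fx_sw_false hti.1 e1 c1.sw
      · exact fx_sw_false hti2.2.1 e3 c3.sw
      · exact fx_sw_false hti.2.1 e2 c2.sw
      · exact fx_sw_false hti.1 e1 c1.sw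
    · exact Or.inl ⟨c1, c2, c3⟩
    · exact Or.inr (Or.inl ⟨c1, c2, c3⟩)
    · exfalso
      rcases eps_two h hti h2 hzt.symm hst.symm with ⟨e1, e2, e3⟩ | ⟨e1, e2, e3⟩ | ⟨e1, e2, e3⟩ | ⟨e1, e2, e3⟩
      · exact fx_sw_false hti.1 e1 c1.sw
      · exact fx_sw_false hti.2.1 c2.fr.fx e2
      · exact fx_sw_false hti2.2.1 c3.fr.fx e3
      · exact fx_sw_false hti.1 e1 c1.sw
    · exact Or.inr (Or.inr ⟨c1, c2, c3⟩)
    · exfalso
      rcases eps_two h hti h2 hzt.symm hst.symm with ⟨e1, e2, e3⟩ | ⟨e1, e2, e3⟩ | ⟨e1, e2, e3⟩ | ⟨e1, e2, e3⟩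
      · exact fx_sw_false hti.2.1 e2 c2.sw
      · exact fx_sw_false hti.1 c1.fr.fx e1
      · exact fx_sw_false hti.1 c1.fr.fx e1
      · exact fx_sw_false hti2.2.1 c3.fr.fx e3
    · exact absurd ⟨c1, c2⟩ n1
    · exact absurd ⟨c1, c2⟩ n1

/-- (6.4) as a property of the world: every `t ∈ Z ∩ C(z)` centralises a type I line on `z` -/
def HasLine (Om : Set (Subgroup G)) : Prop :=
  ∀ z t : G, InZ Om z → InZ Om t → z * t = t * z → ∃ s, TI Om z s ∧ s * t = t * s

/-- (6.7), all lines of type `P1`: commuting pairs are connected by type I edges -/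
theorem di_of_one (h : W2 Om) (hline : HasLine Om) (h1 : ∀ z s, TI Om z s → ¬ PTwo Om z s) (hz : InZ Om z)
    (ht : InZ Om t) (hc : z * t = t * z) : DI Om z t := by
  by_contra hnd
  obtain ⟨s, hti, hst⟩ := hline z t hz ht hc
  have hti2 := hti.mul h
  have hzst : z * s * t = t * (z * s) := by rw [mul_assoc, hst, ← mul_assoc, hc, mul_assoc]
  have hnd1 : ¬ DI Om s t := fun h1 => hnd (hti.di.trans h1)
  have hnd2 : ¬ DI Om (z * s) t := fun h1 => hnd (hti2.di.trans h1)
  -- some `v ∈ {z, s, z s}` is of type f with respect to `t`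
  have key : ∀ v, DI Om z v → FT Om t v → False := by
    intro v hv hf
    obtain ⟨s', hti', hs'⟩ := hline t v ht hf.fr.ht hf.fr.comm
    have hnd' : ¬ DI Om t v := fun h3 => hnd (hv.trans (h3.symm h))
    have := (status h hti' hf.fr.ht hf.fr.comm hs' hnd').1 (h1 t s' hti')
    exact this.1.not_fr hf.fr
  have ne1 : t ≠ z := by rintro rfl; exact hnd Relation.ReflTransGen.refl
  have ne2 : t ≠ s := by rintro rfl; exact hnd1 Relation.ReflTransGen.refl
  have ne3 : t ≠ z * s := by rintro rfl; exact hnd2 Relation.ReflTransGen.refl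
  have hzs := hti.2.2.2.1
  rcases four h hz hti.2.1 hti2.2.1 ht hzs hc.symm hst.symm ne1 ne2 ne3
    (fun h3 => hnd (h3.symm h).di) (fun h3 => hnd1 (h3.symm h).di) (fun h3 => hnd2 (h3.symm h).di) with
    ⟨-, -, h3⟩ | ⟨-, h3, -⟩ | ⟨h3, -, -⟩
  · exact key _ hti2.di h3
  · exact key _ hti.di h3
  · exact key _ Relation.ReflTransGen.refl h3

end

end Cfsg.Agent.Cit.Nil.RTwo
end

-- part: Cit/Nil/RTwo/TTwo
section
prune_inst 0x202000004800000000180004000020404800019200600001404006400a088141a004010130d0221011120ef0600a0000011800490070000020000a0040000000002930e2903c0c0011000000f807180c00000000000000000000000000000000000000000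
set_option linter.all false
open scoped Cfsg.Agent.FastGrp

-- part: Cit/Nil/RTwo/TOne
section
/-!
# S1309, `r = 2`, `m = 1`: the T-only world, (8.2)-(8.9)
-/

set_option autoImplicit false
set_option linter.unusedSectionVars false

namespace Cfsg.Agent.Cit.Nil.RTwo

open Subgroup Cfsg Cfsg.Agent.Cit

variable {G : Type*} [Group G] [Finite G] {Om : Set (Subgroup G)} {K L M : Subgroup G} {g t x y z s : G}

theorem eq_of_RZ (h : W2 Om) (hT : TO Om) (hz : InZ Om z) {v : G} (hv : InZ Om v) (hr : v ∈ RZ Om z) : v = z :=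
  hT z v hz hv (Inn.of_RZ hz h hr)

/-- commuting elements of `Z` with product outside `Z` -/
theorem pr_of (h : W2 Om) (hT : TO Om) (hz : InZ Om z) (ht : InZ Om t) (hne : z ≠ t) (hc : z * t = t * z)
    (hn : ¬ InZ Om (z * t)) : PR Om z t := by
  rcases pr_or_fr h hz ht hne hc with h1 | h1
  · exact h1
  · exact absurd (h1.exists_w h hT).1 hn

namespace HP

variable {x l : Fin 3 → G} {i j : Fin 3}

theorem te_mem (P : HP Om z t K x) (h : W2 Om) (i : Fin 3) : InZ Om (t * ee z t x i) := by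
  rw [← P.conj_t h]; exact P.pr.ht.conj h _

/-- `(z, t e_i)` -/
theorem pr_te (P : HP Om z t K x) (h : W2 Om) (i : Fin 3) : PR Om z (t * ee z t x i) := by
  rw [← P.conj_t h]; exact P.pr.conj_comm h (P.q.zc i).symm

/-- `(t, t e_i)` -/
theorem pr_tte (P : HP Om z t K x) (h : W2 Om) (hT : TO Om) (i : Fin 3) : PR Om t (t * ee z t x i) := by
  refine pr_of h hT P.pr.ht (P.te_mem h i) (fun h1 => P.e_ne_one h i (mul_eq_left.1 h1.symm)) ?_ ?_
  · rw [mul_assoc, P.e_t h]
  · rw [← mul_assoc, P.t2 h, one_mul]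
    exact fun h1 => P.e_ne_z h i (eq_of_RZ h hT P.pr.hz h1 (P.e_mem h i))

/-- `e_i` interchanges the members over `t` -/
theorem e_sw (P : HP Om z t K x) (h : W2 Om) (hT : TO Om) (i : Fin 3) (hM : Mem Om t M) :
    cj (ee z t x i) M ≠ M := by
  intro h1
  apply (P.pr_tte h hT i).sw M hM
  rw [cj_mul, h1]
  exact (Inn.of_CX (z_mem_CX h)).cj_eq hM h

theorem z_sw (P : HP Om z t K x) (h : W2 Om) (hT : TO Om) (hM : Mem Om t M) : cj z M ≠ M :=
  (P.pr.symm h hT).sw M hM

/-- `z e_i` fixes the members over `t` -/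
theorem c_fx (P : HP Om z t K x) (h : W2 Om) (hT : TO Om) (i : Fin 3) (hM : Mem Om t M) :
    cj (z * ee z t x i) M = M :=
  sw_mul h hM (fun _ hK => P.z_sw h hT hK) (fun _ hK => P.e_sw h hT i hK) P.pr.comm (P.e_t h i)

theorem c_t (P : HP Om z t K x) (h : W2 Om) (i : Fin 3) : z * ee z t x i * t = t * (z * ee z t x i) := by
  rw [mul_assoc, P.e_t h, ← mul_assoc, P.pr.comm, mul_assoc]

theorem c_sq (P : HP Om z t K x) (h : W2 Om) (i : Fin 3) : z * ee z t x i * (z * ee z t x i) = 1 := by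
  calc z * ee z t x i * (z * ee z t x i) = z * (ee z t x i * z) * ee z t x i := by group
    _ = z * z * (ee z t x i * ee z t x i) := by rw [P.e_z h]; group
    _ = 1 := by rw [P.q.z2, P.e_sq h, one_mul]

theorem c_mul (P : HP Om z t K x) (h : W2 Om) (i j : Fin 3) :
    z * ee z t x i * (z * ee z t x j) = ee z t x i * ee z t x j := by
  calc z * ee z t x i * (z * ee z t x j) = z * (ee z t x i * z) * ee z t x j := by group
    _ = z * z * (ee z t x i * ee z t x j) := by rw [P.e_z h]; group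
    _ = _ := by rw [P.q.z2, one_mul]

/-- (8.4) -/
theorem exists_inn (P : HP Om z t K x) (h : W2 Om) (hT : TO Om) : ∃ i, Inn Om t (z * ee z t x i) := by
  obtain ⟨L, l, Q⟩ := (P.pr.symm h hT).exists_hp h
  have hact : ∀ i, ∃ σ, Act t l l (z * ee z t x i) σ := fun i =>
    Q.q.exists_act Q.q (P.c_fx h hT i Q.hK) (P.c_t h i)
  choose σ hσ using hact
  have h1 : ∀ i, σ i * σ i = 1 := by
    intro i
    have h2 := (hσ i).comp Q.q.z2 (hσ i) (P.c_t h i)
    rw [P.c_sq h] at h2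
    exact h2.unique Q.q (Act.one l t)
  have h2 : σ 0 * σ 1 = σ 2 := by
    have h3 := (hσ 1).comp Q.q.z2 (hσ 0) (P.c_t h 0)
    rw [P.c_mul h, show (1 : Fin 3) = 0 + 1 from rfl, P.e_mul h] at h3
    exact h3.unique Q.q (hσ 2)
  have key : ∀ a b : Equiv.Perm (Fin 3), a * a = 1 → b * b = 1 → (a * b) * (a * b) = 1 →
      a = 1 ∨ b = 1 ∨ a * b = 1 := by decide
  have hinn : ∀ i, σ i = 1 → Inn Om t (z * ee z t x i) := by
    intro i hi
    have h3 := hσ i
    rw [hi] at h3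
    refine Q.inn_of h ?_ (h3.inner Q.q (P.c_t h i))
    rw [mul_assoc, P.e_z h]
  rcases key _ _ (h1 0) (h1 1) (by rw [h2]; exact h1 2) with h3 | h3 | h3
  · exact ⟨0, hinn _ h3⟩
  · exact ⟨1, hinn _ h3⟩
  · exact ⟨2, hinn _ (by rw [← h2]; exact h3)⟩

/-- (8.5) -/
theorem c_not_CX' (P : HP Om z t K x) (h : W2 Om) (hT : TO Om) (i : Fin 3) : z * ee z t x i ∉ CX Om t := by
  intro hc
  obtain ⟨L, l, Q⟩ := (P.pr.symm h hT).exists_hp h
  obtain ⟨j, hj⟩ := Q.exists_inn h hT
  have h1 : l j * (t * ee z t x i) * (l j)⁻¹ = t * ee t z l j * ee z t x i := by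
    have hlc : (z * ee z t x i) * l j = l j * (z * ee z t x i) := mem_CX.1 hc L Q.hK _ (Q.q.mem j)
    have h2 : ee z t x i = z * (z * ee z t x i) := by rw [P.q.zzx]
    calc l j * (t * ee z t x i) * (l j)⁻¹ = (l j * t) * (z * (z * ee z t x i)) * (l j)⁻¹ := by rw [← h2]; group
      _ = (t * l j) * z * ((z * ee z t x i) * (l j)⁻¹) := by rw [Q.q.zc]; group
      _ = (t * l j) * z * ((l j)⁻¹ * (z * ee z t x i)) := by
        congr 1
        rw [eq_inv_mul_iff_mul_eq, ← mul_assoc, ← hlc, mul_inv_cancel_right]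
      _ = t * (l j * z * (l j)⁻¹) * (z * ee z t x i) := by group
      _ = t * (z * ee t z l j) * (z * ee z t x i) := by rw [Q.conj_t h]
      _ = t * (ee t z l j * z) * (z * ee z t x i) := by rw [Q.e_t h]
      _ = t * ee t z l j * (z * z) * ee z t x i := by group
      _ = _ := by rw [P.q.z2, mul_one]
  have h3 : t * ee t z l j * ee z t x i = z := by
    refine hT z _ P.pr.hz ?_ (hj.mul (Inn.of_RZ P.pr.hz h (P.e_mem h i)) P.pr.hz h)
    rw [← h1]; exact (P.te_mem h i).conj h _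
  have h4 : t * ee t z l j = z * ee z t x i := by
    rw [← P.e_inv h i, eq_mul_inv_iff_mul_eq]; exact h3
  exact Q.c_not_CX h j (by rw [h4]; exact hc)

/-- `R_z ∩ X_t = 1` -/
theorem RZ_inf_CX (P : HP Om z t K x) (h : W2 Om) (hT : TO Om) {r : G} (hr : r ∈ RZ Om z) (hc : r ∈ CX Om t) :
    r = 1 := by
  obtain ⟨L, hL⟩ := P.pr.ht
  have hfx : cj r L = L := (Inn.of_CX hc).cj_eq hL h
  rcases P.RZ_comm h hr (CX_le P.pr.ht h hc) with h1 | h1 | ⟨i, h1 | h1⟩
  · exact h1
  · rw [h1] at hfx; exact absurd hfx (P.z_sw h hT hL)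
  · rw [h1] at hfx; exact absurd hfx (P.e_sw h hT i hL)
  · rw [h1] at hc; exact absurd hc (P.c_not_CX' h hT i)

/-- (8.5) `X_t ∩ C(z)` centralises `E_z` -/
theorem comm_e (P : HP Om z t K x) (h : W2 Om) (hT : TO Om) (hy : y ∈ CX Om t) (hyz : y * z = z * y) (i : Fin 3) :
    y * ee z t x i = ee z t x i * y := by
  have h1 : y * ee z t x i * y⁻¹ * (ee z t x i)⁻¹ = 1 := by
    refine P.RZ_inf_CX h hT (mul_mem (RZ_conj_comm h hyz (P.e_mem h i)) (inv_mem (P.e_mem h i))) ?_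
    have h2 : y * ee z t x i * y⁻¹ * (ee z t x i)⁻¹ = y * (ee z t x i * y⁻¹ * (ee z t x i)⁻¹) := by group
    rw [h2]
    exact mul_mem hy (CX_conj_comm h (P.e_t h i) (inv_mem hy))
  rwa [mul_inv_eq_one, mul_inv_eq_iff_eq_mul] at h1

/-- `y` commuting with `t`, `z`, `e_i` and fixing `K` acts on `R_z` as an element of `E_z` -/
theorem cases_of_fix (P : HP Om z t K x) (h : W2 Om) (hyt : y * t = t * y) (hyz : y * z = z * y)
    (hye : ∀ i, y * ee z t x i = ee z t x i * y) (hf : cj y K = K) : y ∈ CX Om z ∨ ∃ j, y * ee z t x j ∈ CX Om z := by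
  have hact : Act z x x y 1 := by
    intro i
    have h1 : y * x i * y⁻¹ ∈ K := by
      have := conj_mem_cj (g := y) (P.q.mem i)
      rwa [hf] at this
    have h2 : y * (t * x i * t⁻¹) * y⁻¹ = t * (y * x i * y⁻¹) * t⁻¹ := by
      have h3 : y * t = t * y := hyt
      have h4 : t⁻¹ * y⁻¹ = y⁻¹ * t⁻¹ := by rw [← mul_inv_rev, ← mul_inv_rev, h3]
      calc y * (t * x i * t⁻¹) * y⁻¹ = (y * t) * x i * (t⁻¹ * y⁻¹) := by group
        _ = (t * y) * x i * (y⁻¹ * t⁻¹) := by rw [h3, h4]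
        _ = _ := by group
    have h3 : (y * x i * y⁻¹) * (t * (y * x i * y⁻¹) * t⁻¹) = x i * (t * x i * t⁻¹) := by
      rw [← h2]
      have h4 : y * (z * ee z t x i) * y⁻¹ = z * ee z t x i := by
        calc y * (z * ee z t x i) * y⁻¹ = (y * z) * ee z t x i * y⁻¹ := by group
          _ = z * (y * ee z t x i) * y⁻¹ := by rw [hyz]; group
          _ = _ := by rw [hye]; group
      rw [← P.xx_eq] at h4
      rw [← h4]; group
    have h5 : (x i)⁻¹ * (y * x i * y⁻¹) = (t * x i * t⁻¹) * (t * (y * x i * y⁻¹) * t⁻¹)⁻¹ := by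
      rw [eq_mul_inv_iff_mul_eq, mul_assoc, h3, inv_mul_cancel_left]
    have h6 : (x i)⁻¹ * (y * x i * y⁻¹) = 1 ∨ (x i)⁻¹ * (y * x i * y⁻¹) = z := by
      refine P.hK.inf (P.hK' h) h P.ne' (mul_mem (inv_mem (P.q.mem i)) h1) ?_
      rw [h5]
      exact mul_mem (P.q'.mem i) (inv_mem (conj_mem_cj h1))
    rcases h6 with h6 | h6
    · left
      exact (inv_mul_eq_one.1 h6).symm
    · right
      rw [inv_mul_eq_iff_eq_mul, ← P.q.zc] at h6
      exact h6
  rcases P.q.inner_cases (hact.inner P.q hyz) with h1 | ⟨j, h1⟩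
  · exact Or.inl (P.mem_CX_of h hyt h1)
  · exact Or.inr ⟨j, P.mul_e_mem h hyt h1⟩

/-- (8.5) `X_t ∩ C(z) ≤ ⟨t⟩ E_z X_z` -/
theorem CX_cases (P : HP Om z t K x) (h : W2 Om) (hT : TO Om) (hy : y ∈ CX Om t) (hyz : y * z = z * y) :
    (cj y K = K ∧ (y ∈ CX Om z ∨ ∃ j, y * ee z t x j ∈ CX Om z)) ∨
      (cj y K ≠ K ∧ (y * t ∈ CX Om z ∨ ∃ j, y * t * ee z t x j ∈ CX Om z)) := by
  have hyt : y * t = t * y := CX_le P.pr.ht h hy
  have hye := P.comm_e h hT hy hyz
  by_cases hf : cj y K = K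
  · exact Or.inl ⟨hf, P.cases_of_fix h hyt hyz hye hf⟩
  · right
    refine ⟨hf, P.cases_of_fix h (by rw [hyt, mul_assoc, hyt]) ?_ ?_ ?_⟩
    · rw [mul_assoc, ← P.pr.comm, ← mul_assoc, hyz, mul_assoc]
    · intro i
      rw [mul_assoc, ← P.e_t h, ← mul_assoc, hye, mul_assoc]
    · refine sw_mul h P.hK (fun M hM => ?_) P.pr.sw hyz P.pr.comm.symm
      rcases P.cases h hM with rfl | rfl
      · exact hf
      · intro h1
        apply hf
        rw [← cj_mul, hyt, cj_mul] at h1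
        exact cj_inj.1 h1

/-- (8.6) -/
theorem exists_eq (P : HP Om z t K x) (Q : HP Om t z L l) (h : W2 Om) (hT : TO Om)
    (hi : Inn Om t (z * ee z t x i)) : ∃ a, t * ee z t x i = z * ee t z l a := by
  have hcz : z * ee z t x i * z = z * (z * ee z t x i) := by rw [mul_assoc, P.e_z h]
  rcases Q.q.inner_cases (hi L Q.hK) with h1 | ⟨a, h1⟩
  · exact absurd (Q.mem_CX_of h hcz h1) (P.c_not_CX' h hT i)
  refine ⟨a, ?_⟩
  set c := z * ee z t x i with hc
  set f := ee t z l a with hf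
  have hcf : c * f ∈ CX Om t := Q.mul_e_mem h hcz h1
  have hcfz : c * f * z = z * (c * f) := by rw [mul_assoc, Q.e_t h, ← mul_assoc, hcz, mul_assoc]
  have hcInn : Inn Om z c := Inn.of_RZ P.pr.hz h (mul_mem (z_mem_RZ P.pr.hz h) (P.e_mem h i))
  -- `c f` moves `K`
  have hmv : cj (c * f) K ≠ K := by
    intro h2
    apply Q.e_sw h hT a P.hK
    rw [cj_mul] at h2
    have h3 := hcInn.cj_eq P.hK h
    exact cj_inj.1 (h2.trans h3.symm)
  have hInn : Inn Om z (c * f * t) := by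
    rcases P.CX_cases h hT hcf hcfz with ⟨h2, -⟩ | ⟨-, h2 | ⟨j, h2⟩⟩
    · exact absurd h2 hmv
    · exact Inn.of_CX h2
    · exact (Inn.of_RZ P.pr.hz h (P.e_mem h j)).mul_right (Inn.of_CX h2) P.pr.hz h
  have hft : f * t = t * f := Q.e_z h a
  have hInn' : Inn Om z (t * f) := by
    rw [mul_assoc, hft] at hInn
    exact hcInn.mul_left hInn P.pr.hz h
  -- conjugate `t e_i` by `l a`
  have hlc : c * l a = l a * c := by
    have := h1 (l a) (Q.q.mem a)
    rwa [Q3.conj_self, mul_inv_eq_iff_eq_mul] at this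
  have h2 : l a * (t * ee z t x i) * (l a)⁻¹ = t * f * ee z t x i := by
    have h3 : ee z t x i = z * c := by rw [hc, P.q.zzx]
    calc l a * (t * ee z t x i) * (l a)⁻¹ = (l a * t) * (z * c) * (l a)⁻¹ := by rw [← h3]; group
      _ = (t * l a) * z * (c * (l a)⁻¹) := by rw [Q.q.zc]; group
      _ = (t * l a) * z * ((l a)⁻¹ * c) := by
        congr 1
        rw [eq_inv_mul_iff_mul_eq, ← mul_assoc, ← hlc, mul_inv_cancel_right]
      _ = t * (l a * z * (l a)⁻¹) * c := by group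
      _ = t * (z * f) * c := by rw [Q.conj_t h]
      _ = t * (f * z) * c := by rw [hf, Q.e_t h]
      _ = t * f * (z * c) := by group
      _ = _ := by rw [← h3]
  have h3 : t * f * ee z t x i = z := by
    refine hT z _ P.pr.hz ?_ (hInn'.mul (Inn.of_RZ P.pr.hz h (P.e_mem h i)) P.pr.hz h)
    rw [← h2]; exact (P.te_mem h i).conj h _
  have h4 : t * f = z * ee z t x i := by
    rw [← P.e_inv h i, eq_mul_inv_iff_mul_eq]; exact h3
  have h5 : f = t * (z * ee z t x i) := by rw [← h4, ← mul_assoc, P.t2 h, one_mul]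
  rw [h5]
  calc t * ee z t x i = t * (z * (z * ee z t x i)) := by rw [P.q.zzx]
    _ = (t * z) * (z * ee z t x i) := by group
    _ = (z * t) * (z * ee z t x i) := by rw [P.pr.comm]
    _ = _ := by group

end HP

end Cfsg.Agent.Cit.Nil.RTwo
end

-- part: Cit/Nil/RTwo/TTwo
section
/-!
# S1309, `r = 2`, `m = 1`: the T-only world, (8.7)-(8.9)

* `HP.all_inn` (8.7): all four graphs are equal;
* `FP` : pair of type p with adapted coordinates (`t e_i = z f_i`), `PR.exists_fp`;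
* `FP.cases` (8.8), `FP.eq_of` (8.9), `PR.cent` : `[X_z, t] = 1` (Z*).
-/

set_option autoImplicit false
set_option linter.unusedSectionVars false

namespace Cfsg.Agent.Cit.Nil.RTwo

open Subgroup Cfsg Cfsg.Agent.Cit

/-- Glauberman's Z*-theorem for an involution `u` of the subgroup `X`. -/
theorem zstar_sub {G : Type*} [Group G] [Finite G] {X : Subgroup G} {u : G} (huX : u ∈ X) (hu2 : u * u = 1)
    (hu1 : u ≠ 1) : (∃ h ∈ X, h * u * h⁻¹ ≠ u ∧ u * (h * u * h⁻¹) = h * u * h⁻¹ * u) ∨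
      ∃ N : Subgroup G, N ≤ X ∧ Odd (Nat.card N) ∧ (∀ x ∈ X, ∀ n ∈ N, x * n * x⁻¹ ∈ N) ∧
        ∀ x ∈ X, u * x * u⁻¹ * x⁻¹ ∈ N := by
  by_cases hiso : Cfsg.IsIsolatedInvolution (⟨u, huX⟩ : X)
  · right
    have hI : Cfsg.Agent.Involutions.ZStar.Iso (⟨u, huX⟩ : X) := by
      refine ⟨Subtype.ext hu2, fun g => ?_⟩
      have h1 := Cfsg.Agent.TwoFusion.Isolated.odd_orderOf_conj_mul hiso g
      have h2 : (⟨u, huX⟩ : X) * (g * ⟨u, huX⟩ * g⁻¹) =
          (⟨u, huX⟩ : X) * (g * ⟨u, huX⟩ * g⁻¹ * ⟨u, huX⟩) * (⟨u, huX⟩ : X)⁻¹ := by group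
      rw [h2]
      have h3 := (MulAut.conj (⟨u, huX⟩ : X)).orderOf_eq (g * ⟨u, huX⟩ * g⁻¹ * ⟨u, huX⟩)
      rw [MulAut.conj_apply] at h3
      rw [h3]
      exact h1
    have h1 := Cfsg.Agent.S0215.iso_commutator _ hI
    refine ⟨(pPrimeCore 2 X).map X.subtype, Subgroup.map_subtype_le _, ?_, ?_, ?_⟩
    · have h3 : Nat.card ((pPrimeCore 2 X).map X.subtype) = Nat.card (pPrimeCore 2 X) :=
        Subgroup.card_map_of_injective X.subtype_injective
      rw [h3]
      exact Nat.coprime_two_right.mp (Cfsg.Agent.Lib.Cores.pPrimeCore_coprime (G := X) 2)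
    · rintro x hx _ ⟨n, hn, rfl⟩
      exact ⟨⟨x, hx⟩ * n * ⟨x, hx⟩⁻¹, (inferInstance : (pPrimeCore 2 X).Normal).conj_mem n hn ⟨x, hx⟩, rfl⟩
    · intro x hx
      exact ⟨_, h1 ⟨x, hx⟩, rfl⟩
  · left
    rw [Cfsg.IsIsolatedInvolution, not_and_or] at hiso
    rcases hiso with h | h
    · exact absurd (orderOf_eq_prime (Subtype.ext (by rw [pow_two]; exact hu2))
        (fun h1 => hu1 (congrArg Subtype.val h1))) h
    · push Not at h
      obtain ⟨⟨g, hg⟩, h1, h2⟩ := h
      refine ⟨g, hg, fun h3 => h2 (Subtype.ext h3), ?_⟩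
      exact congrArg Subtype.val h1

variable {G : Type*} [Group G] [Finite G] {Om : Set (Subgroup G)} {K L M : Subgroup G} {g t x y z s : G}

/-- `O(C(z)) = 1` for `z ∈ Z` -/
def CF (Om : Set (Subgroup G)) : Prop := ∀ z : G, InZ Om z → OO (centralizer {z}) = ⊥

theorem CX_le_centralizer (h : W2 Om) (hz : InZ Om z) : CX Om z ≤ centralizer {z} := by
  intro g hg
  rw [mem_centralizer_singleton_iff]
  exact CX_le hz h hg

theorem cj_CX (h : W2 Om) (hg : g * z = z * g) : cj g (CX Om z) = CX Om z := by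
  ext y
  rw [mem_cj]
  constructor
  · intro hy
    have := CX_conj_comm h hg hy
    have h1 : g * (g⁻¹ * y * g) * g⁻¹ = y := by group
    rwa [h1] at this
  · intro hy
    have hg' : g⁻¹ * z = z * g⁻¹ := by
      rw [inv_mul_eq_iff_eq_mul, ← mul_assoc, hg, mul_inv_cancel_right]
    have := CX_conj_comm h hg' hy
    rwa [inv_inv] at this

/-- subgroups of odd order of `X_z` normalised by `X_z` are trivial -/
theorem CX_odd (h : W2 Om) (hF : CF Om) (hz : InZ Om z) {N : Subgroup G} (hN : N ≤ CX Om z)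
    (hn : CX Om z ≤ normalizer (N : Set G)) (ho : ¬ 2 ∣ Nat.card N) : N = ⊥ := by
  have h1 : N ≤ OO (CX Om z) := le_OO hN hn ho
  have h2 : OO (CX Om z) ≤ OO (centralizer {z}) := by
    refine le_OO ((OO_le _).trans (CX_le_centralizer h hz)) ?_ (odd_OO _)
    intro g hg
    rw [mem_normalizer_iff_cj]
    exact LB.cj_OO_eq (cj_CX h (mem_centralizer_singleton_iff.1 hg))
  rw [hF z hz] at h2
  exact le_bot_iff.1 (h1.trans h2)

theorem perm_key (π : Equiv.Perm (Fin 3)) (a j : Fin 3) (h1 : π ≠ 1) (h2 : π * π = 1) (h3 : π a = a) :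
    (π j = j ∧ a = j) ∨ (π j = j + 1 ∧ a = j + 2) ∨ (π j = j + 2 ∧ a = j + 1) := by
  revert π a j; decide

namespace HP

variable {x l : Fin 3 → G} {i j : Fin 3}

/-- `y` fixing `K` and commuting with `z`, `e_j` maps `x j` to itself modulo `z` -/
theorem fix_of_comm (P : HP Om z t K x) (h : W2 Om) (hyz : y * z = z * y) (hf : cj y K = K)
    (hye : y * ee z t x j = ee z t x j * y) : y * x j * y⁻¹ = x j ∨ y * x j * y⁻¹ = z * x j := by
  have hf' : cj y (cj t K) = cj t K := by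
    rcases P.cases h ((P.hK' h).cj_comm h hyz) with h1 | h1
    · exact absurd (cj_inj.1 (h1.trans hf.symm)).symm P.ne'
    · exact h1
  have h1 : y * x j * y⁻¹ ∈ K := by
    have := conj_mem_cj (g := y) (P.q.mem j)
    rwa [hf] at this
  have h2 : y * (t * x j * t⁻¹) * y⁻¹ ∈ cj t K := by
    have := conj_mem_cj (g := y) (P.q'.mem j)
    rwa [hf'] at this
  have h3 : (y * x j * y⁻¹) * (y * (t * x j * t⁻¹) * y⁻¹) = x j * (t * x j * t⁻¹) := by
    have h4 : y * (z * ee z t x j) * y⁻¹ = z * ee z t x j := by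
      calc y * (z * ee z t x j) * y⁻¹ = (y * z) * ee z t x j * y⁻¹ := by group
        _ = z * (y * ee z t x j) * y⁻¹ := by rw [hyz]; group
        _ = _ := by rw [hye]; group
    rw [← P.xx_eq] at h4
    rw [← h4]; group
  have h5 : (x j)⁻¹ * (y * x j * y⁻¹) = (t * x j * t⁻¹) * (y * (t * x j * t⁻¹) * y⁻¹)⁻¹ := by
    rw [eq_mul_inv_iff_mul_eq, mul_assoc, h3, inv_mul_cancel_left]
  have h6 : (x j)⁻¹ * (y * x j * y⁻¹) = 1 ∨ (x j)⁻¹ * (y * x j * y⁻¹) = z := by
    refine P.hK.inf (P.hK' h) h P.ne' (mul_mem (inv_mem (P.q.mem j)) h1) ?_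
    rw [h5]
    exact mul_mem (P.q'.mem j) (inv_mem h2)
  rcases h6 with h6 | h6
  · left
    exact (inv_mul_eq_one.1 h6).symm
  · right
    rw [inv_mul_eq_iff_eq_mul, ← P.q.zc] at h6
    exact h6

/-- (8.7), main step -/
theorem all_inn_aux (P : HP Om z t K x) (h : W2 Om) (hT : TO Om) (h0 : Inn Om t (z * ee z t x 0))
    (h1 : ¬ Inn Om t (z * ee z t x 1)) (h2 : ¬ Inn Om t (z * ee z t x 2)) : False := by
  obtain ⟨L, l, Q⟩ := (P.pr.symm h hT).exists_hp h
  obtain ⟨a, ha⟩ := P.exists_eq Q h hT h0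
  set s := t * ee z t x 1 with hs
  have N : HP Om t s L l := ⟨P.pr_tte h hT 1, Q.hK, Q.q⟩
  obtain ⟨j, hj⟩ := N.exists_inn h hT
  obtain ⟨M, m, Mh⟩ := (N.pr.symm h hT).exists_hp h
  obtain ⟨b, hb⟩ := N.exists_eq Mh h hT hj
  have t2 : t * t = 1 := P.t2 h
  have s2 : s * s = 1 := N.t2 h
  have hts : t * s = s * t := N.pr.comm
  have hzs : z * s = s * z := (P.pr_te h 1).comm
  have hzt : z * t = t * z := P.pr.comm
  have hzS : InZ Om s := N.pr.ht
  have htZ : InZ Om t := P.pr.ht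
  -- `p j ∈ R_s`
  have hp : t * ee t s l j ∈ RZ Om s := by
    have h3 : t * ee t s l j = s * ee s t m b := by
      have h4 : ee t s l j = s * (t * ee s t m b) := by rw [← hb, ← mul_assoc, s2, one_mul]
      rw [h4]
      calc t * (s * (t * ee s t m b)) = (t * s) * t * ee s t m b := by group
        _ = (s * t) * t * ee s t m b := by rw [hts]
        _ = s * (t * t) * ee s t m b := by group
        _ = _ := by rw [t2, mul_one]
    rw [h3]
    exact mul_mem (z_mem_RZ hzS h) (Mh.e_mem h b)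
  -- `g = z e_0 = t f_a`
  set c := z * ee z t x 0 with hc
  have hca : c = t * ee t z l a := by
    have h3 : ee t z l a = z * (t * ee z t x 0) := by rw [ha, P.q.zzx]
    rw [h3, hc]
    calc z * ee z t x 0 = z * (t * t) * ee z t x 0 := by rw [t2, mul_one]
      _ = (z * t) * t * ee z t x 0 := by group
      _ = (t * z) * t * ee z t x 0 := by rw [hzt]
      _ = _ := by group
  -- the element `y = z s`
  obtain ⟨y, hy⟩ : ∃ y, y = z * s := ⟨_, rfl⟩
  have hyt : y * t = t * y := by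
    rw [hy]
    calc z * s * t = z * (s * t) := by group
      _ = (z * t) * s := by rw [← hts]; group
      _ = t * (z * s) := by rw [hzt]; group
  have hy2 : y * y = 1 := by
    rw [hy]
    calc z * s * (z * s) = z * (s * z) * s := by group
      _ = (z * z) * (s * s) := by rw [← hzs]; group
      _ = 1 := by rw [P.q.z2, s2, one_mul]
  have hyz : y * z = z * y := by
    rw [hy]
    calc z * s * z = z * (s * z) := by group
      _ = z * (z * s) := by rw [hzs]
  have hfL : cj y L = L := by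
    rw [hy]; exact sw_mul h Q.hK Q.pr.sw N.pr.sw hzt hts.symm
  obtain ⟨π, hπ⟩ := Q.q.exists_act Q.q hfL hyt
  have hππ : π * π = 1 := by
    have h3 := hπ.comp Q.q.z2 hπ hyt
    rw [hy2] at h3
    exact h3.unique Q.q (Act.one l t)
  have hπ1 : π ≠ 1 := by
    intro h3
    rw [h3] at hπ
    have h4 := Q.inn_of h hyz (hπ.inner Q.q hyt)
    apply h1
    have h5 : y = t * (z * ee z t x 1) := by
      rw [hy, hs]
      calc z * (t * ee z t x 1) = (z * t) * ee z t x 1 := by group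
        _ = _ := by rw [hzt]; group
    rw [h5] at h4
    exact (Inn.of_CX (z_mem_CX h)).mul_left h4 htZ h
  -- `π a = a`
  have hπa : π a = a := by
    have h3 : y * ee t z l a = ee t z l a * y := by
      have h4 : y * c = c * y := by
        have h5 : s * c = c * s := by
          rw [hs, hc]
          calc t * ee z t x 1 * (z * ee z t x 0) = t * (ee z t x 1 * z) * ee z t x 0 := by group
            _ = t * (z * ee z t x 1) * ee z t x 0 := by rw [P.e_z h]
            _ = (t * z) * (ee z t x 1 * ee z t x 0) := by group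
            _ = (z * t) * (ee z t x 0 * ee z t x 1) := by rw [P.e_comm h 1 0, hzt]
            _ = z * (t * ee z t x 0) * ee z t x 1 := by group
            _ = z * (ee z t x 0 * t) * ee z t x 1 := by rw [P.e_t h]
            _ = _ := by group
        have h6 : z * c = c * z := by rw [hc, mul_assoc, P.e_z h]
        rw [hy]
        calc z * s * c = z * (s * c) := by group
          _ = (z * c) * s := by rw [h5]; group
          _ = (c * z) * s := by rw [h6]
          _ = _ := by group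
      have h5 : ee t z l a = t * c := by rw [hca, ← mul_assoc, t2, one_mul]
      calc y * ee t z l a = (y * t) * c := by rw [h5]; group
        _ = t * (y * c) := by rw [hyt]; group
        _ = (t * c) * y := by rw [h4]; group
        _ = _ := by rw [← h5]
    have h4 := Q.fix_of_comm h hyt hfL h3
    rcases hπ a with h5 | h5 <;> rcases h4 with h6 | h6
    · exact (Q.q.inj (Or.inl (h6.symm.trans h5))).symm
    · exact Q.q.inj (Or.inr (h5.symm.trans h6))
    · exact (Q.q.inj (Or.inr (h6.symm.trans h5))).symm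
    · exact (Q.q.inj (Or.inl (mul_left_cancel (h6.symm.trans h5)))).symm
  -- `z (y l_j y⁻¹)`-relation: `z l_j z⁻¹ = s (y l_j y⁻¹) s⁻¹`
  have hrel : ∀ i, z * l i * z⁻¹ = s * (y * l i * y⁻¹) * s⁻¹ := by
    intro i
    have h3 : s * y = z := by
      rw [hy, hzs, ← mul_assoc, s2, one_mul]
    calc z * l i * z⁻¹ = (s * y) * l i * (s * y)⁻¹ := by rw [h3]
      _ = _ := by group
  -- `p_{π j} ∈ R_s`
  have hconj : ∀ i, z * (t * ee t s l i) * z⁻¹ = t * ee t s l (π i) := by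
    intro i
    rw [← N.xx_eq, ← N.xx_eq]
    have h3 : z * (l i * (s * l i * s⁻¹)) * z⁻¹ = (z * l i * z⁻¹) * (y * l i * y⁻¹) := by
      rw [hy]; group
    rw [h3, hrel]
    rcases hπ i with h4 | h4
    · rw [h4]
      exact (N.xx' h _ _).symm
    · rw [h4]
      calc s * (t * l (π i)) * s⁻¹ * (t * l (π i)) = (s * t) * l (π i) * s⁻¹ * t * l (π i) := by group
        _ = (t * s) * l (π i) * s⁻¹ * t * l (π i) := by rw [hts]
        _ = t * ((s * l (π i) * s⁻¹) * t) * l (π i) := by group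
        _ = t * (t * (s * l (π i) * s⁻¹)) * l (π i) := by rw [← N.q'.zc (π i)]
        _ = (t * t) * ((s * l (π i) * s⁻¹) * l (π i)) := by group
        _ = _ := by rw [t2, one_mul]; exact (N.xx' h _ _).symm
  have hpπ : t * ee t s l (π j) ∈ RZ Om s := by
    rw [← hconj]
    exact RZ_conj_comm h hzs hp
  -- `p_a ∈ R_s`
  have hpa : t * ee t s l a ∈ RZ Om s := by
    rcases perm_key π a j hπ1 hππ hπa with ⟨-, h3⟩ | ⟨h3, h4⟩ | ⟨h3, h4⟩
    · rw [h3]; exact hp
    · rw [h3] at hpπ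
      have h5 := mul_mem hp hpπ
      rw [N.c_mul h, N.e_mul h] at h5
      rw [h4]; exact h5
    · rw [h3] at hpπ
      have h5 := mul_mem hpπ hp
      have h6 := N.e_mul h (j + 2)
      rw [i21, i22] at h6
      rw [N.c_mul h, h6] at h5
      rw [h4]; exact h5
  -- `g = p_a` or `t p_a`
  have hcp : c ∈ RZ Om s ∨ t * c ∈ RZ Om s := by
    have h3 : c = l a * (z * l a * z⁻¹) := by rw [hca, ← Q.xx_eq]
    have h4 : t * ee t s l a = l a * (s * l a * s⁻¹) := by rw [← N.xx_eq]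
    have h5 := hπ a
    rw [hπa] at h5
    rw [hrel] at h3
    rcases h5 with h5 | h5
    · left
      rw [h3, h5, ← h4]; exact hpa
    · right
      have h6 : t * c = t * ee t s l a := by
        rw [h3, h5, h4]
        calc t * (l a * (s * (t * l a) * s⁻¹)) = t * (l a * ((s * t) * l a * s⁻¹)) := by group
          _ = t * (l a * ((t * s) * l a * s⁻¹)) := by rw [hts]
          _ = t * (l a * t) * (s * l a * s⁻¹) := by group
          _ = t * (t * l a) * (s * l a * s⁻¹) := by rw [Q.q.zc]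
          _ = (t * t) * (l a * (s * l a * s⁻¹)) := by group
          _ = _ := by rw [t2, one_mul]
      rw [h6]; exact hpa
  -- conjugation by `x 1`
  have k1 : x 1 * t * (x 1)⁻¹ = s := P.conj_t h 1
  have k2 : x 1 * s * (x 1)⁻¹ = t := by
    calc x 1 * s * (x 1)⁻¹ = (x 1 * t * (x 1)⁻¹) * (x 1 * ee z t x 1 * (x 1)⁻¹) := by rw [hs]; group
      _ = t * ee z t x 1 * ee z t x 1 := by rw [P.conj_t h, P.x_e_self h]
      _ = t := by rw [mul_assoc, P.e_sq h, mul_one]
  have k3 : x 1 * c * (x 1)⁻¹ = ee z t x 0 := by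
    calc x 1 * c * (x 1)⁻¹ = (x 1 * z) * ee z t x 0 * (x 1)⁻¹ := by rw [hc]; group
      _ = z * (x 1 * ee z t x 0 * (x 1)⁻¹) := by rw [← P.q.zc]; group
      _ = _ := by rw [P.x_e_ne h (by decide), P.q.zzx]
  have hct : c ∈ RZ Om t := by
    rw [hca]; exact mul_mem (z_mem_RZ htZ h) (Q.e_mem h a)
  rcases hcp with h3 | h3
  · have h4 := RZ_conj h (x 1) hct
    rw [k1, k3] at h4
    have h5 : z ∈ RZ Om s := by
      have h6 := mul_mem h3 h4
      rwa [hc, mul_assoc, P.e_sq h, mul_one] at h6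
    exact (P.pr_te h 1).ne (eq_of_RZ h hT hzS P.pr.hz h5)
  · have h4 := RZ_conj h (x 1) h3
    have h5 : x 1 * (t * c) * (x 1)⁻¹ = t * (z * ee z t x 2) := by
      calc x 1 * (t * c) * (x 1)⁻¹ = (x 1 * t * (x 1)⁻¹) * (x 1 * c * (x 1)⁻¹) := by group
        _ = t * (ee z t x 1 * ee z t x 0) := by rw [k1, k3, hs]; group
        _ = _ := by rw [show (1 : Fin 3) = 0 + 1 from rfl, P.e_mul' h]; rfl
    rw [k2, h5] at h4
    apply h2
    refine Inn.of_RZ htZ h ?_
    have h6 := mul_mem (z_mem_RZ htZ h) h4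
    rwa [← mul_assoc, t2, one_mul] at h6

/-- (8.7) -/
theorem all_inn (P : HP Om z t K x) (h : W2 Om) (hT : TO Om) (i : Fin 3) : Inn Om t (z * ee z t x i) := by
  obtain ⟨i0, h0⟩ := P.exists_inn h hT
  have P' := P.rot i0
  have hzt := P.pr.ht
  have h0' : Inn Om t (z * ee z t (fun i => x (i + i0)) 0) := by
    show Inn Om t (z * (z * x (0 + i0) * (t * x (0 + i0) * t⁻¹)))
    rw [zero_add]; exact h0
  have hm : z * ee z t (fun i => x (i + i0)) 0 * (z * ee z t (fun i => x (i + i0)) 1) =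
      z * ee z t (fun i => x (i + i0)) 2 := by
    rw [P'.c_mul h, show (1 : Fin 3) = 0 + 1 from rfl, P'.e_mul h]; rfl
  have key : Inn Om t (z * ee z t (fun i => x (i + i0)) 1) ∧ Inn Om t (z * ee z t (fun i => x (i + i0)) 2) := by
    by_cases h1 : Inn Om t (z * ee z t (fun i => x (i + i0)) 1)
    · refine ⟨h1, ?_⟩
      rw [← hm]; exact h0'.mul h1 hzt h
    · by_cases h2 : Inn Om t (z * ee z t (fun i => x (i + i0)) 2)
      · rw [← hm] at h2
        exact absurd (h0'.mul_left h2 hzt h) h1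
      · exact (P'.all_inn_aux h hT h0' h1 h2).elim
  have h3 : ∀ i i0 : Fin 3, i = 0 + i0 ∨ i = 1 + i0 ∨ i = 2 + i0 := by decide
  rcases h3 i i0 with h4 | h4 | h4
  · rw [h4]; exact h0'
  · rw [h4]; exact key.1
  · rw [h4]; exact key.2

end HP

/-- pair of type p with adapted coordinates -/
structure FP (Om : Set (Subgroup G)) (z t : G) (K : Subgroup G) (x : Fin 3 → G) (L : Subgroup G)
    (l : Fin 3 → G) : Prop where
  P : HP Om z t K x
  Q : HP Om t z L l
  eq : ∀ i, t * ee z t x i = z * ee t z l i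

theorem HP.e_inj {x : Fin 3 → G} (P : HP Om z t K x) (h : W2 Om) {i j : Fin 3} (hij : ee z t x i = ee z t x j) :
    i = j := by
  by_contra hne
  have h1 := P.x_e_ne h hne
  rw [← hij, P.x_e_self h] at h1
  exact P.q.z1 (mul_eq_right.1 h1.symm)

theorem HP.exists_fp {x l : Fin 3 → G} (P : HP Om z t K x) (Q : HP Om t z L l) (h : W2 Om) (hT : TO Om) :
    ∃ l', FP Om z t K x L l' := by
  have h1 : ∀ i, ∃ a, t * ee z t x i = z * ee t z l a := fun i => P.exists_eq Q h hT (P.all_inn h hT i)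
  choose a ha using h1
  have hinj : Function.Injective a := by
    intro i j hij
    apply P.e_inj h
    have h2 := ha i
    rw [hij, ← ha j] at h2
    exact mul_left_cancel h2
  obtain ⟨l', hl', hσ⟩ := Q.q.perm (Equiv.ofBijective a (Finite.injective_iff_bijective.1 hinj))
  refine ⟨l', P, ⟨Q.pr, Q.hK, hl'⟩, fun i => ?_⟩
  rw [ha i]
  congr 1
  have h2 : l' i = l (a i) ∨ l' i = t * l (a i) := hσ i
  rcases h2 with h2 | h2
  · rw [ee, ee, h2]
  · rw [ee, ee, h2]
    have hzt : z * t = t * z := P.pr.comm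
    calc t * l (a i) * (z * l (a i) * z⁻¹)
        = t * l (a i) * (z * l (a i) * z⁻¹) * (t * t) := by rw [P.t2 h, mul_one]
      _ = t * (l (a i) * t) * (z * l (a i) * z⁻¹) * t := by
        have h3 := Q.q'.zc (a i)
        have h4 := Q.q.zc (a i)
        calc t * l (a i) * (z * l (a i) * z⁻¹) * (t * t) = t * l (a i) * ((z * l (a i) * z⁻¹) * t) * t := by group
          _ = t * l (a i) * (t * (z * l (a i) * z⁻¹)) * t := by rw [h3]
          _ = _ := by group
      _ = t * (t * l (a i)) * ((z * l (a i) * z⁻¹) * t) := by rw [Q.q.zc]; group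
      _ = t * (t * l (a i)) * (t * (z * l (a i) * z⁻¹)) := by rw [← Q.q'.zc (a i)]
      _ = t * (t * l (a i)) * ((t * z) * l (a i) * z⁻¹) := by group
      _ = _ := by rw [← hzt]; group

theorem PR.exists_fp (hp : PR Om z t) (h : W2 Om) (hT : TO Om) : ∃ K x L l, FP Om z t K x L l := by
  obtain ⟨K, x, P⟩ := hp.exists_hp h
  obtain ⟨L, l, Q⟩ := (hp.symm h hT).exists_hp h
  obtain ⟨l', hl'⟩ := P.exists_fp Q h hT
  exact ⟨K, x, L, l', hl'⟩

namespace FP

variable {x l : Fin 3 → G} {i j : Fin 3}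

theorem symm (F : FP Om z t K x L l) : FP Om t z L l K x := ⟨F.Q, F.P, fun i => (F.eq i).symm⟩

/-- `l_i z l_i⁻¹ = x_i t x_i⁻¹` -/
theorem conj_eq (F : FP Om z t K x L l) (h : W2 Om) (i : Fin 3) : l i * z * (l i)⁻¹ = x i * t * (x i)⁻¹ := by
  rw [F.Q.conj_t h, F.P.conj_t h]; exact (F.eq i).symm

theorem mem_of_mul (F : FP Om z t K x L l) (h : W2 Om) (hy : y ∈ CX Om z) (hyf : y * ee t z l j ∈ CX Om t) :
    y ∈ CX Om t := by
  -- `y` commutes with `l j`
  have h1 : y * l j = l j * y := by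
    have h2 : y * ee t z l j * l j = l j * (y * ee t z l j) := mem_CX.1 hyf L F.Q.hK _ (F.Q.q.mem j)
    have h3 : ee t z l j * l j = l j * ee t z l j := by
      have := F.Q.x_e_self h j
      rw [mul_inv_eq_iff_eq_mul] at this
      exact this.symm
    have h4 : y * l j * ee t z l j = l j * y * ee t z l j := by
      rw [mul_assoc, ← h3, ← mul_assoc, h2, mul_assoc]
    exact mul_right_cancel h4
  have h2 : y ∈ CX Om (l j * z * (l j)⁻¹) := by
    have := (CX_conj h (l j)).2 hy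
    rwa [← h1, mul_inv_cancel_right] at this
  rw [F.conj_eq h] at h2
  have h3 : x j * y * (x j)⁻¹ = y := by
    rw [← mem_CX.1 hy K F.P.hK _ (F.P.q.mem j), mul_inv_cancel_right]
  rw [← h3] at h2
  exact (CX_conj h (x j)).1 h2

/-- (8.8) -/
theorem cases (F : FP Om z t K x L l) (h : W2 Om) (hT : TO Om) (hy : y ∈ CX Om z) (hyt : y * t = t * y) :
    y ∈ CX Om t ∨ y * z ∈ CX Om t := by
  rcases F.Q.CX_cases h hT hy hyt with ⟨-, h1 | ⟨j, h1⟩⟩ | ⟨-, h1 | ⟨j, h1⟩⟩
  · exact Or.inl h1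
  · exact Or.inl (F.mem_of_mul h hy h1)
  · exact Or.inr h1
  · exact Or.inr (F.mem_of_mul h (mul_mem hy (z_mem_CX h)) h1)

/-- (8.9) -/
theorem eq_of (F : FP Om z t K x L l) (h : W2 Om) (hT : TO Om) {t' : G} (ht' : InZ Om t') (hc : t * t' = t' * t)
    (hm : t * t' ∈ CX Om z) : t' = t := by
  have htZ := F.P.pr.ht
  have hzZ := F.P.pr.hz
  have hct : t * t' * t = t * (t * t') := by rw [mul_assoc, ← hc]
  have t2 : t * t = 1 := F.P.t2 h
  rcases F.cases h hT hm hct with h1 | h1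
  · exact hT t t' htZ ht' ((Inn.of_CX (z_mem_CX h)).mul_left (Inn.of_CX h1) htZ h)
  · exfalso
    set y := t * t' * z with hy
    have hyz : y ∈ CX Om z := mul_mem hm (z_mem_CX h)
    have ht'y : t' = t * y * z := by
      rw [hy]
      calc t' = (t * t) * t' := by rw [t2, one_mul]
        _ = t * (t * t') * (z * z) := by rw [F.P.q.z2]; group
        _ = _ := by group
    have hyz' : y * z = z * y := CX_le hzZ h hyz
    have h2 : l 0 * t' * (l 0)⁻¹ = ee z t x 0 * y := by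
      have hly : l 0 * y = y * l 0 := (mem_CX.1 h1 L F.Q.hK _ (F.Q.q.mem 0)).symm
      calc l 0 * t' * (l 0)⁻¹ = (l 0 * t) * y * z * (l 0)⁻¹ := by rw [ht'y]; group
        _ = t * (l 0 * y) * z * (l 0)⁻¹ := by rw [← F.Q.q.zc]; group
        _ = t * y * (l 0 * z * (l 0)⁻¹) := by rw [hly]; group
        _ = t * y * (x 0 * t * (x 0)⁻¹) := by rw [F.conj_eq h]
        _ = t * (y * t) * ee z t x 0 := by rw [F.P.conj_t h]; group
        _ = t * (t * y) * ee z t x 0 := by rw [CX_le htZ h h1]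
        _ = y * ee z t x 0 := by rw [← mul_assoc, t2, one_mul]
        _ = _ := CX_comm (F.P.e_mem h 0) hyz
    have h3 : ee z t x 0 * y = z := by
      refine hT z _ hzZ ?_ ((Inn.of_RZ hzZ h (F.P.e_mem h 0)).mul (Inn.of_CX hyz) hzZ h)
      rw [← h2]; exact ht'.conj h _
    apply F.P.e_not_CX h 0
    have h4 : ee z t x 0 = z * y⁻¹ := by rw [eq_mul_inv_iff_mul_eq]; exact h3
    rw [h4]
    exact mul_mem (z_mem_CX h) (inv_mem hyz)

end FP

/-- (8.9) + Z*: `[X_z, t] = 1` -/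
theorem PR.cent (hp : PR Om z t) (h : W2 Om) (hT : TO Om) (hF : CF Om) (hx : x ∈ CX Om z) : x * t = t * x := by
  obtain ⟨K, a, L, l, F⟩ := hp.exists_fp h hT
  have htz : t * z = z * t := hp.comm.symm
  have hzZ := hp.hz
  have htn : ∀ y ∈ CX Om z, t * y * t⁻¹ ∈ CX Om z := fun y hy => CX_conj_comm h htz hy
  have htn' : zpowers t ≤ normalizer (CX Om z : Set G) := by
    rw [zpowers_le, mem_normalizer_iff_cj]
    exact cj_CX h htz
  have ht1 : t ≠ 1 := hp.ht.z1 h
  rcases zstar_sub (X := CX Om z ⊔ zpowers t) (u := t) (mem_sup_right (mem_zpowers t)) (hp.t2 h) ht1 with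
    ⟨g, hg, hne, hc⟩ | ⟨N, hNX, hodd, hNn, hN⟩
  · exfalso
    obtain ⟨y, hy, u, hu, rfl⟩ := LB.exists_mul_of_mem_sup htn' hg
    have hut : u * t * u⁻¹ = t := by
      obtain ⟨k, rfl⟩ := mem_zpowers_iff.1 hu
      rw [← ((Commute.refl t).zpow_right k).eq, mul_inv_cancel_right]
    have h1 : y * u * t * (y * u)⁻¹ = y * t * y⁻¹ := by
      calc y * u * t * (y * u)⁻¹ = y * (u * t * u⁻¹) * y⁻¹ := by group
        _ = _ := by rw [hut]
    rw [h1] at hne hc
    apply hne
    refine F.eq_of h hT (hp.ht.conj h y) hc ?_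
    have h2 : t * (y * t * y⁻¹) = (t * y * t⁻¹) * (t * t) * y⁻¹ := by group
    rw [h2, hp.t2 h, mul_one]
    exact mul_mem (htn y hy) (inv_mem hy)
  · have h1 : N ⊓ CX Om z = ⊥ := by
      refine CX_odd h hF hzZ inf_le_right ?_ ?_
      · intro g hg
        rw [mem_normalizer_iff_cj, cj_inf, mem_normalizer_iff_cj.1 (le_normalizer hg)]
        congr 1
        refine le_antisymm ?_ ?_
        · rintro _ ⟨n, hn, rfl⟩
          exact hNn g (mem_sup_left hg) n hn
        · intro n hn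
          rw [mem_cj]
          have := hNn g⁻¹ (mem_sup_left ((CX Om z).inv_mem hg)) n hn
          rwa [inv_inv] at this
      · intro h2
        have h3 := h2.trans (card_dvd_of_le (inf_le_left : N ⊓ CX Om z ≤ N))
        rw [← Nat.not_even_iff_odd, even_iff_two_dvd] at hodd
        exact hodd h3
    have h2 : t * x * t⁻¹ * x⁻¹ ∈ N ⊓ CX Om z :=
      ⟨hN x (mem_sup_left hx), (CX Om z).mul_mem (htn x hx) ((CX Om z).inv_mem hx)⟩
    rw [h1, Subgroup.mem_bot, mul_inv_eq_one, mul_inv_eq_iff_eq_mul] at h2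
    exact h2.symm

end Cfsg.Agent.Cit.Nil.RTwo
end

private theorem dce_f62b611bdac4 : _root_.True := by
  try have : _root_.True := by simp only [_root_.Cfsg.IsIsolatedInvolution.eq_1]
  exact _root_.True.intro
end

-- part: Cit/Nil/RTwo/LTwo
section
prune_inst 0x2030440058000000001800002000004048000192002000010000064003088140a004010130c0001010120a502000000001180000427000002a000800400400000028004280080000010000007807180c00000000000000000000000000000000000000000
set_option linter.all false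
open scoped Cfsg.Agent.FastGrp

-- part: Cit/Nil/RTwo/LOneP
section
/-!
# LEMMA L1' and the labels of the lines on `z` (section 2 of the blueprint)

* `CC Om z` : the labels of the type I lines on `z`;
* `DC Om z a b c` : the directions (elements of `Fin 3 × Fin 3`) of the lines on `z` with label `c`;
* `Lab.lone` : LEMMA L1';
* `CC.eq_one` (2.1), `CC.eq_three` (2.2), `DC.line`, `DC.par` (2.4).
-/

set_option autoImplicit false
set_option linter.style.haveILetI false
set_option linter.unusedSectionVars false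
set_option maxHeartbeats 400000

namespace Cfsg.Agent.Cit.Nil.RTwo

open Subgroup Cfsg Cit

variable {G : Type*} [Group G]

/-- the labels of the type I lines on `z` -/
def CC (Om : Set (Subgroup G)) (z : G) : Set G := {c | ∃ t, Lab Om z t c}

/-- the directions of the lines on `z` with label `c` -/
def DC (Om : Set (Subgroup G)) (z : G) (a b : Fin 3 → G) (c : G) : Set (Fin 3 × Fin 3) :=
  {p | ∃ t, Lab Om z t c ∧ Dir z a b (t * c) p.1 p.2}

section

variable [Finite G] {Om : Set (Subgroup G)} {K K1 K2 L L1 L2 : Subgroup G} {z t g x y w c c' : G}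
  {a b : Fin 3 → G}

theorem Lab.mem_CC (l : Lab Om z t c) : c ∈ CC Om z := ⟨t, l⟩

theorem DC.mem_CC {p : Fin 3 × Fin 3} (hp : p ∈ DC Om z a b c) : c ∈ CC Om z := by
  obtain ⟨t, l, -⟩ := hp; exact ⟨t, l⟩

theorem CC.exists_dir (h : W2 Om) (F : Frame Om z K1 K2 a b) (hc : c ∈ CC Om z) : ∃ p, p ∈ DC Om z a b c := by
  obtain ⟨t, l⟩ := hc
  obtain ⟨th, i, j, -, -, -, -, hd, -⟩ := l.theta h F
  exact ⟨(i, j), t, l, hd⟩

theorem CC.sq (hc : c ∈ CC Om z) : c * c = 1 := by obtain ⟨t, l⟩ := hc; exact l.sq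

theorem CC.inv (hc : c ∈ CC Om z) : c⁻¹ = c := inv_eq_of_mul_eq_one_right (CC.sq hc)

theorem CC.mem_CX (hc : c ∈ CC Om z) : c ∈ CX Om z := by obtain ⟨t, l⟩ := hc; exact l.cz

theorem CC.inZ (hc : c ∈ CC Om z) : InZ Om z := by obtain ⟨t, l⟩ := hc; exact l.ti.1

theorem CC.comm_z (h : W2 Om) (hc : c ∈ CC Om z) : c * z = z * c := by
  obtain ⟨t, l⟩ := hc; exact l.comm_z h

theorem CC.ne_z (h : W2 Om) (hc : c ∈ CC Om z) : c ≠ z := by
  obtain ⟨t, l⟩ := hc; exact l.ne_z h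

theorem CC.conj (h : W2 Om) (hc : c ∈ CC Om z) (g : G) : g * c * g⁻¹ ∈ CC Om (g * z * g⁻¹) := by
  obtain ⟨t, l⟩ := hc; exact ⟨_, l.conj h g⟩

theorem CC.conj_comm (h : W2 Om) (hc : c ∈ CC Om z) (hg : g * z = z * g) : g * c * g⁻¹ ∈ CC Om z := by
  have := CC.conj h hc g
  rwa [hg, mul_inv_cancel_right] at this

theorem Lab.conj_comm (h : W2 Om) (l : Lab Om z t c) (hg : g * z = z * g) : Lab Om z (g * t * g⁻¹) (g * c * g⁻¹) := by
  have := l.conj h g
  rwa [hg, mul_inv_cancel_right] at this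

theorem Sw.not_fx (hz : InZ Om z) (hs : Sw Om z x) (hf : Fx Om z x) : False := by
  obtain ⟨K, hK⟩ := hz; exact hs K hK (hf K hK)

theorem Inn.fx (hi : Inn Om z g) (h : W2 Om) : Fx Om z g := fun _ hK => hi.cj_eq hK h

/-- the direction of a line in the frame -/
theorem Lab.exists_theta (h : W2 Om) (F : Frame Om z K1 K2 a b) (l : Lab Om z t c) {p : Fin 3 × Fin 3}
    (hp : Dir z a b (t * c) p.1 p.2) : ∃ th, th * th = t ∧ th * z = z * th ∧ th * c = c * th ∧
    (∃ L, Mem Om t L ∧ th ∈ L) ∧ Act z a a th (rf p.1) ∧ Act z b b th (rf p.2) ∧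
    ∀ x ∈ CX Om z, x * c = c * x → (Fx Om t x ∧ th * x * th⁻¹ = x) ∨ (Sw Om t x ∧ th * x * th⁻¹ = x * z * c) := by
  obtain ⟨th, i, j, h1, h2, h3, h4, hd, h5, h6, h7⟩ := l.theta h F
  obtain ⟨rfl, rfl⟩ := F.dir_unique h hp hd
  exact ⟨th, h1, h2, h3, h4, h5, h6, h7⟩

/-- two lines with the same direction and commuting labels -/
theorem Lab.same (h : W2 Om) (F : Frame Om z K1 K2 a b) {t' : G} (l : Lab Om z t c) (l' : Lab Om z t' c')
    (hc : c * c' = c' * c) {p : Fin 3 × Fin 3} (hp : Dir z a b (t * c) p.1 p.2)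
    (hp' : Dir z a b (t' * c') p.1 p.2) (hf : Fx Om t c') : c = c' := by
  have hzz : ∀ u : G, z * (z * u) = u := F.qa.zzx
  -- replace `t'` by `z t'`
  obtain ⟨s, ls, hs⟩ : ∃ s, Lab Om z s c' ∧ s * c' = t * c := by
    have h1 : t' * c' = t * c ∨ z * (t' * c') = t * c := by
      rcases hp with e1 | e1 <;> rcases hp' with e2 | e2
      · left; rw [e1, e2]
      · right; rw [e1, e2, hzz]
      · right; rw [e1, e2]
      · left; rw [e1, e2]
    rcases h1 with h1 | h1
    · exact ⟨t', l', h1⟩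
    · exact ⟨z * t', l'.mul h, by rw [mul_assoc]; exact h1⟩
  have hs' : s = t * c * c' := by rw [← hs, mul_assoc, l'.sq, mul_one]
  have htt : t ∈ CX Om t := z_mem_CX h
  obtain ⟨L, hL⟩ := l.ti.2.1
  rcases l.fx_or h l'.cz hc.symm l'.sq hf with h1 | h1
  · have h2 : s ∈ CX Om t := by
      rw [hs']; exact mul_mem (mul_mem htt l.ct) h1
    have h3 : s = t := ls.ti.2.1.eq_of_cent hL h (fun k hk => mem_CX.1 h2 L hL k hk)
    rw [h3] at ls
    exact l.unique h ls
  · have h2 : z * s ∈ CX Om t := by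
      have e : z * s = t * c * (z * c') := by
        rw [hs']
        calc z * (t * c * c') = (z * t) * c * c' := by group
          _ = t * (z * c) * c' := by rw [l.zt]; group
          _ = t * (c * z) * c' := by rw [l.comm_z h]
          _ = _ := by group
      rw [e]; exact mul_mem (mul_mem htt l.ct) h1
    have ls' := ls.mul h
    have h3 : z * s = t := ls'.ti.2.1.eq_of_cent hL h (fun k hk => mem_CX.1 h2 L hL k hk)
    rw [h3] at ls'
    exact l.unique h ls'

/-- **LEMMA L1'** -/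
theorem Lab.lone (h : W2 Om) (F : Frame Om z K1 K2 a b) {t' : G} (l : Lab Om z t c) (l' : Lab Om z t' c')
    (hc : c * c' = c' * c) {p q : Fin 3 × Fin 3} (hp : Dir z a b (t * c) p.1 p.2)
    (hq : Dir z a b (t' * c') q.1 q.2) : (Fx Om t c' ∧ c = c') ∨
      (Sw Om t c' ∧ -p - q ∈ DC Om z a b (z * c * c')) := by
  obtain ⟨th, -, hz, hcc, -, ha, hb, hx⟩ := l.exists_theta h F hp
  rcases hx c' l'.cz hc.symm with ⟨h1, h2⟩ | ⟨h1, h2⟩
  · left
    refine ⟨h1, ?_⟩
    -- `c'` occurs over `-p-q`, so over `p`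
    have l3 := l'.conj_comm h hz
    rw [h2] at l3
    have h3 : Dir z a b (th * t' * th⁻¹ * c') (-p - q).1 (-p - q).2 := by
      have h4 := F.dir_conj hz ha hb hq
      rw [rf_apply, rf_apply] at h4
      have e : th * (t' * c') * th⁻¹ = th * t' * th⁻¹ * c' := by
        calc th * (t' * c') * th⁻¹ = th * t' * th⁻¹ * (th * c' * th⁻¹) := by group
          _ = _ := by rw [h2]
      rwa [e] at h4
    obtain ⟨th', -, hz', hcc', -, ha', hb', -⟩ := l'.exists_theta h F hq
    have l4 := l3.conj_comm h hz'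
    have h2' : th' * c' * th'⁻¹ = c' := by rw [hcc', mul_inv_cancel_right]
    rw [h2'] at l4
    have h5 : Dir z a b (th' * (th * t' * th⁻¹) * th'⁻¹ * c') p.1 p.2 := by
      have h4 := F.dir_conj hz' ha' hb' h3
      rw [rf_apply, rf_apply] at h4
      have e : th' * (th * t' * th⁻¹ * c') * th'⁻¹ = th' * (th * t' * th⁻¹) * th'⁻¹ * c' := by
        calc th' * (th * t' * th⁻¹ * c') * th'⁻¹ = th' * (th * t' * th⁻¹) * th'⁻¹ * (th' * c' * th'⁻¹) := by
              group
          _ = _ := by rw [h2']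
      rw [e] at h4
      have e1 : -q.1 - (-p - q).1 = p.1 := by
        show -q.1 - (-p.1 - q.1) = p.1
        abel
      have e2 : -q.2 - (-p - q).2 = p.2 := by
        show -q.2 - (-p.2 - q.2) = p.2
        abel
      rwa [e1, e2] at h4
    exact l.same h F l4 hc hp h5 h1
  · right
    refine ⟨h1, ?_⟩
    have e0 : th * c' * th⁻¹ = z * c * c' := by
      rw [h2, l'.comm_z h, mul_assoc, ← hc, mul_assoc]
    have l3 := l'.conj_comm h hz
    rw [e0] at l3
    refine ⟨_, l3, ?_⟩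
    have h4 := F.dir_conj hz ha hb hq
    rw [rf_apply, rf_apply] at h4
    have e : th * (t' * c') * th⁻¹ = th * t' * th⁻¹ * (z * c * c') := by
      calc th * (t' * c') * th⁻¹ = th * t' * th⁻¹ * (th * c' * th⁻¹) := by group
        _ = _ := by rw [e0]
    rw [e] at h4
    exact h4

end

end Cfsg.Agent.Cit.Nil.RTwo
end

-- part: Cit/Nil/RTwo/LTwo
section
/-!
# The labels of the lines on `z`: (2.1)-(2.4)

* `CC.eq_one` (2.1), `CC.third`, `CC.eq_three` (2.2);
* `odd_card`, `CC.odd`, `CC.exists_comm` (2.3): a 2-subgroup of `C(z)` centralises a label;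
* `DC.line`, `DC.par`, `DC.tr` (2.4), `Frame.exists_perm` : the action of `C(z)` on the directions, `DC.exists_fixed`.
-/

set_option autoImplicit false
set_option linter.style.haveILetI false
set_option linter.unusedSectionVars false
set_option maxHeartbeats 400000

namespace Cfsg.Agent.Cit.Nil.RTwo

open Subgroup Cfsg Cit

theorem dir_key : ∀ p q : Fin 3 × Fin 3, -p - q = q ↔ q = p := by decide

/-- an involution with exactly one fixed point -/
theorem odd_card {α : Type*} [Finite α] (f : α → α) (hf : ∀ x, f (f x) = x) (x0 : α) (h0 : ∀ x, f x = x ↔ x = x0) :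
    Odd (Nat.card α) := by
  classical
  haveI := Fintype.ofFinite α
  haveI : Fact (Nat.Prime 2) := ⟨Nat.prime_two⟩
  let F : Function.End α := f
  have h1 : F ^ 2 ^ 1 = 1 := by
    funext x
    rw [pow_one, pow_two]
    exact hf x
  have h2 := Equiv.Perm.card_fixedPoints_modEq h1
  have h3 : Fintype.card (Function.fixedPoints f) = 1 := by
    rw [Fintype.card_eq_one_iff]
    refine ⟨⟨x0, (h0 x0).2 rfl⟩, ?_⟩
    rintro ⟨y, hy⟩
    exact Subtype.ext ((h0 y).1 hy)
  rw [Nat.card_eq_fintype_card, Nat.odd_iff]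
  have h4 : Fintype.card α ≡ 1 [MOD 2] := by
    rw [← h3]; exact h2
  exact h4

/-- a 2-group acting by conjugation on a set of odd cardinality -/
theorem exists_fixed_of_odd {G : Type*} [Group G] {P : Subgroup G} (hP : IsPGroup 2 P) {B : Set G}
    (hB : ∀ s ∈ P, ∀ c ∈ B, s * c * s⁻¹ ∈ B) (ho : Odd (Nat.card B)) : ∃ c ∈ B, ∀ s ∈ P, s * c = c * s := by
  letI : MulAction P B :=
    { smul := fun s c => ⟨s * c * (s : G)⁻¹, hB s s.2 c c.2⟩
      one_smul := fun c => Subtype.ext (by show (1 : G) * c * (1 : G)⁻¹ = c; group)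
      mul_smul := fun s s' c => Subtype.ext (by
        show ((s * s' : P) : G) * c * ((s * s' : P) : G)⁻¹ = s * (s' * c * (s' : G)⁻¹) * (s : G)⁻¹
        rw [Subgroup.coe_mul]; group) }
  haveI : Fact (Nat.Prime 2) := ⟨Nat.prime_two⟩
  obtain ⟨c, hc⟩ := hP.nonempty_fixed_point_of_prime_not_dvd_card B
    (fun h2 => (Nat.not_even_iff_odd.2 ho) (even_iff_two_dvd.2 h2))
  refine ⟨c, c.2, fun s hs => ?_⟩
  have h1 : (⟨s, hs⟩ : P) • c = c := hc ⟨s, hs⟩
  have h2 : s * (c : G) * s⁻¹ = c := congrArg Subtype.val h1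
  rw [mul_inv_eq_iff_eq_mul] at h2
  exact h2

variable {G : Type*} [Group G]

section

variable [Finite G] {Om : Set (Subgroup G)} {K K1 K2 L L1 L2 : Subgroup G} {z t g x y w c c' : G}
  {a b : Fin 3 → G}

theorem CC.third (h : W2 Om) (F : Frame Om z K1 K2 a b) (hc : c ∈ CC Om z) (hc' : c' ∈ CC Om z)
    (hcc : c * c' = c' * c) (hne : c ≠ c') : z * c * c' ∈ CC Om z := by
  obtain ⟨p, t, l, hp⟩ := CC.exists_dir h F hc
  obtain ⟨q, t', l', hq⟩ := CC.exists_dir h F hc'
  rcases l.lone h F l' hcc hp hq with ⟨-, h1⟩ | ⟨-, h1⟩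
  · exact absurd h1 hne
  · exact DC.mem_CC h1

/-- distinct commuting labels: `c'` swaps over the neighbours over `c` -/
theorem Lab.sw (h : W2 Om) (l : Lab Om z t c) (hc' : c' ∈ CC Om z) (hcc : c * c' = c' * c) (hne : c ≠ c') :
    Sw Om t c' := by
  obtain ⟨K1, K2, a, b, F⟩ := l.ti.1.exists_frame h
  obtain ⟨th, i, j, -, -, -, -, hp, -⟩ := l.theta h F
  obtain ⟨q, t', l', hq⟩ := CC.exists_dir h F hc'
  rcases l.lone h F l' hcc (p := (i, j)) hp hq with ⟨-, h1⟩ | ⟨h1, -⟩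
  · exact absurd h1 hne
  · exact h1

/-- (2.1) -/
theorem CC.eq_one (h : W2 Om) (h1 : (1 : G) ∈ CC Om z) (hc : c ∈ CC Om z) : c = 1 := by
  by_contra hne
  obtain ⟨K1, K2, a, b, F⟩ := (CC.inZ hc).exists_frame h
  have h2 := CC.third h F h1 hc (by rw [one_mul, mul_one]) (Ne.symm hne)
  rw [mul_one] at h2
  obtain ⟨t, l⟩ := hc
  have h3 := l.sw h h2 (by rw [← mul_assoc, l.comm_z h, mul_assoc]) (by
    intro e
    exact l.ti.1.z1 h (mul_eq_right.1 e.symm))
  have h4 : Inn Om t (z * c) := (l.ti.symm h).2.2.2.2.mul (Inn.of_CX l.ct) l.ti.2.1 h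
  exact h3.not_fx l.ti.2.1 (h4.fx h)

/-- (2.2) -/
theorem CC.eq_three (h : W2 Om) {c1 c2 c4 : G} (h1 : c1 ∈ CC Om z) (h2 : c2 ∈ CC Om z) (h4 : c4 ∈ CC Om z)
    (h12 : c1 * c2 = c2 * c1) (h14 : c1 * c4 = c4 * c1) (h24 : c2 * c4 = c4 * c2) (n12 : c1 ≠ c2) (n14 : c1 ≠ c4)
    (n24 : c2 ≠ c4) : c4 = z * c1 * c2 := by
  obtain ⟨K1, K2, a, b, F⟩ := (CC.inZ h1).exists_frame h
  have h3 := CC.third h F h2 h4 h24 n24
  obtain ⟨t, l⟩ := h1
  have s2 := l.sw h h2 h12 n12
  have s4 := l.sw h h4 h14 n14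
  have hz1 := l.comm_z h
  have e2 := (l.comm_iff h (CC.mem_CX h2)).1 h12.symm
  have e4 := (l.comm_iff h (CC.mem_CX h4)).1 h14.symm
  have hc : c1 * (z * c2 * c4) = z * c2 * c4 * c1 := by
    calc c1 * (z * c2 * c4) = (c1 * z) * c2 * c4 := by group
      _ = z * (c1 * c2) * c4 := by rw [hz1]; group
      _ = z * c2 * (c1 * c4) := by rw [h12]; group
      _ = _ := by rw [h14]; group
  have h5 : c1 = z * c2 * c4 := by
    by_contra hne
    have s3 := l.sw h h3 hc hne
    have f : Fx Om t (z * c2 * c4) := by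
      intro K hK
      rw [mul_assoc, cj_mul, s2.mul h s4 e2 e4 K hK]
      exact (l.ti.symm h).2.2.2.2.fx h K hK
    exact s3.not_fx l.ti.2.1 f
  have hz2 := l.z2 h
  rw [h5]
  calc c4 = (z * z) * (c2 * c2) * c4 := by rw [hz2, CC.sq h2, one_mul, one_mul]
    _ = z * (z * (c2 * c2) * c4) := by group
    _ = z * (z * c2 * (c2 * c4)) := by group
    _ = z * (z * c2 * c4) * c2 := by rw [h24]; group

/-- (2.3), general form -/
theorem CC.odd_of (h : W2 Om) {B : Set G} (hB : B ⊆ CC Om z) (hn : B.Nonempty)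
    (hcj : ∀ c ∈ B, ∀ c' ∈ B, c * c' * c⁻¹ ∈ B)
    (h3 : ∀ c ∈ B, ∀ c' ∈ B, c * c' = c' * c → c ≠ c' → z * c * c' ∈ B) : Odd (Nat.card B) := by
  classical
  obtain ⟨c0, hc0⟩ := hn
  have hz : InZ Om z := CC.inZ (hB hc0)
  have hzz : z * z = 1 := hz.z2 h
  have h0z := CC.comm_z h (hB hc0)
  have h00 := CC.sq (hB hc0)
  have h0i := CC.inv (hB hc0)
  -- the involution
  obtain ⟨f, hf⟩ : ∃ f : B → B, ∀ c : B, ((f c : B) : G) =
      if (c : G) = c0 then c0 else if c0 * c = c * c0 then z * c0 * c else c0 * c * c0⁻¹ := by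
    have : ∀ c : B, ∃ d : B, (d : G) =
        if (c : G) = c0 then c0 else if c0 * c = c * c0 then z * c0 * c else c0 * c * c0⁻¹ := by
      intro c
      by_cases h1 : (c : G) = c0
      · exact ⟨⟨c0, hc0⟩, by rw [if_pos h1]⟩
      by_cases h2 : c0 * c = c * c0
      · exact ⟨⟨_, h3 c0 hc0 c c.2 h2 (Ne.symm h1)⟩, by rw [if_neg h1, if_pos h2]⟩
      · exact ⟨⟨_, hcj c0 hc0 c c.2⟩, by rw [if_neg h1, if_neg h2]⟩
    choose f hf using this
    exact ⟨f, hf⟩
  refine odd_card f ?_ ⟨c0, hc0⟩ ?_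
  · intro c
    apply Subtype.ext
    by_cases h1 : (c : G) = c0
    · have h2 : f c = c := Subtype.ext (by rw [hf, if_pos h1, h1])
      rw [h2, h2]
    by_cases h2 : c0 * c = c * c0
    · have h4 : (f c : G) = z * c0 * c := by rw [hf, if_neg h1, if_pos h2]
      have hzc := CC.comm_z h (hB c.2)
      rw [hf, h4, if_neg, if_pos]
      · calc z * c0 * (z * c0 * c) = z * (c0 * z) * c0 * c := by group
          _ = (z * z) * (c0 * c0) * c := by rw [h0z]; group
          _ = c := by rw [hzz, h00]; group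
      · calc c0 * (z * c0 * c) = (c0 * z) * c0 * c := by group
          _ = z * c0 * (c0 * c) := by rw [h0z]; group
          _ = _ := by rw [h2]; group
      · intro e
        apply CC.ne_z h (hB c.2)
        have e1 : z * (c0 * c) = z * (c0 * z) := by rw [← mul_assoc, e, h0z, ← mul_assoc, hzz, one_mul]
        exact mul_left_cancel (mul_left_cancel e1)
    · have h4 : (f c : G) = c0 * c * c0⁻¹ := by rw [hf, if_neg h1, if_neg h2]
      rw [hf, h4, if_neg, if_neg]
      · calc c0 * (c0 * c * c0⁻¹) * c0⁻¹ = (c0 * c0) * c * (c0 * c0)⁻¹ := by group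
          _ = c := by rw [h00]; group
      · intro e
        apply h2
        have e1 : c0 * (c0 * c * c0⁻¹) * c0⁻¹ = c0 * c * c0⁻¹ := by rw [e]; group
        have e2 : c0 * c * c0⁻¹ = c := mul_left_cancel (mul_right_cancel e1)
        rw [mul_inv_eq_iff_eq_mul] at e2
        exact e2
      · intro e
        rw [mul_inv_eq_iff_eq_mul] at e
        exact h1 (mul_left_cancel e)
  · intro c
    constructor
    · intro e
      have e1 := congrArg Subtype.val e
      rw [hf] at e1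
      by_contra hne
      have h1 : (c : G) ≠ c0 := fun e2 => hne (Subtype.ext e2)
      rw [if_neg h1] at e1
      by_cases h2 : c0 * c = c * c0
      · rw [if_pos h2] at e1
        apply CC.ne_z h (hB hc0)
        have e2 : z * c0 = 1 := mul_eq_right.1 e1
        have e3 : c0 = z⁻¹ := eq_inv_of_mul_eq_one_right e2
        rw [e3, hz.inv h]
      · rw [if_neg h2] at e1
        apply h2
        rw [mul_inv_eq_iff_eq_mul] at e1
        exact e1
    · rintro rfl
      apply Subtype.ext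
      rw [hf, if_pos rfl]

/-- (2.3) -/
theorem CC.odd (h : W2 Om) {T : Subgroup G} (hzT : z ∈ T) (hn : (CC Om z ∩ T).Nonempty) :
    Odd (Nat.card (CC Om z ∩ T : Set G)) := by
  obtain ⟨c0, hc0, -⟩ := id hn
  obtain ⟨K1, K2, a, b, F⟩ := (CC.inZ hc0).exists_frame h
  refine CC.odd_of h Set.inter_subset_left hn ?_ ?_
  · rintro c ⟨hc, hcT⟩ c' ⟨hc', hcT'⟩
    exact ⟨CC.conj_comm h hc' (CC.comm_z h hc), T.mul_mem (T.mul_mem hcT hcT') (T.inv_mem hcT)⟩
  · rintro c ⟨hc, hcT⟩ c' ⟨hc', hcT'⟩ hcc hne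
    exact ⟨CC.third h F hc hc' hcc hne, T.mul_mem (T.mul_mem hzT hcT) hcT'⟩

theorem isPGroup_zpowers_of_sq {u : G} (hu : u * u = 1) : IsPGroup 2 (zpowers u) := by
  rintro ⟨x, k, rfl⟩
  refine ⟨1, ?_⟩
  apply Subtype.ext
  change (u ^ k) ^ (2 ^ 1) = 1
  rw [pow_one, ← zpow_natCast, ← zpow_mul, mul_comm, zpow_mul, zpow_natCast, pow_two, hu, one_zpow]

theorem z_mem_of_syl (h : W2 Om) (hz : InZ Om z) {T : Subgroup G} (hT : Syl T (CX Om z)) : z ∈ T := by
  obtain ⟨n, hn, h1⟩ := LB.exists_conj_mem hT (z_mem_CX h) (isPGroup_zpowers_of_sq (hz.z2 h))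
  rwa [CX_le hz h hn, mul_inv_cancel_right] at h1

/-- a label is `X_z`-conjugate to a label in a given Sylow 2-subgroup of `X_z` -/
theorem CC.exists_conj (h : W2 Om) {T : Subgroup G} (hT : Syl T (CX Om z)) (hc : c ∈ CC Om z) :
    ∃ x ∈ CX Om z, x * c * x⁻¹ ∈ CC Om z ∧ x * c * x⁻¹ ∈ T := by
  obtain ⟨n, hn, h1⟩ := LB.exists_conj_mem hT (CC.mem_CX hc) (isPGroup_zpowers_of_sq (CC.sq hc))
  exact ⟨n, hn, CC.conj_comm h hc (CX_le (CC.inZ hc) h hn), h1⟩

/-- (2.3): a 2-subgroup of `C(z)` normalising the Sylow 2-subgroup `T` of `X_z` centralises a label in `T` -/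
theorem CC.exists_comm_of (h : W2 Om) {T P : Subgroup G} (hT : Syl T (CX Om z)) (hP : IsPGroup 2 P)
    (hPz : ∀ s ∈ P, s * z = z * s) (hPT : ∀ s ∈ P, cj s T = T) (hn : (CC Om z).Nonempty) :
    ∃ c ∈ CC Om z, c ∈ T ∧ ∀ s ∈ P, s * c = c * s := by
  obtain ⟨c0, hc0⟩ := hn
  obtain ⟨x, hx, h1, h2⟩ := CC.exists_conj h hT hc0
  obtain ⟨c, ⟨hc, hcT⟩, hcs⟩ := exists_fixed_of_odd (B := (CC Om z ∩ T : Set G)) hP (by
    rintro s hs c ⟨hc, hcT⟩
    refine ⟨CC.conj_comm h hc (hPz s hs), ?_⟩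
    have := conj_mem_cj (g := s) hcT
    rwa [hPT s hs] at this) (CC.odd h (z_mem_of_syl h (CC.inZ hc0) hT) ⟨_, h1, h2⟩)
  exact ⟨c, hc, hcT, hcs⟩

theorem le_normalizer_CX (h : W2 Om) : centralizer {z} ≤ normalizer (CX Om z : Set G) := by
  intro g hg
  have hg' := mem_centralizer_singleton_iff.1 hg
  rw [mem_normalizer_iff]
  intro x
  constructor
  · exact fun hx => CX_conj_comm h hg' hx
  · intro hx
    have h1 : g⁻¹ * z = z * g⁻¹ := by
      rw [inv_mul_eq_iff_eq_mul, ← mul_assoc, hg', mul_inv_cancel_right]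
    have h2 := CX_conj_comm h h1 hx
    have e : g⁻¹ * (g * x * g⁻¹) * g⁻¹⁻¹ = x := by group
    rwa [e] at h2

/-- (2.3): a 2-subgroup of `C(z)` normalises a Sylow 2-subgroup of `X_z` and centralises a label in it -/
theorem CC.exists_comm (h : W2 Om) {P : Subgroup G} (hP : IsPGroup 2 P)
    (hPz : ∀ s ∈ P, s * z = z * s) (hn : (CC Om z).Nonempty) :
    ∃ T, Syl T (CX Om z) ∧ (∀ s ∈ P, cj s T = T) ∧ ∃ c ∈ CC Om z, c ∈ T ∧ ∀ s ∈ P, s * c = c * s := by
  have hPn : P ≤ normalizer (CX Om z : Set G) :=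
    fun s hs => le_normalizer_CX h (mem_centralizer_singleton_iff.2 (hPz s hs))
  obtain ⟨R, hR, hPR, hT⟩ := LB.exists_two_sup hP hPn
  have hPT : ∀ s ∈ P, cj s (R ⊓ CX Om z) = R ⊓ CX Om z := by
    intro s hs
    rw [cj_inf, mem_normalizer_iff_cj.1 (hPn hs), mem_normalizer_iff_cj.1 (le_normalizer (hPR hs))]
  exact ⟨_, hT, hPT, CC.exists_comm_of h hT hP hPz hPT hn⟩

/-! ### (2.4) -/

/-- the general action -/
theorem DC.conj (h : W2 Om) (F : Frame Om z K1 K2 a b) {p : Fin 3 × Fin 3} (hp : p ∈ DC Om z a b c)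
    (hg : g * z = z * g) {σ τ : Equiv.Perm (Fin 3)} (h1 : Act z a a g σ) (h2 : Act z b b g τ) :
    (σ p.1, τ p.2) ∈ DC Om z a b (g * c * g⁻¹) := by
  obtain ⟨t, l, hd⟩ := hp
  refine ⟨_, l.conj_comm h hg, ?_⟩
  have h3 := F.dir_conj hg h1 h2 hd
  have e : g * t * g⁻¹ * (g * c * g⁻¹) = g * (t * c) * g⁻¹ := by group
  rw [e]; exact h3

theorem DC.line (h : W2 Om) (F : Frame Om z K1 K2 a b) {p q : Fin 3 × Fin 3} (hp : p ∈ DC Om z a b c)
    (hq : q ∈ DC Om z a b c) : -p - q ∈ DC Om z a b c := by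
  obtain ⟨t, l, hd⟩ := hp
  obtain ⟨th, -, hz, hc, -, ha, hb, -⟩ := l.exists_theta h F hd
  have h1 := DC.conj h F hq hz ha hb
  rw [rf_apply, rf_apply, hc, mul_inv_cancel_right] at h1
  exact h1

theorem DC.par (h : W2 Om) (F : Frame Om z K1 K2 a b) {p q r : Fin 3 × Fin 3} (hp : p ∈ DC Om z a b c)
    (hq : q ∈ DC Om z a b c) (hr : r ∈ DC Om z a b c) : p - q + r ∈ DC Om z a b c := by
  have h1 := DC.line h F hq (DC.line h F hp hr)
  have e : -q - (-p - r) = p - q + r := by abel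
  rwa [e] at h1

theorem DC.third (h : W2 Om) (F : Frame Om z K1 K2 a b) {p q : Fin 3 × Fin 3} (hp : p ∈ DC Om z a b c)
    (hq : q ∈ DC Om z a b c') (hcc : c * c' = c' * c) (hne : c ≠ c') : -p - q ∈ DC Om z a b (z * c * c') := by
  obtain ⟨t, l, hd⟩ := hp
  obtain ⟨t', l', hd'⟩ := hq
  rcases l.lone h F l' hcc hd hd' with ⟨-, h1⟩ | ⟨-, h1⟩
  · exact absurd h1 hne
  · exact h1

/-- (2.4): commuting labels have the same translations -/
theorem DC.tr (h : W2 Om) (F : Frame Om z K1 K2 a b) {p p' q : Fin 3 × Fin 3} (hp : p ∈ DC Om z a b c)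
    (hp' : p' ∈ DC Om z a b c) (hq : q ∈ DC Om z a b c') (hcc : c * c' = c' * c) :
    p - p' + q ∈ DC Om z a b c' := by
  by_cases hne : c = c'
  · subst hne; exact DC.par h F hp hp' hq
  have h1 := DC.third h F hp hq hcc hne
  have hz2 := (CC.inZ (DC.mem_CC hp)).z2 h
  have hcz := CC.comm_z h (DC.mem_CC hp)
  have e1 : c * (z * c * c') = z * c * c' * c := by
    calc c * (z * c * c') = (c * z) * c * c' := by group
      _ = z * c * (c * c') := by rw [hcz]; group
      _ = _ := by rw [hcc]; group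
  have e2 : c ≠ z * c * c' := by
    intro e
    apply CC.ne_z h (DC.mem_CC hq)
    have e3 : c = c * (z * c') := by rw [← mul_assoc, hcz]; exact e
    have e4 : z * c' = 1 := mul_eq_left.1 e3.symm
    have e5 := eq_inv_of_mul_eq_one_right e4
    rw [e5, (CC.inZ (DC.mem_CC hp)).inv h]
  have h2 := DC.third h F hp' h1 e1 e2
  have e3 : z * c * (z * c * c') = c' := by
    calc z * c * (z * c * c') = z * (c * z) * c * c' := by group
      _ = (z * z) * (c * c) * c' := by rw [hcz]; group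
      _ = c' := by rw [hz2, CC.sq (DC.mem_CC hp)]; group
  have e4 : -p' - (-p - q) = p - p' + q := by abel
  rwa [e3, e4] at h2

theorem Act.of_CX (F : Frame Om z K1 K2 a b) (hx : x ∈ CX Om z) : Act z a a x 1 ∧ Act z b b x 1 := by
  constructor
  · intro i
    left
    rw [mem_CX.1 hx _ F.k1 _ (F.qa.mem i), mul_inv_cancel_right]; rfl
  · intro i
    left
    rw [mem_CX.1 hx _ F.k2 _ (F.qb.mem i), mul_inv_cancel_right]; rfl

theorem DC.conj_CX (h : W2 Om) (F : Frame Om z K1 K2 a b) {p : Fin 3 × Fin 3} (hp : p ∈ DC Om z a b c)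
    (hx : x ∈ CX Om z) : p ∈ DC Om z a b (x * c * x⁻¹) := by
  obtain ⟨h1, h2⟩ := Act.of_CX F hx
  exact DC.conj h F hp (CX_le F.k1.inZ h hx) h1 h2

theorem DC.of_conj_CX (h : W2 Om) (F : Frame Om z K1 K2 a b) {p : Fin 3 × Fin 3}
    (hx : x ∈ CX Om z) (hp : p ∈ DC Om z a b (x * c * x⁻¹)) : p ∈ DC Om z a b c := by
  have h1 := DC.conj_CX h F hp (inv_mem hx)
  have e : x⁻¹ * (x * c * x⁻¹) * x⁻¹⁻¹ = c := by group
  rwa [e] at h1

/-- (2.4): all labels have the same translations -/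
theorem DC.tr_all (h : W2 Om) (F : Frame Om z K1 K2 a b) {p p' q : Fin 3 × Fin 3} (hp : p ∈ DC Om z a b c)
    (hp' : p' ∈ DC Om z a b c) (hq : q ∈ DC Om z a b c') : p - p' + q ∈ DC Om z a b c' := by
  obtain ⟨T, hT⟩ := Hyp.exists_syl (CX Om z)
  obtain ⟨c0, hc0, hc0T, hc0'⟩ := CC.exists_comm_of h hT hT.2.1 (fun s hs => CX_le F.k1.inZ h (hT.1 hs))
    (fun s hs => mem_normalizer_iff_cj.1 (le_normalizer hs)) ⟨c, DC.mem_CC hp⟩
  obtain ⟨q0, hq0⟩ := CC.exists_dir h F hc0
  obtain ⟨x, hx, hx1, hx2⟩ := CC.exists_conj h hT (DC.mem_CC hp)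
  obtain ⟨y, hy, hy1, hy2⟩ := CC.exists_conj h hT (DC.mem_CC hq)
  have h1 := DC.tr h F (DC.conj_CX h F hp hx) (DC.conj_CX h F hp' hx) hq0 (hc0' _ hx2)
  have h2 := DC.tr h F h1 hq0 (DC.conj_CX h F hq hy) (hc0' _ hy2).symm
  have e : p - p' + q0 - q0 + q = p - p' + q := by abel
  rw [e] at h2
  exact DC.of_conj_CX h F hy h2

/-- `C(z)` acts on the directions -/
theorem Frame.exists_perm (F : Frame Om z K1 K2 a b) (h : W2 Om) (hg : g * z = z * g) :
    ∃ π : Equiv.Perm (Fin 3 × Fin 3), ∀ (w : G) (p : Fin 3 × Fin 3), Dir z a b w p.1 p.2 →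
      Dir z a b (g * w * g⁻¹) (π p).1 (π p).2 := by
  rcases F.act_cases h hg with ⟨-, -, σ, τ, h1, h2⟩ | ⟨-, -, σ, τ, h1, h2⟩
  · exact ⟨Equiv.prodCongr σ τ, fun w p hp => F.dir_conj hg h1 h2 hp⟩
  · exact ⟨(Equiv.prodCongr σ τ).trans (Equiv.prodComm _ _), fun w p hp => F.dir_conj' h hg h1 h2 hp⟩

theorem DC.perm (h : W2 Om) {π : Equiv.Perm (Fin 3 × Fin 3)} (hg : g * z = z * g)
    (hπ : ∀ (w : G) (p : Fin 3 × Fin 3), Dir z a b w p.1 p.2 → Dir z a b (g * w * g⁻¹) (π p).1 (π p).2)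
    {p : Fin 3 × Fin 3} (hp : p ∈ DC Om z a b c) : π p ∈ DC Om z a b (g * c * g⁻¹) := by
  obtain ⟨t, l, hd⟩ := hp
  refine ⟨_, l.conj_comm h hg, ?_⟩
  have h3 := hπ _ _ hd
  have e : g * t * g⁻¹ * (g * c * g⁻¹) = g * (t * c) * g⁻¹ := by group
  rw [e]; exact h3

theorem DC.odd (h : W2 Om) (F : Frame Om z K1 K2 a b) (hc : c ∈ CC Om z) : Odd (Nat.card (DC Om z a b c)) := by
  obtain ⟨p, hp⟩ := CC.exists_dir h F hc
  refine odd_card (fun q : DC Om z a b c => (⟨-p - q.1, DC.line h F hp q.2⟩ : DC Om z a b c)) ?_ ⟨p, hp⟩ ?_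
  · intro q
    apply Subtype.ext
    show -p - (-p - q.1) = q.1
    abel
  · rintro ⟨q, hq⟩
    simp only [Subtype.mk.injEq]
    exact dir_key p q

/-- a 2-subgroup of `C(z)` centralising the label `c` fixes a direction over `c` -/
theorem DC.exists_fixed (h : W2 Om) (F : Frame Om z K1 K2 a b) (hc : c ∈ CC Om z) {P : Subgroup G}
    (hP : IsPGroup 2 P) (hPz : ∀ s ∈ P, s * z = z * s) (hPc : ∀ s ∈ P, s * c = c * s) :
    ∃ p ∈ DC Om z a b c, ∀ s ∈ P, ∀ w, Dir z a b w p.1 p.2 → Dir z a b (s * w * s⁻¹) p.1 p.2 := by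
  haveI : Fact (Nat.Prime 2) := ⟨Nat.prime_two⟩
  have h1 : ∀ s : P, ∃ π : Equiv.Perm (Fin 3 × Fin 3), ∀ (w : G) (p : Fin 3 × Fin 3), Dir z a b w p.1 p.2 →
      Dir z a b ((s : G) * w * (s : G)⁻¹) (π p).1 (π p).2 := fun s => F.exists_perm h (hPz s s.2)
  choose π hπ using h1
  have hw : ∀ p : Fin 3 × Fin 3, Dir z a b (a p.1 * b p.2) p.1 p.2 := fun p => Or.inl rfl
  have hmem : ∀ (s : P) (p : Fin 3 × Fin 3), p ∈ DC Om z a b c → π s p ∈ DC Om z a b c := by
    intro s p hp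
    have h2 := DC.perm h (hPz s s.2) (hπ s) hp
    rwa [hPc s s.2, mul_inv_cancel_right] at h2
  letI : MulAction P (DC Om z a b c) :=
    { smul := fun s p => ⟨π s p, hmem s p p.2⟩
      one_smul := fun p => Subtype.ext (by
        show π 1 p = p
        have h2 := hπ 1 _ _ (hw p)
        rw [Subgroup.coe_one, one_mul, inv_one, mul_one] at h2
        obtain ⟨e1, e2⟩ := F.dir_unique h h2 (hw p)
        exact Prod.ext e1 e2)
      mul_smul := fun s s' p => Subtype.ext (by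
        show π (s * s') p = π s (π s' p)
        have h2 := hπ (s * s') _ _ (hw p)
        have h3 := hπ s _ _ (hπ s' _ _ (hw p))
        have e : (s : G) * ((s' : G) * (a p.1.1 * b p.1.2) * (s' : G)⁻¹) * (s : G)⁻¹ =
            ((s * s' : P) : G) * (a p.1.1 * b p.1.2) * ((s * s' : P) : G)⁻¹ := by
          rw [Subgroup.coe_mul]; group
        rw [e] at h3
        obtain ⟨e1, e2⟩ := F.dir_unique h h2 h3
        exact Prod.ext e1 e2) }
  obtain ⟨p, hp⟩ := hP.nonempty_fixed_point_of_prime_not_dvd_card (DC Om z a b c)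
    (fun h2 => (Nat.not_even_iff_odd.2 (DC.odd h F hc)) (even_iff_two_dvd.2 h2))
  refine ⟨p, p.2, fun s hs w hd => ?_⟩
  have h2 : (⟨s, hs⟩ : P) • p = p := hp ⟨s, hs⟩
  have h3 : π ⟨s, hs⟩ p = p := congrArg Subtype.val h2
  have h4 := hπ ⟨s, hs⟩ _ _ hd
  rw [h3] at h4
  exact h4

/-- two lines with the same label and the same direction -/
theorem Frame.eq_of_dir (F : Frame Om z K1 K2 a b) {t' : G}
    {p : Fin 3 × Fin 3} (hp : Dir z a b (t * c) p.1 p.2) (hp' : Dir z a b (t' * c) p.1 p.2) : t' = t ∨ t' = z * t := by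
  have hzz : ∀ u : G, z * (z * u) = u := F.qa.zzx
  have h1 : t' * c = t * c ∨ t' * c = z * t * c := by
    rcases hp with e1 | e1 <;> rcases hp' with e2 | e2
    · left; rw [e1, e2]
    · right; rw [mul_assoc, e1, e2]
    · right; rw [mul_assoc, e1, e2, hzz]
    · left; rw [e1, e2]
  rcases h1 with h1 | h1
  · exact Or.inl (mul_right_cancel h1)
  · exact Or.inr (mul_right_cancel h1)

end

end Cfsg.Agent.Cit.Nil.RTwo
end
end

-- part: Cit/Nil/RTwo/UOne
section
set_option linter.all false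
open scoped Cfsg.Agent.FastGrp

/-!
# The world `c ≠ 1`: sections U0, U1 of `CIT-6b-r2m1-U-helper141.md`

* `NoOne Om` : no type I line has the label `1`;
* `NoOne.eq_of_RZ` : `Z ∩ R_z = {z}`; `eq_of_CX'` : `Z ∩ X_z = {z}`;
* `CC.not_mul` : `c` and `z c` are not both labels on `z`;
* `PR.symm'`, `PR.not_inZ` : types p are symmetric, with product outside `Z`.
-/

set_option autoImplicit false
set_option linter.style.haveILetI false
set_option linter.unusedSectionVars false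
set_option maxHeartbeats 400000

namespace Cfsg.Agent.Cit.Nil.RTwo

open Subgroup Cfsg Cit

variable {G : Type*} [Group G]

/-- no label is trivial -/
def NoOne (Om : Set (Subgroup G)) : Prop := ∀ z c : G, c ∈ CC Om z → c ≠ 1

section

variable [Finite G] {Om : Set (Subgroup G)} {K K1 K2 L M L1 L2 : Subgroup G} {z t u v g r s x y w c c' : G}
  {a b p q : Fin 3 → G}

theorem eq_of_CX' (h : W2 Om) (hz : InZ Om z) (hv : InZ Om v) (hx : v ∈ CX Om z) : v = z := by
  obtain ⟨K, hK⟩ := hz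
  exact hv.eq_of_cent hK h fun k hk => mem_CX.1 hx K hK k hk

theorem NoOne.eq_of_RZ (hn : NoOne Om) (h : W2 Om) (hz : InZ Om z) (hv : InZ Om v) (hr : v ∈ RZ Om z) : v = z := by
  by_contra hne
  have hti : TI Om z v := ⟨hz, hv, fun e => hne e.symm, (RZ_le_centralizer h hr).symm, Inn.of_RZ hz h hr⟩
  obtain ⟨c, l⟩ := hti.exists_lab h
  have h1 : c ∈ RZ Om z := by
    have := mul_mem (inv_mem hr) l.wz
    rwa [inv_mul_cancel_left] at this
  rcases RZ_inf_CX h hz h1 l.cz with h2 | h2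
  · exact hn z c l.mem_CC h2
  · exact l.ne_z h h2

theorem Lab.fx_zc (h : W2 Om) (l : Lab Om z t c) : Fx Om t (z * c) := (Inn.of_RZ l.ti.2.1 h l.wt).fx h

theorem CC.not_mul (h : W2 Om) (hc : c ∈ CC Om z) (hc' : z * c ∈ CC Om z) : False := by
  obtain ⟨t, l⟩ := hc
  obtain ⟨t', l'⟩ := hc'
  obtain ⟨K1, K2, a, b, F⟩ := l.ti.1.exists_frame h
  obtain ⟨p, hp⟩ : ∃ p : Fin 3 × Fin 3, Dir z a b (t * c) p.1 p.2 := by
    obtain ⟨th, i, j, -, -, -, -, hd, -⟩ := l.theta h F
    exact ⟨(i, j), hd⟩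
  obtain ⟨q, hq⟩ : ∃ q : Fin 3 × Fin 3, Dir z a b (t' * (z * c)) q.1 q.2 := by
    obtain ⟨th, i, j, -, -, -, -, hd, -⟩ := l'.theta h F
    exact ⟨(i, j), hd⟩
  have hcz := l.comm_z h
  rcases l.lone h F l' (by rw [← mul_assoc, hcz]) hp hq with ⟨-, h1⟩ | ⟨h1, -⟩
  · exact l.ti.1.z1 h (mul_eq_right.1 h1.symm)
  · exact fx_sw_false l.ti.2.1 (l.fx_zc h) h1

theorem TI.mul_inZ (h : W2 Om) (hti : TI Om z t) : InZ Om (z * t) := by
  obtain ⟨c, l⟩ := hti.exists_lab h
  exact (l.mul h).ti.2.1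

theorem FT.mul_inZ (hp : FT Om z t) (h : W2 Om) : InZ Om (z * t) := by
  obtain ⟨K, hK⟩ := hp.fr.hz
  obtain ⟨x, hx, h0, h1, h2⟩ := hp.coord h hK
  have h3 : t * x 2 = z * x 2 * t := by rwa [mul_inv_eq_iff_eq_mul] at h2
  have h4 : x 2 * t * (x 2)⁻¹ = z * t := by
    have h5 : z * t * x 2 = x 2 * t := by
      calc z * t * x 2 = z * (t * x 2) := by group
        _ = z * (z * x 2 * t) := by rw [h3]
        _ = z * (z * (x 2 * t)) := by group
        _ = _ := by rw [hx.zzx]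
    rw [← h5]; group
  rw [← h4]
  exact hp.fr.ht.conj h _

theorem pr_of_not (h : W2 Om) (hz : InZ Om z) (hv : InZ Om v) (hne : z ≠ v) (hc : z * v = v * z)
    (hnot : ¬ InZ Om (z * v)) : PR Om z v := by
  rcases tcases h hz hv hne hc with h1 | h1 | h1
  · exact h1
  · exact absurd (h1.mul_inZ h) hnot
  · exact absurd (h1.mul_inZ h) hnot

namespace HP

variable {x : Fin 3 → G} {i j : Fin 3} (P : HP Om z t K x) (h : W2 Om)

include P h

theorem s_inZ (i : Fin 3) : InZ Om (t * ee z t x i) := by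
  rw [← P.conj_t h]; exact P.pr.ht.conj h _

theorem e_not_inZ (hn : NoOne Om) (i : Fin 3) : ¬ InZ Om (ee z t x i) := fun h1 =>
  P.e_ne_z h i (hn.eq_of_RZ h P.pr.hz h1 (P.e_mem h i))

theorem pr_teN (hn : NoOne Om) (i : Fin 3) : PR Om t (t * ee z t x i) := by
  refine pr_of_not h P.pr.ht (P.s_inZ h i) (fun h1 => P.e_ne_one h i (mul_eq_left.1 h1.symm)) ?_ ?_
  · rw [mul_assoc, P.e_t h]
  · rw [← mul_assoc, P.t2 h, one_mul]; exact P.e_not_inZ h hn i

theorem sw_e (hn : NoOne Om) (i : Fin 3) : Sw Om t (ee z t x i) := by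
  intro M hM h1
  apply (P.pr_teN h hn i).sw M hM
  have h2 : Fx Om t t := (Inn.of_CX (z_mem_CX h)).fx h
  rw [cj_mul, h1, h2 M hM]

theorem sw_z (hn : NoOne Om) : Sw Om t z := by
  have hez : ∀ i, ee z t x i * t = t * ee z t x i := P.e_t h
  rcases fx_or_sw h P.pr.ht P.pr.comm with h1 | h1
  · exfalso
    have h2 : Fx Om t (ee z t x 0 * ee z t x (0 + 1)) :=
      (P.sw_e h hn 0).mul h (P.sw_e h hn _) (hez 0) (hez _)
    rw [P.e_mul h] at h2
    exact fx_sw_false P.pr.ht h2 (h1.mul_sw (P.sw_e h hn _))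
  · exact h1

/-- `z e_i = x_i x_i^t` fixes the members over `t` -/
theorem fx_ze (hn : NoOne Om) (i : Fin 3) : Fx Om t (z * ee z t x i) :=
  (P.sw_z h hn).mul h (P.sw_e h hn i) P.pr.comm (P.e_t h i)

end HP

theorem PR.symm' (hp : PR Om z t) (h : W2 Om) (hn : NoOne Om) : PR Om t z := by
  obtain ⟨K, x, P⟩ := hp.exists_hp h
  exact ⟨hp.ht, hp.hz, hp.ne.symm, hp.comm.symm, P.sw_z h hn⟩

/-- p-pairs have product outside `Z` -/
theorem PR.not_inZ (hp : PR Om z t) (h : W2 Om) (hn : NoOne Om) : ¬ InZ Om (z * t) := by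
  intro hzt
  obtain ⟨K, x, P⟩ := hp.exists_hp h
  set e := ee z t x 0 with he
  have het : e * t = t * e := P.e_t h 0
  have hez : e * z = z * e := P.e_z h 0
  have hs : InZ Om (t * e) := P.s_inZ h 0
  have hxz : x 0 * z * (x 0)⁻¹ = z := by rw [← P.q.zc 0, mul_inv_cancel_right]
  have hconj : x 0 * t * (x 0)⁻¹ = t * e := P.conj_t h 0
  -- `z` moves the members over `t e`
  have h1 : PR Om (t * e) z := by
    have := (hp.symm' h hn).conj h (x 0)
    rwa [hxz, hconj] at this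
  -- `t` moves the members over `t e`
  have h2 : PR Om (t * e) t := (P.pr_teN h hn 0).symm' h hn
  -- `z t` moves the members over `t e`
  have h3 : PR Om (t * e) (z * t) := by
    refine pr_of_not h hs hzt ?_ ?_ ?_
    · intro h4
      rw [hp.comm] at h4
      exact P.e_ne_z h 0 (mul_left_cancel h4)
    · calc t * e * (z * t) = t * (e * z) * t := by group
        _ = t * z * (e * t) := by rw [hez]; group
        _ = (z * t) * (t * e) := by rw [het, hp.comm]
        _ = _ := by group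
    · have h5 : t * e * (z * t) = z * e := by
        calc t * e * (z * t) = t * e * (t * z) := by rw [hp.comm]
          _ = t * (e * t) * z := by group
          _ = (t * t) * (e * z) := by rw [het]; group
          _ = z * e := by rw [P.t2 h, one_mul, hez]
      rw [h5]
      intro h6
      have h7 : z * e = z := hn.eq_of_RZ h hp.hz h6 (mul_mem (z_mem_RZ hp.hz h) (P.e_mem h 0))
      exact P.e_ne_one h 0 (mul_eq_left.1 h7)
  have h4 : Fx Om (t * e) (z * t) := Sw.mul h h1.sw h2.sw h1.comm.symm h2.comm.symm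
  exact fx_sw_false hs h4 h3.sw

end

end Cfsg.Agent.Cit.Nil.RTwo
end

-- part: Cit/Nil/RTwo/UKind
section
set_option linter.all false
open scoped Cfsg.Agent.FastGrp

/-!
# The KINDS LEMMA: section U2 of `CIT-6b-r2m1-U-helper141.md`

For a pair of type p (coordinates `P : HP Om z t K x`, `Q : HP Om t z L l`), the elements `z e_i = x_i x_i^t`
lie all in `X_t` or are all of the form `t f_j = l_j l_j^z`.
-/

set_option autoImplicit false
set_option linter.style.haveILetI false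
set_option linter.unusedSectionVars false
set_option maxHeartbeats 400000

namespace Cfsg.Agent.Cit.Nil.RTwo

open Subgroup Cfsg Cit

variable {G : Type*} [Group G]

/-- the third index -/
def th3 (i j : Fin 3) : Fin 3 := -i - j

theorem th3_cases {i j : Fin 3} (h : i ≠ j) : (j = i + 1 ∧ th3 i j = i + 2) ∨ (j = i + 2 ∧ th3 i j = i + 1) := by
  revert i j; decide

theorem perm_inv_fix (σ : Equiv.Perm (Fin 3)) (h : σ * σ = 1) (i : Fin 3) (hi : σ i ≠ i) :
    σ (th3 i (σ i)) = th3 i (σ i) ∧ σ (σ i) = i := by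
  revert i; revert σ; decide

theorem perm_exists_move (σ : Equiv.Perm (Fin 3)) (h : σ ≠ 1) : ∃ j, σ j ≠ j := by
  revert σ; decide

theorem Q3.outer_inv {K : Subgroup G} {z g : G} {x : Fin 3 → G} (q : Q3 K z x) (hg : g * z = z * g)
    (hgg : g * g = 1) {σ : Equiv.Perm (Fin 3)} (hact : Act z x x g σ) (h1 : σ ≠ 1) {k : Fin 3} (h2 : σ k = k) :
    g * x k * g⁻¹ = z * x k := by
  have key : ∀ (σ : Equiv.Perm (Fin 3)) (k : Fin 3), σ ≠ 1 → σ k = k → σ (k + 1) = k + 2 ∧ σ (k + 2) = k + 1 := by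
    decide
  obtain ⟨k1, k2⟩ := key σ k h1 h2
  have hgz : g * z * g⁻¹ = z := by rw [hg, mul_inv_cancel_right]
  have hm : ∀ y : G, g * (z * y) * g⁻¹ = z * (g * y * g⁻¹) := by
    intro y
    calc g * (z * y) * g⁻¹ = (g * z * g⁻¹) * (g * y * g⁻¹) := by group
      _ = _ := by rw [hgz]
  have hgg' : ∀ y : G, g * (g * y * g⁻¹) * g⁻¹ = y := by
    intro y
    calc g * (g * y * g⁻¹) * g⁻¹ = (g * g) * y * (g * g)⁻¹ := by group
      _ = y := by rw [hgg]; group
  have e : g * x k * g⁻¹ = (g * x (k + 1) * g⁻¹) * (g * x (k + 2) * g⁻¹) := by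
    rw [← q.mul12 k]; group
  have e21 : x (k + 2) * x (k + 1) = z * x k := q.mul21 k
  have a1 := hact (k + 1)
  have a2 := hact (k + 2)
  rw [k1] at a1
  rw [k2] at a2
  have hsq := hgg' (x (k + 1))
  rcases a1 with a1 | a1 <;> rcases a2 with a2 | a2
  · rw [e, a1, a2, e21]
  · rw [a1, a2] at hsq
    exact absurd hsq (q.zne _)
  · rw [a1, hm, a2] at hsq
    exact absurd hsq (q.zne _)
  · rw [e, a1, a2, mul_assoc, ← mul_assoc (x (k + 2)), ← q.zc, mul_assoc z (x (k + 2)), q.zzx, e21]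

section

variable [Finite G] {Om : Set (Subgroup G)} {K K1 K2 L M L1 L2 : Subgroup G} {z t u v g r s x y w c c' : G}
  {a b p q : Fin 3 → G}

theorem RZ_comm_or (h : W2 Om) (hz : InZ Om z) (hr : r ∈ RZ Om z) (hs : s ∈ RZ Om z) :
    r * s = s * r ∨ r * s = z * (s * r) := by
  obtain ⟨K1, h1⟩ := hz
  obtain ⟨K2, h2, hne, -⟩ := h1.other h
  obtain ⟨k, hk, l, hl, rfl⟩ := (mem_RZ h1 h2 h hne).1 hs
  have hi := Inn.of_RZ h1.inZ h hr
  have hz2 := h1.inZ.z2 h
  have e : r * (k * l) = (r * k * r⁻¹) * (r * l * r⁻¹) * r := by group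
  rcases hi K1 h1 k hk with e1 | e1 <;> rcases hi K2 h2 l hl with e2 | e2
  · left; rw [e, e1, e2]
  · right
    rw [e, e1, e2, ← mul_assoc k, h1.comm_z h hk]
    simp only [mul_assoc]
  · right
    rw [e, e1, e2]
    simp only [mul_assoc]
  · left
    rw [e, e1, e2]
    calc z * k * (z * l) * r = z * (k * z) * l * r := by group
      _ = (z * z) * (k * l) * r := by rw [h1.comm_z h hk]; group
      _ = _ := by rw [hz2, one_mul]

namespace HP

variable {x l : Fin 3 → G} {i j : Fin 3} {σ τ : Equiv.Perm (Fin 3)}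

theorem ee_ne (P : HP Om z t K x) (h : W2 Om) (hij : i ≠ j) : ee z t x i * ee z t x j = z * ee z t x (th3 i j) := by
  rcases th3_cases hij with ⟨e1, e2⟩ | ⟨e1, e2⟩
  · rw [e1, ← e1, e2, e1, P.e_mul h]
  · have h1 := P.e_mul' h j
    rw [e1, i21, i22, ← e1] at h1
    rw [e2, ← h1]

theorem c_ne (P : HP Om z t K x) (h : W2 Om) (hij : i ≠ j) :
    z * ee z t x i * (z * ee z t x j) = z * ee z t x (th3 i j) := by
  rw [P.c_mul h, P.ee_ne h hij]

theorem c_z (P : HP Om z t K x) (h : W2 Om) (i : Fin 3) : z * ee z t x i * z = z * (z * ee z t x i) := by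
  rw [mul_assoc, P.e_z h]

theorem c_ne_one (P : HP Om z t K x) (h : W2 Om) (i : Fin 3) : z * ee z t x i ≠ 1 := by
  intro h1
  apply P.e_ne_z h i
  have h2 := P.q.zzx (ee z t x i)
  rw [h1, mul_one] at h2
  exact h2.symm

theorem c_mem (P : HP Om z t K x) (h : W2 Om) (i : Fin 3) : z * ee z t x i ∈ RZ Om z :=
  mul_mem (z_mem_RZ P.pr.hz h) (P.e_mem h i)

/-- `g` commuting with `z`, `t` and acting as `σ` on the axes -/
theorem act_ee (P : HP Om z t K x) (hgz : g * z = z * g) (hgt : g * t = t * g) (hact : Act z x x g σ)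
    (i : Fin 3) : g * ee z t x i * g⁻¹ = ee z t x (σ i) := by
  have hgz' : g * z * g⁻¹ = z := by rw [hgz, mul_inv_cancel_right]
  have hgt' : g * t * g⁻¹ = t := by rw [hgt, mul_inv_cancel_right]
  have e : g * ee z t x i * g⁻¹ = (g * z * g⁻¹) * (g * x i * g⁻¹) *
      ((g * t * g⁻¹) * (g * x i * g⁻¹) * (g * t * g⁻¹)⁻¹) := by rw [ee]; group
  rw [e, hgz', hgt']
  rcases hact i with h1 | h1 <;> rw [h1]
  · rfl
  · have htz : t * z = z * t := P.pr.comm.symm
    have hz2 := P.q.z2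
    rw [ee]
    calc z * (z * x (σ i)) * (t * (z * x (σ i)) * t⁻¹) = z * z * (x (σ i) * (t * z)) * x (σ i) * t⁻¹ := by group
      _ = z * z * (x (σ i) * z) * t * x (σ i) * t⁻¹ := by rw [htz]; group
      _ = z * z * (z * x (σ i)) * t * x (σ i) * t⁻¹ := by rw [P.q.zc]
      _ = (z * z) * (z * x (σ i) * (t * x (σ i) * t⁻¹)) := by group
      _ = _ := by rw [hz2, one_mul]

theorem act_cc (P : HP Om z t K x) (hgz : g * z = z * g) (hgt : g * t = t * g) (hact : Act z x x g σ)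
    (i : Fin 3) : g * (z * ee z t x i) * g⁻¹ = z * ee z t x (σ i) := by
  rw [← P.act_ee hgz hgt hact i]
  calc g * (z * ee z t x i) * g⁻¹ = (g * z) * ee z t x i * g⁻¹ := by group
    _ = _ := by rw [hgz]; group

theorem exists_actN (P : HP Om z t K x) (Q : HP Om t z L l) (h : W2 Om) (hn : NoOne Om) (i : Fin 3) :
    ∃ σ, Act t l l (z * ee z t x i) σ ∧ σ * σ = 1 := by
  obtain ⟨σ, hσ⟩ := Q.q.exists_act Q.q (P.fx_ze h hn i L Q.hK) (P.c_t h i)
  refine ⟨σ, hσ, ?_⟩
  have h2 := hσ.comp Q.q.z2 hσ (P.c_t h i)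
  rw [P.c_sq h] at h2
  exact h2.unique Q.q (Act.one l t)

/-- U2 (1): the crossed case is impossible -/
theorem act_one (P : HP Om z t K x) (Q : HP Om t z L l) (h : W2 Om) (hn : NoOne Om)
    (hσ : Act t l l (z * ee z t x i) σ) : σ = 1 := by
  by_contra hne
  have hσσ : σ * σ = 1 := by
    have h2 := hσ.comp Q.q.z2 hσ (P.c_t h i)
    rw [P.c_sq h] at h2
    exact h2.unique Q.q (Act.one l t)
  obtain ⟨j, hj⟩ := perm_exists_move σ hne
  obtain ⟨hm, hjj⟩ := perm_inv_fix σ hσσ j hj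
  set m := th3 j (σ j) with hmdef
  set g := z * ee z t x i with hg
  have hzt : z * t = t * z := P.pr.comm
  have hgz : g * z = z * g := P.c_z h i
  have hgt : g * t = t * g := P.c_t h i
  have hgg : g * g = 1 := P.c_sq h i
  -- `T'`
  have ht'z : ∀ k, (t * ee t z l k) * z = z * (t * ee t z l k) := Q.c_t h
  have ht't : ∀ k, (t * ee t z l k) * t = t * (t * ee t z l k) := Q.c_z h
  have ht'2 : ∀ k, (t * ee t z l k) * (t * ee t z l k) = 1 := Q.c_sq h
  have e1 : g * (t * ee t z l j) * g⁻¹ = t * ee t z l (σ j) := Q.act_cc hgt hgz hσ j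
  have e2 : (t * ee t z l j) * (t * ee t z l (σ j)) = t * ee t z l m := Q.c_ne h (Ne.symm hj)
  set f := t * ee t z l j with hf
  have hfi : f⁻¹ = f := inv_eq_of_mul_eq_one_right (ht'2 j)
  have e3 : g * f = t * ee t z l (σ j) * g := by rwa [mul_inv_eq_iff_eq_mul] at e1
  have e4 : f * g * f = t * ee t z l m * g := by
    rw [mul_assoc, e3, ← mul_assoc, e2]
  -- the action of `f` on `K`
  obtain ⟨τ, hτ, hττ⟩ := Q.exists_actN P h hn j
  rw [← hf] at hτ
  have e5 : f * (z * ee z t x i) * f⁻¹ = z * ee z t x (τ i) := P.act_cc (ht'z j) (ht't j) hτ i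
  rw [← hg, hfi, e4] at e5
  have hτi : τ i ≠ i := by
    intro h1
    rw [h1, ← hg] at e5
    exact Q.c_ne_one h m (mul_eq_right.1 e5)
  obtain ⟨hk, -⟩ := perm_inv_fix τ hττ i hτi
  set k := th3 i (τ i) with hkdef
  have hτ1 : τ ≠ 1 := by rintro rfl; exact hτi rfl
  -- `t'_m = t_k`
  have e6 : t * ee t z l m = z * ee z t x k := by
    have h1 : t * ee t z l m = z * ee z t x (τ i) * g := by
      rw [← e5, mul_assoc, hgg, mul_one]
    rw [h1, hg, P.c_mul h, ← P.c_ne h (Ne.symm hτi), P.c_mul h, P.e_comm h]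
  have o1 : f * x k * f⁻¹ = z * x k := P.q.outer_inv (ht'z j) (ht'2 j) hτ hτ1 hk
  have o2 : g * l m * g⁻¹ = t * l m := Q.q.outer_inv hgt hgg hσ hne hm
  rw [mul_inv_eq_iff_eq_mul] at o1 o2
  have A1 : x k * f * (x k)⁻¹ = z * f := by
    rw [mul_inv_eq_iff_eq_mul]
    calc x k * f = z * (z * x k * f) := by rw [mul_assoc z (x k), P.q.zzx]
      _ = z * (f * x k) := by rw [o1]
      _ = _ := by group
  have B1 : l m * g * (l m)⁻¹ = t * g := by
    rw [mul_inv_eq_iff_eq_mul]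
    calc l m * g = t * (t * l m * g) := by rw [mul_assoc t (l m), Q.q.zzx]
      _ = t * (g * l m) := by rw [o2]
      _ = _ := by group
  have hs : l m * z * (l m)⁻¹ = x k * t * (x k)⁻¹ := by
    rw [Q.conj_t h, P.conj_t h]
    have h1 : ee t z l m = t * (z * ee z t x k) := by rw [← e6, Q.q.zzx]
    rw [h1, ← mul_assoc, hzt, mul_assoc, P.q.zzx]
  have hA : z * f ∈ RZ Om (x k * t * (x k)⁻¹) := by
    rw [← A1]; exact RZ_conj h _ (Q.c_mem h j)
  have hB : t * g ∈ RZ Om (x k * t * (x k)⁻¹) := by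
    rw [← B1, ← hs]; exact RZ_conj h _ (P.c_mem h i)
  have hZ : InZ Om (x k * t * (x k)⁻¹) := P.pr.ht.conj h _
  -- `f g = t'_m g f`
  have hff : f * f = 1 := ht'2 j
  have e7 : f * g = t * ee t z l m * (g * f) := by
    calc f * g = f * g * (f * f) := by rw [hff, mul_one]
      _ = f * g * f * f := by group
      _ = t * ee t z l m * g * f := by rw [e4]
      _ = _ := by group
  have e8 : z * f * (t * g) = t * ee t z l m * (t * g * (z * f)) := by
    have hft : f * t = t * f := ht't j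
    have hmz := ht'z m
    have hmt := ht't m
    generalize t * ee t z l m = n at e7 hmz hmt
    calc z * f * (t * g) = z * (f * t) * g := by group
      _ = z * (t * f) * g := by rw [hft]
      _ = (z * t) * (f * g) := by group
      _ = (z * t) * (n * (g * f)) := by rw [e7]
      _ = z * (t * n) * (g * f) := by group
      _ = z * (n * t) * (g * f) := by rw [hmt]
      _ = (z * n) * t * (g * f) := by group
      _ = (n * z) * t * (g * f) := by rw [hmz]
      _ = n * (z * t) * g * f := by group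
      _ = n * (t * z) * g * f := by rw [hzt]
      _ = n * t * (z * g) * f := by group
      _ = n * t * (g * z) * f := by rw [hgz]
      _ = _ := by group
  rcases RZ_comm_or h hZ hA hB with h1 | h1
  · rw [e8] at h1
    exact Q.c_ne_one h m (mul_eq_right.1 h1)
  · rw [e8, P.conj_t h] at h1
    have h2 := mul_right_cancel h1
    rw [e6] at h2
    exact P.pr.ne (mul_right_cancel h2)

/-- U2 (2) -/
theorem kind_one (P : HP Om z t K x) (Q : HP Om t z L l) (h : W2 Om) (hn : NoOne Om) (i : Fin 3) :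
    z * ee z t x i ∈ CX Om t ∨ ∃ j, z * ee z t x i = t * ee t z l j := by
  obtain ⟨σ, hσ, -⟩ := P.exists_actN Q h hn i
  have h1 := P.act_one Q h hn hσ
  subst h1
  set g := z * ee z t x i with hg
  have hzt : z * t = t * z := P.pr.comm
  have hgz : g * z = z * g := P.c_z h i
  have hgt : g * t = t * g := P.c_t h i
  have hgg : g * g = 1 := P.c_sq h i
  rcases Q.q.inner_cases (hσ.inner Q.q hgt) with h1 | ⟨j, h1⟩
  · exact Or.inl (Q.mem_CX_of h hgz h1)
  · right
    refine ⟨j, ?_⟩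
    have ht'z : (t * ee t z l j) * z = z * (t * ee t z l j) := Q.c_t h j
    have ht't : (t * ee t z l j) * t = t * (t * ee t z l j) := Q.c_z h j
    have ht'2 : (t * ee t z l j) * (t * ee t z l j) = 1 := Q.c_sq h j
    have hmem : g * (t * ee t z l j) ∈ CX Om t := by
      have h2 := mul_mem (Q.mul_e_mem h hgz h1) (z_mem_CX (Om := Om) (z := t) h)
      have e : g * ee t z l j * t = g * (t * ee t z l j) := by rw [mul_assoc, Q.e_z h]
      rwa [e] at h2
    -- `g` commutes with `l j`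
    have hgl : g * l j * g⁻¹ = l j := by rw [h1 _ (Q.q.mem j), mul_inv_cancel_right]
    have hgl' : l j * g * (l j)⁻¹ = g := by
      rw [mul_inv_eq_iff_eq_mul] at hgl ⊢; exact hgl.symm
    set q0 := l j * z * (l j)⁻¹ with hq0
    have hq1 : q0 = z * ee t z l j := Q.conj_t h j
    have hq2 : q0 = z * t * (t * ee t z l j) := by
      rw [hq1, mul_assoc, Q.q.zzx]
    have hqZ : InZ Om q0 := P.pr.hz.conj h _
    have hgq : g ∈ RZ Om q0 := by
      rw [← hgl']; exact RZ_conj h _ (P.c_mem h i)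
    have hqz : z * q0 = q0 * z := by
      rw [hq1, mul_assoc, Q.e_t h]
    have hqne : z ≠ q0 := by
      rw [hq1]; exact fun h2 => Q.e_ne_one h j (mul_eq_left.1 h2.symm)
    have hsw : Sw Om z q0 := by
      rw [hq2, mul_assoc]
      exact Fx.mul_sw ((Inn.of_CX (z_mem_CX h)).fx h) (P.pr.sw'.mul_fx (Q.fx_ze h hn j))
    have P' : HP Om z q0 K x := ⟨⟨P.pr.hz, hqZ, hqne, hqz, hsw⟩, P.hK, P.q⟩
    -- the action of `t'_j` on `x i`
    obtain ⟨τ, hτ, -⟩ := Q.exists_actN P h hn j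
    have hτ1 := Q.act_one P h hn hτ
    subst hτ1
    have hqx : q0 * x i * q0⁻¹ = t * ((t * ee t z l j) * x i * (t * ee t z l j)⁻¹) * t⁻¹ := by
      rw [hq2]
      have e : ∀ f : G, z * t * f * x i * (z * t * f)⁻¹ = z * (t * (f * x i * f⁻¹) * t⁻¹) * z⁻¹ := by
        intro f; group
      rw [e, mul_inv_eq_iff_eq_mul]
      have h5 : t * ((t * ee t z l j) * x i * (t * ee t z l j)⁻¹) * t⁻¹ ∈ cj t K :=
        conj_mem_cj (by
          have := hτ i
          rcases this with h6 | h6 <;> rw [h6]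
          · exact P.q.mem _
          · exact mul_mem P.q.zmem (P.q.mem _))
      exact ((P.hK' h).comm_z h h5).symm
    rcases hτ i with h2 | h2
    · -- commuting
      simp only [Equiv.Perm.coe_one, id_eq] at h2
      have h3 : x i * (t * ee t z l j) * (x i)⁻¹ = t * ee t z l j := by
        rw [mul_inv_eq_iff_eq_mul] at h2 ⊢; exact h2.symm
      have hxz : x i * z * (x i)⁻¹ = z := by rw [← P.q.zc i, mul_inv_cancel_right]
      have h4 : x i * q0 * (x i)⁻¹ = t * (g * (t * ee t z l j)) := by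
        rw [hq2]
        calc x i * (z * t * (t * ee t z l j)) * (x i)⁻¹ =
            (x i * z * (x i)⁻¹) * (x i * t * (x i)⁻¹) * (x i * (t * ee t z l j) * (x i)⁻¹) := by group
          _ = z * (t * ee z t x i) * (t * ee t z l j) := by rw [hxz, P.conj_t h, h3]
          _ = (z * t) * ee z t x i * (t * ee t z l j) := by group
          _ = _ := by rw [hzt, hg]; group
      have h5 : InZ Om (t * (g * (t * ee t z l j))) := by rw [← h4]; exact hqZ.conj h _
      have h6 := eq_of_CX' h P.pr.ht h5 (mul_mem (z_mem_CX h) hmem)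
      have h7 : g * (t * ee t z l j) = 1 := mul_eq_left.1 h6
      rw [mul_eq_one_iff_eq_inv] at h7
      rw [h7, inv_eq_of_mul_eq_one_right ht'2]
    · exfalso
      simp only [Equiv.Perm.coe_one, id_eq] at h2
      have h3 : z * ee z q0 x i = z * g := by
        rw [← P'.xx_eq, hqx, h2]
        have e : t * (z * x i) * t⁻¹ = z * (t * x i * t⁻¹) := by
          calc t * (z * x i) * t⁻¹ = (t * z) * x i * t⁻¹ := by group
            _ = _ := by rw [← hzt]; group
        rw [e, ← mul_assoc, ← P.q.zc, mul_assoc, P.xx_eq]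
      have h4 := P'.fx_ze h hn i
      rw [h3] at h4
      have h5 : Fx Om q0 g := (Inn.of_RZ hqZ h hgq).fx h
      have h6 : Sw Om q0 (z * g) := (P'.sw_z h hn).mul_fx h5
      exact fx_sw_false hqZ h4 h6

/-- **KINDS LEMMA** -/
theorem kinds (P : HP Om z t K x) (Q : HP Om t z L l) (h : W2 Om) (hn : NoOne Om) :
    (∀ i, z * ee z t x i ∈ CX Om t) ∨ (∀ i, ∃ j, z * ee z t x i = t * ee t z l j) := by
  have ht : ¬ InZ Om (t * z) := by
    rw [← P.pr.comm]; exact P.pr.not_inZ h hn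
  -- an element of `R_z ∩ R_t ∩ X_t`
  have key : ∀ i k, z * ee z t x k = t * ee t z l i → z * ee z t x k ∈ CX Om t → False := by
    intro i k h1 h2
    rcases RTwo.RZ_inf_CX h P.pr.ht (by rw [h1]; exact Q.c_mem h i) h2 with h3 | h3
    · exact P.c_ne_one h k h3
    · exact P.pr.ne (hn.eq_of_RZ h P.pr.hz P.pr.ht (by rw [← h3]; exact P.c_mem h k)).symm
  have hall : ∀ i k, i ≠ k → z * ee z t x i ∈ CX Om t → z * ee z t x k ∈ CX Om t := by
    intro i k hik h1
    rcases P.kind_one Q h hn k with h2 | ⟨j, h2⟩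
    · exact h2
    exfalso
    have h3 := P.c_ne h hik
    rcases P.kind_one Q h hn (th3 i k) with h4 | ⟨m, h4⟩
    · apply key j k h2
      rw [← h3] at h4
      exact (mul_mem_cancel_left h1).1 h4
    · have h5 : z * ee z t x i ∈ RZ Om t := by
        have h6 : z * ee z t x i * (z * ee z t x k) ∈ RZ Om t := by rw [h3, h4]; exact Q.c_mem h m
        exact (mul_mem_cancel_right (by rw [h2]; exact Q.c_mem h j)).1 h6
      rcases RTwo.RZ_inf_CX h P.pr.ht h5 h1 with h6 | h6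
      · exact P.c_ne_one h i h6
      · exact P.pr.ne (hn.eq_of_RZ h P.pr.hz P.pr.ht (by rw [← h6]; exact P.c_mem h i)).symm
  by_cases h0 : z * ee z t x 0 ∈ CX Om t
  · left
    intro i
    by_cases hi : (0 : Fin 3) = i
    · rw [← hi]; exact h0
    · exact hall 0 i hi h0
  · right
    intro i
    rcases P.kind_one Q h hn i with h1 | h1
    · exfalso
      by_cases hi : i = 0
      · rw [hi] at h1; exact h0 h1
      · exact h0 (hall i 0 hi h1)
    · exact h1

end HP

end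

end Cfsg.Agent.Cit.Nil.RTwo
end

-- part: Cit/Nil/RTwo/UJoin
section
prune_inst 0x30440058000000001800042200204048000192006000014040064003488141a045010130c022109112ae70280a800001180149427800002a008a0040040000042832c29048100001000040f807180c00000000000000000000000000000000000000000
set_option linter.all false
open scoped Cfsg.Agent.FastGrp

/-!
# Joined and disjoint pairs: section U3 of `CIT-6b-r2m1-U-helper141.md`

* `FP Om z t K x L l` (TTwo) : joined pair with adapted coordinates (`t e_i = z f_i`);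
* `DP Om z t K x L l` : disjoint pair;
* `HP.joined_or` : KINDS LEMMA, final form; `JN`, `DJ` : the same without coordinates;
* `DP.lab` : `(z, z t_i t'_j)` is a line with label `z t'_j`; `DP.fp` : `(z, z t t'_j)` is joined;
* `FP.cx` : `C_X(t) = ⟨z⟩ (X_z ∩ X_t)`;
* `FP.six`, `FP.seven` : labels `c` commuting with `t`.
-/

set_option autoImplicit false
set_option linter.style.haveILetI false
set_option linter.unusedSectionVars false
set_option maxHeartbeats 400000

namespace Cfsg.Agent.Cit.Nil.RTwo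

open Subgroup Cfsg Cit

variable {G : Type*} [Group G]

/-- a disjoint pair of type p: `T ≤ X_t`, `T' ≤ X_z` -/
structure DP (Om : Set (Subgroup G)) (z t : G) (K : Subgroup G) (x : Fin 3 → G) (L : Subgroup G)
    (l : Fin 3 → G) : Prop where
  P : HP Om z t K x
  Q : HP Om t z L l
  cx : ∀ i, z * ee z t x i ∈ CX Om t
  cx' : ∀ j, t * ee t z l j ∈ CX Om z

/-- joined pair -/
def JN (Om : Set (Subgroup G)) (z t : G) : Prop := ∃ K x L l, FP Om z t K x L l

/-- disjoint pair -/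
def DJ (Om : Set (Subgroup G)) (z t : G) : Prop := ∃ K x L l, DP Om z t K x L l

section

variable [Finite G] {Om : Set (Subgroup G)} {K K1 K2 L M L1 L2 : Subgroup G} {z t u v g r s x y w c c' : G}
  {a b p q : Fin 3 → G}

namespace HP

variable {x l : Fin 3 → G} {i j : Fin 3}

theorem exists_fpN (P : HP Om z t K x) (Q : HP Om t z L l) (h : W2 Om)
    (h1 : ∀ i, ∃ j, z * ee z t x i = t * ee t z l j) : ∃ l', FP Om z t K x L l' := by
  have hzt : z * t = t * z := P.pr.comm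
  have h1' : ∀ i, ∃ a, t * ee z t x i = z * ee t z l a := by
    intro i
    obtain ⟨a, ha⟩ := h1 i
    refine ⟨a, ?_⟩
    have h2 : ee z t x i = z * (t * ee t z l a) := by rw [← ha, P.q.zzx]
    rw [h2]
    calc t * (z * (t * ee t z l a)) = (t * z) * (t * ee t z l a) := by group
      _ = z * (t * (t * ee t z l a)) := by rw [← hzt]; group
      _ = _ := by rw [Q.q.zzx]
  choose a ha using h1'
  have hinj : Function.Injective a := by
    intro i j hij
    apply P.e_inj h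
    have h2 := ha i
    rw [hij, ← ha j] at h2
    exact mul_left_cancel h2
  obtain ⟨l', hl', hσ⟩ := Q.q.perm (Equiv.ofBijective a (Finite.injective_iff_bijective.1 hinj))
  refine ⟨l', P, ⟨Q.pr, Q.hK, hl'⟩, fun i => ?_⟩
  rw [ha i]
  congr 1
  have h2 : l' i = l (a i) ∨ l' i = t * l (a i) := hσ i
  rcases h2 with h2 | h2
  · rw [ee, ee, h2]
  · rw [ee, ee, h2]
    calc t * l (a i) * (z * l (a i) * z⁻¹)
        = t * l (a i) * (z * l (a i) * z⁻¹) * (t * t) := by rw [P.t2 h, mul_one]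
      _ = t * (l (a i) * t) * (z * l (a i) * z⁻¹) * t := by
        have h3 := Q.q'.zc (a i)
        calc t * l (a i) * (z * l (a i) * z⁻¹) * (t * t) = t * l (a i) * ((z * l (a i) * z⁻¹) * t) * t := by group
          _ = t * l (a i) * (t * (z * l (a i) * z⁻¹)) * t := by rw [h3]
          _ = _ := by group
      _ = t * (t * l (a i)) * ((z * l (a i) * z⁻¹) * t) := by rw [Q.q.zc]; group
      _ = t * (t * l (a i)) * (t * (z * l (a i) * z⁻¹)) := by rw [← Q.q'.zc (a i)]
      _ = t * (t * l (a i)) * ((t * z) * l (a i) * z⁻¹) := by group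
      _ = _ := by rw [← hzt]; group

/-- **KINDS LEMMA**, final form -/
theorem joined_or (P : HP Om z t K x) (Q : HP Om t z L l) (h : W2 Om) (hn : NoOne Om) :
    (∃ l', FP Om z t K x L l') ∨ DP Om z t K x L l := by
  rcases P.kinds Q h hn with h1 | h1
  · rcases Q.kinds P h hn with h2 | h2
    · exact Or.inr ⟨P, Q, h1, h2⟩
    · exfalso
      obtain ⟨j, hj⟩ := h2 0
      rcases RTwo.RZ_inf_CX h P.pr.ht (Q.c_mem h 0) (by rw [hj]; exact h1 j) with h3 | h3
      · exact Q.c_ne_one h 0 h3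
      · exact P.pr.ne (hn.eq_of_RZ h P.pr.hz P.pr.ht (by rw [← h3, hj]; exact P.c_mem h j)).symm
  · exact Or.inl (P.exists_fpN Q h h1)

/-- the elements of `R_z` commuting with `t` and fixing the members over `t` -/
theorem tt_iff (P : HP Om z t K x) (h : W2 Om) (hn : NoOne Om) :
    (r ∈ RZ Om z ∧ r * t = t * r ∧ Fx Om t r) ↔ (r = 1 ∨ ∃ i, r = z * ee z t x i) := by
  constructor
  · rintro ⟨h1, h2, h3⟩
    rcases P.RZ_comm h h1 h2 with h4 | h4 | ⟨i, h4 | h4⟩
    · exact Or.inl h4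
    · exact absurd (P.sw_z h hn) fun h5 => fx_sw_false P.pr.ht h3 (by rw [h4]; exact h5)
    · exact absurd (P.sw_e h hn i) fun h5 => fx_sw_false P.pr.ht h3 (by rw [h4]; exact h5)
    · exact Or.inr ⟨i, h4⟩
  · rintro (rfl | ⟨i, rfl⟩)
    · refine ⟨one_mem _, by group, fun M _ => ?_⟩
      exact cj_one M
    · exact ⟨P.c_mem h i, P.c_t h i, P.fx_ze h hn i⟩

end HP

namespace FP

variable {x l : Fin 3 → G} {i j : Fin 3}

/-- `T = T'` -/
theorem c_eq (F : FP Om z t K x L l) (h : W2 Om) (i : Fin 3) : z * ee z t x i = t * ee t z l i := by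
  have hzt : z * t = t * z := F.P.pr.comm
  have h1 : ee z t x i = t * (z * ee t z l i) := by
    rw [← F.eq i, F.Q.q.zzx]
  rw [h1]
  calc z * (t * (z * ee t z l i)) = (z * t) * (z * ee t z l i) := by group
    _ = t * (z * (z * ee t z l i)) := by rw [hzt]; group
    _ = _ := by rw [F.P.q.zzx]

theorem c_mem' (F : FP Om z t K x L l) (h : W2 Om) (i : Fin 3) : z * ee z t x i ∈ RZ Om t := by
  rw [F.c_eq h]; exact F.Q.c_mem h i

/-- `C_X(t) = ⟨z⟩ (X_z ∩ X_t)` -/
theorem cx (F : FP Om z t K x L l) (h : W2 Om) (hn : NoOne Om) (hy : y ∈ CX Om z) (hyt : y * t = t * y) :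
    y ∈ CX Om t ∨ z * y ∈ CX Om t := by
  have hzt : z * t = t * z := F.P.pr.comm
  have key : ∀ y, y ∈ CX Om z → y * t = t * y → cj y L = L → y ∈ CX Om t := by
    intro y hy hyt hf
    have hyz : y * z = z * y := CX_le F.P.pr.hz h hy
    have hye : ∀ i, y * ee t z l i = ee t z l i * y := by
      intro i
      have h1 : ee t z l i = z * t * ee z t x i := by
        rw [mul_assoc, F.eq i, F.P.q.zzx]
      rw [h1]
      have h2 : y * ee z t x i = ee z t x i * y := CX_comm (F.P.e_mem h i) hy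
      calc y * (z * t * ee z t x i) = (y * z) * t * ee z t x i := by group
        _ = z * (y * t) * ee z t x i := by rw [hyz]; group
        _ = z * t * (y * ee z t x i) := by rw [hyt]; group
        _ = _ := by rw [h2]; group
    rcases F.Q.cases_of_fix h hyz hyt hye hf with h1 | ⟨j, h1⟩
    · exact h1
    · exact F.mem_of_mul h hy h1
  rcases fx_or_sw h F.P.pr.ht hyt with h1 | h1
  · exact Or.inl (key y hy hyt (h1 L F.Q.hK))
  · right
    refine key _ (mul_mem (z_mem_CX h) hy) ?_ ?_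
    · rw [mul_assoc, hyt, ← mul_assoc, hzt, mul_assoc]
    · exact (F.P.sw_z h hn).mul h h1 hzt hyt L F.Q.hK

/-- `l_i z l_i⁻¹ = t e_i` -/
theorem conj_z (F : FP Om z t K x L l) (h : W2 Om) (i : Fin 3) : l i * z * (l i)⁻¹ = t * ee z t x i := by
  rw [F.conj_eq h, F.P.conj_t h]

/-- `l_i` commutes with `z e_i` -/
theorem conj_c (F : FP Om z t K x L l) (h : W2 Om) (i : Fin 3) :
    l i * (z * ee z t x i) * (l i)⁻¹ = z * ee z t x i := by
  rw [F.c_eq h]
  calc l i * (t * ee t z l i) * (l i)⁻¹ = (l i * t) * ee t z l i * (l i)⁻¹ := by group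
    _ = t * (l i * ee t z l i * (l i)⁻¹) := by rw [← F.Q.q.zc]; group
    _ = _ := by rw [F.Q.x_e_self h]

/-- (3): the other element of `Z ∩ t X_z` commuting with `t` -/
theorem three (F : FP Om z t K x L l) (h : W2 Om) (hn : NoOne Om) (hs : InZ Om s) (hst : s * t = t * s)
    (hne : s ≠ t) (hx : t * s ∈ CX Om z) :
    z * (t * s) ∈ CX Om t ∧ ∀ i, InZ Om (t * s * (z * ee z t x i)) := by
  have hzt : z * t = t * z := F.P.pr.comm
  have ht2 : t * t = 1 := F.P.t2 h
  have h1 : t * s * t = t * (t * s) := by rw [mul_assoc, hst]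
  have h2 : z * (t * s) ∈ CX Om t := by
    rcases F.cx h hn hx h1 with h3 | h3
    · exfalso
      apply hne
      refine eq_of_CX' h F.P.pr.ht hs ?_
      have h4 := mul_mem (inv_mem (z_mem_CX (Om := Om) (z := t) h)) h3
      rwa [inv_mul_cancel_left] at h4
    · exact h3
  refine ⟨h2, fun i => ?_⟩
  -- `s = t z y`, `y = z t s ∈ X_t`
  have h5 : l i * s * (l i)⁻¹ = t * s * (z * ee z t x i) := by
    set y := z * (t * s) with hy
    have hly : l i * y * (l i)⁻¹ = y := by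
      rw [← mem_CX.1 h2 L F.Q.hK _ (F.Q.q.mem i), mul_inv_cancel_right]
    have hs' : s = t * z * y := by
      rw [hy]
      calc s = (t * t) * s := by rw [ht2, one_mul]
        _ = t * (z * z) * (t * s) := by rw [F.P.q.z2]; group
        _ = _ := by group
    have hlt : l i * t * (l i)⁻¹ = t := by rw [← F.Q.q.zc, mul_inv_cancel_right]
    have hxz : t * s * z = z * (t * s) := CX_le F.P.pr.hz h hx
    have hxe : ee z t x i * (z * (t * s)) = z * (t * s) * ee z t x i :=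
      (CX_comm (F.P.e_mem h i) (mul_mem (z_mem_CX h) hx)).symm
    calc l i * s * (l i)⁻¹ = l i * (t * z * y) * (l i)⁻¹ := by rw [← hs']
      _ = (l i * t * (l i)⁻¹) * (l i * z * (l i)⁻¹) * (l i * y * (l i)⁻¹) := by group
      _ = t * (t * ee z t x i) * y := by rw [hlt, hly, F.conj_z h]
      _ = ee z t x i * y := by rw [F.Q.q.zzx]
      _ = z * (t * s) * ee z t x i := by rw [hy]; exact hxe
      _ = _ := by rw [← hxz]; group
  rw [← h5]
  exact hs.conj h _

/-- TYPE 6 -/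
theorem six (F : FP Om z t K x L l) (h : W2 Om) (hc : c ∈ CX Om z) (hct : c ∈ CX Om t)
    (hZ : InZ Om (z * (z * ee z t x i) * c)) : InZ Om (z * t * c) := by
  have hlc : l i * c * (l i)⁻¹ = c := by
    rw [← mem_CX.1 hct L F.Q.hK _ (F.Q.q.mem i), mul_inv_cancel_right]
  have h1 : l i * (z * (z * ee z t x i) * c) * (l i)⁻¹ = z * t * c := by
    have hzt : z * t = t * z := F.P.pr.comm
    calc l i * (z * (z * ee z t x i) * c) * (l i)⁻¹ =
        (l i * z * (l i)⁻¹) * (l i * (z * ee z t x i) * (l i)⁻¹) * (l i * c * (l i)⁻¹) := by group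
      _ = t * ee z t x i * (z * ee z t x i) * c := by rw [F.conj_z h, F.conj_c h, hlc]
      _ = t * (ee z t x i * z) * ee z t x i * c := by group
      _ = t * z * (ee z t x i * ee z t x i) * c := by rw [F.P.e_z h]; group
      _ = _ := by rw [F.P.e_sq h, mul_one, ← hzt]
  rw [← h1]
  exact hZ.conj h _

/-- TYPE 7 -/
theorem seven (F : FP Om z t K x L l) (h : W2 Om) (hc : c ∈ CX Om z) (hct : z * c ∈ CX Om t)
    (hZ : InZ Om (z * ee z t x i * c)) : l i * (z * ee z t x i * c) * (l i)⁻¹ = t * c ∧ InZ Om (t * c) := by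
  have hlc : l i * (z * c) * (l i)⁻¹ = z * c := by
    rw [← mem_CX.1 hct L F.Q.hK _ (F.Q.q.mem i), mul_inv_cancel_right]
  have hcz : c * z = z * c := CX_le F.P.pr.hz h hc
  have h1 : l i * (z * ee z t x i * c) * (l i)⁻¹ = t * c := by
    have e : z * ee z t x i * c = z * ee z t x i * z * (z * c) := by
      calc z * ee z t x i * c = z * ee z t x i * (z * z) * c := by rw [F.P.q.z2, mul_one]
        _ = _ := by group
    rw [e]
    calc l i * (z * ee z t x i * z * (z * c)) * (l i)⁻¹ =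
        (l i * (z * ee z t x i) * (l i)⁻¹) * (l i * z * (l i)⁻¹) * (l i * (z * c) * (l i)⁻¹) := by group
      _ = z * ee z t x i * (t * ee z t x i) * (z * c) := by rw [F.conj_z h, F.conj_c h, hlc]
      _ = z * (ee z t x i * t) * ee z t x i * (z * c) := by group
      _ = z * t * (ee z t x i * ee z t x i) * (z * c) := by rw [F.P.e_t h]; group
      _ = (z * t) * z * c := by rw [F.P.e_sq h]; group
      _ = t * (z * z) * c := by rw [F.P.pr.comm]; group
      _ = _ := by rw [F.P.q.z2, mul_one]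
  refine ⟨h1, ?_⟩
  rw [← h1]
  exact hZ.conj h _

theorem conj (F : FP Om z t K x L l) (h : W2 Om) (g : G) :
    FP Om (g * z * g⁻¹) (g * t * g⁻¹) (cj g K) (fun i => g * x i * g⁻¹) (cj g L) (fun i => g * l i * g⁻¹) := by
  refine ⟨⟨F.P.pr.conj h g, F.P.hK.cj h g, F.P.q.conj g⟩, ⟨F.Q.pr.conj h g, F.Q.hK.cj h g, F.Q.q.conj g⟩,
    fun i => ?_⟩
  have e1 : g * t * g⁻¹ * ee (g * z * g⁻¹) (g * t * g⁻¹) (fun i => g * x i * g⁻¹) i = g * (t * ee z t x i) * g⁻¹ := by
    rw [ee, ee]; group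
  have e2 : g * z * g⁻¹ * ee (g * t * g⁻¹) (g * z * g⁻¹) (fun i => g * l i * g⁻¹) i = g * (z * ee t z l i) * g⁻¹ := by
    rw [ee, ee]; group
  rw [e1, e2, F.eq i]

end FP

namespace DP

variable {x l : Fin 3 → G} {i j : Fin 3}

theorem symm (D : DP Om z t K x L l) : DP Om t z L l K x := ⟨D.Q, D.P, D.cx', D.cx⟩

theorem not_joined (D : DP Om z t K x L l) (h : W2 Om) (hn : NoOne Om) (h1 : z * ee z t x i ∈ RZ Om t) : False := by
  rcases RTwo.RZ_inf_CX h D.P.pr.ht h1 (D.cx i) with h3 | h3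
  · exact D.P.c_ne_one h i h3
  · exact D.P.pr.ne (hn.eq_of_RZ h D.P.pr.hz D.P.pr.ht (by rw [← h3]; exact D.P.c_mem h i)).symm

theorem conj_c (D : DP Om z t K x L l) (h : W2 Om) (i j : Fin 3) :
    l j * (z * ee z t x i) * (l j)⁻¹ = z * ee z t x i := by
  rw [← mem_CX.1 (D.cx i) L D.Q.hK _ (D.Q.q.mem j), mul_inv_cancel_right]

theorem conj_c' (D : DP Om z t K x L l) (h : W2 Om) (i j : Fin 3) :
    x i * (t * ee t z l j) * (x i)⁻¹ = t * ee t z l j := D.symm.conj_c h j i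

/-- `l_j` commutes with `t'_j` -/
theorem conj_self (D : DP Om z t K x L l) (h : W2 Om) (j : Fin 3) :
    l j * (t * ee t z l j) * (l j)⁻¹ = t * ee t z l j := by
  calc l j * (t * ee t z l j) * (l j)⁻¹ = (l j * t) * ee t z l j * (l j)⁻¹ := by group
    _ = t * (l j * ee t z l j * (l j)⁻¹) := by rw [← D.Q.q.zc]; group
    _ = _ := by rw [D.Q.x_e_self h]

/-- `g = l_j x_i` maps `t` to `z t_i t'_j` -/
theorem conj_t (D : DP Om z t K x L l) (h : W2 Om) (i j : Fin 3) :
    (l j * x i) * t * (l j * x i)⁻¹ = z * (z * ee z t x i) * (t * ee t z l j) := by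
  have h1 : x i * t * (x i)⁻¹ = t * z * (z * ee z t x i) := by
    rw [D.P.conj_t h, mul_assoc t z, D.P.q.zzx]
  have hlt : l j * t * (l j)⁻¹ = t := by rw [← D.Q.q.zc, mul_inv_cancel_right]
  have hzt : z * t = t * z := D.P.pr.comm
  have hct : t * (z * ee z t x i) = z * ee z t x i * t := (D.P.c_t h i).symm
  have hce : ee t z l j * (z * ee z t x i) = z * ee z t x i * ee t z l j :=
    (CX_comm (D.Q.e_mem h j) (D.cx i)).symm
  calc (l j * x i) * t * (l j * x i)⁻¹ = l j * (x i * t * (x i)⁻¹) * (l j)⁻¹ := by group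
    _ = l j * (t * z * (z * ee z t x i)) * (l j)⁻¹ := by rw [h1]
    _ = (l j * t * (l j)⁻¹) * (l j * z * (l j)⁻¹) * (l j * (z * ee z t x i) * (l j)⁻¹) := by group
    _ = t * (z * ee t z l j) * (z * ee z t x i) := by rw [hlt, D.Q.conj_t h, D.conj_c h]
    _ = (t * z) * (ee t z l j * (z * ee z t x i)) := by group
    _ = (z * t) * ((z * ee z t x i) * ee t z l j) := by rw [hce, hzt]
    _ = z * (t * (z * ee z t x i)) * ee t z l j := by group
    _ = z * ((z * ee z t x i) * t) * ee t z l j := by rw [hct]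
    _ = _ := by group

/-- `g = l_j x_i` maps `t t_i` to `z t'_j` -/
theorem conj_tc (D : DP Om z t K x L l) (h : W2 Om) (i j : Fin 3) :
    (l j * x i) * (t * (z * ee z t x i)) * (l j * x i)⁻¹ = z * (t * ee t z l j) := by
  have hxc : x i * (z * ee z t x i) * (x i)⁻¹ = z * ee z t x i := by
    calc x i * (z * ee z t x i) * (x i)⁻¹ = (x i * z) * ee z t x i * (x i)⁻¹ := by group
      _ = z * (x i * ee z t x i * (x i)⁻¹) := by rw [← D.P.q.zc]; group
      _ = _ := by rw [D.P.x_e_self h]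
  have e : (l j * x i) * (t * (z * ee z t x i)) * (l j * x i)⁻¹ = ((l j * x i) * t * (l j * x i)⁻¹) *
      (l j * (x i * (z * ee z t x i) * (x i)⁻¹) * (l j)⁻¹) := by group
  rw [e, D.conj_t h, hxc, D.conj_c h]
  have hcc : (t * ee t z l j) * (z * ee z t x i) = z * ee z t x i * (t * ee t z l j) :=
    (CX_comm (D.Q.c_mem h j) (D.cx i)).symm
  calc z * (z * ee z t x i) * (t * ee t z l j) * (z * ee z t x i) =
      z * (z * ee z t x i) * ((t * ee t z l j) * (z * ee z t x i)) := by group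
    _ = z * ((z * ee z t x i) * (z * ee z t x i)) * (t * ee t z l j) := by rw [hcc]; group
    _ = _ := by rw [D.P.c_sq h, mul_one]

/-- U2 (3): `(z, z t_i t'_j)` is a line with label `z t'_j` -/
theorem lab (D : DP Om z t K x L l) (h : W2 Om) (i j : Fin 3) :
    Lab Om z (z * (z * ee z t x i) * (t * ee t z l j)) (z * (t * ee t z l j)) := by
  have hzT : z * ee z t x i * z = z * (z * ee z t x i) := D.P.c_z h i
  have hzT' : t * ee t z l j * z = z * (t * ee t z l j) := D.Q.c_t h j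
  have hcc : (t * ee t z l j) * (z * ee z t x i) = z * ee z t x i * (t * ee t z l j) :=
    (CX_comm (D.Q.c_mem h j) (D.cx i)).symm
  have hTT' : t * ee t z l j * (t * ee t z l j) = 1 := D.Q.c_sq h j
  have hZ : InZ Om (z * (z * ee z t x i) * (t * ee t z l j)) := by
    rw [← D.conj_t h]; exact D.P.pr.ht.conj h _
  have hz2 := D.P.q.z2
  have hmul : z * (z * ee z t x i) * (t * ee t z l j) * (z * (t * ee t z l j)) = z * ee z t x i := by
    calc z * (z * ee z t x i) * (t * ee t z l j) * (z * (t * ee t z l j)) =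
        z * (z * ee z t x i) * ((t * ee t z l j) * z) * (t * ee t z l j) := by group
      _ = z * ((z * ee z t x i) * z) * ((t * ee t z l j) * (t * ee t z l j)) := by rw [hzT']; group
      _ = (z * z) * (z * ee z t x i) := by rw [hTT', hzT]; group
      _ = _ := by rw [hz2, one_mul]
  refine ⟨⟨D.P.pr.hz, hZ, ?_, ?_, ?_⟩, ?_, mul_mem (z_mem_CX h) (D.cx' j), ?_, ?_, ?_⟩
  · intro e
    rw [mul_assoc] at e
    have h1 : (z * ee z t x i) * (t * ee t z l j) = 1 := mul_eq_left.1 e.symm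
    rw [mul_eq_one_iff_eq_inv, inv_eq_of_mul_eq_one_right hTT'] at h1
    rcases RTwo.RZ_inf_CX h D.P.pr.hz (D.P.c_mem h i) (by rw [h1]; exact D.cx' j) with h3 | h3
    · exact D.P.c_ne_one h i h3
    · exact D.P.e_ne_one h i (mul_eq_left.1 h3)
  · calc z * (z * (z * ee z t x i) * (t * ee t z l j)) = z * (z * (z * ee z t x i)) * (t * ee t z l j) := by group
      _ = z * ((z * ee z t x i) * z) * (t * ee t z l j) := by rw [hzT]
      _ = z * (z * ee z t x i) * (z * (t * ee t z l j)) := by group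
      _ = z * (z * ee z t x i) * ((t * ee t z l j) * z) := by rw [hzT']
      _ = _ := by group
  · exact ((Inn.of_RZ D.P.pr.hz h (mul_mem (z_mem_RZ D.P.pr.hz h) (D.P.c_mem h i))).mul
      (Inn.of_CX (D.cx' j)) D.P.pr.hz h)
  · calc z * (t * ee t z l j) * (z * (t * ee t z l j)) = z * ((t * ee t z l j) * z) * (t * ee t z l j) := by group
      _ = (z * z) * ((t * ee t z l j) * (t * ee t z l j)) := by rw [hzT']; group
      _ = 1 := by rw [hz2, hTT', one_mul]
  · rw [← D.conj_tc h i j, ← D.conj_t h i j]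
    exact (CX_conj h _).2 (mul_mem (z_mem_CX h) (D.cx i))
  · rw [hmul]; exact D.P.c_mem h i
  · have e0 : z * (z * (t * ee t z l j)) = t * ee t z l j := by
      rw [← mul_assoc, hz2, one_mul]
    rw [e0, ← D.conj_t h i j]
    have e : t * ee t z l j = (l j * x i) * (t * ee t z l j) * (l j * x i)⁻¹ := by
      calc t * ee t z l j = l j * (t * ee t z l j) * (l j)⁻¹ := (D.conj_self h j).symm
        _ = l j * (x i * (t * ee t z l j) * (x i)⁻¹) * (l j)⁻¹ := by rw [D.conj_c' h]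
        _ = _ := by group
    rw [e]
    exact RZ_conj h _ (D.Q.c_mem h j)

/-- `(z, z t t'_j)` is joined -/
theorem fp (D : DP Om z t K x L l) (h : W2 Om) (hn : NoOne Om) (j : Fin 3) :
    FP Om z (z * t * (t * ee t z l j)) K x (cj (l j) K) (fun i => l j * x i * (l j)⁻¹) := by
  have hzt : z * t = t * z := D.P.pr.comm
  have hTT' : t * ee t z l j * (t * ee t z l j) = 1 := D.Q.c_sq h j
  have hzT' : t * ee t z l j * z = z * (t * ee t z l j) := D.Q.c_t h j
  have htT' : t * ee t z l j * t = t * (t * ee t z l j) := D.Q.c_z h j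
  set f := t * ee t z l j with hf
  have hq : l j * z * (l j)⁻¹ = z * t * f := by
    rw [D.Q.conj_t h, hf, mul_assoc z t, D.Q.q.zzx]
  have hlt : l j * t * (l j)⁻¹ = t := by rw [← D.Q.q.zc, mul_inv_cancel_right]
  have hlf : l j * f * (l j)⁻¹ = f := D.conj_self h j
  have hq' : l j * (z * t * f) * (l j)⁻¹ = z := by
    calc l j * (z * t * f) * (l j)⁻¹ = (l j * z * (l j)⁻¹) * (l j * t * (l j)⁻¹) * (l j * f * (l j)⁻¹) := by group
      _ = z * t * f * t * f := by rw [hq, hlt, hlf]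
      _ = z * t * (f * t) * f := by group
      _ = z * (t * t) * (f * f) := by rw [htT']; group
      _ = z := by rw [D.P.t2 h, hTT', mul_one, mul_one]
  have hact : ∀ k ∈ K, (z * t * f) * k * (z * t * f)⁻¹ = t * k * t⁻¹ := by
    intro k hk
    have h1 : f * k * f⁻¹ = k := by
      rw [mem_CX.1 (D.cx' j) K D.P.hK k hk, mul_inv_cancel_right]
    have h2 : z * (t * k * t⁻¹) * z⁻¹ = t * k * t⁻¹ := by
      rw [← (D.P.hK' h).comm_z h (conj_mem_cj hk), mul_inv_cancel_right]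
    calc (z * t * f) * k * (z * t * f)⁻¹ = z * (t * (f * k * f⁻¹) * t⁻¹) * z⁻¹ := by group
      _ = _ := by rw [h1, h2]
  have hcj : ∀ k ∈ K, (z * t * f) * k * (z * t * f)⁻¹ ∈ cj t K := by
    intro k hk; rw [hact k hk]; exact conj_mem_cj hk
  have hne : z ≠ z * t * f := by
    intro e
    rw [mul_assoc] at e
    have h1 : t * f = 1 := mul_eq_left.1 e.symm
    rw [hf, D.Q.q.zzx] at h1
    exact D.Q.e_ne_one h j h1
  have hcomm : z * (z * t * f) = z * t * f * z := by
    have h1 : z * t * f * z = z * t * (f * z) := by group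
    have h2 : z * t * (z * f) = z * (t * z) * f := by group
    rw [h1, hzT', h2, ← hzt]; group
  have hpr : PR Om z (z * t * f) := by
    refine ⟨D.P.pr.hz, by rw [← hq]; exact D.P.pr.hz.conj h _, hne, hcomm, ?_⟩
    intro M hM
    have h1 : Sw Om z (z * t * f) := by
      rw [mul_assoc]
      exact Fx.mul_sw ((Inn.of_CX (z_mem_CX h)).fx h) (D.P.pr.sw'.mul_fx (D.Q.fx_ze h hn j))
    exact h1 M hM
  have hee : ∀ i, ee z (z * t * f) x i = ee z t x i := by
    intro i
    rw [ee, hact _ (D.P.q.mem i), ee]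
  refine ⟨⟨hpr, D.P.hK, D.P.q⟩, ⟨hpr.symm' h hn, ?_, ?_⟩, fun i => ?_⟩
  · have := D.P.hK.cj h (l j)
    rwa [hq] at this
  · have := D.P.q.conj (l j)
    rwa [hq] at this
  · have e1 : ee (z * t * f) z (fun i => l j * x i * (l j)⁻¹) i = l j * ee z (z * t * f) x i * (l j)⁻¹ := by
      rw [ee, ee]
      calc z * t * f * (l j * x i * (l j)⁻¹) * (z * (l j * x i * (l j)⁻¹) * z⁻¹)
          = (l j * z * (l j)⁻¹) * (l j * x i * (l j)⁻¹) * ((l j * (z * t * f) * (l j)⁻¹) *
            (l j * x i * (l j)⁻¹) * (l j * (z * t * f) * (l j)⁻¹)⁻¹) := by rw [hq, hq']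
        _ = _ := by group
    have e2 : l j * ee z t x i * (l j)⁻¹ = z * t * f * (z * ee z t x i) := by
      have h1 : ee z t x i = z * (z * ee z t x i) := by rw [D.P.q.zzx]
      conv_lhs => rw [h1]
      calc l j * (z * (z * ee z t x i)) * (l j)⁻¹ = (l j * z * (l j)⁻¹) * (l j * (z * ee z t x i) * (l j)⁻¹) := by
            group
        _ = _ := by rw [hq, D.conj_c h]
    rw [e1, hee, e2, ← mul_assoc z (z * t * f), hcomm]
    have h1 : z * t * f * z * (z * ee z t x i) = z * t * f * (z * (z * ee z t x i)) := by group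
    rw [h1, D.P.q.zzx]

theorem conj (D : DP Om z t K x L l) (h : W2 Om) (g : G) :
    DP Om (g * z * g⁻¹) (g * t * g⁻¹) (cj g K) (fun i => g * x i * g⁻¹) (cj g L) (fun i => g * l i * g⁻¹) := by
  refine ⟨⟨D.P.pr.conj h g, D.P.hK.cj h g, D.P.q.conj g⟩, ⟨D.Q.pr.conj h g, D.Q.hK.cj h g, D.Q.q.conj g⟩,
    fun i => ?_, fun j => ?_⟩
  · have e1 : g * z * g⁻¹ * ee (g * z * g⁻¹) (g * t * g⁻¹) (fun i => g * x i * g⁻¹) i =
        g * (z * ee z t x i) * g⁻¹ := by
      rw [ee, ee]; group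
    rw [e1]; exact (CX_conj h g).2 (D.cx i)
  · have e1 : g * t * g⁻¹ * ee (g * t * g⁻¹) (g * z * g⁻¹) (fun i => g * l i * g⁻¹) j =
        g * (t * ee t z l j) * g⁻¹ := by
      rw [ee, ee]; group
    rw [e1]; exact (CX_conj h g).2 (D.cx' j)

end DP

/-! ### Without coordinates -/

theorem PR.jn_or_dj (hp : PR Om z t) (h : W2 Om) (hn : NoOne Om) : JN Om z t ∨ DJ Om z t := by
  obtain ⟨K, x, P⟩ := hp.exists_hp h
  obtain ⟨L, l, Q⟩ := (hp.symm' h hn).exists_hp h
  rcases P.joined_or Q h hn with ⟨l', h1⟩ | h1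
  · exact Or.inl ⟨K, x, L, l', h1⟩
  · exact Or.inr ⟨K, x, L, l, h1⟩

theorem JN.pr (hj : JN Om z t) : PR Om z t := by obtain ⟨K, x, L, l, F⟩ := hj; exact F.P.pr
theorem DJ.pr (hj : DJ Om z t) : PR Om z t := by obtain ⟨K, x, L, l, F⟩ := hj; exact F.P.pr

theorem JN.symm (hj : JN Om z t) : JN Om t z := by
  obtain ⟨K, x, L, l, F⟩ := hj; exact ⟨L, l, K, x, F.symm⟩

theorem DJ.symm (hj : DJ Om z t) : DJ Om t z := by
  obtain ⟨K, x, L, l, F⟩ := hj; exact ⟨L, l, K, x, F.symm⟩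

theorem JN.conj (hj : JN Om z t) (h : W2 Om) (g : G) : JN Om (g * z * g⁻¹) (g * t * g⁻¹) := by
  obtain ⟨K, x, L, l, F⟩ := hj; exact ⟨_, _, _, _, F.conj h g⟩

theorem DJ.conj (hj : DJ Om z t) (h : W2 Om) (g : G) : DJ Om (g * z * g⁻¹) (g * t * g⁻¹) := by
  obtain ⟨K, x, L, l, F⟩ := hj; exact ⟨_, _, _, _, F.conj h g⟩

/-- joined: `T ≤ R_t` -/
theorem JN.mem_RZ (hj : JN Om z t) (h : W2 Om) (hn : NoOne Om) (hr : r ∈ RZ Om z) (hrt : r * t = t * r)
    (hf : Fx Om t r) : r ∈ RZ Om t := by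
  obtain ⟨K, x, L, l, F⟩ := hj
  rcases (F.P.tt_iff h hn).1 ⟨hr, hrt, hf⟩ with rfl | ⟨i, rfl⟩
  · exact one_mem _
  · exact F.c_mem' h i

/-- disjoint: `T ≤ X_t` -/
theorem DJ.mem_CX (hj : DJ Om z t) (h : W2 Om) (hn : NoOne Om) (hr : r ∈ RZ Om z) (hrt : r * t = t * r)
    (hf : Fx Om t r) : r ∈ CX Om t := by
  obtain ⟨K, x, L, l, F⟩ := hj
  rcases (F.P.tt_iff h hn).1 ⟨hr, hrt, hf⟩ with rfl | ⟨i, rfl⟩
  · exact one_mem _
  · exact F.cx i

/-- an element `≠ 1` of `T` in `R_t`: joined -/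
theorem PR.jn_of (hp : PR Om z t) (h : W2 Om) (hn : NoOne Om) (h1 : r ≠ 1) (hr : r ∈ RZ Om z)
    (hr' : r ∈ RZ Om t) : JN Om z t := by
  rcases hp.jn_or_dj h hn with h2 | h2
  · exact h2
  exfalso
  have h3 := h2.mem_CX h hn hr (RZ_le_centralizer h hr') ((Inn.of_RZ hp.ht h hr').fx h)
  rcases RZ_inf_CX h hp.ht hr' h3 with h4 | h4
  · exact h1 h4
  · exact hp.ne (hn.eq_of_RZ h hp.hz hp.ht (by rw [← h4]; exact hr)).symm

/-- an element `≠ 1` of `R_z` in `X_t`: disjoint -/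
theorem PR.dj_of (hp : PR Om z t) (h : W2 Om) (hn : NoOne Om) (h1 : r ≠ 1) (hr : r ∈ RZ Om z)
    (hr' : r ∈ CX Om t) : DJ Om z t := by
  rcases hp.jn_or_dj h hn with h2 | h2
  · exfalso
    have h3 := h2.mem_RZ h hn hr (CX_le hp.ht h hr') ((Inn.of_CX hr').fx h)
    rcases RZ_inf_CX h hp.ht h3 hr' with h4 | h4
    · exact h1 h4
    · exact hp.ne (hn.eq_of_RZ h hp.hz hp.ht (by rw [← h4]; exact hr)).symm
  · exact h2

theorem JN.cx (hj : JN Om z t) (h : W2 Om) (hn : NoOne Om) (hy : y ∈ CX Om z) (hyt : y * t = t * y) :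
    y ∈ CX Om t ∨ z * y ∈ CX Om t := by
  obtain ⟨K, x, L, l, F⟩ := hj; exact F.cx h hn hy hyt

/-- TYPE 6, 7 for a label `c` commuting with `t`, over the direction of an element `r ≠ 1` of `T`: either `c ∈ X_t`,
`z t c ∈ Z` and `(z, z t c)` is joined, or `z c ∈ X_t`, `t c ∈ Z` and `(z, t c)` is disjoint -/
theorem JN.six_seven (hj : JN Om z t) (h : W2 Om) (hn : NoOne Om) (l : Lab Om z u c) (hct : c * t = t * c)
    (hr : u * c = r ∨ u * c = z * r) (hrt : r * t = t * r) (hf : Fx Om t r) :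
    (c ∈ CX Om t ∧ JN Om z (z * t * c)) ∨ (z * c ∈ CX Om t ∧ DJ Om z (t * c)) := by
  have hz2 : ∀ g : G, z * (z * g) = g := fun g => by rw [← mul_assoc, l.z2 h, one_mul]
  -- normalise `u * c = r`
  wlog hur : u * c = r generalizing u
  · refine this (l.mul h) ?_ ?_
    · rcases hr with h1 | h1
      · exact absurd h1 hur
      · left; rw [mul_assoc, h1, hz2]
    · rcases hr with h1 | h1
      · exact absurd h1 hur
      · rw [mul_assoc, h1, hz2]
  clear hr
  obtain ⟨K, x, L, l', F⟩ := hj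
  have hrR : r ∈ RZ Om z := by rw [← hur]; exact l.wz
  have hr1 : r ≠ 1 := by
    intro h1
    rw [h1, mul_eq_one_iff_eq_inv, l.cinv] at hur
    exact l.ne_t h hur.symm
  rcases (F.P.tt_iff h hn).1 ⟨hrR, hrt, hf⟩ with h1 | ⟨i, h1⟩
  · exact absurd h1 hr1
  have hu : u = z * ee z t x i * c := by
    rw [← h1, ← hur, mul_assoc, l.sq, mul_one]
  have hrCX : r ∈ CX Om u := by rw [← hur]; exact mul_mem (z_mem_CX h) l.ct
  have hcz : c * z = z * c := l.comm_z h
  have htz : t * z = z * t := F.P.pr.comm.symm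
  have hcr : c * r = r * c := CX_comm hrR l.cz
  have hzc1 : ∀ g : G, t * z * g = z * t * g := fun g => by rw [htz]
  rcases F.cx h hn l.cz hct with h2 | h2
  · left
    refine ⟨h2, ?_⟩
    have h3 : InZ Om (z * (z * ee z t x i) * c) := by
      rw [mul_assoc, ← hu]; exact (l.mul h).ti.2.1
    have h4 := F.six h l.cz h2 h3
    have hlc : l' i * c * (l' i)⁻¹ = c := by
      rw [← mem_CX.1 h2 L F.Q.hK _ (F.Q.q.mem i), mul_inv_cancel_right]
    -- `z t c` is the conjugate of `z u`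
    have e1 : l' i * (z * u) * (l' i)⁻¹ = z * t * c := by
      rw [hu]
      calc l' i * (z * (z * ee z t x i * c)) * (l' i)⁻¹ =
          (l' i * z * (l' i)⁻¹) * (l' i * (z * ee z t x i) * (l' i)⁻¹) * (l' i * c * (l' i)⁻¹) := by group
        _ = t * ee z t x i * (z * ee z t x i) * c := by rw [F.conj_z h, F.conj_c h, hlc]
        _ = t * (ee z t x i * z) * ee z t x i * c := by group
        _ = t * z * (ee z t x i * ee z t x i) * c := by rw [F.P.e_z h]; group
        _ = _ := by rw [F.P.e_sq h, mul_one, htz]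
    -- `r ∈ R_{z u}`
    have h5 : r ∈ RZ Om (z * u) := by
      have lm := l.mul h
      have h6 := mul_mem (z_mem_RZ lm.ti.2.1 h) lm.wt
      have e : z * u * (z * c) = r := by
        calc z * u * (z * c) = (z * u) * z * c := by group
          _ = (u * z) * z * c := by rw [l.zt]
          _ = u * (z * z) * c := by group
          _ = r := by rw [l.z2 h, mul_one, hur]
      rwa [e] at h6
    have h7 : r ∈ RZ Om (z * t * c) := by
      have h8 := RZ_conj h (l' i) h5
      rw [e1, h1, F.conj_c h, ← h1] at h8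
      exact h8
    have hne : z ≠ z * t * c := by
      intro e
      rw [mul_assoc] at e
      have h9 : t * c = 1 := mul_eq_left.1 e.symm
      rw [mul_eq_one_iff_eq_inv, l.cinv] at h9
      apply F.P.pr.ne
      refine (eq_of_CX' h F.P.pr.hz F.P.pr.ht ?_).symm
      rw [h9]; exact l.cz
    have hcomm : z * (z * t * c) = z * t * c * z := by
      have h1 : z * t * c * z = z * t * (c * z) := by group
      have h2 : z * t * (z * c) = z * (t * z) * c := by group
      rw [h1, hcz, h2, htz]; group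
    have hpr : PR Om z (z * t * c) := by
      refine ⟨F.P.pr.hz, h4, hne, hcomm, ?_⟩
      intro M hM
      have h10 : Sw Om z (z * t * c) := by
        rw [mul_assoc]
        exact Fx.mul_sw ((Inn.of_CX (z_mem_CX h)).fx h) (F.P.pr.sw'.mul_fx ((Inn.of_CX l.cz).fx h))
      exact h10 M hM
    exact hpr.jn_of h hn hr1 hrR h7
  · right
    refine ⟨h2, ?_⟩
    have h3 : InZ Om (z * ee z t x i * c) := by rw [← hu]; exact l.ti.2.1
    obtain ⟨e1, h4⟩ := F.seven h l.cz h2 h3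
    have h7 : r ∈ CX Om (t * c) := by
      have h8 := (CX_conj h (l' i)).2 hrCX
      rw [hu, e1, h1, F.conj_c h, ← h1] at h8
      exact h8
    have hne : z ≠ t * c := by
      intro e
      apply F.P.pr.ne
      refine (eq_of_CX' h F.P.pr.hz F.P.pr.ht ?_).symm
      have h9 : t = z * c := by rw [e, mul_assoc, l.sq, mul_one]
      rw [h9]; exact mul_mem (z_mem_CX h) l.cz
    have hcomm : z * (t * c) = t * c * z := by
      calc z * (t * c) = (z * t) * c := by group
        _ = t * (z * c) := by rw [← htz]; group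
        _ = _ := by rw [← hcz]; group
    have hpr : PR Om z (t * c) := by
      refine ⟨F.P.pr.hz, h4, hne, hcomm, ?_⟩
      intro M hM
      have h10 : Sw Om z (t * c) := F.P.pr.sw'.mul_fx ((Inn.of_CX l.cz).fx h)
      exact h10 M hM
    exact hpr.dj_of h hn hr1 hrR h7

end

end Cfsg.Agent.Cit.Nil.RTwo
end

-- part: Cit/Nil/RTwo/Trans
section
prune_inst 0x1030050058000000001800000000004048000192000000000000064003080000a040000020800010100288500800000001180000421000002a000800400400000028020210400000000000003007180c00000000000000000000000000000000000000000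
set_option linter.all false
open scoped Cfsg.Agent.FastGrp

/-!
# Translations of the directions, (3.1) and (3.3)

* `Tra z a b g v` : `g ∈ C(z)` acts as the translation by `v` on the directions;
* `D0 Om z a b` : the translations of the sets `DC c` (the same for all labels: `D0.iff`);
* `DC.exists_tra` (3.1) : for `p, q ∈ DC c` a 3-element `d`, translation by `q - p`, centralising `C_X(c)`;
* `NN Om z`, `NN_eq` (3.3): constant on type I pairs.
-/

set_option autoImplicit false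
set_option linter.style.haveILetI false
set_option linter.unusedSectionVars false
set_option maxHeartbeats 400000

namespace Cfsg.Agent.Cit.Nil.RTwo

open Subgroup Cfsg Cit

variable {G : Type*} [Group G]

/-- `g ∈ C(z)` acts on the directions as the translation by `v` -/
structure Tra (z : G) (a b : Fin 3 → G) (g : G) (v : Fin 3 × Fin 3) : Prop where
  comm : g * z = z * g
  a : Act z a a g (Equiv.addRight v.1)
  b : Act z b b g (Equiv.addRight v.2)

/-- the translations of the sets `DC c` -/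
def D0 (Om : Set (Subgroup G)) (z : G) (a b : Fin 3 → G) : Set (Fin 3 × Fin 3) :=
  {v | ∃ c, ∃ p ∈ DC Om z a b c, p + v ∈ DC Om z a b c}

theorem Act.inv {z g : G} {x y : Fin 3 → G} {σ : Equiv.Perm (Fin 3)} (hz : z * z = 1) (hgz : g * z = z * g)
    (h : Act z x y g σ) : Act z y x g⁻¹ σ⁻¹ := by
  intro j
  have hzz : ∀ u : G, z * (z * u) = u := fun u => by rw [← mul_assoc, hz, one_mul]
  have e : y j = y (σ (σ⁻¹ j)) := congrArg y (Equiv.apply_symm_apply σ j).symm
  rcases h (σ⁻¹ j) with h1 | h1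
  · left
    rw [e, ← h1]; group
  · right
    have h2 : y j = z * (g * x (σ⁻¹ j) * g⁻¹) := by rw [h1, hzz, ← e]
    rw [h2]
    calc g⁻¹ * (z * (g * x (σ⁻¹ j) * g⁻¹)) * g⁻¹⁻¹ = g⁻¹ * (z * g) * x (σ⁻¹ j) := by group
      _ = g⁻¹ * (g * z) * x (σ⁻¹ j) := by rw [hgz]
      _ = _ := by group

section

variable [Finite G] {Om : Set (Subgroup G)} {K K1 K2 L L1 L2 : Subgroup G} {z t g g' x y w c c' : G}
  {a b : Fin 3 → G} {v v' : Fin 3 × Fin 3}

theorem Tra.mul (hz : z * z = 1) (h : Tra z a b g v) (h' : Tra z a b g' v') : Tra z a b (g' * g) (v + v') where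
  comm := by rw [mul_assoc, h.comm, ← mul_assoc, h'.comm, mul_assoc]
  a := by
    have h1 := h.a.comp hz h'.a h'.comm
    have e : Equiv.addRight v'.1 * Equiv.addRight v.1 = Equiv.addRight (v + v').1 := by
      ext i; show ((i + v.1 + v'.1 : Fin 3) : ℕ) = ((i + (v.1 + v'.1) : Fin 3) : ℕ); rw [add_assoc]
    rwa [e] at h1
  b := by
    have h1 := h.b.comp hz h'.b h'.comm
    have e : Equiv.addRight v'.2 * Equiv.addRight v.2 = Equiv.addRight (v + v').2 := by
      ext i; show ((i + v.2 + v'.2 : Fin 3) : ℕ) = ((i + (v.2 + v'.2) : Fin 3) : ℕ); rw [add_assoc]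
    rwa [e] at h1

theorem Tra.one : Tra z a b 1 0 where
  comm := by rw [one_mul, mul_one]
  a := fun i => Or.inl (by simp)
  b := fun i => Or.inl (by simp)

theorem Tra.inv (hz : z * z = 1) (h : Tra z a b g v) : Tra z a b g⁻¹ (-v) where
  comm := by rw [inv_mul_eq_iff_eq_mul, ← mul_assoc, h.comm, mul_inv_cancel_right]
  a := by
    have h1 := h.a.inv hz h.comm
    have e : (Equiv.addRight v.1)⁻¹ = Equiv.addRight (-v).1 := by
      ext i; rfl
    rwa [e] at h1
  b := by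
    have h1 := h.b.inv hz h.comm
    have e : (Equiv.addRight v.2)⁻¹ = Equiv.addRight (-v).2 := by
      ext i; rfl
    rwa [e] at h1

theorem Tra.pow (hz : z * z = 1) (h : Tra z a b g v) (n : ℕ) : Tra z a b (g ^ n) (n • v) := by
  induction n with
  | zero => rw [pow_zero, zero_smul]; exact Tra.one
  | succ n ih =>
    rw [pow_succ', add_smul, one_smul]
    exact ih.mul hz h

theorem Tra.of_CX (h : W2 Om) (F : Frame Om z K1 K2 a b) (hx : x ∈ CX Om z) : Tra z a b x 0 where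
  comm := CX_le F.k1.inZ h hx
  a := by
    intro i
    left
    rw [mem_CX.1 hx _ F.k1 _ (F.qa.mem i), mul_inv_cancel_right]; simp
  b := by
    intro i
    left
    rw [mem_CX.1 hx _ F.k2 _ (F.qb.mem i), mul_inv_cancel_right]; simp

theorem Tra.dir (F : Frame Om z K1 K2 a b) (h : Tra z a b g v) {p : Fin 3 × Fin 3} (hp : Dir z a b w p.1 p.2) :
    Dir z a b (g * w * g⁻¹) (p + v).1 (p + v).2 := F.dir_conj h.comm h.a h.b hp

theorem Tra.dc (h : W2 Om) (F : Frame Om z K1 K2 a b) (ht : Tra z a b g v) {p : Fin 3 × Fin 3}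
    (hp : p ∈ DC Om z a b c) : p + v ∈ DC Om z a b (g * c * g⁻¹) := DC.conj h F hp ht.comm ht.a ht.b

/-- the translations of `DC c` are independent of the label `c` -/
theorem D0.iff (h : W2 Om) (F : Frame Om z K1 K2 a b) {p : Fin 3 × Fin 3} (hp : p ∈ DC Om z a b c) :
    v ∈ D0 Om z a b ↔ p + v ∈ DC Om z a b c := by
  constructor
  · rintro ⟨c', p', hp', h1⟩
    have h2 := DC.tr_all h F h1 hp' hp
    have e : p' + v - p' + p = p + v := by abel
    rwa [e] at h2
  · exact fun h1 => ⟨c, p, hp, h1⟩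

theorem D0.sub_mem {p q : Fin 3 × Fin 3} (hp : p ∈ DC Om z a b c) (hq : q ∈ DC Om z a b c) :
    q - p ∈ D0 Om z a b := ⟨c, p, hp, by rwa [add_sub_cancel]⟩

theorem D0.add (h : W2 Om) (F : Frame Om z K1 K2 a b) (h1 : v ∈ D0 Om z a b) (h2 : v' ∈ D0 Om z a b) :
    v + v' ∈ D0 Om z a b := by
  obtain ⟨c, p, hp, h3⟩ := id h1
  rw [D0.iff h F hp, ← add_assoc]
  exact (D0.iff h F h3).1 h2

theorem D0.neg (h1 : v ∈ D0 Om z a b) : -v ∈ D0 Om z a b := by
  obtain ⟨c, p, hp, h3⟩ := h1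
  exact ⟨c, p + v, h3, by rwa [add_neg_cancel_right]⟩

theorem D0.zero (h : W2 Om) (F : Frame Om z K1 K2 a b) (hn : (CC Om z).Nonempty) : 0 ∈ D0 Om z a b := by
  obtain ⟨c, hc⟩ := hn
  obtain ⟨p, hp⟩ := CC.exists_dir h F hc
  exact ⟨c, p, hp, by rwa [add_zero]⟩

theorem three_smul_dir : ∀ v : Fin 3 × Fin 3, 3 • v = 0 := by decide

theorem smul_dir {n : ℕ} (hn : n % 3 = 1) (v : Fin 3 × Fin 3) : n • v = v := by
  conv_lhs => rw [← Nat.div_add_mod n 3, hn, add_smul, mul_comm, mul_smul, three_smul_dir, smul_zero, zero_add,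
    one_smul]

/-- a 3-element with the same translation -/
theorem Tra.exists_three (hz : z * z = 1) (ht : Tra z a b g v) :
    ∃ N : ℕ, Tra z a b (g ^ N) v ∧ ∃ n : ℕ, (g ^ N) ^ 3 ^ n = 1 := by
  have h0 := orderOf_pos g
  obtain ⟨e, m, hm, he⟩ := Nat.exists_eq_pow_mul_and_not_dvd h0.ne' 3 (by norm_num)
  have hcop : Nat.Coprime (3 ^ (e + 1)) m := Nat.Coprime.pow_left _ ((Nat.prime_three.coprime_iff_not_dvd).2 hm)
  obtain ⟨N, h1, h2⟩ := Nat.chineseRemainder hcop 1 0
  have h3 : N % 3 = 1 := by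
    have h4 : N ≡ 1 [MOD 3] := h1.of_dvd (dvd_pow_self 3 (Nat.succ_ne_zero e))
    exact h4
  refine ⟨N, ?_, e, ?_⟩
  · have := ht.pow hz N
    rwa [smul_dir h3] at this
  · rw [← pow_mul, ← orderOf_dvd_iff_pow_eq_one, he, mul_comm N]
    exact mul_dvd_mul_left _ ((Nat.modEq_zero_iff_dvd).1 h2)

/-- **(3.1)** -/
theorem DC.exists_tra (h : W2 Om) (F : Frame Om z K1 K2 a b) {p q : Fin 3 × Fin 3} (hp : p ∈ DC Om z a b c)
    (hq : q ∈ DC Om z a b c) : ∃ d, Tra z a b d (q - p) ∧ (∃ n : ℕ, d ^ 3 ^ n = 1) ∧ d * c = c * d ∧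
      ∀ x ∈ CX Om z, x * c = c * x → d * x = x * d := by
  obtain ⟨s, l, hd⟩ := hp
  obtain ⟨s', l', hd'⟩ := hq
  obtain ⟨e1, -, z1, c1, -, a1, b1, x1⟩ := l.exists_theta h F hd
  obtain ⟨e2, -, z2, c2, -, a2, b2, x2⟩ := l'.exists_theta h F hd'
  have hz2 := l.z2 h
  have hcz := l.comm_z h
  have hcX := l.cz
  -- `u = z c`
  have hu2 : z * c * (z * c) = 1 := by
    calc z * c * (z * c) = z * (c * z) * c := by group
      _ = (z * z) * (c * c) := by rw [hcz]; group
      _ = 1 := by rw [hz2, l.sq, one_mul]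
  have hgz : (e1 * e2) * z = z * (e1 * e2) := by rw [mul_assoc, z2, ← mul_assoc, z1, mul_assoc]
  have hgc : (e1 * e2) * c = c * (e1 * e2) := by rw [mul_assoc, c2, ← mul_assoc, c1, mul_assoc]
  have hT : Tra z a b (e1 * e2) (q - p) := by
    refine ⟨hgz, ?_, ?_⟩
    · have h1 := a2.comp hz2 a1 z1
      have e : rf p.1 * rf q.1 = Equiv.addRight (q - p).1 := by
        apply Equiv.ext
        intro i
        show rf p.1 (rf q.1 i) = i + (q - p).1
        rw [rf_apply, rf_apply]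
        show -p.1 - (-q.1 - i) = i + (q.1 - p.1)
        abel
      rwa [e] at h1
    · have h1 := b2.comp hz2 b1 z1
      have e : rf p.2 * rf q.2 = Equiv.addRight (q - p).2 := by
        apply Equiv.ext
        intro i
        show rf p.2 (rf q.2 i) = i + (q - p).2
        rw [rf_apply, rf_apply]
        show -p.2 - (-q.2 - i) = i + (q.2 - p.2)
        abel
      rwa [e] at h1
  -- the action on `C_X(c)`
  have hact : ∀ x ∈ CX Om z, x * c = c * x →
      e1 * e2 * x * (e1 * e2)⁻¹ = x ∨ e1 * e2 * x * (e1 * e2)⁻¹ = x * (z * c) := by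
    intro x hx hxc
    have h1 : ∀ y ∈ CX Om z, y * c = c * y → e1 * y * e1⁻¹ = y ∨ e1 * y * e1⁻¹ = y * (z * c) := by
      intro y hy hyc
      rcases x1 y hy hyc with ⟨-, h1⟩ | ⟨-, h1⟩
      · exact Or.inl h1
      · right; rw [h1, mul_assoc]
    have h2 : e2 * x * e2⁻¹ = x ∨ e2 * x * e2⁻¹ = x * (z * c) := by
      rcases x2 x hx hxc with ⟨-, h1⟩ | ⟨-, h1⟩
      · exact Or.inl h1
      · right; rw [h1, mul_assoc]
    have e0 : e1 * e2 * x * (e1 * e2)⁻¹ = e1 * (e2 * x * e2⁻¹) * e1⁻¹ := by group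
    rw [e0]
    rcases h2 with h2 | h2
    · rw [h2]; exact h1 x hx hxc
    · rw [h2]
      have hy : x * (z * c) ∈ CX Om z := mul_mem hx (mul_mem (z_mem_CX h) hcX)
      have hyc : x * (z * c) * c = c * (x * (z * c)) := by
        calc x * (z * c) * c = x * z * (c * c) := by group
          _ = x * z := by rw [l.sq, mul_one]
          _ = (x * (c * c)) * z := by rw [l.sq, mul_one]
          _ = (x * c) * (c * z) := by group
          _ = (c * x) * (z * c) := by rw [hxc, hcz]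
          _ = _ := by group
      rcases h1 _ hy hyc with h3 | h3
      · right; exact h3
      · left
        rw [h3, mul_assoc, hu2, mul_one]
  have hgu : (e1 * e2) * (z * c) = z * c * (e1 * e2) := by
    rw [← mul_assoc, hgz, mul_assoc, hgc, mul_assoc]
  -- the square centralises `C_X(c)`
  obtain ⟨g, hg⟩ : ∃ g, g = e1 * e2 := ⟨_, rfl⟩
  rw [← hg] at hact hgu hT hgc hgz
  have hsq : ∀ x ∈ CX Om z, x * c = c * x → (g * g) * x = x * (g * g) := by
    intro x hx hxc
    have h1 : g * (g * x * g⁻¹) * g⁻¹ = x := by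
      rcases hact x hx hxc with h2 | h2
      · rw [h2, h2]
      · have e0 : g * (x * (z * c)) * g⁻¹ = (g * x * g⁻¹) * (z * c) := by
          calc g * (x * (z * c)) * g⁻¹ = g * x * g⁻¹ * (g * (z * c) * g⁻¹) := by group
            _ = _ := by rw [hgu, mul_inv_cancel_right]
        rw [h2, e0, h2, mul_assoc, hu2, mul_one]
    calc (g * g) * x = (g * (g * x * g⁻¹) * g⁻¹) * (g * g) := by group
      _ = _ := by rw [h1]
  have hT2 : Tra z a b (g * g)⁻¹ (q - p) := by
    have h1 := (hT.mul hz2 hT).inv hz2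
    have key : ∀ v : Fin 3 × Fin 3, -(v + v) = v := by decide
    rwa [key] at h1
  obtain ⟨N, h1, n, h2⟩ := hT2.exists_three hz2
  refine ⟨_, h1, ⟨n, h2⟩, ?_, ?_⟩
  · have h3 : Commute (g * g) c := Commute.mul_left hgc hgc
    exact (h3.inv_left.pow_left N).eq
  · intro x hx hxc
    have h3 : Commute (g * g) x := hsq x hx hxc
    exact (h3.inv_left.pow_left N).eq

end

/-! ### (3.3) -/

/-- `N_z = C(⟨R_z, R_t : t a neighbour of type I⟩)` -/
def NN (Om : Set (Subgroup G)) (z : G) : Subgroup G where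
  carrier := {x | x ∈ CX Om z ∧ ∀ t, TI Om z t → x ∈ CX Om t}
  mul_mem' := fun hx hy => ⟨mul_mem hx.1 hy.1, fun t ht => mul_mem (hx.2 t ht) (hy.2 t ht)⟩
  one_mem' := ⟨one_mem _, fun _ _ => one_mem _⟩
  inv_mem' := fun hx => ⟨inv_mem hx.1, fun t ht => inv_mem (hx.2 t ht)⟩

section

variable [Finite G] {Om : Set (Subgroup G)} {z t g x : G}

theorem TI.exists_R (h : W2 Om) (hti : TI Om z t) : ∃ v ∈ RZ Om z, v * t * v⁻¹ = z * t := by
  obtain ⟨K1, K2, L1, L2, a, b, p, q, C⟩ := hti.exists_cf h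
  exact ⟨a 1, C.k1.le_RZ (C.qa.mem 1), C.a1t⟩

end

end Cfsg.Agent.Cit.Nil.RTwo
end

-- part: Cit/Nil/RTwo/SGeo
section
prune_inst 0x203044007800000000180004200020604800019000200001404006400b498141a004010132d022001112aaf0600a000001180049425000000a000a0040040000002932c2907c0c0011000000f807180c00000000000000000000000000000000000000000
set_option linter.all false
open scoped Cfsg.Agent.FastGrp

/-!
# S1309, `r = 2`, `m = 1`, (S): the geometry of isotropic points and lines of `Sp6(2)`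

Text: `blueprints/CIT-6b-r2m1-helper274.md`, section 12.

* `Geo Z CC` : the class `Z` (lines) and the sets `CC z` (the three points on the line `z`), as delivered by the
  2-local analysis;
* `Geo.line` (A1): two distinct commuting points are on a unique line;
* `Geo.tt_central` (12.5), `Geo.zb_central` (12.6);
* `Geo.one_or_all` (A3), `Geo.braid` (A2).
-/

set_option autoImplicit false
set_option linter.unusedSectionVars false
set_option linter.style.haveILetI false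
set_option linter.unusedVariables false

namespace Cfsg.Agent.Cit.Nil.RTwo

open Subgroup Cfsg

variable {G : Type*} [Group G]

/-- points and lines: `Z` is the set of lines, `CC z` is the set of points on `z` -/
structure Geo (Z : Set G) (CC : G → Set G) : Prop where
  sqZ : ∀ z ∈ Z, z * z = 1
  neZ : ∀ z ∈ Z, z ≠ 1
  conjZ : ∀ g : G, ∀ z ∈ Z, g * z * g⁻¹ ∈ Z
  conjC : ∀ g : G, ∀ z ∈ Z, ∀ a ∈ CC z, g * a * g⁻¹ ∈ CC (g * z * g⁻¹)
  nonempty : Z.Nonempty
  three : ∀ z ∈ Z, ∃ a b c, a ≠ b ∧ a ≠ c ∧ b ≠ c ∧ CC z = {a, b, c} ∧ z = a * b * c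
  sqC : ∀ z ∈ Z, ∀ a ∈ CC z, a * a = 1
  neC : ∀ z ∈ Z, ∀ a ∈ CC z, a ≠ 1
  commC : ∀ z ∈ Z, ∀ a ∈ CC z, ∀ b ∈ CC z, Commute a b
  /-- lines on a common point commute -/
  abel : ∀ z ∈ Z, ∀ t ∈ Z, ∀ c, c ∈ CC z → c ∈ CC t → Commute z t
  /-- commuting lines have exactly one common point; they are coplanar or not -/
  dich : ∀ z ∈ Z, ∀ t ∈ Z, z ≠ t → Commute z t → ∃ c, c ∈ CC z ∧ c ∈ CC t ∧
    (∀ c', c' ∈ CC z → c' ∈ CC t → c' = c) ∧
    ((z * t ∈ Z ∧ ∀ a ∈ CC z, ∀ b ∈ CC t, Commute a b) ∨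
     (z * t ∉ Z ∧ z * t * c ∈ Z ∧ c ∈ CC (z * t * c) ∧ ∀ a ∈ CC z, a ≠ c → ¬ Commute t a))
  plane : ∀ z ∈ Z, ∀ t ∈ Z, z ≠ t → Commute z t → z * t ∈ Z → ∀ a ∈ CC z, ∀ b ∈ CC t, a ≠ b →
    ∃ y ∈ Z, a ∈ CC y ∧ b ∈ CC y
  card : ∀ z ∈ Z, ∀ c ∈ CC z, {t | t ∈ Z ∧ c ∈ CC t}.ncard = 15
  loc : ∀ c, ∀ z ∈ Z, ∀ t ∈ Z, c ∈ CC z → c ∈ CC t → z ≠ t → z * t ∈ Z →
    ∃ s ∈ Z, c ∈ CC s ∧ s ≠ z ∧ s ≠ t ∧ z * s ∈ Z ∧ t * s ∉ Z
  l3 : ∀ c, ∀ u ∈ Z, ∀ v ∈ Z, ∀ w ∈ Z, c ∈ CC u → c ∈ CC v → c ∈ CC w → u ≠ v → u * v ∉ Z →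
    (∀ n ∈ Z, c ∈ CC n → u * n ∈ Z → v * n ∈ Z → w = n ∨ w * n ∈ Z) → w = u ∨ w = v ∨ w = u * v * c
  disj : ∀ z ∈ Z, ∀ c ∈ CC z, c ∉ Z
  tt : ∀ z ∈ Z, ∀ c ∈ CC z, z * c ∉ Z
  cf : ∀ j : G, j * j = 1 → j ≠ 1 → ∀ N : Subgroup G, (∀ n ∈ N, Commute n j) → Odd (Nat.card N) →
    (∀ x, Commute x j → ∀ n ∈ N, x * n * x⁻¹ ∈ N) → N = ⊥

/-- the points -/
def Pts (Z : Set G) (CC : G → Set G) : Set G := {a | ∃ z ∈ Z, a ∈ CC z}

theorem conj_eq_iff' {g x : G} : g * x * g⁻¹ = x ↔ Commute g x := by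
  rw [mul_inv_eq_iff_eq_mul]; rfl

/-- a 2-group acting by conjugation on a set of odd cardinality has a fixed point -/
theorem exists_fixed_odd [Finite G] {P : Subgroup G} (hP : IsPGroup 2 P) {X : Set G}
    (hX : ∀ p ∈ P, ∀ x ∈ X, p * x * p⁻¹ ∈ X) (hodd : Odd X.ncard) : ∃ x ∈ X, ∀ p ∈ P, Commute p x := by
  haveI : Fact (Nat.Prime 2) := ⟨Nat.prime_two⟩
  letI : MulAction P X :=
    { smul := fun p x => ⟨p * x * (p : G)⁻¹, hX p p.2 x x.2⟩
      one_smul := fun x => Subtype.ext (by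
        change ((1 : P) : G) * x * ((1 : P) : G)⁻¹ = x
        simp)
      mul_smul := fun p q x => Subtype.ext (by
        change ((p * q : P) : G) * x * ((p * q : P) : G)⁻¹ = p * (q * x * (q : G)⁻¹) * (p : G)⁻¹
        rw [Subgroup.coe_mul]; group) }
  have h1 := hP.card_modEq_card_fixedPoints X
  rw [Nat.card_coe_set_eq] at h1
  have h2 : (MulAction.fixedPoints P X).Nonempty := by
    by_contra hcon
    rw [Set.not_nonempty_iff_eq_empty] at hcon
    rw [hcon] at h1
    obtain ⟨k, hk⟩ := hodd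
    have h3 : Nat.card (∅ : Set X) = 0 := by simp
    rw [h3, hk] at h1
    have h4 : (2 * k + 1) % 2 = 0 % 2 := h1
    omega
  obtain ⟨x, hx⟩ := h2
  refine ⟨x, x.2, fun p hp => ?_⟩
  have h3 : p * (x : G) * p⁻¹ = x := congrArg Subtype.val (hx ⟨p, hp⟩)
  exact conj_eq_iff'.1 h3

namespace Geo

variable {Z : Set G} {CC : G → Set G}

theorem zinv (h : Geo Z CC) {z : G} (hz : z ∈ Z) : z⁻¹ = z := inv_eq_of_mul_eq_one_right (h.sqZ z hz)

theorem cinv (h : Geo Z CC) {z a : G} (hz : z ∈ Z) (ha : a ∈ CC z) : a⁻¹ = a :=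
  inv_eq_of_mul_eq_one_right (h.sqC z hz a ha)

/-- the third point of a line -/
theorem third (h : Geo Z CC) {y a b : G} (hy : y ∈ Z) (ha : a ∈ CC y) (hb : b ∈ CC y) (hab : a ≠ b) :
    ∃ c ∈ CC y, c ≠ a ∧ c ≠ b ∧ (∀ d ∈ CC y, d = a ∨ d = b ∨ d = c) ∧ y = a * b * c := by
  obtain ⟨a0, b0, c0, h1, h2, h3, h4, h5⟩ := h.three y hy
  have ma : a0 ∈ CC y := by rw [h4]; simp
  have mb : b0 ∈ CC y := by rw [h4]; simp
  have mc : c0 ∈ CC y := by rw [h4]; simp
  have cab := h.commC y hy a0 ma b0 mb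
  have cac := h.commC y hy a0 ma c0 mc
  have cbc := h.commC y hy b0 mb c0 mc
  have ha' := ha
  have hb' := hb
  rw [h4] at ha' hb'
  simp only [Set.mem_insert_iff, Set.mem_singleton_iff] at ha' hb'
  rcases ha' with rfl | rfl | rfl <;> rcases hb' with rfl | rfl | rfl
  · exact absurd rfl hab
  · exact ⟨c0, mc, h2.symm, h3.symm, fun d hd => by rw [h4] at hd; simpa using hd, h5⟩
  · refine ⟨b0, mb, h1.symm, h3, fun d hd => by rw [h4] at hd; simp at hd; (clear * - hd; tauto), ?_⟩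
    rw [h5, mul_assoc, mul_assoc, cbc.eq]
  · refine ⟨c0, mc, h3.symm, h2.symm, fun d hd => by rw [h4] at hd; simp at hd; (clear * - hd; tauto), ?_⟩
    rw [h5, cab.eq]
  · exact absurd rfl hab
  · refine ⟨a0, ma, h1, h2, fun d hd => by rw [h4] at hd; simp at hd; (clear * - hd; tauto), ?_⟩
    rw [h5, mul_assoc, (cab.mul_right cac).eq]
  · refine ⟨b0, mb, h3, h1.symm, fun d hd => by rw [h4] at hd; simp at hd; (clear * - hd; tauto), ?_⟩
    rw [h5, (cac.symm).eq, mul_assoc, mul_assoc, cbc.symm.eq]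
  · refine ⟨a0, ma, h2, h1, fun d hd => by rw [h4] at hd; simp at hd; (clear * - hd; tauto), ?_⟩
    rw [h5, mul_assoc, (cab.mul_right cac).eq, cbc.eq]
  · exact absurd rfl hab

theorem comm_zc (h : Geo Z CC) {y a : G} (hy : y ∈ Z) (ha : a ∈ CC y) : Commute a y := by
  obtain ⟨a0, b0, c0, h1, h2, h3, h4, h5⟩ := h.three y hy
  have ma : a0 ∈ CC y := by rw [h4]; simp
  have mb : b0 ∈ CC y := by rw [h4]; simp
  have mc : c0 ∈ CC y := by rw [h4]; simp
  rw [h5]
  exact ((h.commC y hy a ha a0 ma).mul_right (h.commC y hy a ha b0 mb)).mul_right (h.commC y hy a ha c0 mc)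

theorem exists_other (h : Geo Z CC) {y a : G} (hy : y ∈ Z) : ∃ b ∈ CC y, b ≠ a := by
  obtain ⟨a0, b0, c0, h1, h2, h3, h4, h5⟩ := h.three y hy
  by_cases hab : a0 = a
  · exact ⟨b0, by rw [h4]; simp, by rintro rfl; exact h1 hab⟩
  · exact ⟨a0, by rw [h4]; simp, hab⟩

theorem uniq (h : Geo Z CC) {y y' a b : G} (hy : y ∈ Z) (hy' : y' ∈ Z) (ha : a ∈ CC y) (hb : b ∈ CC y)
    (hab : a ≠ b) (ha' : a ∈ CC y') (hb' : b ∈ CC y') : y = y' := by
  by_contra hne
  obtain ⟨c, -, -, h1, -⟩ := h.dich y hy y' hy' hne (h.abel y hy y' hy' a ha ha')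
  exact hab ((h1 a ha ha').trans (h1 b hb hb').symm)

theorem conj_mem (h : Geo Z CC) {g y a : G} (hy : y ∈ Z) (ha : a ∈ CC y) (hg : Commute g a) :
    a ∈ CC (g * y * g⁻¹) := by
  have := h.conjC g y hy a ha
  rwa [conj_eq_iff'.2 hg] at this

/-- an element commuting with two points of a line commutes with the line -/
theorem comm_line (h : Geo Z CC) {g y a b : G} (hy : y ∈ Z) (ha : a ∈ CC y) (hb : b ∈ CC y) (hab : a ≠ b)
    (hga : Commute g a) (hgb : Commute g b) : Commute g y :=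
  conj_eq_iff'.1 (h.uniq (h.conjZ g y hy) hy (h.conj_mem hy ha hga) (h.conj_mem hy hb hgb) hab ha hb)

/-- an element commuting with two points of a line commutes with all points -/
theorem comm_all (h : Geo Z CC) {g y a b d : G} (hy : y ∈ Z) (ha : a ∈ CC y) (hb : b ∈ CC y) (hab : a ≠ b)
    (hga : Commute g a) (hgb : Commute g b) (hd : d ∈ CC y) : Commute g d := by
  obtain ⟨c, hc, h1, h2, h3, h4⟩ := h.third hy ha hb hab
  have hgy := h.comm_line hy ha hb hab hga hgb
  rcases h3 d hd with rfl | rfl | rfl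
  · exact hga
  · exact hgb
  · have h5 : d = b⁻¹ * a⁻¹ * y := by rw [h4]; group
    rw [h5]
    exact (hgb.inv_right.mul_right hga.inv_right).mul_right hgy

section Fin

variable [Finite G]

theorem isPGroup_closure_pair {a b : G} (ha : a * a = 1) (hb : b * b = 1) (hab : Commute a b) :
    IsPGroup 2 (closure ({a, b} : Set G)) := by
  have hall : ∀ x ∈ _root_.Subgroup.closure ({a, b} : Set G), x * x = 1 ∧ Commute x a ∧ Commute x b := by
    intro x hx
    induction hx using closure_induction with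
    | mem x hx =>
      rcases hx with rfl | rfl
      · exact ⟨ha, Commute.refl _, hab⟩
      · exact ⟨hb, hab.symm, Commute.refl _⟩
    | one => exact ⟨mul_one 1, Commute.one_left _, Commute.one_left _⟩
    | mul x y hx hy h1 h2 =>
      refine ⟨?_, h1.2.1.mul_left h2.2.1, h1.2.2.mul_left h2.2.2⟩
      have hc : Commute x y := by
        have : y ∈ centralizer ({x} : Set G) := by
          have hle : closure ({a, b} : Set G) ≤ centralizer ({x} : Set G) := by
            rw [closure_le]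
            rintro _ (rfl | rfl)
            · exact mem_centralizer_singleton_iff.2 h1.2.1.symm.eq
            · exact mem_centralizer_singleton_iff.2 h1.2.2.symm.eq
          exact hle hy
        exact (mem_centralizer_singleton_iff.1 this).symm
      calc x * y * (x * y) = x * (y * x) * y := by group
        _ = (x * x) * (y * y) := by rw [← hc.eq]; group
        _ = 1 := by rw [h1.1, h2.1, mul_one]
    | inv x hx h1 =>
      refine ⟨?_, h1.2.1.inv_left, h1.2.2.inv_left⟩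
      rw [← mul_inv_rev, h1.1, inv_one]
  intro x
  exact ⟨1, Subtype.ext (by rw [pow_one, pow_two]; exact (hall x x.2).1)⟩

/-- a 2-group commuting with the point `c` commutes with a line on `c` -/
theorem exists_line_fixed (h : Geo Z CC) {z c : G} (hz : z ∈ Z) (hc : c ∈ CC z) {P : Subgroup G} (hP : IsPGroup 2 P)
    (hPc : ∀ p ∈ P, Commute p c) : ∃ t ∈ Z, c ∈ CC t ∧ ∀ p ∈ P, Commute p t := by
  obtain ⟨t, ht, h1⟩ := exists_fixed_odd hP (X := {t | t ∈ Z ∧ c ∈ CC t})
    (fun p hp x hx => ⟨h.conjZ p x hx.1, h.conj_mem hx.1 hx.2 (hPc p hp)⟩)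
    (by rw [h.card z hz c hc]; decide)
  exact ⟨t, ht.1, ht.2, h1⟩

/-- **(A1)** -/
theorem line (h : Geo Z CC) {a b : G} (ha : a ∈ Pts Z CC) (hb : b ∈ Pts Z CC) (hab : a ≠ b) (hc : Commute a b) :
    ∃ y ∈ Z, a ∈ CC y ∧ b ∈ CC y := by
  obtain ⟨x0, hx0, hax0⟩ := ha
  obtain ⟨y0, hy0, hby0⟩ := hb
  have ha2 := h.sqC x0 hx0 a hax0
  have hb2 := h.sqC y0 hy0 b hby0
  -- a line `y` on `b` commuting with `a`
  obtain ⟨y, hy, hby, h1⟩ := h.exists_line_fixed hy0 hby0 (isPGroup_closure_pair ha2 hb2 hc) (by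
    intro p hp
    have hle : _root_.Subgroup.closure ({a, b} : Set G) ≤ centralizer ({b} : Set G) := by
      rw [closure_le]
      rintro _ (rfl | rfl)
      · exact mem_centralizer_singleton_iff.2 hc.eq
      · exact mem_centralizer_singleton_iff.2 rfl
    exact mem_centralizer_singleton_iff.1 (hle hp))
  have hay : Commute a y := h1 a (_root_.Subgroup.subset_closure (by simp))
  have hby' : Commute b y := h1 b (_root_.Subgroup.subset_closure (by simp))
  obtain ⟨x, hx, hax, h2⟩ := h.exists_line_fixed hx0 hax0 (isPGroup_closure_pair (h.sqZ y hy) hb2 hby'.symm) (by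
    intro p hp
    have hle : _root_.Subgroup.closure ({y, b} : Set G) ≤ centralizer ({a} : Set G) := by
      rw [closure_le]
      rintro _ (rfl | rfl)
      · exact mem_centralizer_singleton_iff.2 hay.symm.eq
      · exact mem_centralizer_singleton_iff.2 hc.symm.eq
    exact mem_centralizer_singleton_iff.1 (hle hp))
  have hyx : Commute y x := h2 y (_root_.Subgroup.subset_closure (by simp))
  have hbx : Commute b x := h2 b (_root_.Subgroup.subset_closure (by simp))
  by_cases hxy : x = y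
  · subst hxy
    exact ⟨x, hx, hax, hby⟩
  obtain ⟨c, hcx, hcy, -, h3⟩ := h.dich x hx y hy hxy hyx.symm
  by_cases hac : a = c
  · subst hac
    exact ⟨y, hy, hcy, hby⟩
  rcases h3 with ⟨h3, -⟩ | ⟨-, -, -, h3⟩
  · exact h.plane x hx y hy hxy hyx.symm h3 a hax b hby hab
  · exact absurd hay.symm (h3 a hax hac)

/-- `c` central in the centraliser of the involution `j` -/
theorem central_of (h : Geo Z CC) {j u : G} (hj : j * j = 1) (hj1 : j ≠ 1) (hu : u * u = 1) (hu1 : u ≠ 1)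
    (huj : Commute u j)
    (hconj : ∀ g, Commute g j → g * u * g⁻¹ ≠ u → ¬ Commute u (g * u * g⁻¹)) {g : G} (hg : Commute g j) :
    Commute g u := by
  rcases zstar_sub (X := centralizer ({j} : Set G)) (mem_centralizer_singleton_iff.2 huj.eq) hu hu1 with
    ⟨x, hx, hne, hc⟩ | ⟨N, hN, hodd, hnorm, hcomm⟩
  · exact absurd hc (hconj x (mem_centralizer_singleton_iff.1 hx) hne)
  · have h1 : N = ⊥ := h.cf j hj hj1 N (fun n hn => mem_centralizer_singleton_iff.1 (hN hn)) hodd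
      (fun x hx n hn => hnorm x (mem_centralizer_singleton_iff.2 hx.eq) n hn)
    have h2 := hcomm g (mem_centralizer_singleton_iff.2 hg.eq)
    rw [h1, mem_bot] at h2
    have h3 : u * g * u⁻¹ = g := by
      rw [mul_inv_eq_one] at h2
      exact h2
    exact (conj_eq_iff'.1 h3).symm

theorem mul_mem_comm (h : Geo Z CC) {z c : G} (hz : z ∈ Z) (hc : c ∈ CC z) : (z * c) * (z * c) = 1 ∧ z * c ≠ 1 := by
  have h1 := h.comm_zc hz hc
  refine ⟨?_, ?_⟩
  · calc z * c * (z * c) = z * (c * z) * c := by group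
      _ = (z * z) * (c * c) := by rw [h1.eq]; group
      _ = 1 := by rw [h.sqZ z hz, h.sqC z hz c hc, mul_one]
  · intro h2
    have h3 : c = z := by
      have := mul_eq_one_iff_eq_inv.1 h2
      rw [this, h.cinv hz hc]
    exact h.disj z hz c hc (h3 ▸ hz)

/-- two points of a line multiply to `y * (third point)` -/
theorem mul_third (h : Geo Z CC) {y a b c : G} (hy : y ∈ Z) (ha : a ∈ CC y) (hb : b ∈ CC y) (hc : c ∈ CC y)
    (he : y = a * b * c) : a * b = y * c := by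
  rw [he, mul_assoc, h.sqC y hy c hc, mul_one]

/-- commuting representations of an element of `TT` agree -/
theorem tt_unique_of_comm (h : Geo Z CC) {y y' x x' : G} (hy : y ∈ Z) (hy' : y' ∈ Z) (hx : x ∈ CC y)
    (hx' : x' ∈ CC y') (he : y * x = y' * x') (hc : Commute y y') : y = y' := by
  by_contra hne
  have hx2 := h.sqC y hy x hx
  have hx2' := h.sqC y' hy' x' hx'
  have hyx := h.comm_zc hy hx
  have hyx' := h.comm_zc hy' hx'
  -- y' commutes with x = y * (y' * x')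
  have hjx : x = y * (y' * x') := by rw [← he, ← mul_assoc, h.sqZ y hy, one_mul]
  have hjx' : x' = y' * (y * x) := by rw [he, ← mul_assoc, h.sqZ y' hy', one_mul]
  have c1 : Commute y' x := by
    rw [hjx]
    exact hc.symm.mul_right ((Commute.refl y').mul_right hyx'.symm)
  have c2 : Commute y x' := by
    rw [hjx']
    exact hc.mul_right ((Commute.refl y).mul_right hyx.symm)
  have c3 : Commute x x' := by
    rw [hjx']
    exact c1.symm.mul_right (hyx.mul_right (Commute.refl x))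
  have hprod : y * y' = x * x' := by
    have h1 : y' = y * (x * x') := by
      have h2 : y * x * x' = y' := by rw [he, mul_assoc, hx2', mul_one]
      rw [← h2, mul_assoc]
    calc y * y' = y * (y * (x * x')) := by rw [← h1]
      _ = x * x' := by rw [← mul_assoc, h.sqZ y hy, one_mul]
  have hxx' : x ≠ x' := by
    rintro rfl
    rw [hx2] at hprod
    exact hne (by rw [mul_eq_one_iff_eq_inv.1 hprod, h.zinv hy'])
  obtain ⟨y2, hy2, h1, h2⟩ := h.line ⟨y, hy, hx⟩ ⟨y', hy', hx'⟩ hxx' c3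
  obtain ⟨x2, hx2m, -, -, -, h3⟩ := h.third hy2 h1 h2 hxx'
  have h4 : x * x' = y2 * x2 := h.mul_third hy2 h1 h2 hx2m h3
  have h5 : y * y' ∉ Z := by rw [hprod, h4]; exact h.tt y2 hy2 x2 hx2m
  obtain ⟨c, hcy, hcy', huniq, h6⟩ := h.dich y hy y' hy' hne hc
  rcases h6 with ⟨h6, -⟩ | ⟨-, -, -, h6⟩
  · exact h5 h6
  have e1 : x = c := by
    by_contra hxc
    exact h6 x hx hxc c1
  obtain ⟨c', hcy1, hcy1', huniq', h7⟩ := h.dich y' hy' y hy (Ne.symm hne) hc.symm
  rcases h7 with ⟨h7, -⟩ | ⟨-, -, -, h7⟩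
  · exact h5 (by rw [hc.eq]; exact h7)
  have e2 : x' = c' := by
    by_contra hxc
    exact h7 x' hx' hxc c2
  exact hxx' (e1.trans ((huniq c' hcy1' hcy1).symm.trans e2.symm))

/-- **(12.5)** -/
theorem tt_central (h : Geo Z CC) {z c g : G} (hz : z ∈ Z) (hc : c ∈ CC z) (hg : Commute g (z * c)) :
    Commute g z := by
  obtain ⟨h1, h2⟩ := h.mul_mem_comm hz hc
  refine h.central_of h1 h2 (h.sqZ z hz) (h.neZ z hz) ((Commute.refl z).mul_right (h.comm_zc hz hc).symm) ?_ hg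
  intro x hx hne hcomm
  apply hne
  refine (h.tt_unique_of_comm hz (h.conjZ x z hz) hc (h.conjC x z hz c hc) ?_ hcomm).symm
  have h3 := conj_eq_iff'.2 hx
  calc z * c = x * (z * c) * x⁻¹ := h3.symm
    _ = x * z * x⁻¹ * (x * c * x⁻¹) := by group

theorem tt_central' (h : Geo Z CC) {z c g : G} (hz : z ∈ Z) (hc : c ∈ CC z) (hg : Commute g (z * c)) :
    Commute g c := by
  have h1 := h.tt_central hz hc hg
  have h2 : c = z * (z * c) := by rw [← mul_assoc, h.sqZ z hz, one_mul]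
  rw [h2]
  exact h1.mul_right hg

theorem tt_unique (h : Geo Z CC) {y y' x x' : G} (hy : y ∈ Z) (hy' : y' ∈ Z) (hx : x ∈ CC y)
    (hx' : x' ∈ CC y') (he : y * x = y' * x') : y = y' ∧ x = x' := by
  have h1 : Commute y (y' * x') := by
    rw [← he]
    exact (Commute.refl y).mul_right (h.comm_zc hy hx).symm
  have h2 : Commute y y' := h.tt_central hy' hx' h1
  have h3 := h.tt_unique_of_comm hy hy' hx hx' he h2
  refine ⟨h3, ?_⟩
  subst h3
  exact mul_left_cancel he

/-- **(12.6)** -/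
theorem zb_central (h : Geo Z CC) {z b g : G} (hz : z ∈ Z) (hb : b ∈ Pts Z CC) (hbz : b ∉ CC z) (hc : Commute z b)
    (hg : Commute g (z * b)) : Commute g b := by
  obtain ⟨y0, hy0, hb0⟩ := hb
  have hb2 := h.sqC y0 hy0 b hb0
  have hj2 : z * b * (z * b) = 1 := by
    calc z * b * (z * b) = z * (b * z) * b := by group
      _ = (z * z) * (b * b) := by rw [← hc.eq]; group
      _ = 1 := by rw [h.sqZ z hz, hb2, mul_one]
  have hj1 : z * b ≠ 1 := by
    intro h1
    have h2 : z = b := by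
      rw [mul_eq_one_iff_eq_inv.1 h1, h.cinv hy0 hb0]
    exact h.disj y0 hy0 b hb0 (h2 ▸ hz)
  refine h.central_of hj2 hj1 hb2 (h.neC y0 hy0 b hb0) (hc.symm.mul_right (Commute.refl b)) ?_ hg
  intro x hx hne hcomm
  -- b1 = x b x⁻¹, z1 = x z x⁻¹
  have hj := conj_eq_iff'.2 hx
  have he : z * b = x * z * x⁻¹ * (x * b * x⁻¹) := by
    calc z * b = x * (z * b) * x⁻¹ := hj.symm
      _ = _ := by group
  have c1 : Commute (x * b * x⁻¹) (z * b) :=
    (hx.mul_left (hc.symm.mul_right (Commute.refl b))).mul_left hx.inv_left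
  have hz1 := h.conjZ x z hz
  have hb1 := h.conjC x y0 hy0 b hb0
  have hy01 := h.conjZ x y0 hy0
  generalize x * z * x⁻¹ = z1 at he hz1
  generalize x * b * x⁻¹ = b1 at he hb1 hne hcomm c1
  generalize x * y0 * x⁻¹ = y1 at hb1 hy01
  have hb12 := h.sqC y1 hy01 b1 hb1
  have ez : z = z * b * b := by rw [mul_assoc, hb2, mul_one]
  have c2 : Commute b1 z := by
    rw [ez]
    exact c1.mul_right hcomm.symm
  have ez1 : z1 = z * b * b1 := by rw [he, mul_assoc, hb12, mul_one]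
  have c3 : Commute z z1 := by
    rw [ez1]
    exact ((Commute.refl z).mul_right hc).mul_right c2.symm
  have hprod : z * z1 = b * b1 := by
    rw [ez1, mul_assoc z b b1, ← mul_assoc z z, h.sqZ z hz, one_mul]
  have hzz1 : z ≠ z1 := by
    rintro rfl
    exact hne (mul_left_cancel he).symm
  obtain ⟨y2, hy2, h1, h2⟩ := h.line ⟨y0, hy0, hb0⟩ ⟨y1, hy01, hb1⟩ (Ne.symm hne) hcomm
  obtain ⟨x2, hx2m, -, -, -, h3⟩ := h.third hy2 h1 h2 (Ne.symm hne)
  have h4 : b * b1 = y2 * x2 := h.mul_third hy2 h1 h2 hx2m h3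
  have h5 : z * z1 ∉ Z := by rw [hprod, h4]; exact h.tt y2 hy2 x2 hx2m
  obtain ⟨c, hcz, hcz1, -, h6⟩ := h.dich z hz z1 hz1 hzz1 c3
  rcases h6 with ⟨h6, -⟩ | ⟨-, h6, h7, -⟩
  · exact h5 h6
  have hc2 := h.sqC z hz c hcz
  have h8 : y2 * x2 = z * z1 * c * c := by rw [← h4, ← hprod, mul_assoc, hc2, mul_one]
  obtain ⟨e1, -⟩ := h.tt_unique hy2 h6 hx2m h7 h8
  -- `z * y2 = z1 * c` is not in `Z`
  have h9 : y2 * z ∉ Z := by
    have h10 : y2 * z = z1 * c := by
      rw [e1, mul_assoc (z * z1) c z, (h.comm_zc hz hcz).eq, ← mul_assoc, c3.eq, mul_assoc z1 z z, h.sqZ z hz, mul_one]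
    rw [h10]
    exact h.tt z1 hz1 c hcz1
  have h10 : y2 ≠ z := by
    rintro rfl
    exact hbz h1
  have h11 : Commute y2 z := (h.comm_line hy2 h1 h2 (Ne.symm hne) hc c2.symm).symm
  obtain ⟨d, -, -, -, h12⟩ := h.dich y2 hy2 z hz h10 h11
  rcases h12 with ⟨h12, -⟩ | ⟨-, -, -, h12⟩
  · exact h9 h12
  by_cases hbd : b = d
  · subst hbd
    exact h12 b1 h2 hne c2.symm
  · exact h12 b h1 hbd hc

end Fin

end Geo

end Cfsg.Agent.Cit.Nil.RTwo
end

-- part: Cit/Nil/RTwo/SWorld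
section
set_option linter.all false

/-!
# Case (S) of S1309, `r = 2`, `m = 1`: the world and the interfaces between the files of section 12

* `SW Om` : the world (from THEOREM 1, (4.0)-(4.2), `N_z = 1`, `k = 2`): `CC z = {c0, c1, c2}`, `c0 c1 c2 = z`,
  `X_z = {1, z, c_i, z c_i}`, the nine directions are partitioned into three parallel diagonal lines `DC c_i`;
* `Dch Om z t c` : the dichotomy for commuting `z ≠ t` in `Z` (the output of `SDich.lean`).
-/

set_option autoImplicit false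

namespace Cfsg.Agent.Cit.Nil.RTwo

open Subgroup Cfsg Cit

variable {G : Type*} [Group G]

/-- the world (S) -/
structure SW (Om : Set (Subgroup G)) : Prop where
  w : W2 Om
  ne : ∀ z c : G, c ∈ CC Om z → c ≠ 1
  three : ∀ z, InZ Om z → ∃ c0 c1 c2, CC Om z = {c0, c1, c2} ∧ c0 ≠ c1 ∧ c0 ≠ c2 ∧ c1 ≠ c2 ∧ c0 * c1 * c2 = z
  /-- `X_z = {1, z, c_i, z c_i}` -/
  cx : ∀ z, InZ Om z → ∀ x ∈ CX Om z, x = 1 ∨ x = z ∨ x ∈ CC Om z ∨ z * x ∈ CC Om z
  /-- a direction has one label -/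
  uniq : ∀ z K1 K2 a b, Frame Om z K1 K2 a b → ∀ c c' p, p ∈ DC Om z a b c → p ∈ DC Om z a b c' → c = c'
  /-- the lines are parallel and diagonal -/
  line : ∀ z K1 K2 a b, Frame Om z K1 K2 a b → ∃ v : Fin 3 × Fin 3, v.1 ≠ 0 ∧ v.2 ≠ 0 ∧
    ∀ p, ∃ c, ∀ q, q ∈ DC Om z a b c ↔ q = p ∨ q = p + v ∨ q = p - v
  /-- (4.2) -/
  four : ∀ z z1 z2 c1 c2, Lab Om z z1 c1 → Lab Om z z2 c2 → c1 ≠ c2 → z1 * z2 = z2 * z1 → TI Om z1 z2
  /-- the labels are conjugate in `C(z)` -/
  tr : ∀ z c c', c ∈ CC Om z → c' ∈ CC Om z → ∃ g, g * z = z * g ∧ g * c * g⁻¹ = c'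

/-- the dichotomy for commuting `z ≠ t` in `Z`: exactly one common label `c`; type I over `c`, or type p over `c` -/
structure Dch (Om : Set (Subgroup G)) (z t c : G) : Prop where
  mz : c ∈ CC Om z
  mt : c ∈ CC Om t
  uq : ∀ c', c' ∈ CC Om z → c' ∈ CC Om t → c' = c
  alt : (Lab Om z t c ∧ Fx Om z t ∧ Fx Om t z ∧ InZ Om (z * t) ∧ ∀ a ∈ CC Om z, ∀ b ∈ CC Om t, a * b = b * a) ∨
    (Sw Om z t ∧ Sw Om t z ∧ ¬ InZ Om (z * t) ∧ InZ Om (z * t * c) ∧ c ∈ CC Om (z * t * c) ∧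
      (∀ a ∈ CC Om z, a ≠ c → t * a ≠ a * t) ∧ (∀ u, Lab Om z u c → t * u = u * t))

/-- the output of `SDich.lean` -/
def DchAll (Om : Set (Subgroup G)) : Prop :=
  ∀ z t : G, InZ Om z → InZ Om t → z ≠ t → z * t = t * z → ∃ c, Dch Om z t c

/-- `Z_c ∩ C(z)` -/
def PP (Om : Set (Subgroup G)) (c z : G) : Set G := {t | InZ Om t ∧ c ∈ CC Om t ∧ z * t = t * z}

/-- the output of `SPP.lean` (`z` over `c`) -/
structure PPAll (Om : Set (Subgroup G)) : Prop where
  /-- the members of `Z_c ∩ C(z)` commute -/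
  comm : ∀ c z, c ∈ CC Om z → ∀ u ∈ PP Om c z, ∀ v ∈ PP Om c z, u * v = v * u
  card : ∀ c z, c ∈ CC Om z → (PP Om c z).ncard = 15
  loc : ∀ c z t, Lab Om z t c → ∃ s, Lab Om z s c ∧ t * s = s * t ∧ s ≠ z ∧ s ≠ t ∧ ¬ InZ Om (t * s)
  l3 : ∀ c u v w, c ∈ CC Om u → c ∈ CC Om v → c ∈ CC Om w → u * v = v * u → u * w = w * u → u ≠ v →
    ¬ InZ Om (u * v) →
    (∀ n, InZ Om n → c ∈ CC Om n → u * n = n * u → InZ Om (u * n) → InZ Om (v * n) → w = n ∨ InZ Om (w * n)) →
    w = u ∨ w = v ∨ w = u * v * c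

end Cfsg.Agent.Cit.Nil.RTwo
end

-- part: Cit/Nil/RTwo/SPlane
section
prune_inst 0x203044005800000000180004200020604800019200600001404006400b488141a045010030d002101102aee00808800001180049425000002a00820040040000042922e29048100011000040f807180c00000000000000000000000000000000000000000
set_option linter.all false
open scoped Cfsg.Agent.FastGrp

/-!
# Case (S): planes

* `Plane Om W` : `W` has order 8 and all pairs of elements `≠ 1` are of type I;
* `SW.exists_plane` : every type I pair is contained in a plane;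
* `Plane.labs` : every label of `z ∈ W` is the label of a line of `W` on `z`;
* `SW.comm_labels` : `(z, t)` of type I: `CC z` and `CC t` commute;
* `SW.exists_common` : `a ∈ CC z`, `b ∈ CC t`: there is `y` with `a, b ∈ CC y`;
* `Plane.mem_of_ti` : an element of `Z ∩ C(W)` which is of type I with an element of `W` is in `W`.
-/

set_option autoImplicit false
set_option linter.style.haveILetI false
set_option linter.unusedSectionVars false
set_option maxHeartbeats 400000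

namespace Cfsg.Agent.Cit.Nil.RTwo

open Subgroup Cfsg Cit

variable {G : Type*} [Group G]

/-! ### Elementary abelian groups of order 8 -/

/-- independent commuting involutions -/
structure Ind (z t s : G) : Prop where
  z2 : z * z = 1
  t2 : t * t = 1
  s2 : s * s = 1
  zt : z * t = t * z
  zs : z * s = s * z
  ts : t * s = s * t
  z1 : z ≠ 1
  t1 : t ≠ 1
  tz : t ≠ z
  s1 : s ≠ 1
  sz : s ≠ z
  st : s ≠ t
  szt : s ≠ z * t

section Ind

variable {z t s g : G}

/-- the group `⟨z, t, s⟩` -/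
def W8 (h : Ind z t s) : Subgroup G where
  carrier := {g | ∃ i j k : ℕ, g = z ^ i * t ^ j * s ^ k}
  one_mem' := ⟨0, 0, 0, by simp⟩
  mul_mem' := by
    rintro _ _ ⟨i, j, k, rfl⟩ ⟨i', j', k', rfl⟩
    refine ⟨i + i', j + j', k + k', ?_⟩
    have h1 : Commute (s ^ k) (z ^ i') := (Commute.pow_pow (show Commute s z from h.zs.symm) _ _)
    have h2 : Commute (t ^ j) (z ^ i') := (Commute.pow_pow (show Commute t z from h.zt.symm) _ _)
    have h3 : Commute (s ^ k) (t ^ j') := (Commute.pow_pow (show Commute s t from h.ts.symm) _ _)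
    rw [pow_add, pow_add, pow_add]
    calc z ^ i * t ^ j * s ^ k * (z ^ i' * t ^ j' * s ^ k')
        = z ^ i * t ^ j * (s ^ k * z ^ i') * t ^ j' * s ^ k' := by group
      _ = z ^ i * (t ^ j * z ^ i') * (s ^ k * t ^ j') * s ^ k' := by rw [h1.eq]; group
      _ = z ^ i * z ^ i' * (t ^ j * t ^ j') * (s ^ k * s ^ k') := by rw [h2.eq, h3.eq]; group
  inv_mem' := by
    rintro _ ⟨i, j, k, rfl⟩
    refine ⟨i, j, k, ?_⟩
    have hz : (z ^ i)⁻¹ = z ^ i := by
      rw [← inv_pow, inv_eq_of_mul_eq_one_right h.z2]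
    have ht : (t ^ j)⁻¹ = t ^ j := by
      rw [← inv_pow, inv_eq_of_mul_eq_one_right h.t2]
    have hs : (s ^ k)⁻¹ = s ^ k := by
      rw [← inv_pow, inv_eq_of_mul_eq_one_right h.s2]
    have h1 : Commute (s ^ k) (z ^ i) := (Commute.pow_pow (show Commute s z from h.zs.symm) _ _)
    have h2 : Commute (t ^ j) (z ^ i) := (Commute.pow_pow (show Commute t z from h.zt.symm) _ _)
    have h3 : Commute (s ^ k) (t ^ j) := (Commute.pow_pow (show Commute s t from h.ts.symm) _ _)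
    rw [mul_inv_rev, mul_inv_rev, hz, ht, hs, ← mul_assoc, h3.eq, mul_assoc, h1.eq, ← mul_assoc, h2.eq]

theorem pow_two_cases (hz : z * z = 1) (i : ℕ) : z ^ i = 1 ∨ z ^ i = z := by
  rcases Nat.even_or_odd' i with ⟨k, rfl | rfl⟩
  · left; rw [pow_mul, pow_two, hz, one_pow]
  · right; rw [pow_succ, pow_mul, pow_two, hz, one_pow, one_mul]

theorem mem_W8 (h : Ind z t s) : g ∈ W8 h ↔
    g = 1 ∨ g = z ∨ g = t ∨ g = z * t ∨ g = s ∨ g = z * s ∨ g = t * s ∨ g = z * (t * s) := by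
  constructor
  · rintro ⟨i, j, k, rfl⟩
    rcases pow_two_cases h.z2 i with h1 | h1 <;> rcases pow_two_cases h.t2 j with h2 | h2 <;>
    rcases pow_two_cases h.s2 k with h3 | h3 <;> rw [h1, h2, h3] <;> simp only [mul_assoc, _root_.mul_one, _root_.true_or, _root_.one_mul, _root_.right_eq_mul, _root_.or_true, _root_.left_eq_mul, _root_.mul_eq_left, _root_.mul_eq_right, _root_.mul_left_inj, _root_.mul_right_inj, _root_.mul_assoc]
  · rintro (rfl | rfl | rfl | rfl | rfl | rfl | rfl | rfl)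
    · exact ⟨0, 0, 0, by simp⟩
    · exact ⟨1, 0, 0, by simp⟩
    · exact ⟨0, 1, 0, by simp⟩
    · exact ⟨1, 1, 0, by simp⟩
    · exact ⟨0, 0, 1, by simp⟩
    · exact ⟨1, 0, 1, by simp⟩
    · exact ⟨0, 1, 1, by simp⟩
    · exact ⟨1, 1, 1, by simp [mul_assoc]⟩

/-- the eight products -/
def E8 (z t s : G) (p : Fin 2 × Fin 2 × Fin 2) : G := z ^ (p.1 : ℕ) * t ^ (p.2.1 : ℕ) * s ^ (p.2.2 : ℕ)

theorem E8_inj (h : Ind z t s) : Function.Injective (E8 z t s) := by
  have hzi : z⁻¹ = z := inv_eq_of_mul_eq_one_right h.z2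
  have hti : t⁻¹ = t := inv_eq_of_mul_eq_one_right h.t2
  have hsi : s⁻¹ = s := inv_eq_of_mul_eq_one_right h.s2
  have hz : ∀ i : Fin 2, z ^ (i : ℕ) = 1 ∧ i = 0 ∨ z ^ (i : ℕ) = z ∧ i = 1 := by
    intro i; (revert i; simp only [_root_.Fin.forall_fin_succ, Fin.isValue, _root_.Fin.coe_ofNat_eq_mod, _root_.Nat.zero_mod, _root_.pow_zero, _root_.and_self, _root_.zero_ne_one, _root_.and_false, _root_.or_false, _root_.Fin.val_succ, _root_.Fin.val_eq_zero, _root_.zero_add, _root_.pow_one, _root_.Fin.succ_ne_zero, _root_.true_and, _root_.false_or, _root_.Fin.succ_zero_eq_one, _root_.IsEmpty.forall_iff])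
  have ht : ∀ i : Fin 2, t ^ (i : ℕ) = 1 ∧ i = 0 ∨ t ^ (i : ℕ) = t ∧ i = 1 := by
    intro i; fin_cases i <;> simp
  have hs : ∀ i : Fin 2, s ^ (i : ℕ) = 1 ∧ i = 0 ∨ s ^ (i : ℕ) = s ∧ i = 1 := by
    intro i; fin_cases i <;> simp
  have hzt : z * t ≠ 1 := fun e => h.tz (by rw [← hzi]; exact (eq_inv_of_mul_eq_one_right e))
  -- level 2
  have l2 : ∀ i j i' j' : Fin 2, z ^ (i : ℕ) * t ^ (j : ℕ) = z ^ (i' : ℕ) * t ^ (j' : ℕ) → i = i' ∧ j = j' := by
    intro i j i' j' e
    have htz1 : z * t ≠ z := fun e => h.t1 (mul_eq_left.1 e)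
    have htz2 : z * t ≠ t := fun e => h.z1 (mul_eq_right.1 e)
    rcases hz i with ⟨a1, rfl⟩ | ⟨a1, rfl⟩ <;> rcases ht j with ⟨a2, rfl⟩ | ⟨a2, rfl⟩ <;>
    rcases hz i' with ⟨a3, rfl⟩ | ⟨a3, rfl⟩ <;> rcases ht j' with ⟨a4, rfl⟩ | ⟨a4, rfl⟩ <;>
    simp only [a1, a2, a3, a4, one_mul, mul_one] at e <;>
    first
      | exact ⟨rfl, rfl⟩
      | exact absurd e h.z1
      | exact absurd e.symm h.z1
      | exact absurd e h.t1
      | exact absurd e.symm h.t1
      | exact absurd e h.tz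
      | exact absurd e.symm h.tz
      | exact absurd e hzt
      | exact absurd e.symm hzt
      | exact absurd e htz1
      | exact absurd e.symm htz1
      | exact absurd e htz2
      | exact absurd e.symm htz2
  -- `s` is not a product
  have ns : ∀ i j i' j' : Fin 2, z ^ (i : ℕ) * t ^ (j : ℕ) * s = z ^ (i' : ℕ) * t ^ (j' : ℕ) → False := by
    intro i j i' j' e
    have e' : s = (z ^ (i : ℕ) * t ^ (j : ℕ))⁻¹ * (z ^ (i' : ℕ) * t ^ (j' : ℕ)) := by
      rw [← e]; group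
    have key : ∀ u v : G, (u = 1 ∨ u = z ∨ u = t ∨ u = z * t) → (v = 1 ∨ v = z ∨ v = t ∨ v = z * t) →
        u⁻¹ * v = 1 ∨ u⁻¹ * v = z ∨ u⁻¹ * v = t ∨ u⁻¹ * v = z * t := by
      have h1 : z * (z * t) = t := by rw [← mul_assoc, h.z2, one_mul]
      have h2 : t * (z * t) = z := by rw [h.zt, ← mul_assoc, h.t2, one_mul]
      have h3 : (z * t)⁻¹ = z * t := by rw [mul_inv_rev, hzi, hti, h.zt]
      have h4 : z * t * z = t := by rw [h.zt, mul_assoc, h.z2, mul_one]
      have h5 : z * t * t = z := by rw [mul_assoc, h.t2, mul_one]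
      have h6 : z * t * (z * t) = 1 := by rw [← mul_assoc, h4, h.t2]
      rintro u v (rfl | rfl | rfl | rfl) (rfl | rfl | rfl | rfl)
      all_goals first
        | (left; simp only [hzi, hti, h3, h.z2, h.t2, h6, _root_.inv_one, _root_.mul_one, _root_.one_mul]; done)
        | (right; left; simp [hzi, hti, h3, h2, h5]; done)
        | (right; right; left; simp [hzi, hti, h3, h1, h4]; done)
        | (right; right; right; simp [hzi, hti, h.zt])
    have hc : ∀ i j : Fin 2, z ^ (i : ℕ) * t ^ (j : ℕ) = 1 ∨ z ^ (i : ℕ) * t ^ (j : ℕ) = z ∨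
        z ^ (i : ℕ) * t ^ (j : ℕ) = t ∨ z ^ (i : ℕ) * t ^ (j : ℕ) = z * t := by
      intro i j
      rcases hz i with ⟨a1, -⟩ | ⟨a1, -⟩ <;> rcases ht j with ⟨a2, -⟩ | ⟨a2, -⟩ <;> rw [a1, a2] <;> simp
    rcases key _ _ (hc i j) (hc i' j') with h1 | h1 | h1 | h1 <;> rw [← e'] at h1
    · exact h.s1 h1
    · exact h.sz h1
    · exact h.st h1
    · exact h.szt h1
  rintro ⟨i, j, k⟩ ⟨i', j', k'⟩ e
  simp only [E8] at e
  rcases hs k with ⟨a1, rfl⟩ | ⟨a1, rfl⟩ <;> rcases hs k' with ⟨a2, rfl⟩ | ⟨a2, rfl⟩ <;>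
  simp only [a1, a2, mul_one] at e
  · obtain ⟨rfl, rfl⟩ := l2 _ _ _ _ e; rfl
  · exact (ns _ _ _ _ e.symm).elim
  · exact (ns _ _ _ _ e).elim
  · obtain ⟨rfl, rfl⟩ := l2 _ _ _ _ (mul_right_cancel e); rfl

theorem E8_mem (h : Ind z t s) (p : Fin 2 × Fin 2 × Fin 2) : E8 z t s p ∈ W8 h := ⟨_, _, _, rfl⟩

theorem card_W8 (h : Ind z t s) : Nat.card (W8 h) = 8 := by
  let f : Fin 2 × Fin 2 × Fin 2 → W8 h := fun p => ⟨E8 z t s p, E8_mem h p⟩
  have hf : Function.Bijective f := by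
    constructor
    · intro p q e
      exact E8_inj h (congrArg Subtype.val e)
    · rintro ⟨g, hg⟩
      rw [mem_W8] at hg
      rcases hg with rfl | rfl | rfl | rfl | rfl | rfl | rfl | rfl
      · exact ⟨(0, 0, 0), Subtype.ext (by simp [f, E8])⟩
      · exact ⟨(1, 0, 0), Subtype.ext (by simp [f, E8])⟩
      · exact ⟨(0, 1, 0), Subtype.ext (by simp [f, E8])⟩
      · exact ⟨(1, 1, 0), Subtype.ext (by simp [f, E8])⟩
      · exact ⟨(0, 0, 1), Subtype.ext (by simp [f, E8])⟩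
      · exact ⟨(1, 0, 1), Subtype.ext (by simp [f, E8])⟩
      · exact ⟨(0, 1, 1), Subtype.ext (by simp [f, E8])⟩
      · exact ⟨(1, 1, 1), Subtype.ext (by simp [f, E8, mul_assoc])⟩
  rw [← Nat.card_congr (Equiv.ofBijective f hf)]
  simp

/-- a group of order 8 containing `z, t, s` is `W8` -/
theorem eq_W8 (h : Ind z t s) {W : Subgroup G} (hW : Nat.card W = 8) (hz : z ∈ W) (ht : t ∈ W) (hs : s ∈ W) :
    W = W8 h := by
  have hle : W8 h ≤ W := by
    rintro _ ⟨i, j, k, rfl⟩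
    exact mul_mem (mul_mem (pow_mem hz _) (pow_mem ht _)) (pow_mem hs _)
  haveI : Finite W := Nat.finite_of_card_ne_zero (by rw [hW]; norm_num)
  exact (Subgroup.eq_of_le_of_card_ge hle (by rw [hW, card_W8 h])).symm

end Ind

/-! ### Planes -/

/-- `W` is a plane -/
structure Plane (Om : Set (Subgroup G)) (W : Subgroup G) : Prop where
  card : Nat.card W = 8
  ti : ∀ x ∈ W, ∀ y ∈ W, x ≠ 1 → y ≠ 1 → x ≠ y → TI Om x y

section

variable [Finite G] {Om : Set (Subgroup G)} {K K1 K2 L M L1 L2 W : Subgroup G} {z t u v g r s x y w c c' d : G}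
  {a b : Fin 3 → G}

/-- the label of a line is centralised by the centraliser of the line -/
theorem Lab.comm_line (h : W2 Om) (l : Lab Om z s c) (hgz : g * z = z * g) (hgs : g * s = s * g) : g * c = c * g := by
  have h1 := l.conj h g
  have e1 : g * z * g⁻¹ = z := by rw [hgz, mul_inv_cancel_right]
  have e2 : g * s * g⁻¹ = s := by rw [hgs, mul_inv_cancel_right]
  rw [e1, e2] at h1
  have h2 := h1.unique h l
  rwa [mul_inv_eq_iff_eq_mul] at h2

theorem exists_not_mem (hW : Nat.card W = 8) (x y : G) : ∃ s ∈ W, s ≠ 1 ∧ s ≠ x ∧ s ≠ y ∧ s ≠ x * y := by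
  classical
  by_contra hcon
  push Not at hcon
  have h1 : (W : Set G) ⊆ ↑({1, x, y, x * y} : Finset G) := by
    intro s hs
    simp only [Finset.coe_insert, Finset.coe_singleton, Set.mem_insert_iff, Set.mem_singleton_iff]
    by_cases h1 : s = 1
    · exact Or.inl h1
    by_cases h2 : s = x
    · exact Or.inr (Or.inl h2)
    by_cases h3 : s = y
    · exact Or.inr (Or.inr (Or.inl h3))
    · exact Or.inr (Or.inr (Or.inr (hcon s hs h1 h2 h3)))
  have h2 := Set.ncard_le_ncard h1 (Finset.finite_toSet _)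
  rw [Set.ncard_coe_finset] at h2
  have h3 : (W : Set G).ncard = 8 := by
    rw [← hW, ← Nat.card_coe_set_eq]; rfl
  rw [h3] at h2
  have h4 := Finset.card_le_four (a := (1 : G)) (b := x) (c := y) (d := x * y)
  omega

namespace Plane

theorem exists_ti (P : Plane Om W) (hx : x ∈ W) (hx1 : x ≠ 1) : ∃ y ∈ W, TI Om x y := by
  obtain ⟨y, hy, h1, h2, -⟩ := exists_not_mem P.card x x
  exact ⟨y, hy, P.ti x hx y hy hx1 h1 (Ne.symm h2)⟩

theorem inZ (P : Plane Om W) (hx : x ∈ W) (hx1 : x ≠ 1) : InZ Om x := by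
  obtain ⟨y, -, h1⟩ := P.exists_ti hx hx1
  exact h1.1

theorem sq (P : Plane Om W) (h : W2 Om) (hx : x ∈ W) : x * x = 1 := by
  by_cases h1 : x = 1
  · rw [h1, one_mul]
  · exact (P.inZ hx h1).z2 h

theorem comm (P : Plane Om W) (hx : x ∈ W) (hy : y ∈ W) : x * y = y * x := by
  by_cases h1 : x = 1
  · rw [h1, one_mul, mul_one]
  by_cases h2 : y = 1
  · rw [h2, one_mul, mul_one]
  by_cases h3 : x = y
  · rw [h3]
  · exact (P.ti x hx y hy h1 h2 h3).2.2.2.1

theorem ind (P : Plane Om W) (h : W2 Om) (hx : x ∈ W) (hy : y ∈ W) (hs : s ∈ W) (x1 : x ≠ 1) (y1 : y ≠ 1)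
    (yx : y ≠ x) (s1 : s ≠ 1) (sx : s ≠ x) (sy : s ≠ y) (sxy : s ≠ x * y) : Ind x y s :=
  ⟨P.sq h hx, P.sq h hy, P.sq h hs, P.comm hx hy, P.comm hx hs, P.comm hy hs, x1, y1, yx, s1, sx, sy, sxy⟩

/-- two elements outside a line `{1, x, y, xy}` have their product on the line -/
theorem mul_mem_line (P : Plane Om W) (h : W2 Om) (hx : x ∈ W) (hy : y ∈ W) (x1 : x ≠ 1) (y1 : y ≠ 1) (yx : y ≠ x)
    (hu : u ∈ W) (hv : v ∈ W) (u1 : u ≠ 1) (ux : u ≠ x) (uy : u ≠ y) (uxy : u ≠ x * y)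
    (v1 : v ≠ 1) (vx : v ≠ x) (vy : v ≠ y) (vxy : v ≠ x * y) :
    u * v = 1 ∨ u * v = x ∨ u * v = y ∨ u * v = x * y := by
  have I := P.ind h hx hy hu x1 y1 yx u1 ux uy uxy
  have hvW := hv
  rw [eq_W8 I P.card hx hy hu, mem_W8] at hvW
  have hu2 := P.sq h hu
  rcases hvW with e | e | e | e | e | e | e | e
  · exact absurd e v1
  · exact absurd e vx
  · exact absurd e vy
  · exact absurd e vxy
  · left; rw [e, hu2]
  · right; left
    rw [e, I.zs, ← mul_assoc, hu2, one_mul]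
  · right; right; left
    rw [e, I.ts, ← mul_assoc, hu2, one_mul]
  · right; right; right
    rw [e]
    calc u * (x * (y * u)) = u * x * (y * u) := by group
      _ = x * u * (u * y) := by rw [← I.zs, I.ts]
      _ = x * (u * u) * y := by group
      _ = x * y := by rw [hu2, mul_one]

end Plane

namespace SW

variable (S : SW Om)

include S

theorem noOne : NoOne Om := fun z c hc => S.ne z c hc

theorem cc_cases (hz : InZ Om z) {d0 d1 d2 : G} (h0 : d0 ∈ CC Om z) (h1 : d1 ∈ CC Om z) (h2 : d2 ∈ CC Om z)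
    (h01 : d0 ≠ d1) (h02 : d0 ≠ d2) (h12 : d1 ≠ d2) (hc : c ∈ CC Om z) : c = d0 ∨ c = d1 ∨ c = d2 := by
  obtain ⟨c0, c1, c2, hcc, -⟩ := S.three z hz
  rw [hcc] at h0 h1 h2 hc
  simp only [Set.mem_insert_iff, Set.mem_singleton_iff] at h0 h1 h2 hc
  rcases h0 with rfl | rfl | rfl <;> rcases h1 with rfl | rfl | rfl <;> rcases h2 with rfl | rfl | rfl <;>
  first
    | exact absurd rfl h01
    | exact absurd rfl h02
    | exact absurd rfl h12
    | exact hc
    | (rcases hc with hc | hc | hc <;> simp [hc])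

/-- the labels of `z` commute -/
theorem cc_comm (hc : c ∈ CC Om z) (hd : d ∈ CC Om z) : c * d = d * c := by
  have hz := CC.inZ hc
  obtain ⟨c0, c1, c2, hcc, h01, h02, h12, hm⟩ := S.three z hz
  have m0 : c0 ∈ CC Om z := by rw [hcc]; simp
  have m1 : c1 ∈ CC Om z := by rw [hcc]; simp
  have m2 : c2 ∈ CC Om z := by rw [hcc]; simp
  have key : ∀ x y w : G, x ∈ CC Om z → y ∈ CC Om z → w ∈ CC Om z → x * y * w = z → x * y = y * x := by
    intro x y w hx hy hw e
    have hw2 := CC.sq hw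
    have hx2 := CC.sq hx
    have hy2 := CC.sq hy
    have hwz := CC.comm_z S.w hw
    have hz2 := hz.z2 S.w
    have e1 : x * y = z * w := by rw [← e, mul_assoc, hw2, mul_one]
    have e2 : x * y * (x * y) = 1 := by
      rw [e1]
      calc z * w * (z * w) = z * (w * z) * w := by group
        _ = z * (z * w) * w := by rw [hwz]
        _ = (z * z) * (w * w) := by group
        _ = 1 := by rw [hz2, hw2, one_mul]
    have e3 : (x * y)⁻¹ = x * y := inv_eq_of_mul_eq_one_right e2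
    rw [mul_inv_rev, CC.inv hx, CC.inv hy] at e3
    exact e3.symm
  have k01 : c0 * c1 = c1 * c0 := key _ _ _ m0 m1 m2 hm
  have hz0 := CC.comm_z S.w m0
  have hz1 := CC.comm_z S.w m1
  have e2 : c2 = c1 * c0 * z := by
    rw [← hm]
    calc c2 = (c1 * (c0 * c0) * c1) * c2 := by rw [CC.sq m0, mul_one, CC.sq m1, one_mul]
      _ = _ := by group
  have k02 : c0 * c2 = c2 * c0 := by
    rw [e2]
    calc c0 * (c1 * c0 * z) = (c0 * c1) * (c0 * z) := by group
      _ = (c1 * c0) * (z * c0) := by rw [k01, hz0]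
      _ = _ := by group
  have k12 : c1 * c2 = c2 * c1 := by
    rw [e2]
    calc c1 * (c1 * c0 * z) = c1 * (c0 * c1) * z := by rw [k01]; group
      _ = c1 * c0 * (c1 * z) := by group
      _ = c1 * c0 * z * c1 := by rw [hz1]; group
  rw [hcc] at hc hd
  simp only [Set.mem_insert_iff, Set.mem_singleton_iff] at hc hd
  rcases hc with rfl | rfl | rfl <;> rcases hd with rfl | rfl | rfl <;>
  first
    | rfl
    | exact k01
    | exact k01.symm
    | exact k02
    | exact k02.symm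
    | exact k12
    | exact k12.symm

/-- an element of `C(z)` in `Z` of type I with `z` commutes with the labels of `z` -/
theorem lab_comm (l : Lab Om z t c) (hd : d ∈ CC Om z) : d * t = t * d := by
  have h1 : d * (t * c) = t * c * d := CX_comm l.wz (CC.mem_CX hd)
  have h2 : c * d = d * c := S.cc_comm l.mem_CC hd
  have h3 : d * t * c = t * d * c := by
    calc d * t * c = d * (t * c) := by group
      _ = t * c * d := h1
      _ = t * (c * d) := by group
      _ = t * d * c := by rw [h2]; group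
  exact mul_right_cancel h3

end SW

end

/-! ### Directions -/

section

variable [Finite G] {Om : Set (Subgroup G)} {K K1 K2 L M L1 L2 W : Subgroup G} {z t u v g r s x y w w' c c' d : G}
  {a b : Fin 3 → G}

theorem Frame.dir_z (F : Frame Om z K1 K2 a b) {i j : Fin 3} (hd : Dir z a b w i j) : w * z = z * w := by
  have h1 : a i * b j * z = z * (a i * b j) := by rw [mul_assoc, ← F.qb.zc, ← mul_assoc, ← F.qa.zc, mul_assoc]
  rcases hd with rfl | rfl
  · exact h1
  · rw [mul_assoc, h1]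

/-- two directions commute iff they are equal or differ in both coordinates -/
theorem Frame.dir_comm (F : Frame Om z K1 K2 a b) (h : W2 Om) {i j i' j' : Fin 3} (hd : Dir z a b w i j)
    (hd' : Dir z a b w' i' j') : w * w' = w' * w ↔ (i = i' ↔ j = j') := by
  have hz2 := F.qa.z2
  have hz1 := F.qa.z1
  have hzz := F.qa.zzx
  -- the commutator of `a i * b j` and `a i' * b j'`
  have hprod : ∀ i j i' j' : Fin 3, (a i * b j) * (a i' * b j') = (a i * a i') * (b j * b j') := by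
    intro i j i' j'
    calc (a i * b j) * (a i' * b j') = a i * (b j * a i') * b j' := by group
      _ = a i * (a i' * b j) * b j' := by rw [F.ab h]
      _ = _ := by group
  have ha : ∀ i i' : Fin 3, a i * a i' = (if i = i' then 1 else z) * (a i' * a i) := by
    intro i i'
    by_cases e : i = i'
    · rw [if_pos e, e, one_mul]
    · rw [if_neg e, F.qa.anti e, mul_assoc]
  have hb : ∀ i i' : Fin 3, b i * b i' = (if i = i' then 1 else z) * (b i' * b i) := by
    intro i i'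
    by_cases e : i = i'
    · rw [if_pos e, e, one_mul]
    · rw [if_neg e, F.qb.anti e, mul_assoc]
  have hzc : ∀ (P : Prop) [Decidable P] (i i' : Fin 3), (a i * a i') * (if P then 1 else z) =
      (if P then 1 else z) * (a i * a i') := by
    intro P _ i i'
    by_cases e : P
    · rw [if_pos e, mul_one, one_mul]
    · rw [if_neg e, mul_assoc, ← F.qa.zc, ← mul_assoc, ← F.qa.zc, mul_assoc]
  have key : (a i * b j) * (a i' * b j') = ((if i = i' then 1 else z) * (if j = j' then 1 else z)) *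
      ((a i' * b j') * (a i * b j)) := by
    rw [hprod, hprod, ha i i', hb j j']
    calc (if i = i' then 1 else z) * (a i' * a i) * ((if j = j' then 1 else z) * (b j' * b j)) =
        (if i = i' then 1 else z) * ((a i' * a i) * (if j = j' then 1 else z)) * (b j' * b j) := by group
      _ = (if i = i' then 1 else z) * ((if j = j' then 1 else z) * (a i' * a i)) * (b j' * b j) := by rw [hzc]
      _ = _ := by group
  have key2 : (a i * b j) * (a i' * b j') = (a i' * b j') * (a i * b j) ↔ (i = i' ↔ j = j') := by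
    rw [key]
    constructor
    · intro e
      have e' := mul_eq_right.1 e
      by_cases e1 : i = i' <;> by_cases e2 : j = j' <;> simp only [e1, e2, ↓ _root_.reduceIte, _root_.mul_one, _root_.one_mul, _root_.iff_false, _root_.not_true_eq_false, _root_.iff_true] at e' ⊢ <;> exact hz1 e'
    · intro e
      by_cases e1 : i = i'
      · have e2 := e.1 e1
        rw [if_pos e1, if_pos e2]; group
      · have e2 : ¬ j = j' := fun e2 => e1 (e.2 e2)
        rw [if_neg e1, if_neg e2, hz2, one_mul]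
  rw [← key2]
  have hwz := F.dir_z hd
  have hwz' := F.dir_z hd'
  have hz0 : a i * b j * z = z * (a i * b j) := F.dir_z (Or.inl rfl)
  have hz0' : a i' * b j' * z = z * (a i' * b j') := F.dir_z (Or.inl rfl)
  have e1 : (z * (a i * b j)) * (a i' * b j') = z * ((a i * b j) * (a i' * b j')) := mul_assoc _ _ _
  have e2 : (a i' * b j') * (z * (a i * b j)) = z * ((a i' * b j') * (a i * b j)) := by
    rw [← mul_assoc, hz0', mul_assoc]
  have e3 : (a i * b j) * (z * (a i' * b j')) = z * ((a i * b j) * (a i' * b j')) := by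
    rw [← mul_assoc, hz0, mul_assoc]
  have e4 : (z * (a i' * b j')) * (a i * b j) = z * ((a i' * b j') * (a i * b j)) := mul_assoc _ _ _
  have e5 : (z * (a i * b j)) * (z * (a i' * b j')) = (a i * b j) * (a i' * b j') := by
    rw [mul_assoc, e3, hzz]
  have e6 : (z * (a i' * b j')) * (z * (a i * b j)) = (a i' * b j') * (a i * b j) := by
    rw [mul_assoc, e2, hzz]
  rcases hd with rfl | rfl <;> rcases hd' with rfl | rfl
  · exact Iff.rfl
  · rw [e3, e4]; exact ⟨fun e => mul_left_cancel e, fun e => by rw [e]⟩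
  · rw [e1, e2]; exact ⟨fun e => mul_left_cancel e, fun e => by rw [e]⟩
  · rw [e5, e6]

/-- the direction of a line -/
theorem Lab.exists_dir (h : W2 Om) (F : Frame Om z K1 K2 a b) (l : Lab Om z t c) :
    ∃ p : Fin 3 × Fin 3, Dir z a b (t * c) p.1 p.2 ∧ p ∈ DC Om z a b c := by
  obtain ⟨th, i, j, -, -, -, -, hd, -⟩ := l.theta h F
  exact ⟨(i, j), hd, t, l, hd⟩

namespace SW

variable (S : SW Om)

include S

/-- two lines on `z` commute iff their directions commute -/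
theorem line_comm (F : Frame Om z K1 K2 a b) (l : Lab Om z t c) (l' : Lab Om z s c') {p q : Fin 3 × Fin 3}
    (hp : Dir z a b (t * c) p.1 p.2) (hq : Dir z a b (s * c') q.1 q.2) :
    t * s = s * t ↔ (p.1 = q.1 ↔ p.2 = q.2) := by
  rw [← F.dir_comm S.w hp hq]
  have h1 : c * s = s * c := S.lab_comm l' l.mem_CC
  have h2 : c' * t = t * c' := S.lab_comm l l'.mem_CC
  have h3 : c * c' = c' * c := S.cc_comm l.mem_CC l'.mem_CC
  have e1 : t * c * (s * c') = t * s * (c * c') := by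
    calc t * c * (s * c') = t * (c * s) * c' := by group
      _ = _ := by rw [h1]; group
  have e2 : s * c' * (t * c) = s * t * (c * c') := by
    calc s * c' * (t * c) = s * (c' * t) * c := by group
      _ = s * t * (c' * c) := by rw [h2]; group
      _ = _ := by rw [h3]
  rw [e1, e2]
  exact ⟨fun e => by rw [e], fun e => mul_right_cancel e⟩

/-- a second line commuting with the given line, with another label -/
theorem exists_second (l : Lab Om z t c) : ∃ s d, Lab Om z s d ∧ d ≠ c ∧ t * s = s * t := by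
  obtain ⟨K1, K2, a, b, F⟩ := l.ti.1.exists_frame S.w
  obtain ⟨p, hp, hpc⟩ := l.exists_dir S.w F
  obtain ⟨v, hv1, hv2, hv⟩ := S.line z K1 K2 a b F
  obtain ⟨d, hd⟩ := hv (p + (v.1, -v.2))
  obtain ⟨s, l', hq⟩ := (hd (p + (v.1, -v.2))).2 (Or.inl rfl)
  have hne : ∀ v : Fin 3 × Fin 3, v.1 ≠ 0 → v.2 ≠ 0 → ∀ p : Fin 3 × Fin 3,
      p ≠ p + (v.1, -v.2) ∧ p ≠ p + (v.1, -v.2) + v ∧ p ≠ p + (v.1, -v.2) - v ∧
      (p.1 = (p + (v.1, -v.2)).1 ↔ p.2 = (p + (v.1, -v.2)).2) := by decide +kernel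
  obtain ⟨n1, n2, n3, n4⟩ := hne v hv1 hv2 p
  refine ⟨s, d, l', ?_, (S.line_comm F l l' hp hq).2 n4⟩
  rintro rfl
  rcases (hd p).1 hpc with e | e | e
  · exact n1 e
  · exact n2 e
  · exact n3 e

/-- the plane generated by two commuting lines on `z` with different labels -/
theorem plane_of (l : Lab Om z t c) (l' : Lab Om z s d) (hne : d ≠ c) (hts : t * s = s * t) :
    ∃ I : Ind z t s, Plane Om (W8 I) := by
  have h := S.w
  have hti : TI Om t s := S.four z t s c d l l' (Ne.symm hne) hts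
  have hzt := l.ti
  have hzs := l'.ti
  have I : Ind z t s := by
    refine ⟨l.z2 h, l.t2 h, l'.t2 h, l.zt, l'.zt, hts, l.ti.1.z1 h, l.ti.2.1.z1 h, (l.ne_zt).symm,
      l'.ti.2.1.z1 h, (l'.ne_zt).symm, hti.2.2.1.symm, ?_⟩
    rintro rfl
    exact hne (l'.unique h (l.mul h))
  refine ⟨I, card_W8 I, ?_⟩
  have mem : ∀ {g : G}, g ∈ W8 I → g = 1 ∨ g = z ∨ g = t ∨ g = z * t ∨ g = s ∨ g = z * s ∨ g = t * s ∨
      g = z * (t * s) := fun hg => (mem_W8 I).1 hg
  have hinn : ∀ {x : G}, InZ Om x → Inn Om x z → Inn Om x t → Inn Om x s → ∀ g ∈ W8 I, Inn Om x g := by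
    intro x hx h1 h2 h3 g hg
    rcases mem hg with rfl | rfl | rfl | rfl | rfl | rfl | rfl | rfl
    · exact Inn.one
    · exact h1
    · exact h2
    · exact h1.mul h2 hx h
    · exact h3
    · exact h1.mul h3 hx h
    · exact h2.mul h3 hx h
    · exact h1.mul (h2.mul h3 hx h) hx h
  have self : ∀ {x : G}, InZ Om x → Inn Om x x := fun {x} hx => Inn.of_CX (z_mem_CX h)
  have iz : ∀ g ∈ W8 I, Inn Om z g := hinn l.ti.1 (self l.ti.1) hzt.2.2.2.2 hzs.2.2.2.2
  have it : ∀ g ∈ W8 I, Inn Om t g := hinn l.ti.2.1 (hzt.symm h).2.2.2.2 (self l.ti.2.1) hti.2.2.2.2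
  have is : ∀ g ∈ W8 I, Inn Om s g := hinn l'.ti.2.1 (hzs.symm h).2.2.2.2 (hti.symm h).2.2.2.2 (self l'.ti.2.1)
  have zts : z ≠ t * s := by
    intro e
    apply I.szt
    rw [e]
    calc s = (t * t) * s := by rw [I.t2, one_mul]
      _ = t * (t * s) := mul_assoc _ _ _
      _ = t * (s * t) := congrArg (t * ·) I.ts
      _ = t * s * t := (mul_assoc _ _ _).symm
  have hInZ : ∀ g ∈ W8 I, g ≠ 1 → InZ Om g := by
    intro g hg hg1
    have hc : z * (t * s) = t * s * z := by rw [← mul_assoc, I.zt, mul_assoc, I.zs, ← mul_assoc]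
    have hts' : InZ Om (t * s) := hti.mul_inZ h
    have hz_ts : TI Om z (t * s) :=
      ⟨l.ti.1, hts', zts, hc, iz _ ((mem_W8 I).2 (by (clear * -; tauto)))⟩
    rcases mem hg with rfl | rfl | rfl | rfl | rfl | rfl | rfl | rfl
    · exact absurd rfl hg1
    · exact l.ti.1
    · exact l.ti.2.1
    · exact hzt.mul_inZ h
    · exact l'.ti.2.1
    · exact hzs.mul_inZ h
    · exact hts'
    · exact hz_ts.mul_inZ h
  have hcomm : ∀ x ∈ W8 I, ∀ y ∈ W8 I, x * y = y * x := by
    intro x hx y hy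
    obtain ⟨i, j, k, rfl⟩ := hx
    obtain ⟨i', j', k', rfl⟩ := hy
    have cz : ∀ n, Commute (z ^ n) (z ^ i' * t ^ j' * s ^ k') := fun n =>
      (((Commute.refl z).pow_pow _ _).mul_right ((show Commute z t from I.zt).pow_pow _ _)).mul_right
        ((show Commute z s from I.zs).pow_pow _ _)
    have ct : ∀ n, Commute (t ^ n) (z ^ i' * t ^ j' * s ^ k') := fun n =>
      (((show Commute t z from I.zt.symm).pow_pow _ _).mul_right ((Commute.refl t).pow_pow _ _)).mul_right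
        ((show Commute t s from I.ts).pow_pow _ _)
    have cs : ∀ n, Commute (s ^ n) (z ^ i' * t ^ j' * s ^ k') := fun n =>
      (((show Commute s z from I.zs.symm).pow_pow _ _).mul_right ((show Commute s t from I.ts.symm).pow_pow _ _)).mul_right
        ((Commute.refl s).pow_pow _ _)
    exact (((cz i).mul_left (ct j)).mul_left (cs k)).eq
  intro x hx y hy hx1 hy1 hxy
  have hxZ := hInZ x hx hx1
  refine ⟨hxZ, hInZ y hy hy1, hxy, hcomm x hx y hy, ?_⟩
  exact hinn hxZ ((iz x hx).symm l.ti.1 hxZ h) ((it x hx).symm l.ti.2.1 hxZ h) ((is x hx).symm l'.ti.2.1 hxZ h) y hy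

theorem exists_plane (l : Lab Om z t c) : ∃ W, Plane Om W ∧ z ∈ W ∧ t ∈ W := by
  obtain ⟨s, d, l', hne, hts⟩ := S.exists_second l
  obtain ⟨I, P⟩ := S.plane_of l l' hne hts
  exact ⟨_, P, (mem_W8 I).2 (by (clear * - G z t s; tauto)), (mem_W8 I).2 (by (clear * -; tauto))⟩

/-- every label of `z ∈ W` is the label of a line of `W` on `z` -/
theorem labs (P : Plane Om W) (hz : z ∈ W) (hz1 : z ≠ 1) (hc : c ∈ CC Om z) : ∃ v ∈ W, Lab Om z v c := by
  have h := S.w
  obtain ⟨t, ht, t1, tz, -⟩ := exists_not_mem P.card z z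
  obtain ⟨s, hs, s1, sz, st, szt⟩ := exists_not_mem P.card z t
  have I := P.ind h hz ht hs hz1 t1 tz s1 sz st szt
  have ts1 : t * s ≠ 1 := fun e => st (by
    have := eq_inv_of_mul_eq_one_right e
    rw [inv_eq_of_mul_eq_one_right I.t2] at this
    exact this)
  have zts : z ≠ t * s := by
    intro e
    apply szt
    rw [e]
    calc s = (t * t) * s := by rw [I.t2, one_mul]
      _ = t * (t * s) := mul_assoc _ _ _
      _ = t * (s * t) := congrArg (t * ·) I.ts
      _ = t * s * t := (mul_assoc _ _ _).symm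
  obtain ⟨d0, l0⟩ := (P.ti z hz t ht hz1 t1 tz.symm).exists_lab h
  obtain ⟨d1, l1⟩ := (P.ti z hz s hs hz1 s1 sz.symm).exists_lab h
  obtain ⟨d2, l2⟩ := (P.ti z hz (t * s) (mul_mem ht hs) hz1 ts1 zts).exists_lab h
  have c0 := l0.mem_CC
  have c1 := l1.mem_CC
  have c2 := l2.mem_CC
  have hZ := P.inZ hz hz1
  -- the product of the three labels is in `⟨z⟩`
  have hprod : d0 * d1 * d2 = 1 ∨ d0 * d1 * d2 = z := by
    refine RZ_inf_CX h hZ ?_ (mul_mem (mul_mem l0.cz l1.cz) l2.cz)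
    have h1 := mul_mem (mul_mem l0.wz l1.wz) l2.wz
    have k1 : d0 * s = s * d0 := S.lab_comm l1 c0
    have k2 : d0 * (t * s) = t * s * d0 := S.lab_comm l2 c0
    have k3 : d1 * (t * s) = t * s * d1 := S.lab_comm l2 c1
    have e : t * d0 * (s * d1) * (t * s * d2) = d0 * d1 * d2 := by
      calc t * d0 * (s * d1) * (t * s * d2) = t * (d0 * s) * (d1 * (t * s)) * d2 := by group
        _ = t * s * d0 * (t * s * d1) * d2 := by rw [k1, k3]; group
        _ = t * s * (d0 * (t * s)) * d1 * d2 := by group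
        _ = (t * s * (t * s)) * d0 * d1 * d2 := by rw [k2]; group
        _ = _ := by rw [P.sq h (mul_mem ht hs), one_mul]
    rwa [e] at h1
  have kz : ∀ x ∈ CC Om z, x = 1 ∨ x = z → False := by
    rintro x hx (rfl | rfl)
    · exact S.ne _ _ hx rfl
    · exact CC.ne_z h hx rfl
  have k01 : d0 * d1 = d1 * d0 := S.cc_comm c0 c1
  have k02 : d0 * d2 = d2 * d0 := S.cc_comm c0 c2
  have k12 : d1 * d2 = d2 * d1 := S.cc_comm c1 c2
  have n01 : d0 ≠ d1 := by
    rintro rfl
    rw [CC.sq c0, one_mul] at hprod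
    exact kz _ c2 hprod
  have n02 : d0 ≠ d2 := by
    rintro rfl
    rw [k01, mul_assoc, CC.sq c0, mul_one] at hprod
    exact kz _ c1 hprod
  have n12 : d1 ≠ d2 := by
    rintro rfl
    rw [mul_assoc, CC.sq c1, mul_one] at hprod
    exact kz _ c0 hprod
  rcases S.cc_cases hZ c0 c1 c2 n01 n02 n12 hc with rfl | rfl | rfl
  · exact ⟨t, ht, l0⟩
  · exact ⟨s, hs, l1⟩
  · exact ⟨t * s, mul_mem ht hs, l2⟩

/-- a plane on `z` commutes with the labels of `z` -/
theorem cent (P : Plane Om W) (hz : z ∈ W) (hc : c ∈ CC Om z) (hx : x ∈ W) : c * x = x * c := by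
  have h := S.w
  have hz1 : z ≠ 1 := (CC.inZ hc).z1 h
  by_cases x1 : x = 1
  · rw [x1, one_mul, mul_one]
  by_cases xz : z = x
  · rw [← xz]; exact CC.comm_z h hc
  obtain ⟨d, l⟩ := (P.ti z hz x hx hz1 x1 xz).exists_lab h
  exact S.lab_comm l hc

/-- **the labels of `z` and `t` commute, `(z, t)` of type I** -/
theorem comm_labels (l : Lab Om z t c) {a b : G} (ha : a ∈ CC Om z) (hb : b ∈ CC Om t) : a * b = b * a := by
  have h := S.w
  obtain ⟨W, P, hz, ht⟩ := S.exists_plane l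
  obtain ⟨v, hv, l'⟩ := S.labs P ht (l.ti.2.1.z1 h) hb
  exact l'.comm_line h (S.cent P hz ha ht) (S.cent P hz ha hv)

/-- **coplanar labels** -/
theorem exists_common (l : Lab Om z t c) {a b : G} (ha : a ∈ CC Om z) (hb : b ∈ CC Om t) :
    ∃ y, a ∈ CC Om y ∧ b ∈ CC Om y := by
  have h := S.w
  obtain ⟨W, P, hz, ht⟩ := S.exists_plane l
  have z1 := l.ti.1.z1 h
  have t1 := l.ti.2.1.z1 h
  obtain ⟨u, hu, la⟩ := S.labs P hz z1 ha
  obtain ⟨v, hv, lb⟩ := S.labs P ht t1 hb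
  have u1 := la.ti.2.1.z1 h
  have uz : u ≠ z := la.ne_zt.symm
  have v1 := lb.ti.2.1.z1 h
  have vt : v ≠ t := lb.ne_zt.symm
  -- members of the line `{1, z, u, z u}` have the label `a`
  have hA : ∀ y, y = z ∨ y = u ∨ y = z * u → a ∈ CC Om y := by
    rintro y (rfl | rfl | rfl)
    · exact ha
    · exact (la.symm h).mem_CC
    · exact ((la.mul h).symm h).mem_CC
  have hB : ∀ y, y = t ∨ y = v ∨ y = t * v → b ∈ CC Om y := by
    rintro y (rfl | rfl | rfl)
    · exact hb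
    · exact (lb.symm h).mem_CC
    · exact ((lb.mul h).symm h).mem_CC
  by_cases e1 : t = z ∨ t = u ∨ t = z * u
  · exact ⟨t, hA t e1, hb⟩
  by_cases e2 : v = z ∨ v = u ∨ v = z * u
  · exact ⟨v, hA v e2, hB v (Or.inr (Or.inl rfl))⟩
  push Not at e1 e2
  have e3 := P.mul_mem_line h hz hu z1 u1 uz ht hv t1 e1.1 e1.2.1 e1.2.2 v1 e2.1 e2.2.1 e2.2.2
  have tv1 : t * v ≠ 1 := fun e => vt (by
    have := eq_inv_of_mul_eq_one_right e
    rw [inv_eq_of_mul_eq_one_right (P.sq h ht)] at this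
    exact this)
  exact ⟨t * v, hA _ (e3.resolve_left tv1), hB _ (Or.inr (Or.inr rfl))⟩

end SW

end

end Cfsg.Agent.Cit.Nil.RTwo

private theorem dce_fc4774d7a065 : _root_.True := by
  try have : _root_.True := by simp only [_root_.Cfsg.Agent.Cit.Nil.RTwo.E8.eq_1]
  exact _root_.True.intro
end

-- part: Cit/Nil/RTwo/SGeoTwo
section
prune_inst 0x303045005800000000180004220020604800019000600001404006400b088141a040010130d022109112aae0200a000001180149425000000a00020040040000002832c090580c0011000000f807180c00000000000000000000000000000000000000000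
set_option linter.all false
open scoped Cfsg.Agent.FastGrp

/-!
# S1309, `r = 2`, `m = 1`, (S): one or all, 3-transpositions

* `Geo.one_or_all` (A3), `Geo.braid` (A2), `Geo.exists_cuv`;
* `Geo.noTwins`, `Geo.line_eq`, `Geo.hyperbolic`.
-/

set_option autoImplicit false
set_option linter.unusedSectionVars false

namespace Cfsg.Agent.Cit.Nil.RTwo

open Subgroup Cfsg

variable {G : Type*} [Group G]

/-! ### Dihedral groups -/

section Dihedral

variable {x z : G} (hx : x * x = 1) (hz : z * z = 1)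
include hx hz

theorem dih_x (k : ℕ) : (x * z) ^ k * x * ((x * z) ^ k)⁻¹ = (x * z) ^ (2 * k) * x := by
  have hxi : x⁻¹ = x := inv_eq_of_mul_eq_one_right hx
  have hzi : z⁻¹ = z := inv_eq_of_mul_eq_one_right hz
  have h1 : SemiconjBy x (x * z)⁻¹ (x * z) := by
    show x * (x * z)⁻¹ = x * z * x
    rw [mul_inv_rev, hxi, hzi, mul_assoc]
  have h2 : x * ((x * z)⁻¹) ^ k = (x * z) ^ k * x := (h1.pow_right k).eq
  rw [← inv_pow, mul_assoc, h2, ← mul_assoc, ← pow_add, two_mul]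

theorem dih_z (k : ℕ) : (x * z) ^ k * z * ((x * z) ^ k)⁻¹ = (x * z) ^ (2 * k) * z := by
  have hxi : x⁻¹ = x := inv_eq_of_mul_eq_one_right hx
  have hzi : z⁻¹ = z := inv_eq_of_mul_eq_one_right hz
  have h1 : SemiconjBy z (x * z)⁻¹ (x * z) := by
    show z * (x * z)⁻¹ = x * z * z
    rw [mul_inv_rev, hxi, hzi, ← mul_assoc, hz, one_mul, mul_assoc, hz, mul_one]
  have h2 : z * ((x * z)⁻¹) ^ k = (x * z) ^ k * z := (h1.pow_right k).eq
  rw [← inv_pow, mul_assoc, h2, ← mul_assoc, ← pow_add, two_mul]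

/-- `(xz)^(2k+1) x` is conjugate to `z` -/
theorem dih_x' (k : ℕ) : (x * z) ^ (2 * k + 1) * x = ((x * z) ^ k * x) * z * ((x * z) ^ k * x)⁻¹ := by
  have hxi : x⁻¹ = x := inv_eq_of_mul_eq_one_right hx
  have h1 := dih_x hx hz k
  have h2 : (x * z) ^ (2 * k + 1) * x = (x * z) * ((x * z) ^ (2 * k) * x) := by
    rw [pow_succ']; group
  rw [h2, ← h1, mul_inv_rev, hxi]
  have h3 : x * z * (x * z) ^ k = (x * z) ^ k * (x * z) := by rw [← pow_succ', ← pow_succ]
  calc x * z * ((x * z) ^ k * x * ((x * z) ^ k)⁻¹) = (x * z * (x * z) ^ k) * x * ((x * z) ^ k)⁻¹ := by group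
    _ = (x * z) ^ k * x * z * (x * ((x * z) ^ k)⁻¹) := by rw [h3]; group

/-- `(xz)^(2k+1) z` is conjugate to `x` -/
theorem dih_z' (k : ℕ) : (x * z) ^ (2 * k + 1) * z = (x * z) ^ k * x * ((x * z) ^ k)⁻¹ := by
  rw [dih_x hx hz k, pow_succ, mul_assoc, mul_assoc x z z, hz, mul_one]

theorem dih_comm {n : ℕ} (h2 : (x * z) ^ n * (x * z) ^ n = 1) :
    Commute x ((x * z) ^ n) ∧ Commute z ((x * z) ^ n) := by
  have hxi : x⁻¹ = x := inv_eq_of_mul_eq_one_right hx
  have hzi : z⁻¹ = z := inv_eq_of_mul_eq_one_right hz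
  have hj : ((x * z) ^ n)⁻¹ = (x * z) ^ n := inv_eq_of_mul_eq_one_right h2
  constructor
  · have h1 : SemiconjBy x (x * z)⁻¹ (x * z) := by
      show x * (x * z)⁻¹ = x * z * x
      rw [mul_inv_rev, hxi, hzi, mul_assoc]
    have h3 : x * ((x * z)⁻¹) ^ n = (x * z) ^ n * x := (h1.pow_right n).eq
    rw [inv_pow, hj] at h3
    exact h3
  · have h1 : SemiconjBy z (x * z)⁻¹ (x * z) := by
      show z * (x * z)⁻¹ = x * z * z
      rw [mul_inv_rev, hxi, hzi, ← mul_assoc, hz, one_mul, mul_assoc, hz, mul_one]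
    have h3 : z * ((x * z)⁻¹) ^ n = (x * z) ^ n * z := (h1.pow_right n).eq
    rw [inv_pow, hj] at h3
    exact h3

end Dihedral

namespace Geo

variable {Z : Set G} {CC : G → Set G}

theorem pts_conj (h : Geo Z CC) (g : G) {a : G} (ha : a ∈ Pts Z CC) : g * a * g⁻¹ ∈ Pts Z CC := by
  obtain ⟨z, hz, ha⟩ := ha
  exact ⟨_, h.conjZ g z hz, h.conjC g z hz a ha⟩

theorem pts_sq (h : Geo Z CC) {a : G} (ha : a ∈ Pts Z CC) : a * a = 1 := by
  obtain ⟨z, hz, ha⟩ := ha
  exact h.sqC z hz a ha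

theorem pts_ne (h : Geo Z CC) {a : G} (ha : a ∈ Pts Z CC) : a ≠ 1 := by
  obtain ⟨z, hz, ha⟩ := ha
  exact h.neC z hz a ha

theorem pts_inv (h : Geo Z CC) {a : G} (ha : a ∈ Pts Z CC) : a⁻¹ = a := inv_eq_of_mul_eq_one_right (h.pts_sq ha)

theorem pts_not (h : Geo Z CC) {a : G} (ha : a ∈ Pts Z CC) : a ∉ Z := by
  obtain ⟨z, hz, ha⟩ := ha
  exact h.disj z hz a ha

section Fin

variable [Finite G]

/-- **(A3)**: a point commutes with a point of every line -/
theorem one_or_all (h : Geo Z CC) {x z : G} (hx : x ∈ Pts Z CC) (hz : z ∈ Z) : ∃ a ∈ CC z, Commute x a := by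
  have hx2 := h.pts_sq hx
  have hz2 := h.sqZ z hz
  by_cases hxz : Commute x z
  · have hP : IsPGroup 2 (zpowers x) := by
      intro y
      refine ⟨1, Subtype.ext ?_⟩
      obtain ⟨k, hk⟩ := mem_zpowers_iff.1 y.2
      rw [pow_one, pow_two]
      show (y : G) * y = 1
      rw [← hk, ← (Commute.refl x).mul_zpow, hx2, one_zpow]
    obtain ⟨a, ha, h1⟩ := exists_fixed_odd hP (X := CC z) (fun p hp a ha => by
      obtain ⟨k, hk⟩ := mem_zpowers_iff.1 hp
      have h2 : Commute p z := by rw [← hk]; exact hxz.zpow_left k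
      have h3 := h.conjC p z hz a ha
      rwa [conj_eq_iff'.2 h2] at h3) (by
      obtain ⟨a, b, c, h1, h2, h3, h4, h5⟩ := h.three z hz
      rw [h4, Set.ncard_eq_three.2 ⟨a, b, c, h1, h2, h3, rfl⟩]
      decide)
    exact ⟨a, ha, h1 x (mem_zpowers x)⟩
  set r := x * z with hr
  rcases Nat.even_or_odd (orderOf r) with ⟨n, hn⟩ | ⟨n, hn⟩
  · -- even order
    have hpos : 0 < orderOf r := orderOf_pos r
    have hj2 : r ^ n * r ^ n = 1 := by rw [← pow_add, ← hn]; exact pow_orderOf_eq_one r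
    have hj1 : r ^ n ≠ 1 := by
      intro h1
      have := orderOf_dvd_of_pow_eq_one h1
      have := Nat.le_of_dvd (by omega) this
      omega
    obtain ⟨cx, cz⟩ := dih_comm hx2 hz2 hj2
    rw [← hr] at cx cz
    rcases Nat.even_or_odd' n with ⟨k, hk | hk⟩
    · -- `n` even
      have hx1 : r ^ n * x ∈ Pts Z CC := by
        rw [hk, ← dih_x hx2 hz2 k]
        exact h.pts_conj _ hx
      have hz1 : r ^ n * z ∈ Z := by
        rw [hk, ← dih_z hx2 hz2 k]
        exact h.conjZ _ z hz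
      generalize r ^ n = j at *
      have e1 : x * (j * x) = j := by rw [← mul_assoc, cx.eq, mul_assoc, hx2, mul_one]
      have e2 : z * (j * z) = j := by rw [← mul_assoc, cz.eq, mul_assoc, hz2, mul_one]
      have n1 : x ≠ j * x := fun h1 => hj1 (mul_right_cancel (h1.symm.trans (one_mul x).symm))
      have n2 : z ≠ j * z := fun h1 => hj1 (mul_right_cancel (h1.symm.trans (one_mul z).symm))
      have c1 : Commute x (j * x) := cx.mul_right (Commute.refl x)
      have c2 : Commute z (j * z) := cz.mul_right (Commute.refl z)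
      obtain ⟨y, hy, h1, h2⟩ := h.line hx hx1 n1 c1
      obtain ⟨x2, hx2m, -, -, -, h3⟩ := h.third hy h1 h2 n1
      have h4 := h.mul_third hy h1 h2 hx2m h3
      rw [e1] at h4
      obtain ⟨c, hcz, hcz1, -, h6⟩ := h.dich z hz (j * z) hz1 n2 c2
      rw [e2] at h6
      rcases h6 with ⟨h6, -⟩ | ⟨-, h6, h7, -⟩
      · exact absurd (h4 ▸ h6) (h.tt y hy x2 hx2m)
      · have h8 : j = j * c * c := by rw [mul_assoc, h.sqC z hz c hcz, mul_one]
        obtain ⟨-, h9⟩ := h.tt_unique hy h6 hx2m h7 (h4.symm.trans h8)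
        exact ⟨c, hcz, h9 ▸ h.commC y hy x h1 x2 hx2m⟩
    · -- `n` odd
      have hb : r ^ n * z ∈ Pts Z CC := by
        rw [hk, dih_z' hx2 hz2 k]
        exact h.pts_conj _ hx
      generalize r ^ n = j at *
      have e2 : z * (j * z) = j := by rw [← mul_assoc, cz.eq, mul_assoc, hz2, mul_one]
      have c2 : Commute z (j * z) := cz.mul_right (Commute.refl z)
      have c3 : Commute x (z * (j * z)) := by rw [e2]; exact cx
      by_cases hbz : j * z ∈ CC z
      · exact ⟨j * z, hbz, h.tt_central' hz hbz c3⟩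
      · have h1 := h.zb_central hz hb hbz c2 c3
        have h2 : z = j⁻¹ * (j * z) := by group
        exfalso
        apply hxz
        rw [h2]
        exact cx.inv_right.mul_right h1
  · -- odd order
    exfalso
    have h1 := dih_x hx2 hz2 n
    rw [← hr] at h1
    have h2 : r ^ (2 * n) * x = z := by
      have h3 : r ^ (2 * n) = r⁻¹ := by
        rw [eq_inv_iff_mul_eq_one, ← pow_succ, ← hn]
        exact pow_orderOf_eq_one r
      rw [h3, hr, mul_inv_rev, h.zinv hz, h.pts_inv hx, mul_assoc, hx2, mul_one]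
    have h3 := h.pts_conj (r ^ n) hx
    rw [h1, h2] at h3
    exact h.pts_not h3 hz

/-- a point of a skew line moves the line to the third one -/
theorem skew_conj (h : Geo Z CC) {u v c a : G} (hu : u ∈ Z) (hv : v ∈ Z) (huv : u ≠ v)
    (huvZ : u * v ∉ Z) (hcu : c ∈ CC u) (hcv : c ∈ CC v) (ha : a ∈ CC u) (hac : a ≠ c) :
    a * v * a = u * v * c ∧ u * v * c ∈ Z ∧ c ∈ CC (u * v * c) ∧ ¬ Commute v a := by
  have cuv := h.abel u hu v hv c hcu hcv
  obtain ⟨c0, h1, h2, h3, h4⟩ := h.dich u hu v hv huv cuv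
  obtain rfl := h3 c hcu hcv
  rcases h4 with ⟨h4, -⟩ | ⟨-, h4, h5, h6⟩
  · exact absurd h4 huvZ
  refine ⟨?_, h4, h5, h6 a ha hac⟩
  have hcv2 := h.comm_zc hv hcv
  have hm : v * a * v⁻¹ ∈ CC u := by
    have := h.conjC v u hu a ha
    rwa [conj_eq_iff'.2 cuv.symm] at this
  have hne1 : v * a * v⁻¹ ≠ a := fun h7 => h6 a ha hac (conj_eq_iff'.1 h7)
  have hne2 : v * a * v⁻¹ ≠ c := by
    intro h7
    apply hac
    have h8 : a = v⁻¹ * c * v := by rw [← h7]; group
    rw [h8, mul_assoc, hcv2.eq, inv_mul_cancel_left]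
  obtain ⟨d, hd, -, -, h7, h8⟩ := h.third hu hcu ha (Ne.symm hac)
  have hvi := h.zinv hv
  have ha2 := h.sqC u hu a ha
  have hc2 := h.sqC u hu c hcu
  have cac := h.commC u hu a ha c hcu
  have hvd : v * a * v = d := by
    rcases h7 _ hm with h9 | h9 | h9
    · exact absurd h9 hne2
    · exact absurd h9 hne1
    · rwa [hvi] at h9
  -- `d = a c u`
  have hd' : d = a * c * u := by
    rw [h8]
    calc d = (a * (c * c) * a) * d := by rw [hc2, mul_one, ha2, one_mul]
      _ = _ := by group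
  rw [hd'] at hvd
  have h9 : v * a = a * c * u * v := by
    rw [← hvd, mul_assoc (v * a) v v, h.sqZ v hv, mul_one]
  calc a * v * a = a * (v * a) := by group
    _ = (a * a) * c * (u * v) := by rw [h9]; group
    _ = c * (u * v) := by rw [ha2, one_mul]
    _ = u * v * c := ((h.comm_zc hu hcu).mul_right hcv2).eq

theorem skew_braid (h : Geo Z CC) {u v c a b : G} (hu : u ∈ Z) (hv : v ∈ Z) (huv : u ≠ v)
    (huvZ : u * v ∉ Z) (hcu : c ∈ CC u) (hcv : c ∈ CC v) (ha : a ∈ CC u) (hac : a ≠ c) (hb : b ∈ CC v)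
    (hbc : b ≠ c) : a * b * a = b * a * b := by
  have cuv := h.abel u hu v hv c hcu hcv
  obtain ⟨e1, hw, hcw, -⟩ := h.skew_conj hu hv huv huvZ hcu hcv ha hac
  obtain ⟨e2, -, -, -⟩ := h.skew_conj hv hu (Ne.symm huv) (by rw [cuv.symm.eq]; exact huvZ) hcv hcu hb hbc
  rw [cuv.symm.eq] at e2
  have hai := h.cinv hu ha
  have hbi := h.cinv hv hb
  have ha2 := h.sqC u hu a ha
  have hb2 := h.sqC v hv b hb
  have cac := h.commC u hu a ha c hcu
  have cbc := h.commC v hv b hb c hcv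
  have m1 : a * b * a ∈ CC (u * v * c) := by
    have := h.conjC a v hv b hb
    rwa [hai, e1] at this
  have m2 : b * a * b ∈ CC (u * v * c) := by
    have := h.conjC b u hu a ha
    rwa [hbi, e2] at this
  have n1 : a * b * a ≠ c := by
    intro h1
    apply hbc
    calc b = a * (a * b * a) * a := by
          rw [show a * (a * b * a) * a = (a * a) * b * (a * a) by group, ha2, one_mul, mul_one]
      _ = c := by rw [h1, cac.eq, mul_assoc, ha2, mul_one]
  have n2 : b * a * b ≠ c := by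
    intro h1
    apply hac
    calc a = b * (b * a * b) * b := by
          rw [show b * (b * a * b) * b = (b * b) * a * (b * b) by group, hb2, one_mul, mul_one]
      _ = c := by rw [h1, cbc.eq, mul_assoc, hb2, mul_one]
  by_contra hne
  -- `(ab)^3 = uv`
  obtain ⟨x, hx, -, -, h3, h4⟩ := h.third hw m1 m2 hne
  have hxc : x = c := by
    rcases h3 c hcw with h5 | h5 | h5
    · exact absurd h5.symm n1
    · exact absurd h5.symm n2
    · exact h5.symm
  subst hxc
  have h5 := h.mul_third hw m1 m2 hx h4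
  have hc2 := h.sqC u hu x hcu
  rw [mul_assoc (u * v) x x, hc2, mul_one] at h5
  -- the involution `t = uv`
  have ht2 : (a * b) ^ 3 * (a * b) ^ 3 = 1 := by
    have h6 : (a * b) ^ 3 = u * v := by rw [← h5, pow_three]; simp only [mul_assoc]
    rw [h6]
    calc u * v * (u * v) = u * (v * u) * v := by group
      _ = (u * u) * (v * v) := by rw [← cuv.eq]; group
      _ = 1 := by rw [h.sqZ u hu, h.sqZ v hv, mul_one]
  obtain ⟨c1, -⟩ := dih_comm ha2 hb2 ht2
  have h6 : (a * b) ^ 3 = u * v := by rw [← h5, pow_three]; simp only [mul_assoc]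
  have h7 : (a * b) ^ 3 * a = (a * b * a) * b * (a * b * a)⁻¹ := by
    have := dih_x' ha2 hb2 1
    rw [pow_one] at this
    exact this
  rw [h6] at h7 c1
  have hpt : u * v * a ∈ Pts Z CC := by
    rw [h7]
    exact h.pts_conj _ ⟨v, hv, hb⟩
  have huv1 : u * v ≠ 1 := by
    intro h8
    apply huv
    rw [mul_eq_one_iff_eq_inv.1 h8, h.zinv hv]
  have hne2 : a ≠ u * v * a := fun h8 => huv1 (mul_right_cancel (h8.symm.trans (one_mul a).symm))
  obtain ⟨y, hy, h8, h9⟩ := h.line ⟨u, hu, ha⟩ hpt hne2 (c1.mul_right (Commute.refl a))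
  obtain ⟨x0, hx0, -, -, -, h10⟩ := h.third hy h8 h9 hne2
  have h11 := h.mul_third hy h8 h9 hx0 h10
  have h12 : a * (u * v * a) = u * v := by
    calc a * (u * v * a) = a * (u * v) * a := by group
      _ = u * v * (a * a) := by rw [c1.eq]; group
      _ = u * v := by rw [ha2, mul_one]
  rw [h12] at h11
  have h13 : y * x0 = u * v * x * x := by rw [← h11, mul_assoc (u * v), hc2, mul_one]
  obtain ⟨h14, -⟩ := h.tt_unique hy hw hx0 hcw h13
  -- so `a` is on the line `uvc`, which is moved by `a`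
  have h15 : Commute a (u * v * x) := by
    rw [← h14]
    exact h.comm_zc hy h8
  have h16 : a * (u * v * x) * a = v := by
    have hau := h.comm_zc hu ha
    calc a * (u * v * x) * a = (a * u) * v * (x * a) := by group
      _ = (u * a) * v * (a * x) := by rw [hau.eq, cac.symm.eq]
      _ = u * (a * v * a) * x := by group
      _ = u * (u * v * x) * x := by rw [e1]
      _ = (u * u) * v * (x * x) := by group
      _ = v := by rw [h.sqZ u hu, hc2, one_mul, mul_one]
  have h17 : u * v * x = v := by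
    rw [h15.eq, mul_assoc, ha2, mul_one] at h16
    exact h16
  apply h.disj u hu x hcu
  have h18 : u * x = 1 := by
    have h19 : u * x * v = v := by
      rw [mul_assoc, (h.comm_zc hv hcv).eq, ← mul_assoc]
      exact h17
    have : u * x * v = 1 * v := by rw [h19, one_mul]
    exact mul_right_cancel this
  have h20 : x * u = 1 := by rw [(h.comm_zc hu hcu).eq, h18]
  have h19 : x = u := by rw [mul_eq_one_iff_eq_inv.1 h20, h.zinv hu]
  rw [h19]
  exact hu

/-- two points which do not commute: a common neighbour -/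
theorem exists_cuv (h : Geo Z CC) {a b u : G} (hb : b ∈ Pts Z CC) (hab : ¬ Commute a b) (hu : u ∈ Z) (ha : a ∈ CC u) :
    ∃ c v, v ∈ Z ∧ c ∈ CC u ∧ c ∈ CC v ∧ b ∈ CC v ∧ c ≠ a ∧ c ≠ b ∧ u ≠ v ∧ u * v ∉ Z ∧ Commute b c := by
  obtain ⟨c, hc, hbc⟩ := h.one_or_all hb hu
  have hca : c ≠ a := by
    rintro rfl
    exact hab hbc.symm
  have hcb : c ≠ b := by
    rintro rfl
    exact hab (h.commC u hu a ha c hc)
  obtain ⟨v, hv, hcv, hbv⟩ := h.line ⟨u, hu, hc⟩ hb hcb hbc.symm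
  have huv : u ≠ v := by
    rintro rfl
    exact hab (h.commC u hu a ha b hbv)
  refine ⟨c, v, hv, hc, hcv, hbv, hca, hcb, huv, ?_, hbc⟩
  intro h1
  obtain ⟨c0, h2, h3, h4, h5⟩ := h.dich u hu v hv huv (h.abel u hu v hv c hc hcv)
  rcases h5 with ⟨-, h5⟩ | ⟨h5, -⟩
  · exact hab (h5 a ha b hbv)
  · exact h5 h1

/-- **(A2)** -/
theorem braid (h : Geo Z CC) {a b : G} (ha : a ∈ Pts Z CC) (hb : b ∈ Pts Z CC) (hab : ¬ Commute a b) :
    a * b * a = b * a * b := by
  obtain ⟨u, hu, hau⟩ := ha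
  obtain ⟨c, v, hv, hcu, hcv, hbv, hca, hcb, huv, huvZ, -⟩ := h.exists_cuv hb hab hu hau
  exact h.skew_braid hu hv huv huvZ hcu hcv hau (Ne.symm hca) hbv (Ne.symm hcb)

/-- conjugate by an element of the group generated by the points -/
theorem exists_conj_of_not_comm (h : Geo Z CC) {a b : G} (ha : a ∈ Pts Z CC) (hb : b ∈ Pts Z CC) (hab : ¬ Commute a b) :
    ∃ g ∈ closure (Pts Z CC), g * a * g⁻¹ = b := by
  refine ⟨a * b, mul_mem (subset_closure ha) (subset_closure hb), ?_⟩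
  have h1 := h.braid ha hb hab
  rw [mul_inv_rev, h.pts_inv ha, h.pts_inv hb]
  calc a * b * a * (b * a) = a * (b * a * b) * a := by group
    _ = (a * a) * b * (a * a) := by rw [← h1]; group
    _ = b := by rw [h.pts_sq ha, one_mul, mul_one]

theorem single (h : Geo Z CC) (hcent : ∀ a ∈ Pts Z CC, ∃ d ∈ Pts Z CC, ¬ Commute a d) {a b : G}
    (ha : a ∈ Pts Z CC) (hb : b ∈ Pts Z CC) : ∃ g ∈ closure (Pts Z CC), g * a * g⁻¹ = b := by
  have trans : ∀ {a b c : G}, (∃ g ∈ closure (Pts Z CC), g * a * g⁻¹ = b) →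
      (∃ g ∈ closure (Pts Z CC), g * b * g⁻¹ = c) → ∃ g ∈ closure (Pts Z CC), g * a * g⁻¹ = c := by
    rintro a b c ⟨g, hg, rfl⟩ ⟨k, hk, rfl⟩
    exact ⟨k * g, mul_mem hk hg, by group⟩
  obtain ⟨d, hd, had⟩ := hcent a ha
  obtain ⟨e, he, hbe⟩ := hcent b hb
  by_cases hdb : Commute d b
  swap
  · exact trans (h.exists_conj_of_not_comm ha hd had) (h.exists_conj_of_not_comm hd hb hdb)
  by_cases hea : Commute e a
  swap
  · exact trans (h.exists_conj_of_not_comm ha he (fun h1 => hea h1.symm))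
      (h.exists_conj_of_not_comm he hb (fun h1 => hbe h1.symm))
  by_cases hde : Commute d e
  swap
  · exact trans (h.exists_conj_of_not_comm ha hd had)
      (trans (h.exists_conj_of_not_comm hd he hde) (h.exists_conj_of_not_comm he hb (fun h1 => hbe h1.symm)))
  have hne : d ≠ e := by
    rintro rfl
    exact hbe hdb.symm
  obtain ⟨y, hy, hdy, hey⟩ := h.line hd he hne hde
  obtain ⟨f, hf, hfd, hfe, -, -⟩ := h.third hy hdy hey hne
  have h1 : ¬ Commute a f := fun h2 => had (h.comm_all hy hey hf (Ne.symm hfe) hea.symm h2 hdy)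
  have h2 : ¬ Commute f b := fun h3 => hbe (h.comm_all hy hdy hf (Ne.symm hfd) hdb.symm h3.symm hey)
  exact trans (h.exists_conj_of_not_comm ha ⟨y, hy, hf⟩ h1) (h.exists_conj_of_not_comm ⟨y, hy, hf⟩ hb h2)

/-- no twins -/
theorem noTwins (h : Geo Z CC) (hcent : ∀ a ∈ Pts Z CC, ∃ d ∈ Pts Z CC, ¬ Commute a d) {x y : G}
    (hx : x ∈ Pts Z CC) (hy : y ∈ Pts Z CC) (hxy : ∀ d ∈ Pts Z CC, (Commute d x ↔ Commute d y)) : x = y := by
  by_contra hne
  have hc : Commute x y := (hxy x hx).1 (Commute.refl x)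
  obtain ⟨z, hz, hxz, hyz⟩ := h.line hx hy hne hc
  obtain ⟨c, hcz, hcx, hcy, h1, -⟩ := h.third hz hxz hyz hne
  obtain ⟨d, hd, hcd⟩ := hcent c ⟨z, hz, hcz⟩
  obtain ⟨e, he, hde⟩ := h.one_or_all hd hz
  rcases h1 e he with rfl | rfl | rfl
  · exact hcd (h.comm_all hz he hyz hne hde ((hxy d hd).1 hde) hcz).symm
  · exact hcd (h.comm_all hz hxz he hne ((hxy d hd).2 hde) hde hcz).symm
  · exact hcd hde.symm

/-- a point commuting with everything commuting with `x` and `y` is on the line -/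
theorem line_eq (h : Geo Z CC) {x y z w : G} (hz : z ∈ Z) (hx : x ∈ CC z) (hy : y ∈ CC z) (hxy : x ≠ y)
    (hw : w ∈ Pts Z CC) (hall : ∀ d ∈ Pts Z CC, Commute d x → Commute d y → Commute d w) : w ∈ CC z := by
  by_contra hwz
  have hc := h.commC z hz x hx y hy
  have cxw := hall x ⟨z, hz, hx⟩ (Commute.refl x) hc
  have cyw := hall y ⟨z, hz, hy⟩ hc.symm (Commute.refl y)
  have hxw : x ≠ w := by
    rintro rfl
    exact hwz hx
  obtain ⟨t, ht, hxt, hwt⟩ := h.line ⟨z, hz, hx⟩ hw hxw cxw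
  have hzt : z ≠ t := by
    rintro rfl
    exact hwz hwt
  have czt := h.abel z hz t ht x hx hxt
  obtain ⟨c, -, -, h1, h2⟩ := h.dich z hz t ht hzt czt
  obtain rfl := h1 x hx hxt
  rcases h2 with ⟨h2, -⟩ | ⟨-, -, -, h2⟩
  swap
  · exact h2 y hy (Ne.symm hxy) (h.comm_line ht hxt hwt hxw hc.symm cyw).symm
  obtain ⟨s, hs, hxs, hsz, hst, h3, h4⟩ := h.loc x z hz t ht hx hxt hzt h2
  obtain ⟨d, hd, hdx⟩ := h.exists_other (a := x) hs
  -- `d` commutes with the points of `z`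
  obtain ⟨c1, -, -, -, h5⟩ := h.dich z hz s hs (Ne.symm hsz) (h.abel z hz s hs x hx hxs)
  have h6 : ∀ e ∈ CC z, Commute d e := by
    rcases h5 with ⟨-, h5⟩ | ⟨h5, -⟩
    · exact fun e he => (h5 e he d hd).symm
    · exact absurd h3 h5
  have h7 : Commute d w := hall d ⟨s, hs, hd⟩ (h6 x hx) (h6 y hy)
  have h8 : Commute d t := h.comm_line ht hxt hwt hxw (h6 x hx) h7
  have cst := h.abel s hs t ht x hxs hxt
  obtain ⟨-, -, -, h9⟩ := h.skew_conj hs ht hst (by rw [cst.eq]; exact h4) hxs hxt hd hdx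
  exact h9 h8.symm

/-- a skew line on a given point -/
theorem exists_skew (h : Geo Z CC) {u x : G} (hu : u ∈ Z) (hx : x ∈ CC u) :
    ∃ t ∈ Z, x ∈ CC t ∧ u ≠ t ∧ u * t ∉ Z := by
  have h1 : 1 < {t | t ∈ Z ∧ x ∈ CC t}.ncard := by rw [h.card u hu x hx]; decide
  obtain ⟨t, ⟨ht, hxt⟩, hne⟩ := Set.exists_ne_of_one_lt_ncard h1 u
  by_cases h2 : u * t ∈ Z
  swap
  · exact ⟨t, ht, hxt, Ne.symm hne, h2⟩
  have cut := h.abel u hu t ht x hx hxt
  obtain ⟨s, hs, hxs, -, hsu, -, h4⟩ := h.loc x t ht u hu hxt hx hne (by rw [cut.symm.eq]; exact h2)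
  exact ⟨s, hs, hxs, Ne.symm hsu, h4⟩

/-- for a pair of non-commuting points no line on one of them has two points in the double perp -/
theorem exists_breaker (h : Geo Z CC) {x y u c : G} (hy : y ∈ Pts Z CC) (hxy : ¬ Commute x y) (hu : u ∈ Z)
    (hx : x ∈ CC u) (hc : c ∈ CC u) (hcx : c ≠ x) :
    ∃ d ∈ Pts Z CC, Commute d x ∧ Commute d y ∧ ¬ Commute d c := by
  obtain ⟨t, ht, hxt, hut, hutZ⟩ := h.exists_skew hu hx
  obtain ⟨d, hd, hyd⟩ := h.one_or_all hy ht
  have hdx : d ≠ x := by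
    rintro rfl
    exact hxy hyd.symm
  refine ⟨d, ⟨t, ht, hd⟩, h.commC t ht d hd x hxt, hyd.symm, ?_⟩
  intro hdc
  have h1 : Commute d u := h.comm_line hu hx hc (Ne.symm hcx) (h.commC t ht d hd x hxt) hdc
  have cut := h.abel u hu t ht x hx hxt
  obtain ⟨-, -, -, h2⟩ := h.skew_conj ht hu (Ne.symm hut) (by rw [cut.symm.eq]; exact hutZ) hxt hx hd hdx
  exact h2 h1.symm

/-- hyperbolic lines -/
theorem hyperbolic (h : Geo Z CC) {x y z : G} (hx : x ∈ Pts Z CC) (hy : y ∈ Pts Z CC) (hxy : ¬ Commute x y)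
    (hz : z ∈ Pts Z CC) (hall : ∀ d ∈ Pts Z CC, Commute d x → Commute d y → Commute d z) :
    z = x ∨ z = y ∨ z = x * y * x := by
  obtain ⟨u, hu, hxu⟩ := hx
  obtain ⟨c, v, hv, hcu, hcv, hyv, hcx, hcy, huv, huvZ, cyc⟩ := h.exists_cuv hy hxy hu hxu
  have cxc := h.commC u hu x hxu c hcu
  obtain ⟨d, hd, cdx, cdy, hdc⟩ := h.exists_breaker hy hxy hu hxu hcu hcx
  have czc : Commute c z := hall c ⟨u, hu, hcu⟩ cxc.symm cyc.symm
  have hzc : z ≠ c := by
    rintro rfl
    exact hdc (hall d hd cdx cdy)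
  obtain ⟨w, hw, hcw, hzw⟩ := h.line ⟨u, hu, hcu⟩ hz (Ne.symm hzc) czc
  obtain ⟨e1, hw', hcw', -⟩ := h.skew_conj hu hv huv huvZ hcu hcv hxu (Ne.symm hcx)
  have hw3 : w = u ∨ w = v ∨ w = u * v * c := by
    refine h.l3 c u hu v hv w hw hcu hcv hcw huv huvZ ?_
    intro n hn hcn hun hvn
    by_cases hwn : w = n
    · exact Or.inl hwn
    right
    by_contra hwnZ
    obtain ⟨e, he, hec⟩ := h.exists_other (a := c) hn
    have hne1 : u ≠ n := by
      rintro rfl
      rw [h.sqZ u hu] at hun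
      exact h.neZ 1 hun rfl
    have hne2 : v ≠ n := by
      rintro rfl
      rw [h.sqZ v hv] at hvn
      exact h.neZ 1 hvn rfl
    obtain ⟨_, -, -, -, h5⟩ := h.dich u hu n hn hne1 (h.abel u hu n hn c hcu hcn)
    obtain ⟨_, -, -, -, h6⟩ := h.dich v hv n hn hne2 (h.abel v hv n hn c hcv hcn)
    have cex : Commute e x := by
      rcases h5 with ⟨-, h5⟩ | ⟨h5, -⟩
      · exact (h5 x hxu e he).symm
      · exact absurd hun h5
    have cey : Commute e y := by
      rcases h6 with ⟨-, h6⟩ | ⟨h6, -⟩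
      · exact (h6 y hyv e he).symm
      · exact absurd hvn h6
    have cez : Commute e z := hall e ⟨n, hn, he⟩ cex cey
    have h7 : Commute z n := h.comm_line hn he hcn hec cez.symm czc.symm
    obtain ⟨-, -, -, h8⟩ := h.skew_conj hw hn hwn hwnZ hcw hcn hzw hzc
    exact h8 h7.symm
  -- if two points `z`, `z'` of a line on `c` are in the double perp, so is `c`
  have key : ∀ z', z' ∈ CC w → z' ≠ c → z' ≠ z → Commute d z' → False := by
    intro z' h1 h2 h3 h4
    exact hdc (h.comm_all hw hzw h1 (Ne.symm h3) (hall d hd cdx cdy) h4 hcw)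
  rcases hw3 with rfl | rfl | rfl
  · left
    by_contra hne
    exact key x hxu (Ne.symm hcx) (Ne.symm hne) cdx
  · right; left
    by_contra hne
    exact key y hyv (Ne.symm hcy) (Ne.symm hne) cdy
  · right; right
    by_contra hne
    have hxi := h.cinv hu hxu
    have m1 : x * y * x ∈ CC (u * v * c) := by
      have := h.conjC x v hv y hyv
      rwa [hxi, e1] at this
    refine key _ m1 ?_ (Ne.symm hne) ((cdx.mul_right cdy).mul_right cdx)
    intro h1
    apply hcy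
    have hx2 := h.sqC u hu x hxu
    calc c = x * c * x := by rw [cxc.eq, mul_assoc, hx2, mul_one]
      _ = x * (x * y * x) * x := by rw [h1]
      _ = (x * x) * y * (x * x) := by group
      _ = y := by rw [hx2, one_mul, mul_one]

end Fin

end Geo

end Cfsg.Agent.Cit.Nil.RTwo
end

-- part: Cit/Nil/RTwo/SDich
section
prune_inst 0x2030440058000000001800042200206048000192006000014040064003488141a045010130c002109112ae70280a800001180149427800002a008a0040040000042832c29048100001000040f807180c00000000000000000000000000000000000000000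
set_option linter.all false
open scoped Cfsg.Agent.FastGrp

/-!
# Case (S): the dichotomy for commuting pairs of `Z`

* `SW.mem_of_ti` : `s ∈ Z ∩ C(W)` of type I with an element of the plane `W`: `s ∈ W`;
* `SW.pr_label` : `(z, t)` of type p: exactly one label of `z` commutes with `t`;
* `SW.no_f` : no pairs of type f;
* `SW.dich` : the dichotomy.
-/

set_option autoImplicit false
set_option linter.style.haveILetI false
set_option linter.unusedSectionVars false
set_option maxHeartbeats 400000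

namespace Cfsg.Agent.Cit.Nil.RTwo

open Subgroup Cfsg Cit

variable {G : Type*} [Group G]

section

variable [Finite G] {Om : Set (Subgroup G)} {K K1 K2 L M L1 L2 W : Subgroup G} {z t u v g r s y w w' c c' d : G}
  {a b : Fin 3 → G} {x : Fin 3 → G}

theorem dir_three : ∀ i j k l : Fin 3, i ≠ j → i ≠ k → j ≠ k → l = i ∨ l = j ∨ l = k := by decide

/-- a direction commuting with three commuting directions is one of them -/
theorem dir_trans {p0 p1 p2 q : Fin 3 × Fin 3} (n01 : p0 ≠ p1) (n02 : p0 ≠ p2) (n12 : p1 ≠ p2)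
    (h01 : p0.1 = p1.1 ↔ p0.2 = p1.2) (h02 : p0.1 = p2.1 ↔ p0.2 = p2.2) (h12 : p1.1 = p2.1 ↔ p1.2 = p2.2)
    (q0 : q.1 = p0.1 ↔ q.2 = p0.2) (q1 : q.1 = p1.1 ↔ q.2 = p1.2) (q2 : q.1 = p2.1 ↔ q.2 = p2.2) :
    q = p0 ∨ q = p1 ∨ q = p2 := by
  have m01 : p0.1 ≠ p1.1 := fun e => n01 (Prod.ext e (h01.1 e))
  have m02 : p0.1 ≠ p2.1 := fun e => n02 (Prod.ext e (h02.1 e))
  have m12 : p1.1 ≠ p2.1 := fun e => n12 (Prod.ext e (h12.1 e))
  rcases dir_three _ _ _ q.1 m01 m02 m12 with e | e | e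
  · exact Or.inl (Prod.ext e (q0.1 e))
  · exact Or.inr (Or.inl (Prod.ext e (q1.1 e)))
  · exact Or.inr (Or.inr (Prod.ext e (q2.1 e)))

theorem HP.sframe (P : HP Om z t K x) (h : W2 Om) : Frame Om z K (cj t K) x (fun i => t * x i * t⁻¹) :=
  ⟨P.hK, P.hK' h, P.ne', P.q, P.q' ⟩

/-- `t` acts on the directions of the adapted frame as the interchange of the coordinates -/
theorem HP.dir_swap (P : HP Om z t K x) (h : W2 Om) {i j : Fin 3} (hd : Dir z x (fun i => t * x i * t⁻¹) w i j) :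
    Dir z x (fun i => t * x i * t⁻¹) (t * w * t⁻¹) j i := by
  have h1 : Act z x (fun i => t * x i * t⁻¹) t 1 := fun i => Or.inl rfl
  have h2 : Act z (fun i => t * x i * t⁻¹) x t 1 := fun i => Or.inl (by
    show t * (t * x i * t⁻¹) * t⁻¹ = x i
    exact P.tt h _)
  exact (P.sframe h).dir_conj' h P.pr.comm.symm h1 h2 hd

theorem HP.dc_swap (P : HP Om z t K x) (h : W2 Om) {p : Fin 3 × Fin 3}
    (hp : p ∈ DC Om z x (fun i => t * x i * t⁻¹) c) :
    (p.2, p.1) ∈ DC Om z x (fun i => t * x i * t⁻¹) (t * c * t⁻¹) := by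
  obtain ⟨u, l, hd⟩ := hp
  refine ⟨_, l.conj_comm h P.pr.comm.symm, ?_⟩
  have e : t * u * t⁻¹ * (t * c * t⁻¹) = t * (u * c) * t⁻¹ := by group
  rw [e]
  exact P.dir_swap h hd

namespace SW

variable (S : SW Om)

include S

theorem mem_of_ti (P : Plane Om W) (hv : v ∈ W) (hti : TI Om v s) (hs : ∀ x ∈ W, s * x = x * s) : s ∈ W := by
  have h := S.w
  have hZ := hti.1
  have v1 := hZ.z1 h
  obtain ⟨c, l⟩ := hti.exists_lab h
  obtain ⟨K1, K2, a, b, F⟩ := hZ.exists_frame h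
  obtain ⟨c0, c1, c2, hcc, n01, n02, n12, -⟩ := S.three v hZ
  obtain ⟨u0, hu0, l0⟩ := S.labs P hv v1 (c := c0) (by rw [hcc]; simp)
  obtain ⟨u1, hu1, l1⟩ := S.labs P hv v1 (c := c1) (by rw [hcc]; simp)
  obtain ⟨u2, hu2, l2⟩ := S.labs P hv v1 (c := c2) (by rw [hcc]; simp)
  obtain ⟨p0, d0, m0⟩ := l0.exists_dir h F
  obtain ⟨p1, d1, m1⟩ := l1.exists_dir h F
  obtain ⟨p2, d2, m2⟩ := l2.exists_dir h F
  obtain ⟨q, dq, mq⟩ := l.exists_dir h F
  have k01 : p0 ≠ p1 := fun e => n01 (S.uniq v K1 K2 a b F c0 c1 p0 m0 (e ▸ m1))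
  have k02 : p0 ≠ p2 := fun e => n02 (S.uniq v K1 K2 a b F c0 c2 p0 m0 (e ▸ m2))
  have k12 : p1 ≠ p2 := fun e => n12 (S.uniq v K1 K2 a b F c1 c2 p1 m1 (e ▸ m2))
  have key : ∀ {u' c' : G} {p : Fin 3 × Fin 3}, u' ∈ W → Lab Om v u' c' → Dir v a b (u' * c') p.1 p.2 →
      p ∈ DC Om v a b c' → q = p → s ∈ W := by
    intro u' c' p hu' l' hd hm e
    have e1 : c = c' := S.uniq v K1 K2 a b F c c' q mq (e ▸ hm)
    subst e1
    rw [e] at dq
    rcases F.eq_of_dir hd dq with e2 | e2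
    · rw [e2]; exact hu'
    · rw [e2]; exact mul_mem hv hu'
  rcases dir_trans k01 k02 k12 ((S.line_comm F l0 l1 d0 d1).1 (P.comm hu0 hu1))
    ((S.line_comm F l0 l2 d0 d2).1 (P.comm hu0 hu2)) ((S.line_comm F l1 l2 d1 d2).1 (P.comm hu1 hu2))
    ((S.line_comm F l l0 dq d0).1 (hs u0 hu0)) ((S.line_comm F l l1 dq d1).1 (hs u1 hu1))
    ((S.line_comm F l l2 dq d2).1 (hs u2 hu2)) with e | e | e
  · exact key hu0 l0 d0 m0 e
  · exact key hu1 l1 d1 m1 e
  · exact key hu2 l2 d2 m2 e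

/-- an element of `Z ∩ C(W)` is in `W` -/
theorem mem_plane (P : Plane Om W) (hsZ : InZ Om s) (hs : ∀ x ∈ W, s * x = x * s) : s ∈ W := by
  have h := S.w
  by_contra hsW
  obtain ⟨x, hx, x1, -, -, -⟩ := exists_not_mem P.card (1 : G) 1
  obtain ⟨y, hy, y1, yx, -⟩ := exists_not_mem P.card x x
  obtain ⟨w, hw, w1, wx, wy, wxy⟩ := exists_not_mem P.card x y
  obtain ⟨a, ha, -, hti⟩ := oct h (fun a ha ha1 => P.inZ ha ha1) (fun a ha b hb => P.comm ha hb) hx hy hw x1 y1 yx
    w1 wx wy wxy hsZ hsW hs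
  exact hsW (S.mem_of_ti P ha (hti.symm h) hs)

/-- the lines in the adapted frame of a p-pair are parallel to the graph -/
theorem pr_slope (P : HP Om z t K x) : ∃ v : Fin 3 × Fin 3, v.1 ≠ 0 ∧ v.2 = v.1 ∧
    ∀ p, ∃ c, ∀ q, q ∈ DC Om z x (fun i => t * x i * t⁻¹) c ↔ q = p ∨ q = p + v ∨ q = p - v := by
  have h := S.w
  have F := P.sframe h
  obtain ⟨v, hv1, hv2, hv⟩ := S.line z _ _ _ _ F
  by_cases hvv : v.2 = v.1
  · exact ⟨v, hv1, hvv, hv⟩
  exfalso
  -- `t` centralises the labels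
  have hct : ∀ c ∈ CC Om z, t * c = c * t := by
    intro c hc
    obtain ⟨p, hp⟩ := CC.exists_dir h F hc
    obtain ⟨c', hc'⟩ := hv p
    have e1 : c = c' := S.uniq _ _ _ _ _ F _ _ _ hp ((hc' p).2 (Or.inl rfl))
    subst e1
    have h1 := P.dc_swap h hp
    have key : ∀ v : Fin 3 × Fin 3, v.1 ≠ 0 → v.2 ≠ 0 → v.2 ≠ v.1 → ∀ p : Fin 3 × Fin 3,
        (p.2, p.1) = p ∨ (p.2, p.1) = p + v ∨ (p.2, p.1) = p - v := by decide
    have h2 := (hc' _).2 (key v hv1 hv2 hvv p)
    have h3 := S.uniq _ _ _ _ _ F _ _ _ h2 h1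
    rw [eq_mul_inv_iff_mul_eq] at h3
    exact h3.symm
  -- the plane over the graph
  obtain ⟨d0, h0⟩ := hv (0, 0)
  obtain ⟨d1, h1⟩ := hv (1, 1)
  have m0 := (h0 (0, 0)).2 (Or.inl rfl)
  have m1 := (h1 (1, 1)).2 (Or.inl rfl)
  have hne : d1 ≠ d0 := by
    rintro rfl
    have h2 := (h0 (1, 1)).1 m1
    have key : ∀ v : Fin 3 × Fin 3, v.1 ≠ 0 → v.2 ≠ 0 → v.2 ≠ v.1 →
        ¬ (((1, 1) : Fin 3 × Fin 3) = (0, 0) ∨ ((1, 1) : Fin 3 × Fin 3) = (0, 0) + v ∨
          ((1, 1) : Fin 3 × Fin 3) = (0, 0) - v) := by decide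
    exact key v hv1 hv2 hvv h2
  obtain ⟨u0, l0, e0⟩ := m0
  obtain ⟨u1, l1, e1⟩ := m1
  have hcomm : u0 * u1 = u1 * u0 := (S.line_comm F l0 l1 (p := (0, 0)) (q := (1, 1)) e0 e1).2 (by decide)
  obtain ⟨I, PP⟩ := S.plane_of l0 l1 hne hcomm
  -- `t` commutes with the diagonal
  have hdiag : ∀ (u d : G) (i : Fin 3), d ∈ CC Om z → Dir z x (fun i => t * x i * t⁻¹) (u * d) i i → t * u = u * t := by
    intro u d i hd hdir
    have h2 : t * (u * d) = u * d * t := by
      rcases hdir with h3 | h3 <;> rw [h3]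
      · rw [P.xx_eq, ← mul_assoc, ← P.pr.comm, mul_assoc, ← P.e_t h, ← mul_assoc]
      · rw [P.xx_eq, P.q.zzx, P.e_t h]
    have h3 := hct d hd
    have h4 : t * u * d = u * t * d := by
      calc t * u * d = t * (u * d) := mul_assoc _ _ _
        _ = u * (d * t) := by rw [h2, mul_assoc]
        _ = u * (t * d) := by rw [h3]
        _ = _ := (mul_assoc _ _ _).symm
    exact mul_right_cancel h4
  have k0 : t * u0 = u0 * t := hdiag u0 d0 0 l0.mem_CC e0
  have k1 : t * u1 = u1 * t := hdiag u1 d1 1 l1.mem_CC e1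
  have kz : t * z = z * t := P.pr.comm.symm
  have hcent : ∀ g ∈ W8 I, t * g = g * t := by
    rintro _ ⟨i, j, k, rfl⟩
    exact (((show Commute t z from kz).pow_right i).mul_right ((show Commute t u0 from k0).pow_right j)).mul_right
      ((show Commute t u1 from k1).pow_right k)
  have htW := S.mem_plane PP P.pr.ht hcent
  have hzW : z ∈ W8 I := (mem_W8 I).2 (by tauto)
  have hti := PP.ti z hzW t htW I.z1 (P.pr.ht.z1 h) P.pr.ne
  exact P.pr.not_fr (hti.fr h)

/-- **a p-pair has exactly one label commuting with `t`** -/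
theorem pr_label (hp : PR Om z t) : ∃ c ∈ CC Om z, t * c = c * t ∧ (∀ d ∈ CC Om z, d ≠ c → t * d ≠ d * t) ∧
    (∀ u, Lab Om z u c → t * u = u * t) ∧
    ∃ u r, Lab Om z u c ∧ (u * c = r ∨ u * c = z * r) ∧ r * t = t * r ∧ Fx Om t r := by
  have h := S.w
  obtain ⟨K, x, P⟩ := hp.exists_hp h
  have F := P.sframe h
  obtain ⟨v, hv1, hvv, hv⟩ := S.pr_slope P
  obtain ⟨c, hc⟩ := hv (0, 0)
  have m0 := (hc (0, 0)).2 (Or.inl rfl)
  have hcc := DC.mem_CC m0
  have hct : t * c = c * t := by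
    have h1 := P.dc_swap h m0
    have h3 := S.uniq _ _ _ _ _ F _ _ _ m0 h1
    rw [eq_mul_inv_iff_mul_eq] at h3
    exact h3.symm
  -- the directions of `c` are on the graph
  have hdiag : ∀ q, q ∈ DC Om z x (fun i => t * x i * t⁻¹) c → q.1 = q.2 := by
    intro q hq
    have h1 := (hc q).1 hq
    have key : ∀ v : Fin 3 × Fin 3, v.2 = v.1 → ∀ q : Fin 3 × Fin 3, (q = (0, 0) ∨ q = (0, 0) + v ∨ q = (0, 0) - v) →
        q.1 = q.2 := by decide
    exact key v hvv q h1
  refine ⟨c, hcc, hct, ?_, ?_, ?_⟩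
  · intro d hd hne hdt
    obtain ⟨p, hpd⟩ := CC.exists_dir h F hd
    obtain ⟨d', hd'⟩ := hv p
    have e1 : d = d' := S.uniq _ _ _ _ _ F _ _ _ hpd ((hd' p).2 (Or.inl rfl))
    subst e1
    have h1 := P.dc_swap h hpd
    rw [hdt, mul_inv_cancel_right] at h1
    have h2 := (hd' _).1 h1
    have key : ∀ v : Fin 3 × Fin 3, v.1 ≠ 0 → v.2 = v.1 → ∀ p : Fin 3 × Fin 3,
        ((p.2, p.1) = p ∨ (p.2, p.1) = p + v ∨ (p.2, p.1) = p - v) →
        p = (0, 0) ∨ p = (0, 0) + v ∨ p = (0, 0) - v := by decide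
    have h3 := (hc p).2 (key v hv1 hvv p h2)
    exact hne (S.uniq _ _ _ _ _ F _ _ _ hpd h3)
  · intro u l
    obtain ⟨p, hd, hm⟩ := l.exists_dir h F
    have e := hdiag p hm
    rw [← e] at hd
    have h2 : t * (u * c) = u * c * t := by
      rcases hd with h3 | h3 <;> rw [h3]
      · rw [P.xx_eq, ← mul_assoc, ← P.pr.comm, mul_assoc, ← P.e_t h, ← mul_assoc]
      · rw [P.xx_eq, P.q.zzx, P.e_t h]
    have h4 : t * u * c = u * t * c := by
      calc t * u * c = t * (u * c) := mul_assoc _ _ _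
        _ = u * (c * t) := by rw [h2, mul_assoc]
        _ = u * (t * c) := by rw [hct]
        _ = _ := (mul_assoc _ _ _).symm
    exact mul_right_cancel h4
  · obtain ⟨u, l, hd⟩ := m0
    refine ⟨u, z * ee z t x 0, l, ?_, P.c_t h 0, P.fx_ze h S.noOne 0⟩
    rw [← P.xx_eq]
    exact hd

/-- no disjoint pairs -/
theorem no_dj (hd : DJ Om z t) : False := by
  have h := S.w
  obtain ⟨K, x, L, l, D⟩ := hd
  obtain ⟨c, -, -, hu, -⟩ := S.pr_label D.P.pr
  have key : ∀ j, z * (t * ee t z l j) = c := by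
    intro j
    by_contra hne
    refine hu _ (D.lab h 0 j).mem_CC hne ?_
    have hzt := D.P.pr.comm
    have hf : t * ee t z l j * t = t * (t * ee t z l j) := D.Q.c_z h j
    calc t * (z * (t * ee t z l j)) = (t * z) * (t * ee t z l j) := by group
      _ = z * (t * (t * ee t z l j)) := by rw [← hzt]; group
      _ = _ := by rw [← hf]; group
  have e1 : ee t z l 0 = ee t z l 1 := mul_left_cancel (mul_left_cancel ((key 0).trans (key 1).symm))
  have e2 := D.Q.ee_ne h (i := 0) (j := 1) (by decide)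
  rw [← e1, D.Q.e_sq h] at e2
  have e3 := D.Q.e_ne_z h (th3 0 1)
  apply e3
  have ht := D.P.t2 h
  calc ee t z l (th3 0 1) = t * (t * ee t z l (th3 0 1)) := by rw [← mul_assoc, ht, one_mul]
    _ = t := by rw [← e2, mul_one]

/-- the label of a p-pair is in `X_t` and `z t c ∈ Z` -/
theorem pr_six (hp : PR Om z t) (hc : c ∈ CC Om z) (hct : t * c = c * t) :
    c ∈ CX Om t ∧ PR Om z (z * t * c) := by
  have h := S.w
  obtain ⟨c', hc', hct', hu, -, u, r, l, hr, hrt, hf⟩ := S.pr_label hp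
  have e : c = c' := by
    by_contra hne
    exact hu c hc hne hct
  subst e
  have hj : JN Om z t := by
    rcases hp.jn_or_dj h S.noOne with h1 | h1
    · exact h1
    · exact (S.no_dj h1).elim
  rcases hj.six_seven h S.noOne l hct.symm hr hrt hf with ⟨h1, h2⟩ | ⟨h1, h2⟩
  · exact ⟨h1, h2.pr⟩
  · exact (S.no_dj h2).elim

theorem pr_mem (hp : PR Om z t) (hc : c ∈ CC Om z) (hct : t * c = c * t) : c ∈ CC Om t := by
  have h := S.w
  have hz := hp.hz
  have ht := hp.ht
  have h1 := (S.pr_six hp hc hct).1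
  have hq := hp.symm' h S.noOne
  obtain ⟨c', hc', hct', hu, -⟩ := S.pr_label hq
  have h2 := (S.pr_six hq hc' hct').1
  have htX : t ∉ CX Om z := fun h3 => hp.ne (eq_of_CX' h hz ht h3).symm
  rcases S.cx t ht c h1 with e | e | e | e
  · exact absurd e (S.ne _ _ hc)
  · exact absurd (e ▸ CC.mem_CX hc) htX
  · exact e
  · exfalso
    have hzt := hp.comm
    have hcz := CC.comm_z h hc
    have e1 : z * (t * c) = t * c * z := by
      calc z * (t * c) = (z * t) * c := by group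
        _ = t * (z * c) := by rw [hzt]; group
        _ = _ := by rw [← hcz]; group
    have e2 : t * c = c' := by
      by_contra hne
      exact hu _ e hne e1
    apply htX
    have e3 : t = c' * c := by rw [← e2, mul_assoc, CC.sq hc, mul_one]
    rw [e3]
    exact mul_mem h2 (CC.mem_CX hc)

/-- **no f-pairs** -/
theorem no_f (hp : FT Om z t) : False := by
  have h := S.w
  have hz := hp.fr.hz
  have ht := hp.fr.ht
  have hne := hp.fr.ne
  have hzt := hp.fr.comm
  have ht2 := ht.z2 h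
  have hti := ht.inv h
  have hz2 := hz.z2 h
  obtain ⟨K1, K2, a0, b0, F0⟩ := hz.exists_frame h
  obtain ⟨x, qx, x0, x1, x2⟩ := hp.coord h F0.k1
  obtain ⟨y, qy, y0, y1, y2⟩ := hp.coord h F0.k2
  have F : Frame Om z K1 K2 x y := ⟨F0.k1, F0.k2, F0.ne, qx, qy⟩
  have hzz := qx.zzx
  -- `x 0 t x 0⁻¹ = z x 2 t`
  have hx0 : ∀ {K : Subgroup G} {x : Fin 3 → G}, Q3 K z x → t * x 0 * t⁻¹ = x 1 → x 0 * t * (x 0)⁻¹ = z * x 2 * t := by
    intro K x q e
    have h01 : x 0 * x 1 = x 2 := q.mul 0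
    calc x 0 * t * (x 0)⁻¹ = x 0 * (t * x 0 * t⁻¹)⁻¹ * t := by group
      _ = x 0 * (z * x 1) * t := by rw [e, q.inv]
      _ = (x 0 * z) * x 1 * t := by group
      _ = z * (x 0 * x 1) * t := by rw [← q.zc]; group
      _ = _ := by rw [h01]
  have hx2 : ∀ {K : Subgroup G} {x : Fin 3 → G}, Q3 K z x → t * x 2 * t⁻¹ = z * x 2 → x 2 * t * (x 2)⁻¹ = z * t := by
    intro K x q e
    calc x 2 * t * (x 2)⁻¹ = x 2 * (t * x 2 * t⁻¹)⁻¹ * t := by group
      _ = x 2 * ((x 2)⁻¹ * z⁻¹) * t := by rw [e, mul_inv_rev]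
      _ = z * t := by rw [q.zinv]; group
  set w := x 2 * y 2 with hw
  have hab := F.ab h
  have hwz : w * z = z * w := F.dir_z (i := 2) (j := 2) (Or.inl rfl)
  have hwt : t * w * t⁻¹ = w := by
    calc t * w * t⁻¹ = (t * x 2 * t⁻¹) * (t * y 2 * t⁻¹) := by rw [hw]; group
      _ = z * x 2 * (z * y 2) := by rw [x2, y2]
      _ = z * (x 2 * z) * y 2 := by group
      _ = z * (z * x 2) * y 2 := by rw [← qx.zc]
      _ = w := by rw [hzz]
  have hwt' : t * w = w * t := by rwa [mul_inv_eq_iff_eq_mul] at hwt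
  have hww : w * w = 1 := by
    calc w * w = x 2 * (y 2 * x 2) * y 2 := by rw [hw]; group
      _ = x 2 * (x 2 * y 2) * y 2 := by rw [hab]
      _ = (x 2 * x 2) * (y 2 * y 2) := by group
      _ = 1 := by rw [qx.sq, qy.sq, hz2]
  have s1Z : InZ Om (w * t) := by
    have e : (x 0 * y 0) * t * (x 0 * y 0)⁻¹ = w * t := by
      calc (x 0 * y 0) * t * (x 0 * y 0)⁻¹ = x 0 * (y 0 * t * (y 0)⁻¹) * (x 0)⁻¹ := by group
        _ = x 0 * (z * y 2 * t) * (x 0)⁻¹ := by rw [hx0 qy y0]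
        _ = (x 0 * z) * y 2 * t * (x 0)⁻¹ := by group
        _ = z * (x 0 * y 2) * t * (x 0)⁻¹ := by rw [← qx.zc]; group
        _ = z * y 2 * (x 0 * t * (x 0)⁻¹) := by rw [hab]; group
        _ = z * (y 2 * z) * x 2 * t := by rw [hx0 qx x0]; group
        _ = z * (z * y 2) * x 2 * t := by rw [← qy.zc]
        _ = (y 2 * x 2) * t := by rw [hzz]
        _ = _ := by rw [← hab]
    rw [← e]; exact ht.conj h _
  have s2Z : InZ Om (z * w * t) := by
    have e : x 2 * (w * t) * (x 2)⁻¹ = z * w * t := by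
      calc x 2 * (w * t) * (x 2)⁻¹ = x 2 * x 2 * (y 2 * (x 2)⁻¹) * (x 2 * t * (x 2)⁻¹) := by rw [hw]; group
        _ = x 2 * x 2 * (y 2 * (x 2)⁻¹) * (z * t) := by rw [hx2 qx x2]
        _ = x 2 * (x 2 * y 2) * (x 2)⁻¹ * (z * t) := by group
        _ = x 2 * (y 2 * x 2) * (x 2)⁻¹ * (z * t) := by rw [hab]
        _ = w * z * t := by rw [hw]; group
        _ = _ := by rw [hwz]
    rw [← e]; exact s1Z.conj h _
  have w1 : w ≠ 1 := by
    intro e
    have h3 := F.qa.conj_ne (i := 0) (j := 2) (by decide)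
    have h4 : x 0 * w * (x 0)⁻¹ = z * w := by
      calc x 0 * w * (x 0)⁻¹ = x 0 * x 2 * (y 2 * (x 0)⁻¹) := by rw [hw]; group
        _ = x 0 * x 2 * ((x 0)⁻¹ * y 2) := by
            rw [show y 2 * (x 0)⁻¹ = (x 0)⁻¹ * y 2 by
              rw [eq_inv_mul_iff_mul_eq, ← mul_assoc, hab, mul_inv_cancel_right]]
        _ = (x 0 * x 2 * (x 0)⁻¹) * y 2 := by group
        _ = _ := by rw [h3, mul_assoc]
    rw [e, mul_one, mul_inv_cancel, mul_one] at h4
    exact hz.z1 h h4.symm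
  have hwR : w ∈ RZ Om z := mul_mem (F.k1.le_RZ (F.qa.mem _)) (F.k2.le_RZ (F.qb.mem _))
  have wz : w ≠ z := by
    intro e
    have h3 := F.qa.conj_ne (i := 0) (j := 2) (by decide)
    have h4 : x 0 * w * (x 0)⁻¹ = z * w := by
      calc x 0 * w * (x 0)⁻¹ = x 0 * x 2 * (y 2 * (x 0)⁻¹) := by rw [hw]; group
        _ = x 0 * x 2 * ((x 0)⁻¹ * y 2) := by
            rw [show y 2 * (x 0)⁻¹ = (x 0)⁻¹ * y 2 by
              rw [eq_inv_mul_iff_mul_eq, ← mul_assoc, hab, mul_inv_cancel_right]]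
        _ = (x 0 * x 2 * (x 0)⁻¹) * y 2 := by group
        _ = _ := by rw [h3, mul_assoc]
    rw [e, ← qx.zc, mul_inv_cancel_right, hz2] at h4
    exact hz.z1 h h4
  -- the two p-pairs
  have p1 : PR Om t (w * t) := by
    refine pr_of_not h ht s1Z (fun e => w1 (mul_eq_right.1 e.symm)) (by rw [← mul_assoc, hwt']) fun h3 => ?_
    have e : t * (w * t) = w := by rw [← mul_assoc, hwt', mul_assoc, ht2, mul_one]
    rw [e] at h3
    exact wz (S.noOne.eq_of_RZ h hz h3 hwR)
  have zw1 : z * w ≠ 1 := fun e => wz (by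
    have := eq_inv_of_mul_eq_one_right e
    rwa [hz.inv h] at this)
  have htzw : t * (z * w) = z * w * t := by
    calc t * (z * w) = (t * z) * w := by group
      _ = z * (t * w) := by rw [← hzt]; group
      _ = _ := by rw [hwt']; group
  have p2 : PR Om t (z * w * t) := by
    refine pr_of_not h ht s2Z (fun e => zw1 (mul_eq_right.1 e.symm)) (by rw [← mul_assoc, htzw]) fun h3 => ?_
    have e : t * (z * w * t) = z * w := by rw [← mul_assoc, htzw, mul_assoc, ht2, mul_one]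
    rw [e] at h3
    exact w1 (mul_eq_left.1 (S.noOne.eq_of_RZ h hz h3 (mul_mem (z_mem_RZ hz h) hwR)))
  have hs : (w * t) * (z * w * t) = z := by
    calc (w * t) * (z * w * t) = w * (t * (z * w)) * t := by group
      _ = w * (z * w * t) * t := by rw [htzw]
      _ = (w * z) * w * (t * t) := by group
      _ = z * (w * w) * (t * t) := by rw [hwz]; group
      _ = z := by rw [hww, ht2, mul_one, mul_one]
  -- `z` centralises the labels of `t`
  have hswap : ∀ {s : G}, s * t = t * s → ∀ c ∈ CC Om t, ∀ d ∈ CC Om t, ∀ e ∈ CC Om t, c ≠ d → c ≠ e → d ≠ e →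
      s * c = c * s → s * d ≠ d * s → s * d * s⁻¹ = e := by
    intro s hst c hc d hd e he cd ce de hsc hsd
    have h1 : s * d * s⁻¹ ∈ CC Om t := CC.conj_comm h hd hst
    rcases S.cc_cases ht hc hd he cd ce de h1 with h2 | h2 | h2
    · exfalso
      have h3 : s * c * s⁻¹ = c := by rw [hsc, mul_inv_cancel_right]
      exact cd (mul_left_cancel (mul_right_cancel (h3.trans h2.symm)))
    · exact absurd (by rwa [mul_inv_eq_iff_eq_mul] at h2) hsd
    · exact h2
  have hzcent : ∀ d ∈ CC Om t, z * d = d * z := by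
    obtain ⟨c, hc, hc1, hc2, -⟩ := S.pr_label p1
    obtain ⟨c', hc', hc1', hc2', -⟩ := S.pr_label p2
    obtain ⟨e0, e1, e2, hcc, n01, n02, n12, -⟩ := S.three t ht
    have st1 : (w * t) * t = t * (w * t) := p1.comm.symm
    have st2 : (z * w * t) * t = t * (z * w * t) := p2.comm.symm
    -- the two other labels
    obtain ⟨d, e, hd, he, cd, ce, de⟩ : ∃ d e, d ∈ CC Om t ∧ e ∈ CC Om t ∧ c ≠ d ∧ c ≠ e ∧ d ≠ e := by
      have hc0 := hc
      rw [hcc] at hc0
      simp only [Set.mem_insert_iff, Set.mem_singleton_iff] at hc0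
      rcases hc0 with rfl | rfl | rfl
      · exact ⟨e1, e2, by rw [hcc]; simp, by rw [hcc]; simp, n01, n02, n12⟩
      · exact ⟨e0, e2, by rw [hcc]; simp, by rw [hcc]; simp, n01.symm, n12, n02⟩
      · exact ⟨e0, e1, by rw [hcc]; simp, by rw [hcc]; simp, n02.symm, n12.symm, n01⟩
    have a1 : (w * t) * d * (w * t)⁻¹ = e := hswap st1 c hc d hd e he cd ce de hc1 (hc2 d hd cd.symm)
    have a2 : (w * t) * e * (w * t)⁻¹ = d := hswap st1 c hc e he d hd ce cd de.symm hc1 (hc2 e he ce.symm)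
    have a0 : (w * t) * c * (w * t)⁻¹ = c := by rw [hc1, mul_inv_cancel_right]
    have hconj : ∀ g : G, z * g * z⁻¹ = (w * t) * ((z * w * t) * g * (z * w * t)⁻¹) * (w * t)⁻¹ := by
      intro g
      calc z * g * z⁻¹ = ((w * t) * (z * w * t)) * g * ((w * t) * (z * w * t))⁻¹ := by rw [hs]
        _ = _ := by group
    have hzi := hz.inv h
    have hinv : ∀ g : G, z * (z * g * z⁻¹) * z⁻¹ = g := by
      intro g; rw [hzi]
      calc z * (z * g * z) * z = (z * z) * g * (z * z) := by group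
        _ = g := by rw [hz2]; group
    intro f hf
    rcases S.cc_cases ht hc hd he cd ce de hc' with rfl | rfl | rfl
    · -- the same label
      have b1 : (z * w * t) * d * (z * w * t)⁻¹ = e := hswap st2 c' hc d hd e he cd ce de hc1' (hc2' d hd cd.symm)
      have b2 : (z * w * t) * e * (z * w * t)⁻¹ = d := hswap st2 c' hc e he d hd ce cd de.symm hc1' (hc2' e he ce.symm)
      have b0 : (z * w * t) * c' * (z * w * t)⁻¹ = c' := by rw [hc1', mul_inv_cancel_right]
      rw [← mul_inv_eq_iff_eq_mul]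
      rcases S.cc_cases ht hc hd he cd ce de hf with rfl | rfl | rfl
      · rw [hconj, b0, a0]
      · rw [hconj, b1, a2]
      · rw [hconj, b2, a1]
    · -- `c' = d`: `z` acts as a 3-cycle
      exfalso
      have b1 : (z * w * t) * c * (z * w * t)⁻¹ = e := hswap st2 c' hd c hc e he cd.symm de ce hc1' (hc2' c hc cd)
      have b2 : (z * w * t) * e * (z * w * t)⁻¹ = c := hswap st2 c' hd e he c hc de cd.symm ce.symm hc1' (hc2' e he de.symm)
      have b0 : (z * w * t) * c' * (z * w * t)⁻¹ = c' := by rw [hc1', mul_inv_cancel_right]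
      have f1 : z * c * z⁻¹ = c' := by rw [hconj, b1, a2]
      have f2 : z * c' * z⁻¹ = e := by rw [hconj, b0, a1]
      have f3 := hinv c
      rw [f1, f2] at f3
      exact ce f3.symm
    · exfalso
      have b1 : (z * w * t) * c * (z * w * t)⁻¹ = d := hswap st2 c' he c hc d hd ce.symm de.symm cd hc1' (hc2' c hc ce)
      have b0 : (z * w * t) * c' * (z * w * t)⁻¹ = c' := by rw [hc1', mul_inv_cancel_right]
      have f1 : z * c * z⁻¹ = c' := by rw [hconj, b1, a1]
      have f2 : z * c' * z⁻¹ = d := by rw [hconj, b0, a2]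
      have f3 := hinv c
      rw [f1, f2] at f3
      exact cd f3.symm
  -- `z` acts as a point reflection on the directions of `t`
  have hft : FT Om t z := by
    rcases tcases h ht hz hne.symm hzt.symm with h3 | h3 | h3
    · exact ((h3.symm' h S.noOne).not_fr hp.fr).elim
    · exact h3
    · exact (hp.ninn (h3.symm h).2.2.2.2).elim
  obtain ⟨L1, L2, a1, b1, F1⟩ := ht.exists_frame h
  obtain ⟨l, ql, l0, l1, l2⟩ := hft.coord h F1.k1
  obtain ⟨m, qm, m0, m1, m2⟩ := hft.coord h F1.k2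
  have F' : Frame Om t L1 L2 l m := ⟨F1.k1, F1.k2, F1.ne, ql, qm⟩
  have hact : ∀ {l : Fin 3 → G}, z * l 0 * z⁻¹ = l 1 → z * l 1 * z⁻¹ = l 0 → z * l 2 * z⁻¹ = t * l 2 →
      Act t l l z (Equiv.swap 0 1) := by
    intro l e0 e1 e2 i
    fin_cases i
    · left; exact e0
    · left; exact e1
    · right; exact e2
  obtain ⟨v, hv1, hv2, hv⟩ := S.line _ _ _ _ _ F'
  obtain ⟨d, hd⟩ := hv ((2, 2) + (v.1, -v.2))
  have md := (hd _).2 (Or.inl rfl)
  have hd2 := DC.conj h F' md hzt (hact l0 l1 l2) (hact m0 m1 m2)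
  rw [hzcent d (DC.mem_CC md), mul_inv_cancel_right] at hd2
  have h3 := (hd _).1 hd2
  have key : ∀ v : Fin 3 × Fin 3, v.1 ≠ 0 → v.2 ≠ 0 →
      ¬ ((Equiv.swap (0 : Fin 3) 1 ((2, 2) + (v.1, -v.2)).1, Equiv.swap (0 : Fin 3) 1 ((2, 2) + (v.1, -v.2)).2) =
          ((2, 2) : Fin 3 × Fin 3) + (v.1, -v.2) ∨
        (Equiv.swap (0 : Fin 3) 1 ((2, 2) + (v.1, -v.2)).1, Equiv.swap (0 : Fin 3) 1 ((2, 2) + (v.1, -v.2)).2) =
          ((2, 2) : Fin 3 × Fin 3) + (v.1, -v.2) + v ∨
        (Equiv.swap (0 : Fin 3) 1 ((2, 2) + (v.1, -v.2)).1, Equiv.swap (0 : Fin 3) 1 ((2, 2) + (v.1, -v.2)).2) =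
          ((2, 2) : Fin 3 × Fin 3) + (v.1, -v.2) - v) := by decide
  exact key v hv1 hv2 h3

/-- **the dichotomy** -/
theorem dich : DchAll Om := by
  intro z t hz ht hne hzt
  have h := S.w
  rcases tcases h hz ht hne hzt with hp | hp | hp
  · obtain ⟨c, hc, hct, hu, hl, -⟩ := S.pr_label hp
    have hmem := S.pr_mem hp hc hct
    obtain ⟨-, h2⟩ := S.pr_six hp hc hct
    have hcx : z * t * c * c = c * (z * t * c) := by
      have hcz := CC.comm_z h hc
      calc z * t * c * c = z * (t * c) * c := by group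
        _ = z * (c * t) * c := by rw [hct]
        _ = (z * c) * t * c := by group
        _ = _ := by rw [← hcz]; group
    refine ⟨c, hc, hmem, ?_, Or.inr ⟨hp.sw, (hp.symm' h S.noOne).sw, hp.not_inZ h S.noOne, h2.ht,
      S.pr_mem h2 hc hcx, hu, hl⟩⟩
    intro c' h3 h4
    by_contra hne'
    exact hu c' h3 hne' (CC.comm_z h h4).symm
  · exact (S.no_f hp).elim
  · obtain ⟨c, l⟩ := hp.exists_lab h
    refine ⟨c, l.mem_CC, (l.symm h).mem_CC, ?_, Or.inl ⟨l, (hp.fr h).fx, ((hp.symm h).fr h).fx, hp.mul_inZ h,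
      fun a ha b hb => S.comm_labels l ha hb⟩⟩
    intro c' h3 h4
    by_contra hne'
    have h5 := l.sw h h3 (S.cc_comm l.mem_CC h3) (Ne.symm hne')
    exact fx_sw_false ht ((Inn.of_CX (CC.mem_CX h4)).fx h) h5

end SW

end

end Cfsg.Agent.Cit.Nil.RTwo
end

-- part: Cit/Nil/RTwo/SGeoEnd
section
prune_inst 0x30104500740000000000000420002060200000020040000040000000084901418000010032102010018080a04008000001080049424000000a000000000400000000120010400000000000000800000000000000000000000000000000000000000000000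
set_option linter.all false
open scoped Cfsg.Agent.FastGrp

/-!
# S1309, `r = 2`, `m = 1`, (S): the geometry is that of `Sp6(2)`

* `Geo.hyps` : the points are a class of 3-transpositions with singular and hyperbolic lines of size three;
* `Geo.card_pts` : 63 points;
* `Geo.main` : `F*(G) = Sp6(2)`.
-/

set_option autoImplicit false
set_option linter.unusedSectionVars false

namespace Cfsg.Agent.Cit.Nil.RTwo

open Subgroup Cfsg Cfsg.Agent.ClassicalGeometry.SympBasic Cfsg.Agent.Fischer3.SpCase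
  Cfsg.Agent.SporadicStructure.FischerSpace

/-! ### Counting transvections -/

theorem transv_inj {m : ℕ} {u v : Fin m ⊕ Fin m → ZMod 2} (hu : u ≠ 0)
    (huv : transv u (1 : ZMod 2) = transv v 1) : u = v := by
  obtain ⟨y, hy⟩ := S0440.exists_form_one hu
  have h1 := S0440.transv_mulVec u y
  rw [huv, S0440.transv_mulVec, hy, one_smul] at h1
  have h2 := add_left_cancel h1
  rcases Hyps.zmod_cases (sympForm m (ZMod 2) y v) with h3 | h3
  · rw [h3, zero_smul] at h2
    exact absurd h2.symm hu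
  · rw [h3, one_smul] at h2
    exact h2.symm

theorem card_transv (m : ℕ) : Nat.card {g : Matrix.symplecticGroup (Fin m) (ZMod 2) |
    ((g : Matrix (Fin m ⊕ Fin m) (Fin m ⊕ Fin m) (ZMod 2)) - 1).rank = 1} + 1 = 2 ^ (2 * m) := by
  let f : {v : Fin m ⊕ Fin m → ZMod 2 // v ≠ 0} → {g : Matrix.symplecticGroup (Fin m) (ZMod 2) |
      ((g : Matrix (Fin m ⊕ Fin m) (Fin m ⊕ Fin m) (ZMod 2)) - 1).rank = 1} :=
    fun v => ⟨transv v.1 1, (S0440.rank_one_iff _).2 ⟨v.1, v.2, rfl⟩⟩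
  have hf : Function.Bijective f := by
    constructor
    · intro u v huv
      exact Subtype.ext (transv_inj u.2 (congrArg Subtype.val huv))
    · rintro ⟨g, hg⟩
      obtain ⟨v, hv, rfl⟩ := (S0440.rank_one_iff g).1 hg
      exact ⟨⟨v, hv⟩, rfl⟩
  rw [← Nat.card_congr (Equiv.ofBijective f hf)]
  have h1 : Nat.card {v : Fin m ⊕ Fin m → ZMod 2 // v ≠ 0} + 1 = Nat.card (Fin m ⊕ Fin m → ZMod 2) := by
    have h2 := Nat.card_congr (Equiv.sumCompl (fun v : Fin m ⊕ Fin m → ZMod 2 => v ≠ 0))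
    rw [Nat.card_sum] at h2
    have h3 : Nat.card {v : Fin m ⊕ Fin m → ZMod 2 // ¬ v ≠ 0} = 1 := by
      rw [Nat.card_eq_one_iff_unique]
      exact ⟨⟨fun a b => Subtype.ext ((not_not.1 a.2).trans (not_not.1 b.2).symm)⟩, ⟨⟨0, by simp⟩⟩⟩
    rw [h3] at h2
    exact h2
  rw [h1, Nat.card_fun, Nat.card_eq_fintype_card (α := ZMod 2), ZMod.card, Nat.card_eq_fintype_card, Fintype.card_sum,
    Fintype.card_fin, ← two_mul]

/-! ### Counting points -/

section Count

variable {H : Type*} [Group H] {D : Set H}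

theorem card_V (h : Hyps D) [Finite H] : Nat.card h.V = Nat.card ↥D + 1 := by
  let f : Option ↥D → h.V := fun o => o.elim 0 h.vec
  have hf : Function.Bijective f := by
    constructor
    · rintro (_ | x) (_ | y) hxy
      · rfl
      · exact absurd hxy.symm (h.vec_ne_zero y)
      · exact absurd hxy (h.vec_ne_zero x)
      · exact congrArg some (h.vec_injective hxy)
    · intro v
      rcases h.eq_vec v with rfl | ⟨x, rfl⟩
      · exact ⟨none, rfl⟩
      · exact ⟨some x, rfl⟩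
  rw [← Nat.card_congr (Equiv.ofBijective f hf)]
  exact Finite.card_option

theorem card_ker (h : Hyps D) [Finite H] (x : ↥D) :
    Nat.card (LinearMap.ker (h.B (h.vec x))) = Nat.card {d : ↥D // Commute (x : H) d} + 1 := by
  let f : Option {d : ↥D // Commute (x : H) d} → LinearMap.ker (h.B (h.vec x)) :=
    fun o => o.elim 0 fun d => ⟨h.vec d.1, by
      rw [LinearMap.mem_ker, h.B_vec_vec]
      exact Hyps.c_eq_zero.2 d.2⟩
  have hf : Function.Bijective f := by
    constructor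
    · rintro (_ | a) (_ | b) hxy
      · rfl
      · exact absurd (congrArg Subtype.val hxy).symm (h.vec_ne_zero b.1)
      · exact absurd (congrArg Subtype.val hxy) (h.vec_ne_zero a.1)
      · exact congrArg some (Subtype.ext (h.vec_injective (congrArg Subtype.val hxy)))
    · rintro ⟨v, hv⟩
      rcases h.eq_vec v with rfl | ⟨y, rfl⟩
      · exact ⟨none, rfl⟩
      · rw [LinearMap.mem_ker, h.B_vec_vec] at hv
        exact ⟨some ⟨y, Hyps.c_eq_zero.1 hv⟩, rfl⟩
  rw [← Nat.card_congr (Equiv.ofBijective f hf)]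
  exact Finite.card_option

theorem card_V_eq (h : Hyps D) [Finite H] (x : ↥D) : Nat.card h.V = 2 * Nat.card (LinearMap.ker (h.B (h.vec x))) := by
  have hsurj : Function.Surjective (h.B (h.vec x)) := by
    have hne : ∃ w, h.B (h.vec x) w ≠ 0 := by
      by_contra hcon
      push Not at hcon
      exact h.vec_ne_zero x (h.eq_zero_of_B _ hcon)
    obtain ⟨w, hw⟩ := hne
    intro a
    rcases Hyps.zmod_cases a with rfl | rfl
    · exact ⟨0, map_zero _⟩
    · refine ⟨w, ?_⟩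
      rcases Hyps.zmod_cases (h.B (h.vec x) w) with h1 | h1
      · exact absurd h1 hw
      · exact h1
  have h1 := AddSubgroup.card_mul_index (h.B (h.vec x)).toAddMonoidHom.ker
  have h2 := AddSubgroup.index_ker (h.B (h.vec x)).toAddMonoidHom
  have h3 : (h.B (h.vec x)).toAddMonoidHom.range = ⊤ := by
    rw [AddMonoidHom.range_eq_top]
    exact hsurj
  rw [h3, Nat.card_congr (AddSubgroup.topEquiv).toEquiv, Nat.card_eq_fintype_card, ZMod.card] at h2
  rw [h2] at h1
  rw [← h1, mul_comm]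
  rfl

end Count

variable {G : Type*} [Group G]

namespace Geo

variable {Z : Set G} {CC : G → Set G}

/-- the points in the group they generate -/
def D1 (Z : Set G) (CC : G → Set G) : Set ↥(closure (Pts Z CC)) := {x | (x : G) ∈ Pts Z CC}

theorem commute_coe {x y : ↥(closure (Pts Z CC))} : Commute x y ↔ Commute (x : G) (y : G) :=
  ⟨fun h => congrArg Subtype.val h, fun h => Subtype.ext h⟩

theorem pts_nonempty (h : Geo Z CC) : (Pts Z CC).Nonempty := by
  obtain ⟨z, hz⟩ := h.nonempty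
  obtain ⟨a, b, c, -, -, -, h4, -⟩ := h.three z hz
  exact ⟨a, z, hz, by rw [h4]; simp⟩

section Fin

variable [Finite G]

theorem fdata (h : Geo Z CC) (hcent : ∀ a ∈ Pts Z CC, ∃ d ∈ Pts Z CC, ¬ Commute a d) : FData (D1 Z CC) where
  sq := fun x hx => Subtype.ext (h.pts_sq hx)
  ne_one := fun x hx h1 => h.pts_ne hx (congrArg Subtype.val h1)
  conj := fun g x hx => h.pts_conj (g : G) hx
  braid := fun x hx y hy hxy => Subtype.ext (h.braid hx hy (fun h1 => hxy (commute_coe.2 h1)))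
  single := fun x hx y hy => by
    obtain ⟨g, hg, h1⟩ := h.single hcent hx hy
    exact ⟨⟨g, hg⟩, Subtype.ext h1⟩
  gen := Subgroup.closure_closure_coe_preimage
  nonempty := by
    obtain ⟨a, ha⟩ := h.pts_nonempty
    exact ⟨⟨a, subset_closure ha⟩, ha⟩

/-- the line in the sense of `Fischer3.SpCase` -/
theorem line_iff (h : Geo Z CC) {x y : ↥(closure (Pts Z CC))} {z : G} (hz : z ∈ Z) (hx : (x : G) ∈ CC z)
    (hy : (y : G) ∈ CC z) (hxy : x ≠ y) (w : ↥(closure (Pts Z CC))) :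
    w ∈ Fischer3.SpCase.Line (D1 Z CC) x y ↔ (w : G) ∈ CC z := by
  have hne : (x : G) ≠ y := fun h1 => hxy (Subtype.ext h1)
  constructor
  · rintro ⟨hw, hall⟩
    refine h.line_eq hz hx hy hne hw fun d hd h1 h2 => ?_
    exact commute_coe.1 (hall ⟨d, subset_closure hd⟩ hd (commute_coe.2 h1) (commute_coe.2 h2))
  · intro hw
    refine ⟨⟨z, hz, hw⟩, fun d hd h1 h2 => commute_coe.2 ?_⟩
    exact h.comm_all hz hx hy hne (commute_coe.1 h1) (commute_coe.1 h2) hw

theorem hyps (h : Geo Z CC) (hcent : ∀ g : G, (∀ d ∈ Pts Z CC, Commute g d) → g = 1) :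
    Fischer3.SpCase.Hyps (D1 Z CC) := by
  have hcent' : ∀ a ∈ Pts Z CC, ∃ d ∈ Pts Z CC, ¬ Commute a d := by
    intro a ha
    by_contra hcon
    push Not at hcon
    exact h.pts_ne ha (hcent a hcon)
  refine ⟨h.fdata hcent', ?_, ?_, ?_, ?_, ?_⟩
  · intro g hg
    refine Subtype.ext (hcent g fun d hd => ?_)
    exact commute_coe.1 (hg ⟨d, subset_closure hd⟩ hd)
  · intro x hx y hy hxy
    refine Subtype.ext (h.noTwins hcent' hx hy fun d hd => ?_)
    have := hxy ⟨d, subset_closure hd⟩ hd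
    rwa [commute_coe, commute_coe] at this
  · intro x hx y hy hxy hc
    have hne : (x : G) ≠ y := fun h1 => hxy (Subtype.ext h1)
    obtain ⟨z, hz, hxz, hyz⟩ := h.line hx hy hne (commute_coe.1 hc)
    obtain ⟨c, hcz, hcx, hcy, h1, -⟩ := h.third hz hxz hyz hne
    have hcm : c ∈ closure (Pts Z CC) := subset_closure ⟨z, hz, hcz⟩
    rw [Set.ncard_eq_three]
    refine ⟨x, y, ⟨c, hcm⟩, hxy, fun h2 => hcx (congrArg Subtype.val h2).symm,
      fun h2 => hcy (congrArg Subtype.val h2).symm, ?_⟩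
    ext w
    rw [h.line_iff hz hxz hyz hxy]
    constructor
    · intro hw
      rcases h1 w hw with h2 | h2 | h2
      · exact Or.inl (Subtype.ext h2)
      · exact Or.inr (Or.inl (Subtype.ext h2))
      · exact Or.inr (Or.inr (Subtype.ext h2))
    · rintro (rfl | rfl | rfl)
      · exact hxz
      · exact hyz
      · exact hcz
  · intro x hx y hy hxy hc d hd
    have hne : (x : G) ≠ y := fun h1 => hxy (Subtype.ext h1)
    obtain ⟨z, hz, hxz, hyz⟩ := h.line hx hy hne (commute_coe.1 hc)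
    obtain ⟨a, ha, hda⟩ := h.one_or_all hd hz
    refine ⟨⟨a, subset_closure ⟨z, hz, ha⟩⟩, (h.line_iff hz hxz hyz hxy _).2 ha, commute_coe.2 hda⟩
  · intro x hx y hy hxy z hz hall
    rcases h.hyperbolic hx hy (fun h1 => hxy (commute_coe.2 h1)) hz (fun d hd h1 h2 =>
      commute_coe.1 (hall ⟨d, subset_closure hd⟩ hd (commute_coe.2 h1) (commute_coe.2 h2))) with h1 | h1 | h1
    · exact Or.inl (Subtype.ext h1)
    · exact Or.inr (Or.inl (Subtype.ext h1))
    · exact Or.inr (Or.inr (Subtype.ext h1))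

/-- a point commutes with 30 further points -/
theorem ncard_perp (h : Geo Z CC) {x : G} (hx : x ∈ Pts Z CC) :
    {d | d ∈ Pts Z CC ∧ Commute d x ∧ d ≠ x}.ncard = 30 := by
  classical
  obtain ⟨z, hz, hxz⟩ := hx
  set L : Set G := {t | t ∈ Z ∧ x ∈ CC t} with hL
  have hLf : L.Finite := Set.toFinite L
  have hunion : {d | d ∈ Pts Z CC ∧ Commute d x ∧ d ≠ x} = ↑(hLf.toFinset.biUnion fun t => (Set.toFinite (CC t \ {x})).toFinset) := by
    ext d
    simp only [Finset.coe_biUnion, Set.mem_iUnion, Set.Finite.coe_toFinset, Set.mem_ofPred_eq, exists_prop,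
      Set.mem_sdiff, Set.mem_singleton_iff, hL]
    constructor
    · rintro ⟨hd, hc, hne⟩
      obtain ⟨t, ht, h1, h2⟩ := h.line ⟨z, hz, hxz⟩ hd (Ne.symm hne) hc.symm
      exact ⟨t, ⟨ht, h1⟩, h2, hne⟩
    · rintro ⟨t, ⟨ht, h1⟩, h2, hne⟩
      exact ⟨⟨t, ht, h2⟩, h.commC t ht d h2 x h1, hne⟩
  rw [hunion, Set.ncard_coe_finset, Finset.card_biUnion]
  · have h1 : ∀ t ∈ hLf.toFinset, ((Set.toFinite (CC t \ {x})).toFinset).card = 2 := by
      intro t ht
      rw [Set.Finite.mem_toFinset] at ht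
      obtain ⟨b, hb, hbx⟩ := h.exists_other (a := x) ht.1
      obtain ⟨c, hc, hcx, hcb, h2, -⟩ := h.third ht.1 ht.2 hb (Ne.symm hbx)
      rw [← Set.ncard_eq_toFinset_card _ (Set.toFinite (CC t \ {x})), Set.ncard_eq_two]
      refine ⟨b, c, Ne.symm hcb, ?_⟩
      ext d
      constructor
      · rintro ⟨hd, hdx⟩
        rcases h2 d hd with h3 | h3 | h3
        · exact absurd h3 hdx
        · exact Or.inl h3
        · exact Or.inr h3
      · rintro (rfl | rfl)
        · exact ⟨hb, hbx⟩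
        · exact ⟨hc, hcx⟩
    rw [Finset.sum_congr rfl h1, Finset.sum_const, smul_eq_mul, ← Set.ncard_eq_toFinset_card _ hLf, hL,
      h.card z hz x hxz]
  · intro s hs t ht hst
    simp only [hL, Set.mem_ofPred_eq, Set.Finite.coe_toFinset] at hs ht
    rw [Function.onFun, Finset.disjoint_left]
    intro d hd1 hd2
    simp only [Set.Finite.mem_toFinset, Set.mem_sdiff, Set.mem_singleton_iff] at hd1 hd2
    exact hst (h.uniq hs.1 ht.1 hs.2 hd1.1 (Ne.symm hd1.2) ht.2 hd2.1)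

/-- **63 points** -/
theorem card_pts (h : Geo Z CC) (hcent : ∀ g : G, (∀ d ∈ Pts Z CC, Commute g d) → g = 1) :
    Nat.card ↥(D1 Z CC) = 63 := by
  classical
  have hh := h.hyps hcent
  obtain ⟨a, ha⟩ := h.pts_nonempty
  set x : ↥(D1 Z CC) := ⟨⟨a, subset_closure ha⟩, ha⟩ with hx
  have h1 : Nat.card {d : ↥(D1 Z CC) // Commute (x : ↥(closure (Pts Z CC))) d} = 31 := by
    have e : {d : ↥(D1 Z CC) // Commute (x : ↥(closure (Pts Z CC))) d} ≃
        ↥(insert a {d | d ∈ Pts Z CC ∧ Commute d a ∧ d ≠ a} : Set G) := by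
      refine ⟨fun d => ⟨((d.1 : ↥(closure (Pts Z CC))) : G), ?_⟩, fun d => ⟨⟨⟨d.1, ?_⟩, ?_⟩, ?_⟩, ?_, ?_⟩
      · by_cases h2 : ((d.1 : ↥(closure (Pts Z CC))) : G) = a
        · exact Or.inl h2
        · exact Or.inr ⟨d.1.2, (commute_coe.1 d.2).symm, h2⟩
      · apply Subgroup.subset_closure
        rcases d.2 with h2 | h2
        · rw [h2]; exact ha
        · exact h2.1
      · show (d : G) ∈ Pts Z CC
        rcases d.2 with h2 | h2
        · rw [h2]; exact ha
        · exact h2.1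
      · rw [commute_coe]
        show Commute a (d : G)
        rcases d.2 with h2 | h2
        · rw [h2]
        · exact h2.2.1.symm
      · intro d; rfl
      · intro d; rfl
    rw [Nat.card_congr e, Nat.card_coe_set_eq, Set.ncard_insert_of_notMem, h.ncard_perp ha]
    rintro ⟨-, -, h2⟩
    exact h2 rfl
  have h2 := card_ker hh x
  have h3 := card_V_eq hh x
  have h4 := card_V hh
  rw [h1] at h2
  rw [h2] at h3
  omega

/-- the group generated by the points -/
theorem exists_equiv (h : Geo Z CC) (hcent : ∀ g : G, (∀ d ∈ Pts Z CC, Commute g d) → g = 1) :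
    Nonempty (↥(closure (Pts Z CC)) ≃* PSp 3 (ZMod 2)) := by
  obtain ⟨m, e, -, hm⟩ := Cfsg.Agent.Fischer3.SpCase.exists_equiv_sp (h.hyps hcent)
  have h1 : Nat.card ↥(D1 Z CC) = Nat.card {g : Matrix.symplecticGroup (Fin m) (ZMod 2) |
      ((g : Matrix (Fin m ⊕ Fin m) (Fin m ⊕ Fin m) (ZMod 2)) - 1).rank = 1} := by
    refine Nat.card_congr (Equiv.subtypeEquiv e.toEquiv fun g => ?_)
    exact hm g
  have h2 := card_transv m
  rw [← h1, h.card_pts hcent] at h2
  have hm3 : m = 3 := by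
    have h3 : (2 : ℕ) ^ 6 = 2 ^ (2 * m) := by rw [← h2]; norm_num
    have h4 := Nat.pow_right_injective (le_refl 2) h3
    omega
  subst hm3
  have hc : center (Matrix.symplecticGroup (Fin 3) (ZMod 2)) = ⊥ := by
    rw [← Subgroup.card_eq_one, LieClassical.SympCenter.card_center (by norm_num)]
    rfl
  refine ⟨e.trans (((QuotientGroup.quotientMulEquivOfEq hc).trans QuotientGroup.quotientBot).symm)⟩

/-- the identification -/
theorem main (h : Geo Z CC) (hs : IsSimpleGroup ↥(generalizedFittingSubgroup G))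
    (hna : ¬ IsMulCommutative ↥(generalizedFittingSubgroup G)) :
    ∃ (F : Type) (_ : Field F) (_ : Fintype F), Fintype.card F = 2 ∧
      Nonempty (↥(generalizedFittingSubgroup G) ≃* Cfsg.PSp 3 F) := by
  have hn : (closure (Pts Z CC)).Normal := by
    refine ⟨fun x hx g => ?_⟩
    have h1 : (closure (Pts Z CC)).map (MulAut.conj g).toMonoidHom ≤ closure (Pts Z CC) := by
      rw [MonoidHom.map_closure, closure_le]
      rintro _ ⟨d, hd, rfl⟩
      exact subset_closure (h.pts_conj g hd)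
    exact h1 ⟨x, hx, rfl⟩
  have hne : closure (Pts Z CC) ≠ ⊥ := by
    intro h1
    obtain ⟨a, ha⟩ := h.pts_nonempty
    have h2 : a ∈ closure (Pts Z CC) := subset_closure ha
    rw [h1, mem_bot] at h2
    exact h.pts_ne ha h2
  have hcent : ∀ g : G, (∀ d ∈ Pts Z CC, Commute g d) → g = 1 := by
    intro g hg
    by_contra hg1
    refine Cit.PieceEnd.not_le_centralizer hs hna hne hg1 ?_
    rw [closure_le]
    intro d hd
    exact mem_centralizer_singleton_iff.2 (hg d hd).symm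
  obtain ⟨e⟩ := h.exists_equiv hcent
  have hsimple : IsSimpleGroup (PSp 3 (ZMod 2)) := S0270.result 3 (by norm_num) (by norm_num)
  have hs2 : IsSimpleGroup ↥(closure (Pts Z CC)) := e.isSimpleGroup
  have heq := Cit.PieceEnd.eq_fstar_of_simple hs hna hs2
  refine ⟨ZMod 2, inferInstance, inferInstance, ZMod.card 2, ?_⟩
  rw [← heq]
  exact ⟨e⟩

end Fin

end Geo

end Cfsg.Agent.Cit.Nil.RTwo
end

-- part: Cit/Nil/RTwo/SMain
section
set_option linter.all false
open scoped Cfsg.Agent.FastGrp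

/-!
# Case (S): `F*(G) = Sp6(2)`

* `SW.geo` : the geometry;
* `SW.main`.
-/

set_option autoImplicit false
set_option linter.style.haveILetI false
set_option linter.unusedSectionVars false

namespace Cfsg.Agent.Cit.Nil.RTwo

open Subgroup Cfsg Cit

variable {G : Type*} [Group G] [Finite G] {Om : Set (Subgroup G)} {z t c : G}

/-- `O(C(j)) = 1` for all involutions `j` -/
def CFA (G : Type*) [Group G] : Prop := ∀ j : G, j * j = 1 → j ≠ 1 → OO (centralizer {j}) = ⊥

theorem CFA.cf {Om : Set (Subgroup G)} (h : W2 Om) (hF : CFA G) : CF Om := fun z hz => hF z (hz.z2 h) (hz.z1 h)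

/-- two members with a common label commute -/
def Abel (Om : Set (Subgroup G)) : Prop := ∀ z t c : G, c ∈ CC Om z → c ∈ CC Om t → z * t = t * z

theorem SW.geo (S : SW Om) (P : PPAll Om) (hab : Abel Om) (hF : CFA G) (hne : Om.Nonempty) :
    Geo {z | InZ Om z} (CC Om) where
  sqZ z hz := InZ.z2 hz S.w
  neZ z hz := InZ.z1 hz S.w
  conjZ g z hz := InZ.conj hz S.w g
  conjC g z hz a ha := CC.conj S.w ha g
  nonempty := by
    obtain ⟨K, hK⟩ := hne
    exact ⟨zz K, K, hK, rfl⟩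
  three z hz := by
    obtain ⟨c0, c1, c2, h1, h2, h3, h4, h5⟩ := S.three z hz
    exact ⟨c0, c1, c2, h2, h3, h4, h1, h5.symm⟩
  sqC z hz a ha := CC.sq ha
  neC z hz a ha := S.ne z a ha
  commC z hz a ha b hb := S.cc_comm ha hb
  abel z hz t ht c h1 h2 := hab z t c h1 h2
  dich z hz t ht hzt hc := by
    obtain ⟨c, D⟩ := S.dich z t hz ht hzt hc
    refine ⟨c, D.mz, D.mt, D.uq, ?_⟩
    rcases D.alt with ⟨-, -, -, h1, h2⟩ | ⟨-, -, h1, h2, h3, h4, -⟩
    · exact Or.inl ⟨h1, h2⟩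
    · exact Or.inr ⟨h1, h2, h3, h4⟩
  plane z hz t ht hzt hc hztZ a ha b hb hab' := by
    obtain ⟨c, D⟩ := S.dich z t hz ht hzt hc
    rcases D.alt with ⟨l, -⟩ | ⟨-, -, h1, -⟩
    · obtain ⟨y, h1, h2⟩ := S.exists_common l ha hb
      exact ⟨y, CC.inZ h1, h1, h2⟩
    · exact absurd hztZ h1
  card z hz c hc := by
    rw [← P.card c z hc]
    congr 1
    ext t
    exact ⟨fun ⟨h1, h2⟩ => ⟨h1, h2, hab z t c hc h2⟩, fun ⟨h1, h2, _⟩ => ⟨h1, h2⟩⟩
  loc c z hz t ht h1 h2 hzt hztZ := by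
    obtain ⟨c', D⟩ := S.dich z t hz ht hzt (hab z t c h1 h2)
    have e := D.uq c h1 h2
    subst e
    rcases D.alt with ⟨l, -⟩ | ⟨-, -, h3, -⟩
    · obtain ⟨s, ls, -, h4, h5, h6⟩ := P.loc _ z t l
      exact ⟨s, ls.ti.2.1, (ls.symm S.w).mem_CC, h4, h5, ls.ti.mul_inZ S.w, h6⟩
    · exact absurd hztZ h3
  l3 c u hu v hv w hw cu cv cw huv huvZ hall :=
    P.l3 c u v w cu cv cw (hab u v c cu cv) (hab u w c cu cw) huv huvZ
      fun n hn cn _ h1 h2 => hall n hn cn h1 h2
  disj z hz c hc h1 := CC.ne_z S.w hc (eq_of_CX' S.w hz h1 (CC.mem_CX hc))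
  tt z hz c hc h1 :=
    S.ne z c hc (mul_eq_left.1 (eq_of_CX' S.w hz h1 (mul_mem (z_mem_CX S.w) (CC.mem_CX hc))))
  cf j hj hj1 N hN hodd hn := by
    rw [eq_bot_iff, ← hF j hj hj1]
    refine le_OO ?_ ?_ ?_
    · intro n hn'
      exact mem_centralizer_singleton_iff.2 (hN n hn').eq
    · intro x hx
      rw [mem_normalizer_iff]
      have hxj : Commute x j := mem_centralizer_singleton_iff.1 hx
      intro n
      constructor
      · exact hn x hxj n
      · intro h1
        have h2 := hn x⁻¹ hxj.inv_left _ h1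
        have e : x⁻¹ * (x * n * x⁻¹) * x⁻¹⁻¹ = n := by group
        rwa [e] at h2
    · exact fun h2 => (Nat.not_even_iff_odd.2 hodd) (even_iff_two_dvd.2 h2)

/-- **case (S)** -/
theorem SW.main (S : SW Om) (P : PPAll Om) (hab : Abel Om) (hF : CFA G) (hne : Om.Nonempty)
    (hs : IsSimpleGroup ↥(generalizedFittingSubgroup G)) (hna : ¬ IsMulCommutative ↥(generalizedFittingSubgroup G)) :
    ∃ (F : Type) (_ : Field F) (_ : Fintype F), Fintype.card F = 2 ∧
      Nonempty (↥(generalizedFittingSubgroup G) ≃* Cfsg.PSp 3 F) :=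
  (S.geo P hab hF hne).main hs hna

end Cfsg.Agent.Cit.Nil.RTwo
end

-- part: Cit/Nil/Comp/MThreeAbs
section
set_option linter.all false
open scoped Cfsg.Agent.FastGrp

/-!
# S1309 (n6a), AllOne branch, (M3): automorphisms of the world (S)

`SW.not_sqrt`: in the world `SW Om` with `F*(Y) ≃ PSp 3 F₂` there is no automorphism `α` of `Y` with
`α r = r` for `r ∈ R_z` and `α² = ` conjugation by `z`.
-/

set_option autoImplicit false
set_option linter.style.haveILetI false
set_option linter.unusedSectionVars false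

namespace Cfsg.Agent.Cit.Nil.Comp

open Subgroup Cfsg Cfsg.Agent.Cit
open Cfsg.Agent.Cit.Nil.RTwo (SW CC CX RZ InZ Mem PPAll Abel CFA)

variable {Y : Type*} [Group Y]

/-- an automorphism which is inner on a characteristic subgroup `N` with `C(N) = 1` is inner -/
theorem aut_inner {N : Subgroup Y} (hN : N.Characteristic) (hC : centralizer (N : Set Y) = ⊥)
    (hin : ∀ β : MulAut N, ∃ x, β = MulAut.conj x) (α : MulAut Y) : ∃ y ∈ N, ∀ g, α g = y * g * y⁻¹ := by
  have h1 : ∀ x ∈ N, α x ∈ N := by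
    intro x hx
    have h2 := characteristic_iff_map_le.1 hN α
    exact h2 (mem_map_of_mem _ hx)
  have h2 : ∀ x ∈ N, α.symm x ∈ N := by
    intro x hx
    have h2 := characteristic_iff_map_le.1 hN α.symm
    exact h2 (mem_map_of_mem _ hx)
  let β : MulAut N :=
    { toFun := fun x => ⟨α x, h1 x x.2⟩
      invFun := fun x => ⟨α.symm x, h2 x x.2⟩
      left_inv := fun x => Subtype.ext (α.symm_apply_apply x)
      right_inv := fun x => Subtype.ext (α.apply_symm_apply x)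
      map_mul' := fun x y => Subtype.ext (map_mul α _ _) }
  obtain ⟨x, hx⟩ := hin β
  have h3 : ∀ w ∈ N, α w = x * w * (x : Y)⁻¹ := by
    intro w hw
    have h4 : β ⟨w, hw⟩ = MulAut.conj x ⟨w, hw⟩ := by rw [hx]
    exact congrArg Subtype.val h4
  haveI : N.Normal := by
    haveI := hN
    exact normal_of_characteristic N
  refine ⟨x, x.2, fun g => ?_⟩
  have h4 : (x * g : Y)⁻¹ * α g * x ∈ centralizer (N : Set Y) := by
    rw [mem_centralizer_iff]
    intro w hw
    have h5 := h3 (g * w * g⁻¹) (Normal.conj_mem inferInstance w hw g)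
    rw [map_mul, map_mul, map_inv, h3 w hw] at h5
    -- `α g x w x⁻¹ (α g)⁻¹ = x g w g⁻¹ x⁻¹`
    calc w * ((x * g : Y)⁻¹ * α g * x) = (x * g : Y)⁻¹ * ((x : Y) * (g * w * g⁻¹) * (x : Y)⁻¹) * α g * x := by group
      _ = (x * g : Y)⁻¹ * (α g * ((x : Y) * w * (x : Y)⁻¹) * (α g)⁻¹) * α g * x := by rw [h5]
      _ = (x * g : Y)⁻¹ * α g * x * w := by group
  rw [hC, mem_bot] at h4
  calc α g = (x * g : Y) * ((x * g : Y)⁻¹ * α g * x) * (x : Y)⁻¹ := by group
    _ = x * g * (x : Y)⁻¹ := by rw [h4, mul_one]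

/-- transport of `hin` -/
theorem inner_congr {A B : Type*} [Group A] [Group B] (e : A ≃* B) (h : ∀ β : MulAut B, ∃ x, β = MulAut.conj x)
    (α : MulAut A) : ∃ x, α = MulAut.conj x := by
  obtain ⟨x, hx⟩ := h ((e.symm.trans α).trans e)
  refine ⟨e.symm x, MulEquiv.ext fun a => ?_⟩
  have h1 : e (α (e.symm (e a))) = x * e a * x⁻¹ := by
    have h2 : ((e.symm.trans α).trans e) (e a) = MulAut.conj x (e a) := by rw [hx]
    exact h2
  rw [e.symm_apply_apply] at h1
  apply e.injective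
  rw [h1, MulAut.conj_apply, map_mul, map_mul, map_inv, e.apply_symm_apply]

variable [Finite Y] {Om : Set (Subgroup Y)} {z : Y}

/-- the element `y` : no square root of `z` centralises the members over `z` -/
theorem SW.sq_ne (S : SW Om) (hz : InZ Om z) {y : Y} (hy : y ∈ CX Om z) : y * y ≠ z := by
  intro h1
  have hz1 := hz.z1 S.w
  have hz2 := hz.z2 S.w
  rcases S.cx z hz y hy with h2 | h2 | h2 | h2
  · rw [h2, one_mul] at h1; exact hz1 h1.symm
  · rw [h2, hz2] at h1; exact hz1 h1.symm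
  · rw [CC.sq h2] at h1; exact hz1 h1.symm
  · have h3 : (z * y) * (z * y) = 1 := CC.sq h2
    have h4 : y * z = z * y := by
      rw [← h1, mul_assoc]
    have h5 : (z * y) * (z * y) = y * y := by
      calc (z * y) * (z * y) = z * (y * z) * y := by group
        _ = (z * z) * (y * y) := by rw [h4]; group
        _ = y * y := by rw [hz2, one_mul]
    rw [h5, h1] at h3
    exact hz1 h3

/-- see the head of the file -/
theorem SW.not_sqrt (S : SW Om) (hz : InZ Om z) (hC : centralizer (generalizedFittingSubgroup Y : Set Y) = ⊥)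
    (hin : ∀ β : MulAut ↥(generalizedFittingSubgroup Y), ∃ x, β = MulAut.conj x) (α : MulAut Y)
    (hR : ∀ K, Mem Om z K → ∀ r ∈ K, α r = r) (hα : ∀ g, α (α g) = z * g * z⁻¹) : False := by
  obtain ⟨y, -, hy⟩ := aut_inner (Lib.GenFitting.genFitting_characteristic (G := Y)) hC hin α
  have h1 : y ∈ CX Om z := by
    rw [RTwo.mem_CX]
    intro K hK r hr
    have h2 := hR K hK r hr
    rw [hy] at h2
    rwa [mul_inv_eq_iff_eq_mul] at h2
  refine SW.sq_ne S hz h1 ?_
  have h2 : z⁻¹ * (y * y) ∈ centralizer (generalizedFittingSubgroup Y : Set Y) := by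
    rw [mem_centralizer_iff]
    intro g _
    have h3 := hα g
    rw [hy, hy] at h3
    calc g * (z⁻¹ * (y * y)) = z⁻¹ * (z * g * z⁻¹) * (y * y) := by group
      _ = z⁻¹ * (y * (y * g * y⁻¹) * y⁻¹) * (y * y) := by rw [h3]
      _ = z⁻¹ * (y * y) * g := by group
  rw [hC, mem_bot] at h2
  calc y * y = z * (z⁻¹ * (y * y)) := by group
    _ = z := by rw [h2, mul_one]

/-- the automorphisms of `Sp₆(2)` are inner -/
theorem aut_spSix {X : Type*} [Group X] (h : ∃ (F : Type) (_ : Field F) (_ : Fintype F), Fintype.card F = 2 ∧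
    Nonempty (X ≃* Cfsg.PSp 3 F)) (β : MulAut X) : ∃ x, β = MulAut.conj x := by
  obtain ⟨F, hF1, hF2, hF3, ⟨e⟩⟩ := h
  exact inner_congr e (OddHalf.Table.OutSpSix.inner (le_refl 3) (by rw [Nat.card_eq_fintype_card, hF3])) β

end Cfsg.Agent.Cit.Nil.Comp
end
end
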