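import Cfsg.Agent.Cit.CloOne_m3
import Cfsg.Agent.Cit.Nil.LO.FormQ_m3
import Cfsg.Agent.Cit.Sub
import Cfsg.Agent.GH.QB.ModelG2_m3
import Cfsg.Agent.Lib.SylowNormalInf
import Cfsg.Agent.TwoFusion.StronglyEmbeddedBasic
import Cfsg.Agent.Cit.CorTwo
import Cfsg.Agent.Cit.Nil.RI.Closed_m3
import Cfsg.Agent.Cit.TorFunctor_m3
import Cfsg.Agent.PLocal.SubnormalCore
import Cfsg.Agent.Lib.PComponents
import Cfsg.Agent.Cit.OmB3.Torus_m3
import Cfsg.Agent.SignalizersComponents.PCompCore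
import Cfsg.Agent.Cit.Nil.RTwoM.Base_m3
import Cfsg.Agent.FastGrp
import Cfsg.Agent.Prune
set_option linter.all false

section
prune_inst 0x7ffcfefbaff8bddeffff7ffffff5dffe39d5dfffffdffb4bfffdfbffffff236f3fe7fbaf9df4d8ffdef7e2b6b0b87853f9feea3fef6bdc7ffffd5ff45ffbee1fb7efbfad51d6b8341ffe6ffffbf17ffffffffffffffffffffffffffffffffffffffdffffffff

-- part: Cit/Nil/ROne/Close
section
set_option linter.all false

/-!
# `r = 1`: the end of step 9

A nontrivial commutative subgroup strongly closed in a Sylow 2-subgroup `S` with two different members in `Om(S)` is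
impossible in a simple group (S1169, Bender's theorem).
-/

set_option autoImplicit false
set_option linter.style.haveILetI false
set_option linter.unusedSectionVars false

namespace Cfsg.Agent.Cit.ROne

open Subgroup Cfsg Cfsg.Agent.Cit

variable {G : Type*} [Group G]

/-- the form of S1169 which is used -/
def Gold (G : Type*) [Group G] [Finite G] : Prop := ∀ (S : Sylow 2 G) (A : Subgroup G), A ≠ ⊥ → IsMulCommutative A →
  IsStronglyClosed A (S : Subgroup G) → IsMulCommutative (S : Subgroup G) ∨ ∃ H : Subgroup G, IsStronglyEmbedded H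

/-- **a strongly closed commutative subgroup is impossible** -/
theorem false_of_closed [Finite G] {Om : Set (Subgroup G)} (h : Hyp Om) (S : Sylow 2 G) {K L : Subgroup G}
    (hK : K ∈ OmS Om (S : Subgroup G)) (hL : L ∈ OmS Om (S : Subgroup G)) (hKL : K ≠ L) (gold : Gold G)
    (hB : CloEnd.Bend G) {A : Subgroup G} (hA : A ≠ ⊥) (hc : ∀ x ∈ A, ∀ y ∈ A, x * y = y * x)
    (hsc : IsStronglyClosed A (S : Subgroup G)) : False := by
  rcases gold S A hA ⟨⟨fun a b => Subtype.ext (hc a a.2 b b.2)⟩⟩ hsc with h1 | ⟨H, hH⟩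
  · obtain ⟨c, v, n, hq⟩ := h.exists_gq hK.1 (syl_inf S.isPGroup' hK)
    apply hq.not_comm
    exact congrArg Subtype.val (h1.is_comm.comm ⟨v, hq.v_mem.2⟩ ⟨c, hq.c_mem.2⟩)
  · exact (CloOne.two_of_ne h S.isPGroup' hK hL hKL).not_stronglyEmbedded hB H hH

end Cfsg.Agent.Cit.ROne
end

-- part: Cit/Nil/ROne/EndG0
section
prune_inst 0x1004000022100000000000a0001c4282000000000b00002040000005800c0180050620b060020001108474203a8060115c0009421800002a008a00411c0481040002429048b00001000040e000000000000000000000000000000000000000200000000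
set_option linter.all false
open scoped Cfsg.Agent.FastGrp

/-!
# `r = 1`: the end (section 10 of helper545's text) for `F*(G) = G0` simple

`Tr Z K G0` : `K z ∩ G0 = ⟨z⟩` for `z ∈ Z`.

* `W.inf_cases` : by (C3) `K z ≤ G0` or `K z ∩ G0 = ⟨z⟩`;
* `Tr.cp` : **(T)** `h ∈ G0`, `z ≠ z^h`, `z z^h = z^h z`: then `(z, z^h)` is a C-pair;
* `Tr.not_comm` : Sylow 2-subgroups of `G0` are not commutative;
* `Tr.not_emb` : the involutions of `G0` are not all conjugate in `G0` if there is a C-pair;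
* `W.false_of_closed` : there is no strongly closed commutative subgroup.
-/

set_option autoImplicit false
set_option linter.style.haveILetI false
set_option linter.unusedSectionVars false

namespace Cfsg.Agent.Cit.Nil.ROne

open Subgroup Cfsg Cfsg.Agent.Cit

variable {G : Type*} [Group G] {Z : Set G} {K : G → Subgroup G} {G0 : Subgroup G} {z u x y b c d g : G}

namespace W

variable (h : W Z K)

include h

/-- the elements of `K z` -/
theorem gen_of_ne (hz : z ∈ Z) (hy : y ∈ K z) (hyy : y * y = z) (hb : b ∈ K z) (hbb : b * b = z) (h1 : b ≠ y)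
    (h2 : b ≠ y⁻¹) (hx : x ∈ K z) : x ∈ closure {y, b} := by
  have h3 : ∀ p q : QEight.Q, p * p = QuaternionGroup.a 2 → q * q = QuaternionGroup.a 2 → q ≠ p → q ≠ p⁻¹ →
      ∀ r : QEight.Q, r = 1 ∨ r = p * p ∨ r = p ∨ r = p⁻¹ ∨ r = q ∨ r = q⁻¹ ∨ r = p * q ∨ r = q * p := by decide
  have hsq : ∀ {y : G} (hy : y ∈ K z), y * y = z → h.e hz ⟨y, hy⟩ * h.e hz ⟨y, hy⟩ = QuaternionGroup.a 2 := by
    intro y hy h4
    rw [← h.e_mul hz hy hy, ← h.e_z hz]
    exact congrArg (h.e hz) (Subtype.ext h4)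
  have hyc : y ∈ closure {y, b} := subset_closure (by simp)
  have hbc : b ∈ closure {y, b} := subset_closure (by simp)
  have h4 := h3 _ _ (hsq hy hyy) (hsq hb hbb) (fun h5 => h1 (h.e_inj hz _ _ h5))
    (fun h5 => h2 (by rw [← h.e_inv hz hy] at h5; exact h.e_inj hz _ _ h5)) (h.e hz ⟨x, hx⟩)
  have h1' : (1 : QEight.Q) = h.e hz ⟨1, one_mem _⟩ := (map_one (h.e hz)).symm
  rw [← h.e_mul hz hy hy, ← h.e_inv hz hy, ← h.e_inv hz hb, ← h.e_mul hz hy hb, ← h.e_mul hz hb hy, h1'] at h4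
  rcases h4 with h5 | h5 | h5 | h5 | h5 | h5 | h5 | h5 <;> rw [h.e_inj hz _ _ h5]
  · exact one_mem _
  · exact mul_mem hyc hyc
  · exact hyc
  · exact inv_mem hyc
  · exact hbc
  · exact inv_mem hbc
  · exact mul_mem hyc hbc
  · exact mul_mem hbc hyc

theorem inf_cases (c3 : C3 Z K) (hn : G0.Normal) (hz : z ∈ Z) :
    K z ≤ G0 ∨ ∀ y ∈ K z, y ∈ G0 → y = 1 ∨ y = z := by
  by_contra hcon
  push Not at hcon
  obtain ⟨h1, y, hy, hyG, hy1, hyz⟩ := hcon
  have hyy := h.sq_eq hz hy hy1 hyz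
  obtain ⟨g, hgz, hg1, hg2⟩ := c3 z hz y hy hyy
  refine h1 fun x hx => ?_
  have h2 : closure {y, g * y * g⁻¹} ≤ G0 := by
    rw [closure_le]
    rintro a (rfl | rfl)
    · exact hyG
    · exact hn.conj_mem _ hyG g
  refine h2 (h.gen_of_ne hz hy hyy (h.norm_mem hz hgz hy) ?_ hg1 hg2 hx)
  calc g * y * g⁻¹ * (g * y * g⁻¹) = g * (y * y) * g⁻¹ := by group
    _ = z := by rw [hyy, hgz, mul_inv_cancel_right]

/-- conjugation inside `K z` -/
theorem pm_K (hz : z ∈ Z) (hk : x ∈ K z) (hb : b ∈ K z) : x * b * x⁻¹ = b ∨ x * b * x⁻¹ = b⁻¹ := by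
  have h3 : ∀ p q : QEight.Q, p * q * p⁻¹ = q ∨ p * q * p⁻¹ = q⁻¹ := by decide
  have h4 := h3 (h.e hz ⟨x, hk⟩) (h.e hz ⟨b, hb⟩)
  rw [← h.e_mul hz hk hb, ← h.e_inv hz hk, ← h.e_mul hz (mul_mem hk hb) (inv_mem hk), ← h.e_inv hz hb] at h4
  rcases h4 with h4 | h4
  · exact Or.inl (h.e_inj hz _ _ h4)
  · exact Or.inr (h.e_inj hz _ _ h4)

end W

/-- `K z ∩ G0 = ⟨z⟩` -/
structure Tr (Z : Set G) (K : G → Subgroup G) (G0 : Subgroup G) : Prop where
  w : W Z K
  nor : G0.Normal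
  sub : ∀ z ∈ Z, z ∈ G0
  inf : ∀ z ∈ Z, ∀ y ∈ K z, y ∈ G0 → y = 1 ∨ y = z

namespace Tr

variable (t : Tr Z K G0)

include t

/-- elements of `C_{G0}(z)` normalise the cyclic subgroups of `K z` -/
theorem pm (hz : z ∈ Z) (hd : d ∈ G0) (hdz : d * z = z * d) (hb : b ∈ K z) (hbb : b * b = z) :
    d * b * d⁻¹ = b ∨ d * b * d⁻¹ = b⁻¹ := by
  have h1 : d * b * d⁻¹ * b⁻¹ ∈ K z := mul_mem (t.w.norm_mem hz hdz hb) (inv_mem hb)
  have h2 : d * b * d⁻¹ * b⁻¹ ∈ G0 := by
    have h3 : d * b * d⁻¹ * b⁻¹ = d * (b * d⁻¹ * b⁻¹) := by group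
    rw [h3]
    exact mul_mem hd (t.nor.conj_mem _ (inv_mem hd) b)
  rcases t.inf z hz _ h1 h2 with h3 | h3
  · exact Or.inl (mul_inv_eq_one.1 h3)
  · right
    rw [mul_inv_eq_iff_eq_mul] at h3
    rw [h3, ← hbb, eq_inv_iff_mul_eq_one]
    calc b * b * b * b = (b * b) * (b * b) := by group
      _ = 1 := by rw [hbb, t.w.sq z hz]

/-- **(T)** -/
theorem cp (hz : z ∈ Z) (hg : g ∈ G0) (hne : z ≠ g * z * g⁻¹) (hc : z * (g * z * g⁻¹) = g * z * g⁻¹ * z) :
    CP K z (g * z * g⁻¹) := by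
  set u := g * z * g⁻¹ with hu
  have huZ : u ∈ Z := t.w.conjZ z hz g
  rcases t.w.tri hz huZ hne hc with h1 | ⟨y, y', h1, h2⟩ | ⟨b, b', h1, -⟩
  · exact h1
  · exfalso
    obtain ⟨c, hcK, hcc, hcz⟩ := t.w.ti_four ⟨y, y', h1, h2⟩
    obtain ⟨-, h3⟩ := t.w.ti_act hz h1 hcc hcz
    -- `c = g k g⁻¹`
    have hk : g⁻¹ * c * g ∈ K z := (t.w.mem_K_conj hz g).1 hcK
    set k := g⁻¹ * c * g with hkdef
    have hd : c * k⁻¹ ∈ G0 := by
      have h4 : c * k⁻¹ = (c * g⁻¹ * c⁻¹) * g := by rw [hkdef]; group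
      rw [h4]
      exact mul_mem (t.nor.conj_mem _ (inv_mem hg) c) hg
    have hkz : k * z = z * k := t.w.cent hz hk
    have hkz' : k⁻¹ * z = z * k⁻¹ := by rw [inv_mul_eq_iff_eq_mul, ← mul_assoc, hkz, mul_inv_cancel_right]
    have hdz : c * k⁻¹ * z = z * (c * k⁻¹) := by rw [mul_assoc, hkz', ← mul_assoc, hcz, mul_assoc]
    obtain ⟨b, hb, hbb, hby, hby', -⟩ := t.w.exists_inv hz h1.mem h1.sq
    obtain ⟨h5, h6⟩ := h3 b hb hbb hby hby'
    have h7 : c * b * c⁻¹ = (c * k⁻¹) * (k * b * k⁻¹) * (c * k⁻¹)⁻¹ := by group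
    have hbi : b⁻¹ * b⁻¹ = z := by rw [← mul_inv_rev, hbb, t.w.inv hz]
    rcases t.w.pm_K hz hk hb with h8 | h8
    · rw [h8] at h7
      rcases t.pm hz hd hdz hb hbb with h9 | h9
      · exact h5 (h7.trans h9)
      · exact h6 (h7.trans h9)
    · rw [h8] at h7
      rcases t.pm hz hd hdz (inv_mem hb) hbi with h9 | h9
      · exact h6 (h7.trans h9)
      · rw [inv_inv] at h9
        exact h5 (h7.trans h9)
  · exfalso
    have huG : u ∈ G0 := t.nor.conj_mem z (t.sub z hz) g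
    obtain ⟨c, hcK, hcc, hcb, hcb', -⟩ := t.w.exists_inv hz h1.mem h1.sq
    obtain ⟨h3, h4⟩ := h1.ne c hcK hcc hcb hcb'
    rcases t.pm hz huG hc.symm hcK hcc with h5 | h5
    · exact h3 h5
    · exact h4 h5

/-- the 2-subgroups of `G0` are not all commutative -/
theorem not_comm [Finite G] (hz : z ∈ Z) (hg : g ∈ G0) (hne : z ≠ g * z * g⁻¹)
    (hc : z * (g * z * g⁻¹) = g * z * g⁻¹ * z) :
    ∃ S : Sylow 2 G, ∃ a ∈ (S : Subgroup G) ⊓ G0, ∃ b ∈ (S : Subgroup G) ⊓ G0, a * b ≠ b * a := by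
  have hcp := t.cp hz hg hne hc
  set u := g * z * g⁻¹ with hu
  have huZ : u ∈ Z := t.w.conjZ z hz g
  obtain ⟨S, hzS, huS⟩ := t.w.exists_sylow_of_cp hz huZ hcp
  obtain ⟨i, hi, j, hj, -, -, hji, -⟩ := t.w.exists_ij hz
  have key : ∀ i ∈ K z, i * (g * i⁻¹ * g⁻¹) ∈ (S : Subgroup G) ⊓ G0 := by
    intro i hi
    refine mem_inf.2 ⟨mul_mem (hzS.2 hi) (huS.2 (t.w.conj_mem_K hz g (inv_mem hi))), ?_⟩
    have h1 : i * (g * i⁻¹ * g⁻¹) = (i * g * i⁻¹) * g⁻¹ := by group
    rw [h1]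
    exact mul_mem (t.nor.conj_mem _ hg i) (inv_mem hg)
  refine ⟨S, _, key i hi, _, key j hj, fun he => hne ?_⟩
  have c1 : (g * i⁻¹ * g⁻¹) * j = j * (g * i⁻¹ * g⁻¹) :=
    (hcp.2 j hj _ (t.w.conj_mem_K hz g (inv_mem hi))).symm
  have c2 : (g * j⁻¹ * g⁻¹) * i = i * (g * j⁻¹ * g⁻¹) :=
    (hcp.2 i hi _ (t.w.conj_mem_K hz g (inv_mem hj))).symm
  have e1 : i * (g * i⁻¹ * g⁻¹) * (j * (g * j⁻¹ * g⁻¹)) = (i * j) * (g * (j * i)⁻¹ * g⁻¹) := by
    calc i * (g * i⁻¹ * g⁻¹) * (j * (g * j⁻¹ * g⁻¹)) = i * ((g * i⁻¹ * g⁻¹) * j) * (g * j⁻¹ * g⁻¹) := by group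
      _ = i * (j * (g * i⁻¹ * g⁻¹)) * (g * j⁻¹ * g⁻¹) := by rw [c1]
      _ = _ := by group
  have e2 : j * (g * j⁻¹ * g⁻¹) * (i * (g * i⁻¹ * g⁻¹)) = (j * i) * (g * (i * j)⁻¹ * g⁻¹) := by
    calc j * (g * j⁻¹ * g⁻¹) * (i * (g * i⁻¹ * g⁻¹)) = j * ((g * j⁻¹ * g⁻¹) * i) * (g * i⁻¹ * g⁻¹) := by group
      _ = j * (i * (g * j⁻¹ * g⁻¹)) * (g * i⁻¹ * g⁻¹) := by rw [c2]
      _ = _ := by group
  rw [e1, e2, hji] at he
  -- `ij · g (ij)⁻¹ z g⁻¹ = z ij · g (ij)⁻¹ g⁻¹`
  have hij : (i * j) * z = z * (i * j) := t.w.cent hz (mul_mem hi hj)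
  have h3 : z * (g * (i * j)⁻¹ * g⁻¹) = (g * (i * j)⁻¹ * g⁻¹) * u := by
    have h4 : g * (z * (i * j))⁻¹ * g⁻¹ = (g * (i * j)⁻¹ * g⁻¹) * u := by
      rw [hu, mul_inv_rev, t.w.inv hz]; group
    rw [← h4]
    have h5 : (i * j) * (z * (g * (i * j)⁻¹ * g⁻¹)) = (i * j) * (g * (z * (i * j))⁻¹ * g⁻¹) := by
      rw [he, ← mul_assoc (i * j) z, hij]
    exact mul_left_cancel h5
  have h4 : z * (g * (i * j)⁻¹ * g⁻¹) = (g * (i * j)⁻¹ * g⁻¹) * z :=
    hcp.2 z (t.w.mem z hz) _ (t.w.conj_mem_K hz g (inv_mem (mul_mem hi hj)))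
  rw [h4] at h3
  exact mul_left_cancel h3

/-- not all involutions of `G0` are conjugate in `G0` -/
theorem not_emb (hz : z ∈ Z) (hu : u ∈ Z) (hcp : CP K z u)
    (hall : ∀ x ∈ G0, x * x = 1 → x ≠ 1 → ∃ g ∈ G0, g * z * g⁻¹ = x) : False := by
  have hZ : ∀ x ∈ G0, x * x = 1 → x ≠ 1 → x ∈ Z := by
    intro x hx h1 h2
    obtain ⟨g, -, rfl⟩ := hall x hx h1 h2
    exact t.w.conjZ z hz g
  have hno : ∀ x ∈ Z, z ≠ x → z * x = x * z → CP K z x := by
    intro x hx h1 h2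
    obtain ⟨g, hg, rfl⟩ := hall x (t.sub x hx) (t.w.sq x hx) (t.w.ne x hx)
    exact t.cp hz hg h1 h2
  have hzu := t.w.comm_of_cp hz hu hcp
  -- the third involution
  have hv1 : z * u ≠ 1 := fun h1 => hcp.1 (by rw [mul_eq_one_iff_eq_inv] at h1; rw [h1, t.w.inv hu])
  have hvv : z * u * (z * u) = 1 := by
    calc z * u * (z * u) = z * (u * z) * u := by group
      _ = (z * z) * (u * u) := by rw [← hzu]; group
      _ = 1 := by rw [t.w.sq z hz, t.w.sq u hu, one_mul]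
  have hv := hZ (z * u) (mul_mem (t.sub z hz) (t.sub u hu)) hvv hv1
  have hzv : CP K z (z * u) := by
    refine hno _ hv ?_ ?_
    · intro h1
      exact t.w.ne u hu (by simpa using h1.symm)
    · rw [mul_assoc, ← hzu]
  have huv : CP K u (z * u) := by
    refine t.w.csymm hu hv ?_ ?_
    · intro h1
      exact t.w.ne z hz (by simpa using h1.symm)
    · intro k hk
      have h1 : z * k = k * z := hcp.2 z (t.w.mem z hz) k hk
      have h2 : u * k = k * u := (t.w.cent hu hk).symm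
      rw [mul_assoc, h2, ← mul_assoc, h1, mul_assoc]
  obtain ⟨g2, hg2, e2⟩ := hall u (t.sub u hu) (t.w.sq u hu) (t.w.ne u hu)
  obtain ⟨g3, hg3, e3⟩ := hall (z * u) (t.sub _ hv) hvv hv1
  obtain ⟨i, hi, j, hj, hii, hjj, hji, -⟩ := t.w.exists_ij hz
  set k := (i * j)⁻¹ with hk
  have hkK : k ∈ K z := inv_mem (mul_mem hi hj)
  have hij : (i * j) * (i * j) = z := by
    calc (i * j) * (i * j) = i * (j * i) * j := by group
      _ = i * (z * (i * j)) * j := by rw [hji]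
      _ = (i * z) * (i * j * j) := by group
      _ = (z * i) * (i * j * j) := by rw [t.w.cent hz hi]
      _ = z * (i * i) * (j * j) := by group
      _ = z := by rw [hii, hjj, t.w.sq z hz, one_mul]
  have hkk : k * k = z := by rw [hk, ← mul_inv_rev, hij, t.w.inv hz]
  set b := g2 * j * g2⁻¹ with hb
  set c := g3 * k * g3⁻¹ with hc
  have hbK : b ∈ K u := by rw [← e2]; exact t.w.conj_mem_K hz g2 hj
  have hcK : c ∈ K (z * u) := by rw [← e3]; exact t.w.conj_mem_K hz g3 hkK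
  have hbb : b * b = u := by
    rw [hb, ← e2]
    calc g2 * j * g2⁻¹ * (g2 * j * g2⁻¹) = g2 * (j * j) * g2⁻¹ := by group
      _ = _ := by rw [hjj]
  have hcc : c * c = z * u := by
    rw [hc, ← e3]
    calc g3 * k * g3⁻¹ * (g3 * k * g3⁻¹) = g3 * (k * k) * g3⁻¹ := by group
      _ = _ := by rw [hkk]
  have hib : i * b = b * i := hcp.2 i hi b hbK
  have hic : i * c = c * i := hzv.2 i hi c hcK
  have hbc : b * c = c * b := huv.2 b hbK c hcK
  have hxG : i * b * c ∈ G0 := by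
    have h1 : i * b * c = (i * (g2 * (j * g2⁻¹ * j⁻¹)) * i⁻¹) * ((i * j) * (g3 * (k * g3⁻¹ * k⁻¹)) * (i * j)⁻¹) *
        ((i * j) * k) := by rw [hb, hc]; group
    rw [h1, hk, mul_inv_cancel, mul_one]
    refine mul_mem (t.nor.conj_mem _ (mul_mem hg2 (t.nor.conj_mem _ (inv_mem hg2) j)) i)
      (t.nor.conj_mem _ (mul_mem hg3 (t.nor.conj_mem _ (inv_mem hg3) _)) _)
  have hxx : i * b * c * (i * b * c) = 1 := by
    calc i * b * c * (i * b * c) = i * b * (c * i) * b * c := by group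
      _ = i * (b * i) * (c * b) * c := by rw [← hic]; group
      _ = (i * i) * (b * b) * (c * c) := by rw [← hib, ← hbc]; group
      _ = 1 := by rw [hii, hbb, hcc, hvv]
  have hact : ∀ k ∈ K z, (i * b * c) * k * (i * b * c)⁻¹ = i * k * i⁻¹ := by
    intro k hk
    have h1 : c * k = k * c := (hzv.2 k hk c hcK).symm
    have h2 : b * k = k * b := (hcp.2 k hk b hbK).symm
    calc (i * b * c) * k * (i * b * c)⁻¹ = i * b * (c * k) * c⁻¹ * b⁻¹ * i⁻¹ := by group
      _ = i * (b * k) * b⁻¹ * i⁻¹ := by rw [h1]; group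
      _ = _ := by rw [h2]; group
  have hnc : ¬ Cen K (i * b * c) z := by
    intro h1
    have h2 := hact j hj
    rw [h1 j hj, mul_inv_cancel_right] at h2
    -- `i j = j i`
    have h3 : j * i = i * j := eq_mul_inv_iff_mul_eq.1 h2
    rw [hji] at h3
    exact t.w.ne z hz (by simpa using h3)
  have hx1 : i * b * c ≠ 1 := by
    intro h1
    rw [h1] at hnc
    exact hnc Cen.one
  have hxZ := hZ _ hxG hxx hx1
  have hxz : z ≠ i * b * c := by
    intro h1
    apply hnc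
    rw [← h1]
    exact fun k hk => (t.w.cent hz hk).symm
  refine hnc (t.w.cen_of_cp hxZ (hno _ hxZ hxz ?_))
  have h1 := hact z (t.w.mem z hz)
  rw [t.w.cent hz hi, mul_inv_cancel_right, mul_inv_eq_iff_eq_mul] at h1
  exact h1.symm

end Tr

/-- `S ⊓ G0` is a Sylow 2-subgroup of `G0` -/
theorem exists_sylow_subgroupOf [Finite G] (hn : G0.Normal) (S : Sylow 2 G) :
    ∃ T : Sylow 2 G0, (T : Subgroup G0) = (S : Subgroup G).subgroupOf G0 := by
  haveI : Fact (Nat.Prime 2) := ⟨Nat.prime_two⟩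
  haveI := hn
  have h1 : IsPGroup 2 ((S : Subgroup G).subgroupOf G0) := S.isPGroup'.comap_subtype
  exact ⟨h1.toSylow (Lib.SylowNormalInf.not_dvd_relIndex S G0), rfl⟩

/-- **the end**: `F*(G) = G0` simple, `Z ⊆ G0`, (C3), there is a C-pair: no strongly closed commutative subgroup in `G0` -/
theorem W.false_of_closed [Finite G] (w : W Z K) (cls : OneCls Z) (c3 : C3 Z K) (f : FSimp G0)
    (hZ : ∀ z ∈ Z, z ∈ G0) (S : Sylow 2 G) (hz : z ∈ CS Z K S) (hu : u ∈ CS Z K S) (hne : z ≠ u)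
    (gold : Cit.ROne.Gold G0) (hB : CloEnd.Bend G0) {A : Subgroup G} (hA : A ≠ ⊥) (hAG : A ≤ G0)
    (hc : ∀ x ∈ A, ∀ y ∈ A, x * y = y * x) (hsc : IsStronglyClosed A (S : Subgroup G)) : False := by
  have hcp : CP K z u := w.com hz.1 hu.1 S.isPGroup' hz.2 hu.2 hne
  obtain ⟨T, hT⟩ := exists_sylow_subgroupOf f.nor S
  -- `A` in `G0`
  have hA' : A.subgroupOf G0 ≠ ⊥ := by
    intro h1
    apply hA
    rw [← map_subgroupOf_eq_of_le hAG, h1, Subgroup.map_bot]
  have hc' : ∀ x ∈ A.subgroupOf G0, ∀ y ∈ A.subgroupOf G0, x * y = y * x := fun x hx y hy =>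
    Subtype.ext (hc x hx y hy)
  have hsc' : IsStronglyClosed (A.subgroupOf G0) (T : Subgroup G0) := by
    refine ⟨?_, fun x hx g hg => ?_⟩
    · rw [hT]
      exact comap_mono hsc.1
    · rw [hT] at hg
      exact hsc.2 x hx g hg
  by_cases hcase : ∀ z ∈ Z, K z ≤ G0
  · -- (A)
    have key : ∀ z ∈ CS Z K (S : Subgroup G), (K z).subgroupOf G0 ∈ OmS (restr (K '' Z) G0) (T : Subgroup G0) := by
      intro z hz
      refine mem_OmS_of_le (subgroupOf_mem_restr ⟨z, hz.1, rfl⟩ (hcase z hz.1))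
        ⟨le_rfl, (w.two hz.1).comap_subtype, by rw [relIndex_self]; omega⟩ ?_
      rw [hT]
      exact comap_mono hz.2
    refine Cit.ROne.false_of_closed (w.hyp.restr G0) T (key z hz) (key u hu) ?_ gold hB hA' hc' hsc'
    intro h1
    apply hne
    refine w.K_inj hz.1 hu.1 ?_
    rw [← map_subgroupOf_eq_of_le (hcase z hz.1), h1, map_subgroupOf_eq_of_le (hcase u hu.1)]
  · -- (B)
    push Not at hcase
    obtain ⟨z0, hz0, h0⟩ := hcase
    have t : Tr Z K G0 := by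
      refine ⟨w, f.nor, hZ, fun v hv => ?_⟩
      refine (w.inf_cases c3 f.nor hv).resolve_left fun h1 => h0 ?_
      obtain ⟨g, rfl⟩ := cls v hv z0 hz0
      rw [w.conjK v hv]
      intro x hx
      have h2 := f.nor.conj_mem _ (h1 (mem_cj.1 hx)) g
      have h3 : g * (g⁻¹ * x * g) * g⁻¹ = x := by group
      rwa [h3] at h2
    haveI := f.sim
    have hz0' : z ∈ G0 := hZ z hz.1
    rcases gold T _ hA' ⟨⟨fun a b => Subtype.ext (hc' a a.2 b b.2)⟩⟩ hsc' with h1 | ⟨H, hH⟩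
    · -- (B1)
      have hnc : ¬ IsMulCommutative G0 := by
        intro h2
        exact f.na fun x hx y hy => congrArg Subtype.val (h2.is_comm.comm ⟨x, hx⟩ ⟨y, hy⟩)
      obtain ⟨g, h2, h3⟩ := GH.QA.not_isolated f.sim hnc (u := (⟨z, hz0'⟩ : G0))
        (Subtype.ext (w.sq z hz.1)) (fun h2 => w.ne z hz.1 (congrArg Subtype.val h2))
      have h2' : z * (g * z * (g : G)⁻¹) = g * z * (g : G)⁻¹ * z := congrArg Subtype.val h2
      have h3' : z ≠ g * z * (g : G)⁻¹ := fun h4 => h3 (Subtype.ext h4.symm)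
      obtain ⟨S', a, ha, b, hb, hab⟩ := t.not_comm hz.1 g.2 h3' h2'
      -- all Sylow 2-subgroups of `G0` are commutative
      obtain ⟨T', hT'⟩ := exists_sylow_subgroupOf f.nor S'
      haveI : Fact (Nat.Prime 2) := ⟨Nat.prime_two⟩
      obtain ⟨r, hr⟩ := MulAction.exists_smul_eq G0 T T'
      have h4 : ∀ x ∈ (T' : Subgroup G0), r⁻¹ * x * r ∈ (T : Subgroup G0) := by
        intro x hx
        rw [← hr] at hx
        have h5 : x ∈ cj r (T : Subgroup G0) := hx
        exact mem_cj.1 h5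
      have ha' : (⟨a, (mem_inf.1 ha).2⟩ : G0) ∈ (T' : Subgroup G0) := by rw [hT']; exact (mem_inf.1 ha).1
      have hb' : (⟨b, (mem_inf.1 hb).2⟩ : G0) ∈ (T' : Subgroup G0) := by rw [hT']; exact (mem_inf.1 hb).1
      have h5 := congrArg Subtype.val (h1.is_comm.comm ⟨_, h4 _ ha'⟩ ⟨_, h4 _ hb'⟩)
      apply hab
      have h6 : (⟨a, (mem_inf.1 ha).2⟩ : G0) * ⟨b, (mem_inf.1 hb).2⟩ = ⟨b, (mem_inf.1 hb).2⟩ * ⟨a, (mem_inf.1 ha).2⟩ := by
        set a' : G0 := ⟨a, (mem_inf.1 ha).2⟩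
        set b' : G0 := ⟨b, (mem_inf.1 hb).2⟩
        have h7 : r⁻¹ * a' * r * (r⁻¹ * b' * r) = r⁻¹ * b' * r * (r⁻¹ * a' * r) := h5
        calc a' * b' = r * (r⁻¹ * a' * r * (r⁻¹ * b' * r)) * r⁻¹ := by group
          _ = r * (r⁻¹ * b' * r * (r⁻¹ * a' * r)) * r⁻¹ := by rw [h7]
          _ = b' * a' := by group
      exact congrArg Subtype.val h6
    · -- (B2)
      refine t.not_emb hz.1 hu.1 hcp fun x hx hxx hx1 => ?_
      have h2 := Cfsg.Agent.TwoFusion.StronglyEmbeddedBasic.isConj_of_involutions hH (⟨z, hz0'⟩ : G0) ⟨x, hx⟩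
        (by rw [← Subgroup.orderOf_coe]; exact w.ord hz.1)
        (by rw [← Subgroup.orderOf_coe]; exact orderOf_eq_prime (by rw [pow_two]; exact hxx) hx1)
      obtain ⟨g, hg⟩ := isConj_iff.1 h2
      exact ⟨g, g.2, congrArg Subtype.val hg⟩

end Cfsg.Agent.Cit.Nil.ROne
end

-- part: Cit/Nil/Comp/ProdEnd
section
set_option linter.all false
open scoped Cfsg.Agent.FastGrp

/-!
# COMP, `r = 1`, the product situation: the end (helper815), (F5) of helper454's text (bb R18 #15492)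

`PE Z K M Bl` : `M` the stabiliser of a frame, `Z ∩ M` its members, `Bl x y` : `x` and `y` are in the same class.

* `PE.false_of_pair` : there is a C-pair inside a class: strongly closed commutative subgroup (Goldschmidt's theorem);
* `PE.false_of_none` : there is none: the criterion `Crit1175` for the product of the members in `S`;
* `PE.false_of` : `F*(G) = G0` simple: contradiction.
-/

set_option autoImplicit false
set_option linter.style.haveILetI false
set_option linter.unusedSectionVars false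

namespace Cfsg.Agent.Cit.Nil.Comp

open Subgroup Cfsg Cfsg.Agent.Cit Cfsg.Agent.Cit.Nil.ROne

variable {G : Type*} [Group G]

/-- the product situation, output of (F1)-(F4): `M` the stabiliser of a frame, `Z ∩ M` the members of the frame,
`Bl x y` : same class -/
structure PE (Z : Set G) (K : G → Subgroup G) (M : Subgroup G) (Bl : G → G → Prop) : Prop where
  w : W Z K
  refl : ∀ x ∈ Z ∩ M, Bl x x
  symm : ∀ x ∈ Z ∩ M, ∀ y ∈ Z ∩ M, Bl x y → Bl y x
  trans : ∀ x ∈ Z ∩ M, ∀ y ∈ Z ∩ M, ∀ v ∈ Z ∩ M, Bl x y → Bl y v → Bl x v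
  conj : ∀ g ∈ M, ∀ x ∈ Z ∩ M, ∀ y ∈ Z ∩ M, Bl x y → Bl (g * x * g⁻¹) (g * y * g⁻¹)
  /-- different classes commute -/
  cm : ∀ x ∈ Z ∩ M, ∀ y ∈ Z ∩ M, ¬ Bl x y → ∀ a ∈ K x, ∀ b ∈ K y, a * b = b * a
  two : ∃ x ∈ Z ∩ M, ∃ y ∈ Z ∩ M, ¬ Bl x y
  ntr : ∀ x ∈ Z ∩ M, ∃ y ∈ Z ∩ M, Bl x y ∧ x ≠ y
  /-- the classes are `ONE` -/
  one : ∀ x ∈ Z ∩ M, ∀ y ∈ Z ∩ M, Bl x y → CP K x y → ∀ v ∈ Z ∩ M, Bl x v → Cen K (x * y) v
  mem : ∀ x ∈ Z ∩ M, ∀ g, g * x * g⁻¹ ∈ M → g ∈ M
  syl : ∀ S : Sylow 2 G, ∀ x ∈ Z ∩ M, K x ≤ (S : Subgroup G) → (S : Subgroup G) ≤ M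
  cen : ∀ S : Sylow 2 G, (S : Subgroup G) ≤ M → ∀ s ∈ TT Z K (S : Subgroup G), s ≠ 1 → ∀ c, c * s = s * c → c ∈ M
  mem' : ∀ S : Sylow 2 G, (S : Subgroup G) ≤ M → ∀ s ∈ TT Z K (S : Subgroup G), s ≠ 1 →
    ∀ g, g * s * g⁻¹ ∈ M → g ∈ M

/-- there is no strongly embedded subgroup in `G0` -/
theorem false_of_se [Finite G] {Z : Set G} {K : G → Subgroup G} {G0 : Subgroup G} {z u : G} (w : W Z K)
    (cls : OneCls Z) (c3 : C3 Z K) (f : FSimp G0) (hZ : ∀ z ∈ Z, z ∈ G0) (S : Sylow 2 G) (hz : z ∈ CS Z K S)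
    (hu : u ∈ CS Z K S) (hne : z ≠ u) (hB : CloEnd.Bend G0) {H : Subgroup G0} (hH : IsStronglyEmbedded H) :
    False := by
  have hcp : CP K z u := w.com hz.1 hu.1 S.isPGroup' hz.2 hu.2 hne
  obtain ⟨T, hT⟩ := exists_sylow_subgroupOf f.nor S
  by_cases hcase : ∀ z ∈ Z, K z ≤ G0
  · -- (A)
    have key : ∀ z ∈ CS Z K (S : Subgroup G), (K z).subgroupOf G0 ∈ OmS (restr (K '' Z) G0) (T : Subgroup G0) := by
      intro z hz
      refine mem_OmS_of_le (subgroupOf_mem_restr ⟨z, hz.1, rfl⟩ (hcase z hz.1))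
        ⟨le_rfl, (w.two hz.1).comap_subtype, by rw [relIndex_self]; omega⟩ ?_
      rw [hT]
      exact comap_mono hz.2
    refine (CloOne.two_of_ne (w.hyp.restr G0) T.isPGroup' (key z hz) (key u hu) ?_).not_stronglyEmbedded hB H hH
    intro h1
    apply hne
    refine w.K_inj hz.1 hu.1 ?_
    rw [← map_subgroupOf_eq_of_le (hcase z hz.1), h1, map_subgroupOf_eq_of_le (hcase u hu.1)]
  · -- (B)
    push Not at hcase
    obtain ⟨z0, hz0, h0⟩ := hcase
    have t : Tr Z K G0 := by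
      refine ⟨w, f.nor, hZ, fun v hv => ?_⟩
      refine (w.inf_cases c3 f.nor hv).resolve_left fun h1 => h0 ?_
      obtain ⟨g, rfl⟩ := cls v hv z0 hz0
      rw [w.conjK v hv]
      intro x hx
      have h2 := f.nor.conj_mem _ (h1 (mem_cj.1 hx)) g
      have h3 : g * (g⁻¹ * x * g) * g⁻¹ = x := by group
      rwa [h3] at h2
    have hz0' : z ∈ G0 := hZ z hz.1
    refine t.not_emb hz.1 hu.1 hcp fun x hx hxx hx1 => ?_
    have h2 := Cfsg.Agent.TwoFusion.StronglyEmbeddedBasic.isConj_of_involutions hH (⟨z, hz0'⟩ : G0) ⟨x, hx⟩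
      (by rw [← Subgroup.orderOf_coe]; exact w.ord hz.1)
      (by rw [← Subgroup.orderOf_coe]; exact orderOf_eq_prime (by rw [pow_two]; exact hxx) hx1)
    obtain ⟨g, hg⟩ := isConj_iff.1 h2
    exact ⟨g, g.2, congrArg Subtype.val hg⟩

namespace PE

variable {Z : Set G} {K : G → Subgroup G} {M : Subgroup G} {Bl : G → G → Prop} {x y v g b c k : G}
  (p : PE Z K M Bl)

include p

theorem conj_mem (hx : x ∈ Z ∩ M) (hg : g ∈ M) : g * x * g⁻¹ ∈ Z ∩ M :=
  ⟨p.w.conjZ x hx.1 g, M.mul_mem (M.mul_mem hg hx.2) (M.inv_mem hg)⟩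

/-- `C(x) ≤ M` -/
theorem mem_of_comm (hx : x ∈ Z ∩ M) (hg : g * x = x * g) : g ∈ M :=
  p.mem x hx g (by rw [hg, mul_inv_cancel_right]; exact hx.2)

theorem K_le (hx : x ∈ Z ∩ M) : K x ≤ M := fun _ hk => p.mem_of_comm hx (p.w.cent hx.1 hk)

/-- elements of a member preserve the classes -/
theorem bl_K (hx : x ∈ Z ∩ M) (hv : v ∈ Z ∩ M) (hk : k ∈ K x) : Bl v (k * v * k⁻¹) := by
  have hkM := p.K_le hx hk
  by_cases h1 : Bl x v
  · have h2 := p.conj k hkM x hx v hv h1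
    rw [p.w.cent hx.1 hk, mul_inv_cancel_right] at h2
    exact p.trans v hv x hx _ (p.conj_mem hv hkM) (p.symm x hx v hv h1) h2
  · have h2 := p.cm x hx v hv h1 k hk v (p.w.mem v hv.1)
    rw [h2, mul_inv_cancel_right]
    exact p.refl v hv

/-- the group generated by the members of the frame -/
def BB (Z : Set G) (K : G → Subgroup G) (M : Subgroup G) : Subgroup G := closure {k | ∃ x ∈ Z ∩ M, k ∈ K x}

theorem K_le_BB (hx : x ∈ Z ∩ M) : K x ≤ BB Z K M := fun _ hk => subset_closure ⟨x, hx, hk⟩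

theorem BB_le : BB Z K M ≤ M := (closure_le _).2 fun _ ⟨_, hx, hk⟩ => p.K_le hx hk

theorem bl_BB (hb : b ∈ BB Z K M) : ∀ v ∈ Z ∩ M, Bl v (b * v * b⁻¹) := by
  have key : ∀ b ∈ BB Z K M, b ∈ M ∧ ∀ v ∈ Z ∩ M, Bl v (b * v * b⁻¹) := by
    intro b hb
    refine ⟨p.BB_le hb, ?_⟩
    rw [BB] at hb
    induction hb using closure_induction with
    | mem b hb =>
      obtain ⟨x, hx, hk⟩ := hb
      exact fun v hv => p.bl_K hx hv hk
    | one =>
      intro v hv
      rw [one_mul, inv_one, mul_one]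
      exact p.refl v hv
    | mul a b ha hb h1 h2 =>
      intro v hv
      have hbM : b ∈ M := p.BB_le hb
      have haM : a ∈ M := p.BB_le ha
      have e : a * b * v * (a * b)⁻¹ = a * (b * v * b⁻¹) * a⁻¹ := by group
      rw [e]
      exact p.trans v hv _ (p.conj_mem hv hbM) _ (p.conj_mem (p.conj_mem hv hbM) haM) (h2 v hv)
        (h1 _ (p.conj_mem hv hbM))
    | inv a ha h1 =>
      intro v hv
      have haM : a⁻¹ ∈ M := M.inv_mem (p.BB_le ha)
      have h2 := h1 _ (p.conj_mem hv haM)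
      have e : a * (a⁻¹ * v * a⁻¹⁻¹) * a⁻¹ = v := by group
      rw [e] at h2
      exact p.symm _ (p.conj_mem hv haM) v hv h2
  exact (key b hb).2

/-- `M` normalises the group generated by the members -/
theorem conj_BB (hg : g ∈ M) (hb : b ∈ BB Z K M) : g * b * g⁻¹ ∈ BB Z K M := by
  have h1 : BB Z K M ≤ (BB Z K M).comap (MulAut.conj g).toMonoidHom := by
    refine (closure_le _).2 ?_
    rintro k ⟨x, hx, hk⟩
    exact subset_closure ⟨g * x * g⁻¹, p.conj_mem hx hg, p.w.conj_mem_K hx.1 g hk⟩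
  exact h1 hb

/-- `G0` is not contained in `M` -/
theorem not_le {G0 : Subgroup G} (f : FSimp G0) : ¬ G0 ≤ M := by
  intro hG
  obtain ⟨x, hx, y, hy, hxy⟩ := p.two
  have h1 : G0 ≤ BB Z K M := by
    refine f.le (fun g hg n hn => p.conj_BB (hG hg) hn) fun h1 => p.w.ne x hx.1 ?_
    have h2 := p.K_le_BB hx (p.w.mem x hx.1)
    rw [h1] at h2
    exact h2
  have key : ∀ x ∈ Z ∩ M, G0 ≤ closure {k | ∃ v ∈ Z ∩ M, Bl x v ∧ k ∈ K v} := by
    intro x hx
    refine f.le (fun g hg n hn => ?_) fun h1 => p.w.ne x hx.1 ?_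
    · have h2 : closure {k | ∃ v ∈ Z ∩ M, Bl x v ∧ k ∈ K v} ≤
          (closure {k | ∃ v ∈ Z ∩ M, Bl x v ∧ k ∈ K v}).comap (MulAut.conj g).toMonoidHom := by
        refine (closure_le _).2 ?_
        rintro k ⟨v, hv, hxv, hk⟩
        exact subset_closure ⟨g * v * g⁻¹, p.conj_mem hv (hG hg),
          p.trans x hx v hv _ (p.conj_mem hv (hG hg)) hxv (p.bl_BB (h1 hg) v hv), p.w.conj_mem_K hv.1 g hk⟩
      exact h2 hn
    · have h2 : x ∈ closure {k | ∃ v ∈ Z ∩ M, Bl x v ∧ k ∈ K v} :=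
        subset_closure ⟨x, hx, p.refl x hx, p.w.mem x hx.1⟩
      rw [h1] at h2
      exact h2
  refine f.na fun a ha b hb => ?_
  have ha' := key x hx ha
  have hb' := key y hy hb
  -- the two groups commute
  have h2 : closure {k | ∃ v ∈ Z ∩ M, Bl x v ∧ k ∈ K v} ≤ centralizer {k | ∃ v ∈ Z ∩ M, Bl y v ∧ k ∈ K v} := by
    refine (closure_le _).2 ?_
    rintro k ⟨v, hv, hxv, hk⟩
    rw [SetLike.mem_coe, mem_centralizer_iff]
    rintro l ⟨u, hu, hyu, hl⟩
    refine p.cm u hu v hv (fun h3 => hxy ?_) l hl k hk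
    exact p.trans x hx v hv y hy hxv (p.trans v hv u hu y hy (p.symm u hu v hv h3) (p.symm y hy u hu hyu))
  have h3 : closure {k | ∃ v ∈ Z ∩ M, Bl y v ∧ k ∈ K v} ≤ centralizer {a} := by
    refine (closure_le _).2 fun l hl => mem_centralizer_singleton_iff.2 ?_
    exact mem_centralizer_iff.1 (h2 ha') l hl
  exact (mem_centralizer_singleton_iff.1 (h3 hb')).symm

section fin

variable [Finite G]

/-- a 2-subgroup of `BB` goes into `S` by an element of `BB` -/
theorem exists_cj_BB (S : Sylow 2 G) (hS : (S : Subgroup G) ≤ M) {R : Subgroup G} (hR : IsPGroup 2 R)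
    (hRB : R ≤ BB Z K M) : ∃ b ∈ BB Z K M, cj b R ≤ (S : Subgroup G) := by
  obtain ⟨T, hT, hRT⟩ := exists_syl_ge hR hRB
  obtain ⟨m, hm, hmS⟩ := Strong.exists_cj_le S hS hT.2.1 (hT.1.trans p.BB_le)
  have hBm : cj m (BB Z K M) = BB Z K M := by
    have key : ∀ m ∈ M, cj m (BB Z K M) ≤ BB Z K M := by
      intro m hm a ha
      have h1 := p.conj_BB hm (mem_cj.1 ha)
      have e : m * (m⁻¹ * a * m) * m⁻¹ = a := by group
      rwa [e] at h1
    refine le_antisymm (key m hm) ?_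
    have h1 := cj_mono m (key m⁻¹ (M.inv_mem hm))
    rwa [cj_cj_inv] at h1
  have h1 : Syl (cj m T) (BB Z K M) := by
    have h2 := hT.cj m
    rwa [hBm] at h2
  obtain ⟨b, hb, hbT⟩ := hT.exists_conj h1
  exact ⟨b, hb, (cj_mono b hRT).trans (hbT.le.trans hmS)⟩

/-- every class meets `C_S` -/
theorem exists_mem_CS (S : Sylow 2 G) (hS : (S : Subgroup G) ≤ M) (hx : x ∈ Z ∩ M) :
    ∃ v ∈ CS Z K (S : Subgroup G), Bl x v := by
  obtain ⟨b, hb, hbS⟩ := p.exists_cj_BB S hS (p.w.two hx.1) (p.K_le_BB hx)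
  refine ⟨b * x * b⁻¹, ⟨p.w.conjZ x hx.1 b, ?_⟩, p.bl_BB hb x hx⟩
  rw [p.w.conjK x hx.1]
  exact hbS

theorem CS_sub (S : Sylow 2 G) (hS : (S : Subgroup G) ≤ M) (hv : v ∈ CS Z K (S : Subgroup G)) : v ∈ Z ∩ M :=
  ⟨hv.1, hS (hv.2 (p.w.mem v hv.1))⟩

theorem exists_sylow : ∃ S : Sylow 2 G, (S : Subgroup G) ≤ M := by
  obtain ⟨x, hx, -⟩ := p.two
  obtain ⟨S, hS⟩ := p.w.exists_sylow hx.1
  exact ⟨S, p.syl S x hx hS.2⟩

theorem exists_ne (S : Sylow 2 G) (hS : (S : Subgroup G) ≤ M) :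
    ∃ z ∈ CS Z K (S : Subgroup G), ∃ u ∈ CS Z K (S : Subgroup G), z ≠ u := by
  obtain ⟨x, hx, y, hy, hxy⟩ := p.two
  obtain ⟨z, hz, hxz⟩ := p.exists_mem_CS S hS hx
  obtain ⟨u, hu, hyu⟩ := p.exists_mem_CS S hS hy
  refine ⟨z, hz, u, hu, ?_⟩
  rintro rfl
  exact hxy (p.trans x hx z (p.CS_sub S hS hz) y hy hxz (p.symm y hy z (p.CS_sub S hS hz) hyu))

theorem data (S : Sylow 2 G) : Strong.Data (S : Subgroup G) (CS Z K S) K where
  sq z hz := p.w.sq z hz.1
  ne z hz := p.w.ne z hz.1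
  mem z hz := p.w.mem z hz.1
  le z hz := hz.2
  q8 z hz := p.w.q8 z hz.1
  comm z hz u hu hne := (p.w.com hz.1 hu.1 S.isPGroup' hz.2 hu.2 hne).2
  conjZ s hs z hz := by
    have h1 := (p.w.cj_CS s (S : Subgroup G) hz.1).2 hz
    rwa [mem_normalizer_iff_cj.1 (le_normalizer hs)] at h1
  conjK s _ z hz := p.w.conjK z hz.1 s

/-! ### A C-pair inside a class -/

/-- products of C-pairs inside a class are central in `BB` -/
theorem cen_mul (hx : x ∈ Z ∩ M) (hy : y ∈ Z ∩ M) (hxy : Bl x y) (hc : CP K x y) (hb : b ∈ BB Z K M) :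
    b * (x * y) * b⁻¹ = x * y := by
  have h1 : BB Z K M ≤ centralizer {x * y} := by
    refine (closure_le _).2 ?_
    rintro k ⟨v, hv, hk⟩
    rw [SetLike.mem_coe, mem_centralizer_singleton_iff]
    by_cases h1 : Bl x v
    · exact (p.one x hx y hy hxy hc v hv h1 k hk).symm
    · have h2 : ¬ Bl y v := fun h2 => h1 (p.trans x hx y hy v hv hxy h2)
      have h3 := p.cm x hx v hv h1 x (p.w.mem x hx.1) k hk
      have h4 := p.cm y hy v hv h2 y (p.w.mem y hy.1) k hk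
      rw [← mul_assoc, ← h3, mul_assoc, ← h4, mul_assoc]
  rw [mem_centralizer_singleton_iff.1 (h1 hb), mul_inv_cancel_right]

theorem mul_mem_TT (S : Sylow 2 G) (hS : (S : Subgroup G) ≤ M) (hx : x ∈ Z ∩ M) (hy : y ∈ Z ∩ M) (hxy : Bl x y)
    (hc : CP K x y) : x * y ∈ TT Z K (S : Subgroup G) := by
  classical
  have hR : IsPGroup 2 (⨆ z ∈ ({x, y} : Finset G), K z : Subgroup G) := by
    refine p.w.isPGroup_clique _ ?_ ?_
    · intro z hz
      rw [Finset.mem_insert, Finset.mem_singleton] at hz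
      rcases hz with rfl | rfl
      · exact hx.1
      · exact hy.1
    · intro z hz u hu hne
      rw [Finset.mem_insert, Finset.mem_singleton] at hz hu
      rcases hz with rfl | rfl <;> rcases hu with rfl | rfl
      · exact absurd rfl hne
      · exact hc
      · exact hc.symm
      · exact absurd rfl hne
  obtain ⟨b, hb, hbS⟩ := p.exists_cj_BB S hS hR (by
    refine iSup₂_le fun z hz => ?_
    rw [Finset.mem_insert, Finset.mem_singleton] at hz
    rcases hz with rfl | rfl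
    · exact p.K_le_BB hx
    · exact p.K_le_BB hy)
  have key : ∀ z ∈ ({x, y} : Finset G), z ∈ Z → b * z * b⁻¹ ∈ CS Z K (S : Subgroup G) := by
    intro z hz hzZ
    refine ⟨p.w.conjZ z hzZ b, ?_⟩
    rw [p.w.conjK z hzZ]
    exact (cj_mono b (le_iSup₂ (f := fun z (_ : z ∈ ({x, y} : Finset G)) => K z) z hz)).trans hbS
  rw [← p.cen_mul hx hy hxy hc hb]
  have e : b * (x * y) * b⁻¹ = b * x * b⁻¹ * (b * y * b⁻¹) := by group
  rw [e]
  exact mul_mem (subset_closure (key x (by simp) hx.1)) (subset_closure (key y (by simp) hy.1))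

/-- **Case 1** -/
theorem false_of_pair {G0 : Subgroup G} (cls : OneCls Z) (c3 : C3 Z K) (f : FSimp G0) (hZ : ∀ z ∈ Z, z ∈ G0)
    (gold : Cit.ROne.Gold G0) (hB : CloEnd.Bend G0) (hx : x ∈ Z ∩ M) (hy : y ∈ Z ∩ M) (hxy : Bl x y)
    (hc : CP K x y) : False := by
  obtain ⟨S, hS⟩ := p.exists_sylow
  obtain ⟨z, hz, u, hu, hne⟩ := p.exists_ne S hS
  set A : Subgroup G := closure {t | ∃ x ∈ Z ∩ M, ∃ y ∈ Z ∩ M, Bl x y ∧ CP K x y ∧ t = x * y} with hA
  have hAT : A ≤ TT Z K (S : Subgroup G) := by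
    rw [hA, closure_le]
    rintro t ⟨x, hx, y, hy, hxy, hc, rfl⟩
    exact p.mul_mem_TT S hS hx hy hxy hc
  have hAM : M ≤ normalizer (A : Set G) := by
    have key : ∀ g ∈ M, A ≤ A.comap (MulAut.conj g).toMonoidHom := by
      intro g hg
      conv_lhs => rw [hA]
      rw [closure_le]
      rintro t ⟨x, hx, y, hy, hxy, hc, rfl⟩
      refine subset_closure ⟨g * x * g⁻¹, p.conj_mem hx hg, g * y * g⁻¹, p.conj_mem hy hg, p.conj g hg x hx y hy hxy,
        p.w.cp_conj hx.1 hy.1 hc g, ?_⟩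
      change g * (x * y) * g⁻¹ = _
      group
    intro g hg
    rw [mem_normalizer_iff]
    intro a
    refine ⟨fun ha => key g hg ha, fun ha => ?_⟩
    have h1 : g⁻¹ * (g * a * g⁻¹) * g⁻¹⁻¹ ∈ A := key g⁻¹ (inv_mem hg) ha
    have h2 : g⁻¹ * (g * a * g⁻¹) * g⁻¹⁻¹ = a := by group
    rwa [h2] at h1
  have hA1 : A ≠ ⊥ := by
    intro h1
    have h2 : x * y ∈ A := subset_closure ⟨x, hx, y, hy, hxy, hc, rfl⟩
    rw [h1] at h2
    exact p.w.cp_mul_ne hy.1 hc h2
  have hcl : IsStronglyClosed A (S : Subgroup G) := by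
    refine Strong.strong S hS (p.data S) ⟨z, hz⟩ (fun u hu x hx => p.mem u (p.CS_sub S hS hu) x hx)
      (fun s hs hs1 c hc => p.cen S hS s hs hs1 c hc) (hAT.trans p.w.TT_le) hAM
      (fun a ha => p.w.TT_sq S.isPGroup' (hAT ha)) ?_
    intro a ha ha1 R _ hR
    refine ⟨1, by rw [one_mul, mul_one], ?_⟩
    rw [cj_one]
    exact fun r hr => p.cen S hS a (hAT ha) ha1 r (hR r hr)
  refine p.w.false_of_closed cls c3 f hZ S hz hu hne gold hB hA1 ?_ ?_ hcl
  · refine hAT.trans ((closure_le _).2 fun v hv => hZ v hv.1)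
  · exact fun a ha b hb => p.w.TT_comm S.isPGroup' (hAT ha) (hAT hb)

/-! ### No C-pair inside a class -/

omit p in
/-- reindexing -/
theorem noncommProd_comp {ι β : Type*} [Fintype ι] [Monoid β] (e : ι ≃ ι) (f : ι → β)
    (h1 : ((Finset.univ : Finset ι) : Set ι).Pairwise (Function.onFun Commute fun i => f (e i)))
    (h2 : ((Finset.univ : Finset ι) : Set ι).Pairwise (Function.onFun Commute f)) :
    Finset.univ.noncommProd (fun i => f (e i)) h1 = Finset.univ.noncommProd f h2 := by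
  have h3 : (Finset.univ : Finset ι).val.map (fun i => f (e i)) = (Finset.univ : Finset ι).val.map f := by
    conv_rhs => rw [← Multiset.map_univ_val_equiv e, Multiset.map_map]
    rfl
  unfold Finset.noncommProd
  congr 1

/-- one element in each class -/
def Fam (Z : Set G) (M : Subgroup G) (Bl : G → G → Prop) {ι : Type*} (c : ι → G) : Prop :=
  (∀ i, c i ∈ Z ∩ M) ∧ ∀ i j, i ≠ j → ¬ Bl (c i) (c j)

section fam

variable {ι : Type*} [Fintype ι] {c d : ι → G}

theorem fam_comm (hc : Fam Z M Bl c) : ((Finset.univ : Finset ι) : Set ι).Pairwise (Function.onFun Commute c) :=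
  fun i _ j _ hij => p.cm _ (hc.1 i) _ (hc.1 j) (hc.2 i j hij) _ (p.w.mem _ (hc.1 i).1) _ (p.w.mem _ (hc.1 j).1)

theorem fam_split (hc : Fam Z M Bl c) (i : ι) : ∃ t, Finset.univ.noncommProd c (p.fam_comm hc) = c i * t ∧
    ∀ u ∈ Z ∩ M, Bl (c i) u → Cen K t u := by
  classical
  have hcom : (((Finset.univ : Finset ι).erase i : Finset ι) : Set ι).Pairwise (Function.onFun Commute c) :=
    (p.fam_comm hc).mono (fun _ _ => Finset.mem_coe.2 (Finset.mem_univ _))
  refine ⟨((Finset.univ : Finset ι).erase i).noncommProd c hcom,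
    (Finset.mul_noncommProd_erase Finset.univ (Finset.mem_univ i) c (p.fam_comm hc) hcom).symm, ?_⟩
  intro u hu hiu
  have h1 : ((Finset.univ : Finset ι).erase i).noncommProd c hcom ∈ centralizer (K u : Set G) := by
    refine Subgroup.noncommProd_mem _ _ fun j hj => mem_centralizer_iff.2 fun k hk => ?_
    refine (p.cm _ (hc.1 j) u hu (fun h1 => ?_) _ (p.w.mem _ (hc.1 j).1) k hk).symm
    exact hc.2 i j (Finset.ne_of_mem_erase hj).symm
      (p.trans _ (hc.1 i) u hu _ (hc.1 j) hiu (p.symm _ (hc.1 j) u hu h1))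
  exact fun k hk => (mem_centralizer_iff.1 h1 k hk).symm

/-- two products -/
theorem fam_main (hn : ∀ x ∈ Z ∩ M, ∀ y ∈ Z ∩ M, Bl x y → ¬ CP K x y) (hc : Fam Z M Bl c) (hd : Fam Z M Bl d)
    (hcd : ∀ i, Bl (c i) (d i)) {h k : G} (hh : h = Finset.univ.noncommProd c (p.fam_comm hc))
    (hk : k = Finset.univ.noncommProd d (p.fam_comm hd)) (hhk : h * k = k * h) (hne : h * k ≠ 1) :
    ∀ g, g * (h * k) = h * k * g → g ∈ M := by
  classical
  -- `c i` and `d i` commute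
  have h1 : ∀ i, c i * d i = d i * c i := by
    intro i
    obtain ⟨s, hs, hs'⟩ := p.fam_split hc i
    obtain ⟨t, ht, ht'⟩ := p.fam_split hd i
    rw [← hh] at hs
    rw [← hk] at ht
    have hci := hc.1 i
    have hdi := hd.1 i
    have hdc : Bl (d i) (c i) := p.symm _ hci _ hdi (hcd i)
    have sc : s * c i = c i * s := hs' _ hci (p.refl _ hci) _ (p.w.mem _ hci.1)
    have sd : s * d i = d i * s := hs' _ hdi (hcd i) _ (p.w.mem _ hdi.1)
    have tc : t * c i = c i * t := ht' _ hci hdc _ (p.w.mem _ hci.1)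
    have td : t * d i = d i * t := ht' _ hdi (p.refl _ hdi) _ (p.w.mem _ hdi.1)
    -- `c d s t = d c t s`
    have e1 : c i * d i * (s * t) = d i * c i * (t * s) := by
      calc c i * d i * (s * t) = c i * (d i * s) * t := by group
        _ = c i * s * (d i * t) := by rw [← sd]; group
        _ = d i * t * (c i * s) := by rw [← hs, ← ht, hhk]
        _ = d i * (t * c i) * s := by group
        _ = _ := by rw [tc]; group
    set ζ := t * s * (s * t)⁻¹ with hζ
    have e2 : c i * d i = d i * c i * ζ := by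
      rw [hζ, ← mul_assoc, ← e1]; group
    have hζc : Cen K ζ (c i) := by
      have a1 : Cen K s (c i) := hs' _ hci (p.refl _ hci)
      have a2 : Cen K t (c i) := ht' _ hci hdc
      exact (a2.mul a1).mul (a1.mul a2).inv
    -- `v' = d⁻¹ c d`
    have hdM : (d i)⁻¹ ∈ M := M.inv_mem hdi.2
    have e3 : (d i)⁻¹ * c i * (d i)⁻¹⁻¹ = c i * ζ := by
      rw [inv_inv, mul_assoc, e2]; group
    have hv := p.conj_mem hci hdM
    have hbl : Bl (c i) ((d i)⁻¹ * c i * (d i)⁻¹⁻¹) := by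
      have h2 := p.conj _ hdM _ hdi _ hci hdc
      rw [inv_mul_cancel, one_mul, inv_inv] at h2
      rw [inv_inv]
      rw [inv_inv] at hv
      exact p.trans _ hci _ hdi _ hv (hcd i) h2
    have hcen : Cen K ((d i)⁻¹ * c i * (d i)⁻¹⁻¹) (c i) := by
      rw [e3]
      exact Cen.mul (fun k hk => (p.w.cent hci.1 hk).symm) hζc
    rcases (p.w.cen_iff hci.1 hv.1).1 hcen with h2 | h2
    · have h3 : c i = (d i)⁻¹ * c i * d i := by rwa [inv_inv] at h2
      calc c i * d i = (d i) * ((d i)⁻¹ * c i * d i) := by group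
        _ = d i * c i := by rw [← h3]
    · exact absurd h2 (hn _ hci _ hv hbl)
  -- the factors
  have h2 : ∀ i, c i * d i ≠ 1 → c i * d i ∈ Z ∩ M ∧ Bl (c i) (c i * d i) := by
    intro i hi
    have hci := hc.1 i
    have hdi := hd.1 i
    have hne : c i ≠ d i := by
      intro h2
      rw [← h2] at hi
      exact hi (p.w.sq _ hci.1)
    have hnp : NP K (c i) (d i) := ⟨hne, h1 i, hn _ hci _ hdi (hcd i)⟩
    have h3 := p.w.mul_mem_of_np hci.1 hdi.1 hnp
    obtain ⟨k, hk, -, -, h4, -⟩ := p.w.flip hci.1 hdi.1 hnp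
    have hkM := p.K_le hci hk
    have h5 := p.conj k hkM _ hci _ hdi (hcd i)
    rw [p.w.cent hci.1 hk, mul_inv_cancel_right, h4] at h5
    exact ⟨⟨h3, M.mul_mem hci.2 hdi.2⟩, h5⟩
  have h3 : ∀ i j, i ≠ j → c i * d i ≠ 1 → c j * d j ≠ 1 → ¬ Bl (c i * d i) (c j * d j) := by
    intro i j hij hi hj h3
    obtain ⟨a1, a2⟩ := h2 i hi
    obtain ⟨b1, b2⟩ := h2 j hj
    exact hc.2 i j hij (p.trans _ (hc.1 i) _ a1 _ (hc.1 j) a2
      (p.trans _ a1 _ b1 _ (hc.1 j) h3 (p.symm _ (hc.1 j) _ b1 b2)))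
  -- the product
  have comm_gf : ((Finset.univ : Finset ι) : Set ι).Pairwise fun i j => Commute (d i) (c j) := by
    intro i _ j _ hij
    refine p.cm _ (hd.1 i) _ (hc.1 j) (fun h4 => ?_) _ (p.w.mem _ (hd.1 i).1) _ (p.w.mem _ (hc.1 j).1)
    exact hc.2 i j hij (p.trans _ (hc.1 i) _ (hd.1 i) _ (hc.1 j) (hcd i) h4)
  have hprod : h * k = Finset.univ.noncommProd (c * d)
      (Finset.noncommProd_mul_distrib_aux (p.fam_comm hc) (p.fam_comm hd) comm_gf) := by
    rw [Finset.noncommProd_mul_distrib c d (p.fam_comm hc) (p.fam_comm hd) comm_gf, hh, hk]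
  -- a Sylow subgroup
  let A : Finset G := (Finset.univ.image (fun i => c i * d i)).filter (· ≠ 1)
  have hA : ∀ a ∈ A, ∃ i, a = c i * d i ∧ c i * d i ≠ 1 := by
    intro a ha
    rw [Finset.mem_filter, Finset.mem_image] at ha
    obtain ⟨⟨i, -, rfl⟩, h4⟩ := ha
    exact ⟨i, rfl, h4⟩
  have hmem : ∀ i, c i * d i ≠ 1 → c i * d i ∈ A := fun i hi =>
    Finset.mem_filter.2 ⟨Finset.mem_image.2 ⟨i, Finset.mem_univ i, rfl⟩, hi⟩
  obtain ⟨S, hS⟩ := (p.w.isPGroup_clique A (by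
    intro a ha
    obtain ⟨i, rfl, hi⟩ := hA a ha
    exact (h2 i hi).1.1) (by
    intro a ha b hb hab
    obtain ⟨i, rfl, hi⟩ := hA a ha
    obtain ⟨j, rfl, hj⟩ := hA b hb
    refine ⟨hab, p.cm _ (h2 i hi).1 _ (h2 j hj).1 (h3 i j ?_ hi hj)⟩
    rintro rfl
    exact hab rfl)).exists_le_sylow
  have hCS : ∀ i, c i * d i ≠ 1 → c i * d i ∈ CS Z K (S : Subgroup G) := fun i hi =>
    ⟨(h2 i hi).1.1, (le_iSup₂ (f := fun z (_ : z ∈ A) => K z) _ (hmem i hi)).trans hS⟩
  -- some factor is not `1`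
  obtain ⟨i, hi⟩ : ∃ i, c i * d i ≠ 1 := by
    by_contra hcon
    push Not at hcon
    apply hne
    rw [hprod]
    have h4 : Finset.univ.noncommProd (c * d)
        (Finset.noncommProd_mul_distrib_aux (p.fam_comm hc) (p.fam_comm hd) comm_gf) ∈ (⊥ : Subgroup G) :=
      Subgroup.noncommProd_mem _ _ fun i _ => mem_bot.2 (hcon i)
    exact mem_bot.1 h4
  have hSM := p.syl S _ (h2 i hi).1 (hCS i hi).2
  refine p.cen S hSM (h * k) ?_ hne
  rw [hprod]
  refine Subgroup.noncommProd_mem _ _ fun i _ => ?_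
  by_cases h4 : c i * d i = 1
  · change c i * d i ∈ _
    rw [h4]
    exact one_mem _
  · exact subset_closure (hCS i h4)

end fam

/-- **Case 2** -/
theorem false_of_none {G0 : Subgroup G} (cls : OneCls Z) (c3 : C3 Z K) (f : FSimp G0) (hZ : ∀ z ∈ Z, z ∈ G0)
    (hB : CloEnd.Bend G0) (h75 : CloEnd.Crit1175 G0)
    (hn : ∀ x ∈ Z ∩ M, ∀ y ∈ Z ∩ M, Bl x y → ¬ CP K x y) : False := by
  classical
  obtain ⟨S, hS⟩ := p.exists_sylow
  obtain ⟨z, hz, u, hu, hne⟩ := p.exists_ne S hS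
  haveI : Fintype (CS Z K (S : Subgroup G)) := Fintype.ofFinite _
  let c : CS Z K (S : Subgroup G) → G := Subtype.val
  have hc : Fam Z M Bl c := by
    refine ⟨fun v => p.CS_sub S hS v.2, fun v v' hvv h1 => ?_⟩
    exact hn _ (p.CS_sub S hS v.2) _ (p.CS_sub S hS v'.2) h1
      (p.w.com v.2.1 v'.2.1 S.isPGroup' v.2.2 v'.2.2 (fun h2 => hvv (Subtype.ext h2)))
  set h := Finset.univ.noncommProd c (p.fam_comm hc) with hh
  have hT : h ∈ TT Z K (S : Subgroup G) := Subgroup.noncommProd_mem _ _ fun v _ => subset_closure v.2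
  have hhh : h * h = 1 := p.w.TT_sq S.isPGroup' hT
  -- `h ≠ 1`
  have h1 : h ≠ 1 := by
    intro h1
    obtain ⟨t, ht, ht'⟩ := p.fam_split hc ⟨z, hz⟩
    rw [← hh, h1] at ht
    have hzM := p.CS_sub S hS hz
    obtain ⟨y, hy, hzy, hne'⟩ := p.ntr z hzM
    have h2 : Cen K z y := by
      have h3 : z = t⁻¹ := eq_inv_of_mul_eq_one_left ht.symm
      rw [h3]
      exact (ht' y hy hzy).inv
    exact hn z hzM y hy hzy (p.w.csymm hy.1 hzM.1 hne'.symm h2).symm
  -- `h` is central in `S`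
  have hcent : ∀ s ∈ (S : Subgroup G), s * h * s⁻¹ = h := by
    intro s hs
    have hinj : Function.Injective (fun v : CS Z K (S : Subgroup G) =>
        (⟨s * v * s⁻¹, (p.data S).conjZ s hs v v.2⟩ : CS Z K (S : Subgroup G))) := by
      intro v v' hvv
      have h2 : s * v * s⁻¹ = s * v' * s⁻¹ := congrArg Subtype.val hvv
      exact Subtype.ext (mul_left_cancel (mul_right_cancel h2))
    let e : CS Z K (S : Subgroup G) ≃ CS Z K (S : Subgroup G) := Equiv.ofBijective _ hinj.bijective_of_finite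
    have h2 := Finset.map_noncommProd Finset.univ c (p.fam_comm hc) (MulAut.conj s)
    change s * h * s⁻¹ = _ at h2
    rw [h2]
    exact noncommProd_comp e c _ (p.fam_comm hc)
  -- conjugates by elements of `M`
  have hconj : ∀ g ∈ M, ∃ d : CS Z K (S : Subgroup G) → G, ∃ hd : Fam Z M Bl d, (∀ v, Bl (c v) (d v)) ∧
      g * h * g⁻¹ = Finset.univ.noncommProd d (p.fam_comm hd) := by
    intro g hg
    have hg' : g⁻¹ ∈ M := M.inv_mem hg
    have hex : ∀ v : CS Z K (S : Subgroup G), ∃ v' : CS Z K (S : Subgroup G), Bl (g⁻¹ * v * g⁻¹⁻¹) v' := by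
      intro v
      obtain ⟨v', h2, h3⟩ := p.exists_mem_CS S hS (p.conj_mem (hc.1 v) hg')
      exact ⟨⟨v', h2⟩, h3⟩
    choose τ hτ using hex
    have hτ' : ∀ v, Bl (c v) (g * c (τ v) * g⁻¹) := by
      intro v
      have h2 := p.conj g hg _ (p.conj_mem (hc.1 v) hg') _ (hc.1 (τ v)) (hτ v)
      have e : g * (g⁻¹ * c v * g⁻¹⁻¹) * g⁻¹ = c v := by group
      rwa [e] at h2
    have hinj : Function.Injective τ := by
      intro v v' hvv
      by_contra hne
      refine hc.2 v v' hne ?_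
      have h2 := hτ' v'
      rw [← hvv] at h2
      exact p.trans _ (hc.1 v) _ (p.conj_mem (hc.1 (τ v)) hg) _ (hc.1 v') (hτ' v)
        (p.symm _ (hc.1 v') _ (p.conj_mem (hc.1 (τ v)) hg) h2)
    let e : CS Z K (S : Subgroup G) ≃ CS Z K (S : Subgroup G) := Equiv.ofBijective τ hinj.bijective_of_finite
    have hd : Fam Z M Bl (fun v => g * c (τ v) * g⁻¹) := by
      refine ⟨fun v => p.conj_mem (hc.1 _) hg, fun v v' hvv h2 => hc.2 v v' hvv ?_⟩
      exact p.trans _ (hc.1 v) _ (p.conj_mem (hc.1 _) hg) _ (hc.1 v') (hτ' v)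
        (p.trans _ (p.conj_mem (hc.1 _) hg) _ (p.conj_mem (hc.1 _) hg) _ (hc.1 v') h2
          (p.symm _ (hc.1 v') _ (p.conj_mem (hc.1 _) hg) (hτ' v')))
    refine ⟨fun v => g * c (τ v) * g⁻¹, hd, hτ', ?_⟩
    have h2 := Finset.map_noncommProd Finset.univ c (p.fam_comm hc) (MulAut.conj g)
    change g * h * g⁻¹ = _ at h2
    rw [h2]
    exact (noncommProd_comp e (fun v => g * c v * g⁻¹) (p.fam_comm hd) _).symm
  -- the criterion
  have hhG : h ∈ G0 := by
    have h2 : TT Z K (S : Subgroup G) ≤ G0 := (closure_le _).2 fun v hv => hZ v hv.1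
    exact h2 hT
  obtain ⟨T, hTS⟩ := exists_sylow_subgroupOf f.nor S
  have hS' : (S : Subgroup G) ≤ M := hS
  obtain ⟨H, hH⟩ := h75 (M.subgroupOf G0) (fun h2 => p.not_le f (subgroupOf_eq_top.1 h2)) ⟨h, hhG⟩
    (by rw [← Subgroup.orderOf_coe]; exact orderOf_eq_prime (by rw [pow_two]; exact hhh) h1)
    (hS (p.w.TT_le hT)) ⟨T, by
      have h2 : (⟨h, hhG⟩ : G0) ∈ (T : Subgroup G0) := by rw [hTS]; exact p.w.TT_le hT
      exact h2, fun s hs => by
      have h2 : s ∈ (T : Subgroup G0) := hs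
      rw [hTS] at h2
      exact Subtype.ext (mul_inv_eq_iff_eq_mul.1 (hcent s h2))⟩
    (fun g hg => p.mem' S hS h hT h1 g hg) (fun g hg hg' => by
      have hcm : h * (g * h * (g : G)⁻¹) = g * h * (g : G)⁻¹ * h := congrArg Subtype.val hg.eq
      have hne' : (g : G) * h * (g : G)⁻¹ ≠ h := fun h2 => hg' (Subtype.ext h2)
      have hgM : (g : G) ∈ M := p.mem' S hS h hT h1 g (p.cen S hS h hT h1 _ hcm.symm)
      obtain ⟨d, hd, hcd, hk⟩ := hconj g hgM
      intro x hx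
      refine p.fam_main hn hc hd hcd hh hk hcm ?_ x ?_
      · intro h2
        apply hne'
        exact mul_left_cancel (h2.trans hhh.symm)
      · exact congrArg Subtype.val (mem_centralizer_singleton_iff.1 hx))
  exact false_of_se p.w cls c3 f hZ S hz hu hne hB hH

/-- **the product situation is impossible** -/
theorem false_of {G0 : Subgroup G} (cls : OneCls Z) (c3 : C3 Z K) (f : FSimp G0) (hZ : ∀ z ∈ Z, z ∈ G0)
    (gold : Cit.ROne.Gold G0) (hB : CloEnd.Bend G0) (h75 : CloEnd.Crit1175 G0) : False := by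
  by_cases hex : ∃ x ∈ Z ∩ M, ∃ y ∈ Z ∩ M, Bl x y ∧ CP K x y
  · obtain ⟨x, hx, y, hy, hxy, hc⟩ := hex
    exact p.false_of_pair cls c3 f hZ gold hB hx hy hxy hc
  · exact p.false_of_none cls c3 f hZ hB h75 fun x hx y hy hxy hc => hex ⟨x, hx, y, hy, hxy, hc⟩

end fin

end PE

end Cfsg.Agent.Cit.Nil.Comp

private theorem dce_c8481b2c464f : _root_.True := by
  try have : _root_.True := by simp only [_root_.Cfsg.Agent.Cit.Nil.Comp.PE.BB.eq_1]
  exact _root_.True.intro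
end

-- part: Cit/Nil/CVT/Red
section
prune_inst 0x5000100000000000800000000000000200400000000000000008000000000000000000100010000000000020104c00000000000000000000000004010000000000000000000000002000000000000000000000000000000000000000200000000
set_option linter.all false
open scoped Cfsg.Agent.FastGrp

-- part: Cit/Nil/CVT/Inherit
section
/-!
# (6b)(CV): inheritance of the world `CVW`

`CVW.sub` (subfamilies), `CVW.restr` (subgroups), `CVW.cls_restr` (one class of a subgroup), `CVW.imgc` (central quotients).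
The proofs are those of `CV1/Inherit.lean` (helper463) without the condition `lin`.
-/

set_option autoImplicit false
set_option linter.style.haveILetI false
set_option linter.unusedSectionVars false

namespace Cfsg.Agent.Cit.Nil.CVT

open Subgroup Cfsg Cit Tau CV CV1

variable {G : Type*} [Group G] {Om : Set (Subgroup G)} {U : Subgroup G → Subgroup G} {H K L M N X : Subgroup G}

/-! ### Subfamilies -/

section sub

variable [Finite G]

theorem CVW.sub (w : CVW Om U) {Om' : Set (Subgroup G)} (hsub : Om' ⊆ Om) (hc : ∀ K ∈ Om', ∀ g, cj g K ∈ Om') :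
    CVW Om' U :=
  { hyp := QuoCen.hyp_subset w.hyp hsub hc
    two := fun K hK => w.two K (hsub hK)
    vch :=
      { le := fun K hK => w.vch.le K (hsub hK)
        cj := fun K hK => w.vch.cj K (hsub hK)
        oo := fun K hK => w.vch.oo K (hsub hK)
        card := fun K hK => w.vch.card K (hsub hK)
        ex := fun K hK => w.vch.ex K (hsub hK) }
    eqc := fun K hK L hL => w.eqc K (hsub hK) L (hsub hL) }

theorem cls_subset (hyp : Hyp Om) (hK : K ∈ Om) : cls K ⊆ Om := by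
  rintro _ ⟨g, rfl⟩
  exact hyp.conj K hK g

theorem cls_cj_mem {K : Subgroup G} : ∀ L ∈ cls K, ∀ g, cj g L ∈ cls K := by
  rintro _ ⟨h, rfl⟩ g
  exact ⟨g * h, by rw [cj_mul]⟩

theorem CVW.cls (w : CVW Om U) (hK : K ∈ Om) : CVW (cls K) U := CVW.sub w (cls_subset w.hyp hK) cls_cj_mem

/-- a member is not abelian -/
theorem CVW.not_comm (w : CVW Om U) (hK : K ∈ Om) : ∃ x ∈ K, ∃ y ∈ K, x * y ≠ y * x := by
  obtain ⟨v, hv, hv4⟩ := w.exists_v hK
  obtain ⟨y, hy, hyX⟩ := w.exists_y hK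
  refine ⟨y, hy, v, w.vch.le K hK hv, fun h => ?_⟩
  have h1 := w.y_inv hK hy hyX hv
  rw [h, mul_inv_cancel_right] at h1
  have h2 : v * v = 1 := by
    nth_rewrite 1 [h1]
    exact inv_mul_cancel v
  rw [w.sq_eq hK hv hv4] at h2
  exact w.hyp.zz_ne hK h2

end sub

/-! ### Subgroups -/

theorem CVW.restr [Finite G] (w : CVW Om U) (H : Subgroup G) : CVW (restr Om H) (uH H U) := by
  have hle : ∀ J ∈ Cit.restr Om H, U (J.map H.subtype) ≤ H := fun J hJ =>
    (w.vch.le _ hJ).trans (map_subtype_le J)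
  have htwo : ∀ J ∈ Cit.restr Om H, IsPGroup 2 J := fun J hJ =>
    (w.two _ hJ).of_equiv (J.equivMapOfInjective _ H.subtype_injective).symm
  refine ⟨w.hyp.restr H, htwo, ⟨?_, ?_, ?_, ?_, ?_⟩, ?_⟩
  · intro J hJ x hx
    obtain ⟨y, hy, hyx⟩ := w.vch.le _ hJ (mem_uH.1 hx)
    have : y = x := Subtype.ext hyx
    rwa [← this]
  · intro J hJ g
    ext x
    rw [mem_uH, cj_map, w.vch.cj _ hJ, mem_cj, mem_cj, mem_uH]
    simp
  · intro J hJ
    rw [OO_eq_bot_of_two (htwo J hJ)]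
    exact bot_le
  · intro J hJ
    rw [OO_eq_bot_of_two (htwo J hJ), card_bot]
    have h1 := w.vch.card _ hJ
    rw [w.oo hJ, card_bot] at h1
    rw [← h1]
    exact Nat.card_congr (subgroupOfEquivOfLe (hle J hJ)).toEquiv
  · intro J hJ
    obtain ⟨v, hv, hv4⟩ := w.exists_v hJ
    exact ⟨⟨v, hle J hJ hv⟩, hv, by rw [Subgroup.orderOf_mk]; exact hv4⟩
  · intro J hJ J' hJ'
    have h1 := w.eqc _ hJ _ hJ'
    rwa [card_map_of_injective H.subtype_injective, card_map_of_injective H.subtype_injective] at h1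

/-- the class of `K` in the subgroup `X` -/
theorem CVW.cls_restr [Finite G] (w : CVW Om U) (hK : K ∈ Om) (hKX : K ≤ X) :
    CVW (Cit.cls (K.subgroupOf X)) (uH X U) :=
  CVW.cls (CVW.restr w X) (subgroupOf_mem_restr hK hKX)

theorem map_cls_subgroupOf (hKX : K ≤ X) {J : Subgroup X} (hJ : J ∈ Cit.cls (K.subgroupOf X)) :
    ∃ g ∈ X, J.map X.subtype = cj g K := by
  obtain ⟨g, rfl⟩ := hJ
  refine ⟨g, g.2, ?_⟩
  rw [cj_map, map_subgroupOf_eq_of_le hKX]
  rfl

theorem cj_mem_cls_subgroupOf (hKX : K ≤ X) {g : G} (hg : g ∈ X) :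
    (cj g K).subgroupOf X ∈ Cit.cls (K.subgroupOf X) := by
  refine ⟨⟨g, hg⟩, ?_⟩
  apply Subgroup.map_injective X.subtype_injective
  rw [cj_map, map_subgroupOf_eq_of_le hKX, map_subgroupOf_eq_of_le]
  · rfl
  · rintro _ ⟨x, hx, rfl⟩
    exact X.mul_mem (X.mul_mem hg (hKX hx)) (X.inv_mem hg)

/-! ### Images -/

section img

variable {G' : Type*} [Group G'] {f : G →* G'}

/-- the world passes to images as soon as `f` is injective on the members and the choice is well defined -/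
theorem CVW.img_aux [Finite G] (w : CVW Om U) (hf : Function.Surjective f) (hyp : Hyp (Cit.img f Om))
    (hinj : ∀ K ∈ Om, K ⊓ f.ker = ⊥)
    (hU : ∀ K ∈ Om, ∀ L ∈ Om, K.map f = L.map f → (U K).map f = (U L).map f) :
    CVW (Cit.img f Om) (imgU f Om U) := by
  haveI : Finite G' := Finite.of_surjective f hf
  have hUinf : ∀ K ∈ Om, U K ⊓ f.ker = ⊥ := fun K hK =>
    le_bot_iff.1 ((inf_le_inf_right _ (w.vch.le K hK)).trans (hinj K hK).le)
  have htwo : ∀ J ∈ Cit.img f Om, IsPGroup 2 J := by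
    rintro _ ⟨K, hK, rfl⟩
    exact (w.two K hK).map f
  refine ⟨hyp, htwo, ⟨?_, ?_, ?_, ?_, ?_⟩, ?_⟩
  · rintro _ ⟨K, hK, rfl⟩
    rw [imgU_map hU hK]
    exact Subgroup.map_mono (w.vch.le K hK)
  · rintro _ ⟨K, hK, rfl⟩ g'
    obtain ⟨g, rfl⟩ := hf g'
    rw [← cj_map, imgU_map hU hK, imgU_map hU (w.hyp.conj K hK g), w.vch.cj K hK, cj_map]
  · intro J hJ
    rw [OO_eq_bot_of_two (htwo J hJ)]
    exact bot_le
  · rintro _ ⟨K, hK, rfl⟩
    rw [OO_eq_bot_of_two (htwo _ ⟨K, hK, rfl⟩), card_bot, imgU_map hU hK]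
    have h1 := w.vch.card _ hK
    rw [w.oo hK, card_bot] at h1
    rw [← h1]
    exact (Nat.card_congr (QuoCen.equivMap (hUinf K hK)).toEquiv).symm
  · rintro _ ⟨K, hK, rfl⟩
    obtain ⟨v, hv, hv4⟩ := w.exists_v hK
    rw [imgU_map hU hK]
    exact ⟨f v, ⟨v, hv, rfl⟩, by rw [QuoCen.orderOf_map (hUinf K hK) hv]; exact hv4⟩
  · rintro _ ⟨K, hK, rfl⟩ _ ⟨L, hL, rfl⟩
    rw [← Nat.card_congr (QuoCen.equivMap (hinj K hK)).toEquiv, ← Nat.card_congr (QuoCen.equivMap (hinj L hL)).toEquiv]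
    exact w.eqc K hK L hL

variable [Finite G]

/-- images with abelian intersection: two members with the same image do not commute -/
theorem CVW.not_comm_map (w : CVW Om U) (hK : K ∈ Om) (hinj : K ⊓ f.ker = ⊥) (hKL : K.map f = L.map f) :
    ¬ ∀ x ∈ K, ∀ y ∈ L, x * y = y * x := by
  intro h
  obtain ⟨x, hx, y, hy, hxy⟩ := CVW.not_comm w hK
  obtain ⟨y', hy', hyy⟩ : f y ∈ L.map f := by rw [← hKL]; exact ⟨y, hy, rfl⟩
  have h2 : f (x * y) = f (y * x) := by
    rw [map_mul, map_mul, ← hyy, ← map_mul, ← map_mul, h x hx y' hy']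
  exact hxy (congrArg Subtype.val (QuoCen.injOn_of_inf hinj
    (a₁ := ⟨x * y, K.mul_mem hx hy⟩) (a₂ := ⟨y * x, K.mul_mem hy hx⟩) h2))

/-- images of orthogonal members are orthogonal when `f` is injective on the members -/
theorem CVW.orth_map (w : CVW Om U) (hK : K ∈ Om) (hinj : K ⊓ f.ker = ⊥) (h : Orth K L) :
    Orth (K.map f) (L.map f) := by
  have h1 : ∀ x ∈ K.map f, ∀ y ∈ L.map f, x * y = y * x := by
    rintro _ ⟨x, hx, rfl⟩ _ ⟨y, hy, rfl⟩
    rw [← map_mul, ← map_mul, h.2 x hx y hy]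
  exact ⟨fun hKL => CVW.not_comm_map w hK hinj hKL h.2, h1⟩

/-- `f` is injective on `Om` -/
theorem CVW.eq_of_map_eq (w : CVW Om U) (hC : f.ker ≤ center G) (hKC : ∀ K ∈ Om, K ⊓ f.ker = ⊥) (hK : K ∈ Om)
    (hL : L ∈ Om) (hKL : K.map f = L.map f) : K = L := by
  by_contra hne
  -- `zz K = [y, v]`
  obtain ⟨v, hv, hv4⟩ := w.exists_v hK
  obtain ⟨y, hy, hyX⟩ := w.exists_y hK
  have hvK := w.vch.le K hK hv
  have h1 := w.y_inv hK hy hyX hv
  obtain ⟨v', hv', hvv⟩ : f v ∈ L.map f := by rw [← hKL]; exact ⟨v, hvK, rfl⟩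
  obtain ⟨y', hy', hyy⟩ : f y ∈ L.map f := by rw [← hKL]; exact ⟨y, hy, rfl⟩
  have hcen : ∀ {a b : G}, f a = f b → ∀ x : G, x * (a⁻¹ * b) = a⁻¹ * b * x := by
    intro a b hab x
    exact mem_center_iff.1 (hC (by rw [MonoidHom.mem_ker, map_mul, map_inv, hab, inv_mul_cancel])) x
  have e1 : y' * v' * y'⁻¹ * v'⁻¹ = y * v * y⁻¹ * v⁻¹ := by
    have c1 := hcen hyy.symm
    have c2 := hcen hvv.symm
    have f1 : y' = y * (y⁻¹ * y') := by group
    have f2 : v' = v * (v⁻¹ * v') := by group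
    set c := y⁻¹ * y' with hc
    set d := v⁻¹ * v' with hd
    rw [f1, f2]
    have g1 : ∀ x : G, Commute c x := fun x => (c1 x).symm
    have g2 : ∀ x : G, Commute d x := fun x => (c2 x).symm
    calc y * c * (v * d) * (y * c)⁻¹ * (v * d)⁻¹ = y * (c * (v * d * c⁻¹)) * y⁻¹ * (d⁻¹ * v⁻¹) := by group
      _ = y * ((v * d * c⁻¹) * c) * y⁻¹ * (d⁻¹ * v⁻¹) := by rw [(g1 _).eq]
      _ = y * v * (d * (y⁻¹ * d⁻¹)) * v⁻¹ := by group
      _ = y * v * ((y⁻¹ * d⁻¹) * d) * v⁻¹ := by rw [(g2 _).eq]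
      _ = y * v * y⁻¹ * v⁻¹ := by group
  have h2 : v * v = zz K := w.sq_eq hK hv hv4
  have e2 : zz K ∈ L := by
    have e3 : (y * v * y⁻¹ * v⁻¹)⁻¹ = zz K := by rw [h1, mul_inv_rev, inv_inv, h2]
    rw [← e3, ← e1]
    exact L.inv_mem (L.mul_mem (L.mul_mem (L.mul_mem hy' hv') (L.inv_mem hy')) (L.inv_mem hv'))
  have e4 : zz K = zz L := w.hyp.uniq L hL _ e2 (w.hyp.orderOf_zz hK)
  exact CVW.not_comm_map w hK (hKC K hK) hKL fun x hx y hy => w.comm_of_zz_eq hK hL e4 hne hx hy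

/-- **central quotients** -/
theorem CVW.imgc (w : CVW Om U) (hf : Function.Surjective f) (hC : f.ker ≤ center G)
    (hKC : ∀ K ∈ Om, K ⊓ f.ker = ⊥) : CVW (Cit.img f Om) (imgU f Om U) := by
  refine CVW.img_aux w hf (QuoCen.hyp_img_central w.hyp hf hC hKC) hKC ?_
  intro K hK L hL hKL
  rw [CVW.eq_of_map_eq w hC hKC hK hL hKL]

omit [Finite G] in
theorem img_cls (hf : Function.Surjective f) (K : Subgroup G) : Cit.img f (Cit.cls K) = Cit.cls (K.map f) := by
  ext J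
  constructor
  · rintro ⟨_, ⟨g, rfl⟩, rfl⟩
    exact ⟨f g, by rw [cj_map]⟩
  · rintro ⟨g', rfl⟩
    obtain ⟨g, rfl⟩ := hf g'
    exact ⟨cj g K, ⟨g, rfl⟩, by rw [cj_map]⟩

end img

/-! ### `zz K ∉ N` and `K ⊓ N = ⊥` -/

section inf

variable [Finite G]

theorem CVW.inf_eq_bot (w : CVW Om U) (hK : K ∈ Om) (hz : zz K ∉ N) : K ⊓ N = ⊥ := by
  rw [eq_bot_iff]
  intro x hx
  rw [mem_bot]
  exact w.hyp.eq_one_of_mem hK (w.two K hK) hz hx.1 hx.2

end inf

end Cfsg.Agent.Cit.Nil.CVT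
end

-- part: Cit/Nil/CV1/TFree
section
/-!
# (6b)(CV), rank one, section 7: the T-free end

`TF Om` : `zz K ∈ S` implies `K ≤ S` (`S` a Sylow 2-subgroup, `K ∈ Om`): no T-pairs.
`WZ Om S` : generated by the `zz K`, `K ≤ S`.
`NoClo Om` : the N_0-closure theorem (section 4).

* `wz_closed` : `TF` and `NoClo` imply that `WZ Om S` is strongly closed;
* `tfree_false` : impossible for `O(G) = 1`, `O_2(G) = 1` (S0215, S1169).

Text: `blueprints/CIT-6b-CV-rank1-helper516.md`.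
-/

set_option autoImplicit false
set_option linter.style.haveILetI false
set_option linter.unusedSectionVars false

namespace Cfsg.Agent.Cit.Nil.CV1.TFree

open Subgroup Cfsg Cit Tau CV Cit.CV1 Cfsg.Agent.Cit.Comp
open Cfsg.Agent.SignalizersComponents.Components

variable {G : Type*} [Group G]

/-- no T-pairs -/
def TF (Om : Set (Subgroup G)) : Prop :=
  ∀ S : Sylow 2 G, ∀ K ∈ Om, zz K ∈ (S : Subgroup G) → K ≤ S

/-- `W(S) = ⟨zz K | K ≤ S⟩` -/
def WZ (Om : Set (Subgroup G)) (S : Subgroup G) : Subgroup G :=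
  closure {z | ∃ K ∈ Om, K ≤ S ∧ zz K = z}

/-- the N_0-closure theorem -/
def NoClo (Om : Set (Subgroup G)) : Prop :=
  ∀ S T : Sylow 2 G, ∀ u ∈ (S : Subgroup G), u ∈ (T : Subgroup G) →
    (∀ K ∈ Om, K ≤ (S : Subgroup G) → cj u K = K) → ∀ K ∈ Om, K ≤ (T : Subgroup G) → cj u K = K

variable [Finite G] {Om : Set (Subgroup G)} {U : Subgroup G → Subgroup G} {E K L S T : Subgroup G}
  {a b e f g s t u v w x y z : G}

/-- members in a common 2-group are equal or commute -/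
theorem eq_or_comm (h : RW Om U) (hK : K ∈ Om) (hL : L ∈ Om) (hS : IsPGroup 2 S) (hKS : K ≤ S) (hLS : L ≤ S) :
    K = L ∨ ∀ x ∈ K, ∀ y ∈ L, x * y = y * x := by
  obtain ⟨v, hv, hv4⟩ := h.exists_v hK
  obtain ⟨w, hw, hw4⟩ := h.exists_v hL
  exact h.lin K hK L hL v hv w hw hv4 hw4 (h.vch.commute h.hyp hS hK hL hv hw hv4 hw4
    (hKS (h.vch.le K hK hv)) (hLS (h.vch.le L hL hw)))

/-- the centre -/
theorem comm_self_zz (h : RW Om U) (hK : K ∈ Om) (hx : x ∈ K) : x * zz K = zz K * x :=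
  h.hyp.comm_zz hK (le_normalizer hx)

/-- `zz L` commutes with `K` -/
theorem comm_zz_of_le (h : RW Om U) (hK : K ∈ Om) (hL : L ∈ Om) (hS : IsPGroup 2 S) (hKS : K ≤ S) (hLS : L ≤ S)
    (hx : x ∈ K) : x * zz L = zz L * x := by
  rcases eq_or_comm h hK hL hS hKS hLS with h1 | h1
  · subst h1
    exact comm_self_zz h hK hx
  · exact h1 x hx _ (h.hyp.zz_mem hL)

/-- two commuting involutions in a Sylow 2-subgroup -/
theorem exists_sylow_two (ha : a * a = 1) (hb : b * b = 1) (hab : a * b = b * a) :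
    ∃ S : Sylow 2 G, a ∈ (S : Subgroup G) ∧ b ∈ (S : Subgroup G) := by
  haveI : Fact (Nat.Prime 2) := ⟨Nat.prime_two⟩
  have h1 : ∀ {a : G}, a * a = 1 → IsPGroup 2 (zpowers a) := by
    rintro a ha ⟨x, hx⟩
    refine ⟨1, Subtype.ext ?_⟩
    obtain ⟨k, rfl⟩ := hx
    change (a ^ k) ^ 2 ^ 1 = 1
    rw [pow_one, ← zpow_natCast, ← zpow_mul, mul_comm, zpow_mul, zpow_natCast, pow_two, ha, one_zpow]
  have h2 : zpowers b ≤ normalizer (zpowers a : Set G) := by
    rw [zpowers_le]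
    have h3 : b ∈ centralizer (zpowers a : Set G) := by
      rw [mem_centralizer_iff]
      rintro _ ⟨k, rfl⟩
      exact ((show Commute a b from hab).zpow_left k).eq
    exact centralizer_le_normalizer _ h3
  obtain ⟨S, hS⟩ := ((h1 ha).to_sup_of_normal_left' (h1 hb) h2).exists_le_sylow
  exact ⟨S, hS (mem_sup_left (mem_zpowers a)), hS (mem_sup_right (mem_zpowers b))⟩

/-- commuting `zz K`, `zz L` -/
theorem exists_sylow_of_comm (h : RW Om U) (htf : TF Om) (hK : K ∈ Om) (hL : L ∈ Om)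
    (hc : zz K * zz L = zz L * zz K) : ∃ S : Sylow 2 G, K ≤ S ∧ L ≤ S := by
  obtain ⟨S, h1, h2⟩ := exists_sylow_two (h.hyp.zz_mul hK) (h.hyp.zz_mul hL) hc
  exact ⟨S, htf S K hK h1, htf S L hL h2⟩

/-! ### `W(S)` is strongly closed -/

theorem WZ_le (h : RW Om U) (S : Subgroup G) : WZ Om S ≤ S := by
  rw [WZ, closure_le]
  rintro _ ⟨K, hK, hKS, rfl⟩
  exact hKS (h.hyp.zz_mem hK)

theorem WZ_mono {S T : Subgroup G} (hh : ∀ K ∈ Om, K ≤ S → K ≤ T) : WZ Om S ≤ WZ Om T := by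
  rw [WZ, WZ]
  apply Subgroup.closure_mono
  rintro _ ⟨K, hK, hKS, rfl⟩
  exact ⟨K, hK, hh K hK hKS, rfl⟩

theorem WZ_cj (h : RW Om U) (g : G) (S : Subgroup G) : WZ Om (cj g S) = cj g (WZ Om S) := by
  have key : ∀ (g : G) (S : Subgroup G), cj g (WZ Om S) ≤ WZ Om (cj g S) := by
    intro g S
    have h1 : WZ Om S ≤ cj g⁻¹ (WZ Om (cj g S)) := by
      rw [WZ, closure_le]
      rintro _ ⟨K, hK, hKS, rfl⟩
      have h2 := conj_mem_cj (g := g⁻¹) (K := WZ Om (cj g S))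
        (subset_closure ⟨cj g K, h.hyp.conj K hK g, cj_mono g hKS, rfl⟩)
      rw [h.hyp.zz_cj hK] at h2
      have h3 : g⁻¹ * (g * zz K * g⁻¹) * g⁻¹⁻¹ = zz K := by group
      rwa [h3] at h2
    have h2 := cj_mono g h1
    rwa [cj_cj_inv] at h2
  refine le_antisymm ?_ (key g S)
  have h1 := cj_mono g (key g⁻¹ (cj g S))
  rwa [cj_cj_inv, cj_inv_cj] at h1

theorem coe_smul_eq (g : G) (S : Sylow 2 G) : ((g • S : Sylow 2 G) : Subgroup G) = cj g S := by
  ext x
  rw [mem_cj, Sylow.coe_subgroup_smul, Subgroup.mem_pointwise_smul_iff_inv_smul_mem]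
  simp [MulAut.smul_def]

theorem card_WZ_eq (h : RW Om U) (S T : Sylow 2 G) :
    Nat.card (WZ Om (S : Subgroup G)) = Nat.card (WZ Om (T : Subgroup G)) := by
  haveI : Fact (Nat.Prime 2) := ⟨Nat.prime_two⟩
  obtain ⟨g, rfl⟩ := MulAction.exists_smul_eq G S T
  rw [coe_smul_eq, WZ_cj h, card_cj]

theorem WZ_eq_of_le (h : RW Om U) (S T : Sylow 2 G) (hh : WZ Om (S : Subgroup G) ≤ WZ Om (T : Subgroup G)) :
    WZ Om (S : Subgroup G) = WZ Om (T : Subgroup G) :=
  Subgroup.eq_of_le_of_card_ge hh (card_WZ_eq h S T).ge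

/-- `W(S)` commutes with the members in `S` -/
theorem WZ_comm (h : RW Om U) (hS : IsPGroup 2 S) (hu : u ∈ WZ Om S) (hK : K ∈ Om) (hKS : K ≤ S) (hx : x ∈ K) :
    x * u = u * x := by
  have h1 : WZ Om S ≤ centralizer {x} := by
    rw [WZ, closure_le]
    rintro _ ⟨L, hL, hLS, rfl⟩
    exact mem_centralizer_singleton_iff.2 (comm_zz_of_le h hK hL hS hKS hLS hx).symm
  exact (mem_centralizer_singleton_iff.1 (h1 hu)).symm

theorem cj_eq_self_of_comm (hc : ∀ x ∈ K, x * u = u * x) : cj u K = K := by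
  rw [← mem_normalizer_iff_cj]
  apply centralizer_le_normalizer
  rw [mem_centralizer_iff]
  exact hc

theorem WZ_mulComm (h : RW Om U) (hS : IsPGroup 2 S) (hu : u ∈ WZ Om S) (hw : w ∈ WZ Om S) : u * w = w * u := by
  have h1 : WZ Om S ≤ centralizer {u} := by
    rw [WZ, closure_le]
    rintro _ ⟨L, hL, hLS, rfl⟩
    exact mem_centralizer_singleton_iff.2 (WZ_comm h hS hu hL hLS (h.hyp.zz_mem hL))
  exact (mem_centralizer_singleton_iff.1 (h1 hw)).symm

/-- **`W(S)` is strongly closed** -/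
theorem wz_closed (h : RW Om U) (htf : TF Om) (hN : NoClo Om) (S : Sylow 2 G) :
    IsStronglyClosed (WZ Om (S : Subgroup G)) (S : Subgroup G) := by
  haveI : Fact (Nat.Prime 2) := ⟨Nat.prime_two⟩
  refine ⟨WZ_le h _, ?_⟩
  intro w hw g hg
  obtain ⟨u, hu⟩ : ∃ u, u = g * w * g⁻¹ := ⟨_, rfl⟩
  rw [← hu] at hg ⊢
  -- `u ∈ W(S1)`
  have hu1 : u ∈ WZ Om ((g • S : Sylow 2 G) : Subgroup G) := by
    rw [coe_smul_eq, WZ_cj h, hu]
    exact conj_mem_cj hw
  set S1 : Sylow 2 G := g • S with hS1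
  have hn1 : ∀ K ∈ Om, K ≤ (S1 : Subgroup G) → cj u K = K := fun K hK hKS =>
    cj_eq_self_of_comm fun x hx => WZ_comm h S1.isPGroup' hu1 hK hKS hx
  have hn : ∀ K ∈ Om, K ≤ (S : Subgroup G) → cj u K = K := hN S1 S u (WZ_le h _ hu1) hg hn1
  -- `W(S) ≤ C(u)`
  have hc : WZ Om (S : Subgroup G) ≤ centralizer {u} := by
    rw [WZ, closure_le]
    rintro _ ⟨L, hL, hLS, rfl⟩
    refine mem_centralizer_singleton_iff.2 ?_
    have h1 := h.hyp.comm_zz hL (mem_normalizer_iff_cj.2 (hn L hL hLS))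
    exact h1.symm
  have hc1 : WZ Om (S1 : Subgroup G) ≤ centralizer {u} := by
    intro x hx
    exact mem_centralizer_singleton_iff.2 (WZ_mulComm h S1.isPGroup' hx hu1)
  have h2W : ∀ S : Sylow 2 G, IsPGroup 2 (WZ Om (S : Subgroup G)) := fun S => S.isPGroup'.to_le (WZ_le h _)
  -- a Sylow 2-subgroup of `C(u)` containing `W(S)`
  obtain ⟨R, hR, hWR⟩ := LB.exists_syl_ge (h2W S) hc
  obtain ⟨R1, hR1, hWR1⟩ := LB.exists_syl_ge (h2W S1) hc1
  obtain ⟨c, hcu, hcR1⟩ := hR1.exists_conj hR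
  have hcR : cj c (WZ Om (S1 : Subgroup G)) ≤ R := by
    rw [← hcR1]
    exact cj_mono c hWR1
  obtain ⟨S2, hS2, -⟩ := hR.exists_sylow_ge
  have e1 : WZ Om (S : Subgroup G) = WZ Om (S2 : Subgroup G) := by
    apply WZ_eq_of_le h
    apply WZ_mono
    intro K hK hKS
    exact htf S2 K hK (hS2 (hWR (subset_closure ⟨K, hK, hKS, rfl⟩)))
  have e2 : WZ Om ((c • S1 : Sylow 2 G) : Subgroup G) = WZ Om (S2 : Subgroup G) := by
    apply WZ_eq_of_le h
    apply WZ_mono
    intro K hK hKS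
    refine htf S2 K hK (hS2 (hcR ?_))
    rw [coe_smul_eq] at hKS
    have h3 : zz K ∈ WZ Om (cj c (S1 : Subgroup G)) := subset_closure ⟨K, hK, hKS, rfl⟩
    rwa [WZ_cj h] at h3
  rw [e1, ← e2, coe_smul_eq, WZ_cj h, mem_cj]
  have h3 : c⁻¹ * u * c = u := by
    rw [mul_assoc, ← mem_centralizer_singleton_iff.1 hcu, inv_mul_cancel_left]
  rw [h3]
  exact hu1

/-! ### The component -/

section comp

variable (hO : pPrimeCore 2 G = ⊥) (hO2 : pCore 2 G = ⊥) (hev : EvQ G)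

include hO hO2

/-- some component is not centralised by `zz K` -/
theorem exists_comp (h : RW Om U) (hK : K ∈ Om) : ∃ E : Subgroup G, IsComponent E ∧ ¬ E ≤ centralizer {zz K} := by
  by_contra hcon
  push Not at hcon
  apply h.hyp.zz_ne hK
  have h1 : zz K ∈ pCore 2 G := by
    refine OneComp.centralizer_genFit_le hO (OneComp.mem_centralizer_genFit hO (fun L hL => ?_) ?_)
    · have h2 := hcon L hL
      rw [mem_centralizer_iff]
      exact fun l hl => mem_centralizer_singleton_iff.1 (h2 hl)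
    · rw [hO2, mem_centralizer_iff]
      intro l hl
      rw [SetLike.mem_coe, mem_bot] at hl
      rw [hl, one_mul, mul_one]
  rwa [hO2, mem_bot] at h1

theorem eq_one_of_center (hE : IsComponent E) (hx : x ∈ E) (hc : ∀ y ∈ E, y * x = x * y) : x = 1 := by
  have h1 := CoreTools.mem_pCore_of_mem_center hO hE hx (mem_centralizer_iff.2 hc)
  rwa [hO2, mem_bot] at h1

/-- components are simple -/
theorem simple (hE : IsComponent E) : IsSimpleGroup E := by
  haveI := quasisimple_nontrivial hE.2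
  refine ⟨fun N hN => ?_⟩
  rcases quasisimple_normal hE.2 N hN with h1 | h1
  · exact Or.inr h1
  · left
    rw [eq_bot_iff]
    intro x hx
    have h2 := mem_center_iff.1 (h1 hx)
    exact mem_bot.2 (Subtype.ext (eq_one_of_center hO hO2 hE x.2 fun y hy => congrArg Subtype.val (h2 ⟨y, hy⟩)))

include hev

theorem OO_comp (hE : IsComponent E) : OO E = ⊥ := by
  haveI := simple hO hO2 hE
  haveI : Fact (Nat.Prime 2) := ⟨Nat.prime_two⟩
  have h0 : (oddCore E).Normal := Lib.Cores.pPrimeCore_normal 2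
  rcases h0.eq_bot_or_eq_top with h1 | h1
  · rw [OO, h1, Subgroup.map_bot]
  · exfalso
    apply odd_OO E
    have h2 : OO E = E := by
      rw [OO, h1, ← MonoidHom.range_eq_map, range_subtype]
    rw [h2]
    exact hev E hE.2

/-- Glauberman's theorem -/
theorem exists_conj (h : RW Om U) (hK : K ∈ Om) (hE : IsComponent E) (hEz : ¬ E ≤ centralizer {zz K}) :
    ∃ f ∈ E, zz K * (f * zz K * f⁻¹) = f * zz K * f⁻¹ * zz K ∧ f * zz K * f⁻¹ ≠ zz K := by
  haveI : Fact (Nat.Prime 2) := ⟨Nat.prime_two⟩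
  by_contra hcon
  push Not at hcon
  apply hEz
  have hzE : zz K ∈ normalizer (E : Set G) := mem_normalizer_iff_cj.2 (cj_zz_component h.hyp hev hK hE)
  obtain ⟨z, hz⟩ : ∃ z, z = zz K := ⟨_, rfl⟩
  have hz2 : z * z = 1 := by rw [hz]; exact h.hyp.zz_mul hK
  have hz1 : z ≠ 1 := by rw [hz]; exact h.hyp.zz_ne hK
  rw [← hz] at hcon hzE ⊢
  obtain ⟨M, hM⟩ : ∃ M, M = E ⊔ zpowers z := ⟨_, rfl⟩
  have hzM : z ∈ M := by rw [hM]; exact mem_sup_right (mem_zpowers _)
  have hEM : E ≤ M := by rw [hM]; exact le_sup_left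
  have hMn : M ≤ normalizer (E : Set G) := by rw [hM]; exact sup_le le_normalizer (zpowers_le.2 hzE)
  have key : ∀ m ∈ M, ∃ e ∈ E, m * z * m⁻¹ = e * z * e⁻¹ := by
    intro m hm
    rw [hM] at hm
    obtain ⟨e, he, q, hq, rfl⟩ := LB.exists_mul_of_mem_sup (zpowers_le.2 hzE) hm
    refine ⟨e, he, ?_⟩
    obtain ⟨k, rfl⟩ := hq
    have h1 : z ^ k * z = z * z ^ k := ((Commute.refl z).zpow_left k).eq
    calc e * z ^ k * z * (e * z ^ k)⁻¹ = e * (z ^ k * z) * (z ^ k)⁻¹ * e⁻¹ := by group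
      _ = e * z * e⁻¹ := by rw [h1]; group
  obtain ⟨N, hN, hNodd, hNz⟩ := GH.QA.zstar (G := M) (u := ⟨z, hzM⟩) (Subtype.ext hz2)
    (fun h1 => hz1 (congrArg Subtype.val h1)) (by
      rintro ⟨m, hm⟩ h1
      have h2 : z * (m * z * m⁻¹) = m * z * m⁻¹ * z := congrArg Subtype.val h1
      obtain ⟨e, he, h3⟩ := key m hm
      apply Subtype.ext
      change m * z * m⁻¹ = z
      rw [h3] at h2 ⊢
      exact hcon e he h2)
  intro m hm
  rw [mem_centralizer_singleton_iff]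
  have h3 : z * m * z⁻¹ * m⁻¹ ∈ N.map M.subtype ⊓ E := by
    refine ⟨⟨_, hNz ⟨m, hEM hm⟩, rfl⟩, ?_⟩
    exact E.mul_mem ((mem_normalizer_iff.1 hzE _).1 hm) (E.inv_mem hm)
  have h4 : N.map M.subtype ⊓ E ≤ OO E := by
    refine le_OO inf_le_right ?_ ?_
    · intro y hy
      rw [mem_normalizer_iff_cj, cj_inf, mem_normalizer_iff_cj.1 (le_normalizer hy)]
      congr 1
      rw [← mem_normalizer_iff_cj]
      have h5 := (normal_subgroupOf_iff_le_normalizer (map_subtype_le N : N.map M.subtype ≤ _)).1 (by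
        rw [subgroupOf, comap_map_eq_self_of_injective M.subtype_injective]
        exact hN)
      exact h5 (hEM hy)
    · intro h5
      have h6 : Nat.card (N.map M.subtype) = Nat.card N :=
        card_map_of_injective M.subtype_injective
      have h7 := h5.trans (card_dvd_of_le (inf_le_left : N.map M.subtype ⊓ E ≤ _))
      rw [h6] at h7
      rw [← Nat.not_even_iff_odd, even_iff_two_dvd] at hNodd
      exact hNodd h7
  have h5 := h4 h3
  rw [OO_comp hO hO2 hev hE, Subgroup.mem_bot, mul_inv_eq_one, mul_inv_eq_iff_eq_mul] at h5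
  exact h5.symm

/-- `K` normalises `E` -/
theorem norm_comp (h : RW Om U) (htf : TF Om) (hK : K ∈ Om) (hE : IsComponent E) (hEz : ¬ E ≤ centralizer {zz K}) :
    K ≤ normalizer (E : Set G) := by
  obtain ⟨f, hf, hc, hne⟩ := exists_conj hO hO2 hev h hK hE hEz
  have hzE : zz K ∈ normalizer (E : Set G) := mem_normalizer_iff_cj.2 (cj_zz_component h.hyp hev hK hE)
  have hzf : zz (cj f K) = f * zz K * f⁻¹ := h.hyp.zz_cj hK f
  obtain ⟨S, hKS, hKfS⟩ := exists_sylow_of_comm h htf hK (h.hyp.conj K hK f) (by rw [hzf]; exact hc)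
  obtain ⟨e, he⟩ : ∃ e, e = zz K * (f * zz K * f⁻¹) := ⟨_, rfl⟩
  have heE : e ∈ E := by
    have h1 : e = zz K * f * (zz K)⁻¹ * f⁻¹ := by rw [he, h.hyp.zz_inv hK]; group
    rw [h1]
    exact E.mul_mem ((mem_normalizer_iff.1 hzE f).1 hf) (E.inv_mem hf)
  have he1 : e ≠ 1 := by
    intro h1
    apply hne
    rw [he, mul_eq_one_iff_inv_eq, h.hyp.zz_inv hK] at h1
    exact h1.symm
  intro k hk
  have hke : k * e = e * k := by
    have h1 := comm_self_zz h hK hk
    have h2 := comm_zz_of_le h hK (h.hyp.conj K hK f) S.isPGroup' hKS hKfS hk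
    rw [hzf] at h2
    calc k * e = k * zz K * (f * zz K * f⁻¹) := by rw [he]; group
      _ = zz K * (k * (f * zz K * f⁻¹)) := by rw [h1]; group
      _ = e * k := by rw [h2, he]; group
  rw [mem_normalizer_iff_cj]
  by_contra hkE
  apply he1
  apply eq_one_of_center hO hO2 hE heE
  intro y hy
  have h1 : e ∈ cj k E := by
    have h2 := conj_mem_cj (g := k) heE
    rwa [hke, mul_inv_cancel_right] at h2
  exact comm_of_ne hE (isComponent_cj hE k) (Ne.symm hkE) hy h1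

/-- `zz K ∈ E` -/
theorem zz_mem_comp (h : RW Om U) (htf : TF Om) (hK : K ∈ Om) (hE : IsComponent E) (hEz : ¬ E ≤ centralizer {zz K}) :
    zz K ∈ E := by
  by_contra hz
  exact hEz (h.hyp.lemma_two (fun L hL => h.two L hL) hK (norm_comp hO hO2 hev h htf hK hE hEz)
    (OO_comp hO hO2 hev hE) hz)

end comp

/-! ### The two ends -/

/-- `E ∩ S` is not abelian -/
theorem not_abelian (h : RW Om U) (hK : K ∈ Om) (hKE : K ≤ normalizer (E : Set G)) (hf : f ∈ E)
    (hne : f * zz K * f⁻¹ ≠ zz K) (hS : IsPGroup 2 S) (hKS : K ≤ S) (hKfS : cj f K ≤ S) :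
    ∃ a ∈ S ⊓ E, ∃ b ∈ S ⊓ E, a * b ≠ b * a := by
  obtain ⟨v, hv, hv4⟩ := h.exists_v hK
  obtain ⟨y, hy, hyX⟩ := h.exists_y hK
  have hyv := h.y_inv hK hy hyX hv
  have hvv := h.sq_eq hK hv hv4
  have hvK := h.vch.le K hK hv
  have hcom : ∀ a ∈ K, ∀ b ∈ cj f K, a * b = b * a := by
    refine (eq_or_comm h hK (h.hyp.conj K hK f) hS hKS hKfS).resolve_left fun h1 => hne ?_
    rw [← h.hyp.zz_cj hK, ← h1]
  have hmem : ∀ v ∈ K, v⁻¹ * (f * v * f⁻¹) ∈ S ⊓ E := by
    intro v hv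
    refine mem_inf.2 ⟨S.mul_mem (S.inv_mem (hKS hv)) (hKfS (conj_mem_cj hv)), ?_⟩
    have h1 : v⁻¹ * (f * v * f⁻¹) = v⁻¹ * f * v⁻¹⁻¹ * f⁻¹ := by group
    rw [h1]
    exact E.mul_mem ((mem_normalizer_iff.1 (hKE (K.inv_mem hv)) f).1 hf) (E.inv_mem hf)
  refine ⟨_, hmem v hvK, _, hmem y hy, fun he => hne ?_⟩
  obtain ⟨v', hv'⟩ : ∃ v', v' = f * v * f⁻¹ := ⟨_, rfl⟩
  obtain ⟨y', hy'⟩ : ∃ y', y' = f * y * f⁻¹ := ⟨_, rfl⟩
  have hvk' : v' ∈ cj f K := by rw [hv']; exact conj_mem_cj hvK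
  have hyk' : y' ∈ cj f K := by rw [hy']; exact conj_mem_cj hy
  rw [← hv', ← hy'] at he
  have c1 := hcom y⁻¹ (K.inv_mem hy) v' hvk'
  have c2 := hcom v⁻¹ (K.inv_mem hvK) y' hyk'
  have e1 : v⁻¹ * v' * (y⁻¹ * y') = v⁻¹ * y⁻¹ * (v' * y') := by
    calc v⁻¹ * v' * (y⁻¹ * y') = v⁻¹ * (v' * y⁻¹) * y' := by group
      _ = _ := by rw [← c1]; group
  have e2 : y⁻¹ * y' * (v⁻¹ * v') = y⁻¹ * v⁻¹ * (y' * v') := by
    calc y⁻¹ * y' * (v⁻¹ * v') = y⁻¹ * (y' * v⁻¹) * v' := by group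
      _ = _ := by rw [← c2]; group
  rw [e1, e2] at he
  -- `v y v⁻¹ y⁻¹ = y' v' y'⁻¹ v'⁻¹`
  have e3 : v * y * v⁻¹ * y⁻¹ = y' * v' * y'⁻¹ * v'⁻¹ := by
    calc v * y * v⁻¹ * y⁻¹ = (v * y) * (v⁻¹ * y⁻¹ * (v' * y')) * (v' * y')⁻¹ := by group
      _ = (v * y) * (y⁻¹ * v⁻¹ * (y' * v')) * (v' * y')⁻¹ := by rw [he]
      _ = _ := by group
  have e4 : v * y * v⁻¹ * y⁻¹ = zz K := by
    calc v * y * v⁻¹ * y⁻¹ = v * (y * v * y⁻¹)⁻¹ := by group
      _ = zz K := by rw [hyv, inv_inv, hvv]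
  have e5 : y' * v' * y'⁻¹ * v'⁻¹ = f * zz K * f⁻¹ := by
    calc y' * v' * y'⁻¹ * v'⁻¹ = f * ((y * v * y⁻¹) * v⁻¹) * f⁻¹ := by rw [hv', hy']; group
      _ = f * (v * v)⁻¹ * f⁻¹ := by rw [hyv]; group
      _ = _ := by rw [hvv, h.hyp.zz_inv hK]
  rw [← e5, ← e3, e4]

/-- the involutions of `E` are not all conjugate -/
theorem not_conj (h : RW Om U) (htf : TF Om) (hK : K ∈ Om) (hKE : K ≤ normalizer (E : Set G)) (hzE : zz K ∈ E)
    (hf : f ∈ E) (hne : f * zz K * f⁻¹ ≠ zz K) (S : Sylow 2 G) (hKS : K ≤ S) (hKfS : cj f K ≤ S)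
    (hall : ∀ x ∈ E, x * x = 1 → x ≠ 1 → ∃ g ∈ E, g * zz K * g⁻¹ = x) : False := by
  obtain ⟨v, hv, hv4⟩ := h.exists_v hK
  obtain ⟨y, hy, hyX⟩ := h.exists_y hK
  obtain ⟨hyy, -, -⟩ := h.y_facts hK hy hyX
  have hyv := h.y_inv hK hy hyX hv
  have hvv := h.sq_eq hK hv hv4
  have hvK := h.vch.le K hK hv
  have hS := S.isPGroup'
  have hKf : cj f K ∈ Om := h.hyp.conj K hK f
  have hzf : zz (cj f K) = f * zz K * f⁻¹ := h.hyp.zz_cj hK f
  obtain ⟨z, hz⟩ : ∃ z, z = zz K := ⟨_, rfl⟩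
  obtain ⟨u, hu⟩ : ∃ u, u = f * z * f⁻¹ := ⟨_, rfl⟩
  have hzz : z * z = 1 := by rw [hz]; exact h.hyp.zz_mul hK
  have hz1 : z ≠ 1 := by rw [hz]; exact h.hyp.zz_ne hK
  have huu : u * u = 1 := by
    have h1 : u * u = f * (z * z) * f⁻¹ := by rw [hu]; group
    rw [h1, hzz]; group
  have hu1 : u ≠ 1 := by
    intro h1
    apply hz1
    rw [hu, mul_inv_eq_one] at h1
    exact mul_eq_left.mp h1
  rw [← hz, ← hu] at hzf
  rw [← hz] at hzE hall hyy hvv hne
  rw [← hu] at hne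
  have hcom : ∀ a ∈ K, ∀ b ∈ cj f K, a * b = b * a := by
    refine (eq_or_comm h hK hKf hS hKS hKfS).resolve_left fun h1 => hne ?_
    rw [← hzf, ← h1, hz]
  have hzu : z * u = u * z := by
    refine hcom z (by rw [hz]; exact h.hyp.zz_mem hK) u ?_
    rw [← hzf]
    exact h.hyp.zz_mem hKf
  have huE : u ∈ E := by rw [hu]; exact E.mul_mem (E.mul_mem hf hzE) (E.inv_mem hf)
  -- the third involution
  obtain ⟨g, hg, hgz⟩ := hall (z * u) (E.mul_mem hzE huE)
    (by
      calc z * u * (z * u) = z * (u * z) * u := by group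
        _ = (z * z) * (u * u) := by rw [← hzu]; group
        _ = 1 := by rw [hzz, huu, one_mul])
    (by
      intro h1
      apply hne
      rw [mul_eq_one_iff_inv_eq] at h1
      rw [← h1, inv_eq_iff_mul_eq_one.2 hzz])
  have hKg : cj g K ∈ Om := h.hyp.conj K hK g
  have hzg : zz (cj g K) = z * u := by rw [h.hyp.zz_cj hK g, ← hz, hgz]
  have hKgS : cj g K ≤ S := by
    refine htf S _ hKg ?_
    rw [hzg]
    refine (S : Subgroup G).mul_mem (hKS (by rw [hz]; exact h.hyp.zz_mem hK)) (hKfS ?_)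
    rw [← hzf]
    exact h.hyp.zz_mem hKf
  have hcomg : ∀ a ∈ K, ∀ b ∈ cj g K, a * b = b * a := by
    refine (eq_or_comm h hK hKg hS hKS hKgS).resolve_left fun h1 => hu1 ?_
    rw [← h1, ← hz] at hzg
    exact mul_eq_left.mp hzg.symm
  have hcomfg : ∀ a ∈ cj f K, ∀ b ∈ cj g K, a * b = b * a := by
    refine (eq_or_comm h hKf hKg hS hKfS hKgS).resolve_left fun h1 => hz1 ?_
    rw [← h1, hzf] at hzg
    exact mul_eq_right.mp hzg.symm
  have hvy : (v * y) * (v * y) = z := by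
    calc (v * y) * (v * y) = v * (y * v * y⁻¹) * (y * y) := by group
      _ = z := by rw [hyv, hyy]; group
  obtain ⟨k, hk⟩ : ∃ k, k = (v * y)⁻¹ := ⟨_, rfl⟩
  have hkK : k ∈ K := by rw [hk]; exact K.inv_mem (K.mul_mem hvK hy)
  have hkk : k * k = z := by rw [hk, ← mul_inv_rev, hvy, inv_eq_iff_mul_eq_one.2 hzz]
  obtain ⟨b, hb⟩ : ∃ b, b = f * y * f⁻¹ := ⟨_, rfl⟩
  obtain ⟨c, hc⟩ : ∃ c, c = g * k * g⁻¹ := ⟨_, rfl⟩
  have hbK : b ∈ cj f K := by rw [hb]; exact conj_mem_cj hy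
  have hcK : c ∈ cj g K := by rw [hc]; exact conj_mem_cj hkK
  have hbb : b * b = u := by
    have h1 : b * b = f * (y * y) * f⁻¹ := by rw [hb]; group
    rw [h1, hyy, hu]
  have hcc : c * c = z * u := by
    have h1 : c * c = g * (k * k) * g⁻¹ := by rw [hc]; group
    rw [h1, hkk, hgz]
  have hvb := hcom v hvK b hbK
  have hvc := hcomg v hvK c hcK
  have hbc := hcomfg b hbK c hcK
  have hxE : v * b * c ∈ E := by
    have hvyk : (v * y) * k = 1 := by rw [hk, mul_inv_cancel]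
    have h1 : v * b * c = (v * (f * (y * f⁻¹ * y⁻¹)) * v⁻¹) * ((v * y) * (g * (k * g⁻¹ * k⁻¹)) * (v * y)⁻¹) *
        ((v * y) * k) := by rw [hb, hc]; group
    rw [h1, hvyk, mul_one]
    have hn : ∀ k ∈ K, ∀ e ∈ E, k * e * k⁻¹ ∈ E := fun k hk e he => (mem_normalizer_iff.1 (hKE hk) e).1 he
    exact E.mul_mem (hn v hvK _ (E.mul_mem hf (hn y hy _ (E.inv_mem hf))))
      (hn _ (K.mul_mem hvK hy) _ (E.mul_mem hg (hn k hkK _ (E.inv_mem hg))))
  have hxx : v * b * c * (v * b * c) = 1 := by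
    calc v * b * c * (v * b * c) = v * b * (c * v) * b * c := by group
      _ = v * (b * v) * (c * b) * c := by rw [← hvc]; group
      _ = (v * v) * (b * b) * (c * c) := by rw [← hvb, ← hbc]; group
      _ = z * u * (z * u) := by rw [hvv, hbb, hcc]
      _ = z * (u * z) * u := by group
      _ = (z * z) * (u * u) := by rw [← hzu]; group
      _ = 1 := by rw [hzz, huu, one_mul]
  have hact : ∀ k ∈ K, (v * b * c) * k * (v * b * c)⁻¹ = v * k * v⁻¹ := by
    intro k hk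
    have h1 : c * k = k * c := (hcomg k hk c hcK).symm
    have h2 : b * k = k * b := (hcom k hk b hbK).symm
    calc (v * b * c) * k * (v * b * c)⁻¹ = v * b * (c * k) * c⁻¹ * b⁻¹ * v⁻¹ := by group
      _ = v * (b * k) * b⁻¹ * v⁻¹ := by rw [h1]; group
      _ = _ := by rw [h2]; group
  have hnc : ¬ y * (v * b * c) = (v * b * c) * y := by
    intro h1
    have h2 := hact y hy
    rw [← h1, mul_inv_cancel_right] at h2
    have h3 : y * v = v * y := eq_mul_inv_iff_mul_eq.1 h2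
    rw [h3, mul_inv_cancel_right] at hyv
    have h4 : v * v = 1 := mul_eq_one_iff_eq_inv.2 hyv
    rw [hvv] at h4
    exact hz1 h4
  have hx1 : v * b * c ≠ 1 := by
    intro h1
    rw [h1] at hnc
    exact hnc (by rw [mul_one, one_mul])
  obtain ⟨r, hr, hrx⟩ := hall _ hxE hxx hx1
  have hKr : cj r K ∈ Om := h.hyp.conj K hK r
  have hzr : zz (cj r K) = v * b * c := by rw [h.hyp.zz_cj hK r, ← hz, hrx]
  have hKrS : cj r K ≤ S := by
    refine htf S _ hKr ?_
    rw [hzr]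
    exact (S : Subgroup G).mul_mem ((S : Subgroup G).mul_mem (hKS hvK) (hKfS hbK)) (hKgS hcK)
  have h1 := comm_zz_of_le h hK hKr hS hKS hKrS hy
  rw [hzr] at h1
  exact hnc h1

/-- **the T-free end** -/
theorem tfree_false (h : RW Om U) (hO : pPrimeCore 2 G = ⊥) (hO2 : pCore 2 G = ⊥) (hev : EvQ G)
    (hgold : ∀ E : Subgroup G, IsSimpleGroup E → Cit.ROne.Gold E) (htf : TF Om) (hN : NoClo Om) (hK : K ∈ Om) :
    False := by
  haveI : Fact (Nat.Prime 2) := ⟨Nat.prime_two⟩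
  obtain ⟨E, hE, hEz⟩ := exists_comp hO hO2 h hK
  have hKE := norm_comp hO hO2 hev h htf hK hE hEz
  have hzE := zz_mem_comp hO hO2 hev h htf hK hE hEz
  obtain ⟨f, hf, hc, hne⟩ := exists_conj hO hO2 hev h hK hE hEz
  have hzf : zz (cj f K) = f * zz K * f⁻¹ := h.hyp.zz_cj hK f
  obtain ⟨S, hKS, hKfS⟩ := exists_sylow_of_comm h htf hK (h.hyp.conj K hK f) (by rw [hzf]; exact hc)
  have hS := S.isPGroup'
  -- the Sylow 2-subgroup of `E`
  have h1 : Syl (S : Subgroup G) (⊤ : Subgroup G) := by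
    refine ⟨le_top, hS, ?_⟩
    rw [relIndex_top_right]
    exact S.not_dvd_index
  have h2 : Syl ((S : Subgroup G) ⊓ layer G) (layer G) := by
    refine LB.syl_inf_normal h1 le_top ?_
    haveI := layer_normal (G := G)
    rw [normalizer_eq_top]
  have h3 : Syl ((S : Subgroup G) ⊓ layer G ⊓ E) E :=
    LB.syl_inf_normal h2 (component_le_layer hE) (layer_le_normalizer_component hE)
  rw [inf_assoc, inf_eq_right.2 (component_le_layer hE)] at h3
  obtain ⟨T, hT⟩ := h3.exists_sylow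
  have hTm : ∀ x : E, x ∈ (T : Subgroup E) ↔ (x : G) ∈ (S : Subgroup G) := by
    intro x
    rw [hT, mem_subgroupOf, mem_inf]
    exact ⟨fun h => h.1, fun h => ⟨h, x.2⟩⟩
  have hsc := wz_closed h htf hN S
  have hA : (WZ Om (S : Subgroup G)).subgroupOf E ≠ ⊥ := by
    intro h4
    apply h.hyp.zz_ne hK
    have h5 : (⟨zz K, hzE⟩ : E) ∈ (WZ Om (S : Subgroup G)).subgroupOf E :=
      show zz K ∈ WZ Om (S : Subgroup G) from subset_closure ⟨K, hK, hKS, rfl⟩
    rw [h4, mem_bot] at h5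
    exact congrArg Subtype.val h5
  have hcA : IsMulCommutative ((WZ Om (S : Subgroup G)).subgroupOf E) :=
    ⟨⟨fun a b => Subtype.ext (Subtype.ext (WZ_mulComm h hS a.2 b.2))⟩⟩
  have hscA : IsStronglyClosed ((WZ Om (S : Subgroup G)).subgroupOf E) (T : Subgroup E) := by
    refine ⟨fun x hx => (hTm x).2 (hsc.1 hx), fun x hx g hg => ?_⟩
    exact hsc.2 x hx g ((hTm _).1 hg)
  haveI hsim := simple hO hO2 hE
  rcases hgold E hsim T _ hA hcA hscA with h4 | ⟨H, hH⟩
  · obtain ⟨a, ha, b, hb, hab⟩ := not_abelian h hK hKE hf hne hS hKS hKfS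
    apply hab
    have ha' : (⟨a, (mem_inf.1 ha).2⟩ : E) ∈ (T : Subgroup E) := (hTm _).2 (mem_inf.1 ha).1
    have hb' : (⟨b, (mem_inf.1 hb).2⟩ : E) ∈ (T : Subgroup E) := (hTm _).2 (mem_inf.1 hb).1
    have h5 := congrArg Subtype.val (h4.is_comm.comm ⟨_, ha'⟩ ⟨_, hb'⟩)
    exact congrArg Subtype.val h5
  · refine not_conj h htf hK hKE hzE hf hne S hKS hKfS fun x hx hxx hx1 => ?_
    have h5 := Cfsg.Agent.TwoFusion.StronglyEmbeddedBasic.isConj_of_involutions hH (⟨zz K, hzE⟩ : E) ⟨x, hx⟩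
      (by rw [← Subgroup.orderOf_coe]; exact h.hyp.orderOf_zz hK)
      (by rw [← Subgroup.orderOf_coe]; exact orderOf_eq_prime (by rw [pow_two]; exact hxx) hx1)
    obtain ⟨g, hg⟩ := isConj_iff.1 h5
    exact ⟨g, g.2, congrArg Subtype.val hg⟩

end Cfsg.Agent.Cit.Nil.CV1.TFree
end

-- part: Cit/Nil/CVT/Comp
section
/-!
# (6b)(CV), the frame: the members normalise the components

`O(G) = O_2(G) = 1`.

* `exists_comp` : some component is not centralised by `zz K`;
* `exists_conj` : Glauberman's theorem in `E⟨zz K⟩`;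
* `norm_comp` : `K` normalises every component;
* `exists_fsimp` : if `K` is not contained in a proper normal subgroup, then `G` has a simple normal subgroup with trivial
  centraliser.
-/

set_option autoImplicit false
set_option linter.style.haveILetI false
set_option linter.unusedSectionVars false

namespace Cfsg.Agent.Cit.Nil.CVT

open Subgroup Cfsg Cit Tau CV CV1 Cfsg.Agent.Cit.Comp
open Cfsg.Agent.Cit.Nil.ROne (FSimp)
open Cfsg.Agent.SignalizersComponents.Components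

variable {G : Type*} [Group G] [Finite G] {Om : Set (Subgroup G)} {U : Subgroup G → Subgroup G} {E H K L M N : Subgroup G}
  {a b e f g s t u v w x y z : G}

/-- `z² = 1` and `K` is generated by the elements with square `zz K` -/
theorem exists_sq_not_mem (h : CVW Om U) (hK : K ∈ Om) {N : Subgroup G} (hN : ¬ K ≤ N) :
    ∃ k ∈ K, k ∉ N ∧ k * k = zz K := by
  by_contra hcon
  push Not at hcon
  apply hN
  obtain ⟨y, hy, hyX⟩ := h.exists_y hK
  have key : ∀ u ∈ K, u ∉ Tau.XX U K → u ∈ N := by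
    intro u hu huX
    by_contra hn
    exact hcon u hu hn (h.y_facts hK hu huX).1
  intro x hx
  by_cases hxX : x ∈ Tau.XX U K
  · have h1 : x * y ∉ Tau.XX U K := by
      intro h2
      apply hyX
      have h3 := (Tau.XX U K).mul_mem ((Tau.XX U K).inv_mem hxX) h2
      rwa [inv_mul_cancel_left] at h3
    have h2 := N.mul_mem (key _ (K.mul_mem hx hy) h1) (N.inv_mem (key y hy hyX))
    rwa [mul_inv_cancel_right] at h2
  · exact key x hx hxX

section comp

variable (hO : pPrimeCore 2 G = ⊥) (hO2 : pCore 2 G = ⊥) (hev : EvQ G)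

include hO hO2

/-- some component is not centralised by `zz K` -/
theorem exists_comp (h : CVW Om U) (hK : K ∈ Om) : ∃ E : Subgroup G, IsComponent E ∧ ¬ E ≤ centralizer {zz K} := by
  by_contra hcon
  push Not at hcon
  apply h.hyp.zz_ne hK
  have h1 : zz K ∈ pCore 2 G := by
    refine OneComp.centralizer_genFit_le hO (OneComp.mem_centralizer_genFit hO (fun L hL => ?_) ?_)
    · have h2 := hcon L hL
      rw [mem_centralizer_iff]
      exact fun l hl => mem_centralizer_singleton_iff.1 (h2 hl)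
    · rw [hO2, mem_centralizer_iff]
      intro l hl
      rw [SetLike.mem_coe, mem_bot] at hl
      rw [hl, one_mul, mul_one]
  rwa [hO2, mem_bot] at h1

include hev

/-- Glauberman's theorem -/
theorem exists_conj (h : CVW Om U) (hK : K ∈ Om) (hE : IsComponent E) (hEz : ¬ E ≤ centralizer {zz K}) :
    ∃ f ∈ E, zz K * (f * zz K * f⁻¹) = f * zz K * f⁻¹ * zz K ∧ f * zz K * f⁻¹ ≠ zz K := by
  haveI : Fact (Nat.Prime 2) := ⟨Nat.prime_two⟩
  by_contra hcon
  push Not at hcon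
  apply hEz
  have hzE : zz K ∈ normalizer (E : Set G) := mem_normalizer_iff_cj.2 (cj_zz_component h.hyp hev hK hE)
  obtain ⟨z, hz⟩ : ∃ z, z = zz K := ⟨_, rfl⟩
  have hz2 : z * z = 1 := by rw [hz]; exact h.hyp.zz_mul hK
  have hz1 : z ≠ 1 := by rw [hz]; exact h.hyp.zz_ne hK
  rw [← hz] at hcon hzE ⊢
  obtain ⟨M, hM⟩ : ∃ M, M = E ⊔ zpowers z := ⟨_, rfl⟩
  have hzM : z ∈ M := by rw [hM]; exact mem_sup_right (mem_zpowers _)
  have hEM : E ≤ M := by rw [hM]; exact le_sup_left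
  have hMn : M ≤ normalizer (E : Set G) := by rw [hM]; exact sup_le le_normalizer (zpowers_le.2 hzE)
  have key : ∀ m ∈ M, ∃ e ∈ E, m * z * m⁻¹ = e * z * e⁻¹ := by
    intro m hm
    rw [hM] at hm
    obtain ⟨e, he, q, hq, rfl⟩ := LB.exists_mul_of_mem_sup (zpowers_le.2 hzE) hm
    refine ⟨e, he, ?_⟩
    obtain ⟨k, rfl⟩ := hq
    have h1 : z ^ k * z = z * z ^ k := ((Commute.refl z).zpow_left k).eq
    calc e * z ^ k * z * (e * z ^ k)⁻¹ = e * (z ^ k * z) * (z ^ k)⁻¹ * e⁻¹ := by group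
      _ = e * z * e⁻¹ := by rw [h1]; group
  obtain ⟨N, hN, hNodd, hNz⟩ := GH.QA.zstar (G := M) (u := ⟨z, hzM⟩) (Subtype.ext hz2)
    (fun h1 => hz1 (congrArg Subtype.val h1)) (by
      rintro ⟨m, hm⟩ h1
      have h2 : z * (m * z * m⁻¹) = m * z * m⁻¹ * z := congrArg Subtype.val h1
      obtain ⟨e, he, h3⟩ := key m hm
      apply Subtype.ext
      change m * z * m⁻¹ = z
      rw [h3] at h2 ⊢
      exact hcon e he h2)
  intro m hm
  rw [mem_centralizer_singleton_iff]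
  have h3 : z * m * z⁻¹ * m⁻¹ ∈ N.map M.subtype ⊓ E := by
    refine ⟨⟨_, hNz ⟨m, hEM hm⟩, rfl⟩, ?_⟩
    exact E.mul_mem ((mem_normalizer_iff.1 hzE _).1 hm) (E.inv_mem hm)
  have h4 : N.map M.subtype ⊓ E ≤ OO E := by
    refine le_OO inf_le_right ?_ ?_
    · intro y hy
      rw [mem_normalizer_iff_cj, cj_inf, mem_normalizer_iff_cj.1 (le_normalizer hy)]
      congr 1
      rw [← mem_normalizer_iff_cj]
      have h5 := (normal_subgroupOf_iff_le_normalizer (map_subtype_le N : N.map M.subtype ≤ _)).1 (by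
        rw [subgroupOf, comap_map_eq_self_of_injective M.subtype_injective]
        exact hN)
      exact h5 (hEM hy)
    · intro h5
      have h6 : Nat.card (N.map M.subtype) = Nat.card N :=
        card_map_of_injective M.subtype_injective
      have h7 := h5.trans (card_dvd_of_le (inf_le_left : N.map M.subtype ⊓ E ≤ _))
      rw [h6] at h7
      rw [← Nat.not_even_iff_odd, even_iff_two_dvd] at hNodd
      exact hNodd h7
  have h5 := h4 h3
  rw [CV1.TFree.OO_comp hO hO2 hev hE, Subgroup.mem_bot, mul_inv_eq_one, mul_inv_eq_iff_eq_mul] at h5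
  exact h5.symm

/-- **`K` normalises every component** -/
theorem norm_comp (h : CVW Om U) (hK : K ∈ Om) (hE : IsComponent E) : K ≤ normalizer (E : Set G) := by
  by_cases hEz : E ≤ centralizer {zz K}
  · -- `[E, K] = 1`
    rcases le_or_comm_of_le_centralizer h.hyp hK hE hEz with h1 | h1
    · exfalso
      -- `E ≤ K` is a 2-group
      have h2 : IsPGroup 2 E := (h.two K hK).to_le h1
      haveI : Fact (Nat.Prime 2) := ⟨Nat.prime_two⟩
      have h3 := quasisimple_not_isSolvable hE.2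
      haveI := h2.isNilpotent
      exact h3 inferInstance
    · intro k hk
      rw [mem_normalizer_iff]
      intro x
      constructor
      · intro hx
        rw [← h1 x hx k hk, mul_inv_cancel_right]
        exact hx
      · intro hx
        have h2 := h1 _ hx k hk
        have h3 : k * (k * x * k⁻¹) = k * x := by rw [← h2]; group
        have h4 := mul_left_cancel h3
        rwa [h4] at hx
  by_contra hKE
  obtain ⟨k, hk, hkE, hkk⟩ := exists_sq_not_mem h hK hKE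
  obtain ⟨f, hf, hc, hne⟩ := exists_conj hO hO2 hev h hK hE hEz
  have hzE : zz K ∈ normalizer (E : Set G) := mem_normalizer_iff_cj.2 (cj_zz_component h.hyp hev hK hE)
  rw [mem_normalizer_iff_cj] at hkE
  have hz2 := h.hyp.zz_mul hK
  have hzi := h.hyp.zz_inv hK
  -- distinct components commute
  have hEk : ∀ a ∈ E, ∀ b ∈ E, a * (k * b * k⁻¹) = k * b * k⁻¹ * a := fun a ha b hb =>
    comm_of_ne hE (isComponent_cj hE k) (Ne.symm hkE) ha (conj_mem_cj hb)
  obtain ⟨e, he⟩ : ∃ e, e = zz K * (f * zz K * f⁻¹) := ⟨_, rfl⟩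
  have heE : e ∈ E := by
    have h1 : e = zz K * f * (zz K)⁻¹ * f⁻¹ := by rw [he, hzi]; group
    rw [h1]
    exact E.mul_mem ((mem_normalizer_iff.1 hzE f).1 hf) (E.inv_mem hf)
  have he' : f * zz K * f⁻¹ = zz K * e := by rw [he, ← mul_assoc, hz2, one_mul]
  have hze : zz K * e = e * zz K := by
    rw [he]
    calc zz K * (zz K * (f * zz K * f⁻¹)) = zz K * (f * zz K * f⁻¹ * zz K) := by rw [hc]
      _ = zz K * (f * zz K * f⁻¹) * zz K := by group
  have he1 : e ≠ 1 := by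
    rintro rfl
    rw [mul_one] at he'
    exact hne he'
  have hee : e * e = 1 := by
    have h1 : (f * zz K * f⁻¹) * (f * zz K * f⁻¹) = 1 := by
      calc (f * zz K * f⁻¹) * (f * zz K * f⁻¹) = f * (zz K * zz K) * f⁻¹ := by group
        _ = 1 := by rw [hz2]; group
    rw [he'] at h1
    calc e * e = zz K * zz K * (e * e) := by rw [hz2, one_mul]
      _ = zz K * (zz K * e) * e := by group
      _ = zz K * (e * zz K) * e := by rw [hze]
      _ = zz K * e * (zz K * e) := by group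
      _ = 1 := h1
  have hkz : k * zz K = zz K * k := h.hyp.comm_zz hK (le_normalizer hk)
  -- `(f f^k) k (f f^k)⁻¹ = e k`
  have key : (f * (k * f * k⁻¹)) * k * (f * (k * f * k⁻¹))⁻¹ = e * k := by
    have h1 := hEk f⁻¹ (E.inv_mem hf) f⁻¹ (E.inv_mem hf)
    calc (f * (k * f * k⁻¹)) * k * (f * (k * f * k⁻¹))⁻¹ = f * k * f * ((k * f⁻¹ * k⁻¹) * f⁻¹) := by group
      _ = f * k * f * (f⁻¹ * (k * f⁻¹ * k⁻¹)) := by rw [← h1]
      _ = f * (k * k) * f⁻¹ * k⁻¹ := by group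
      _ = f * zz K * f⁻¹ * k⁻¹ := by rw [hkk]
      _ = zz K * e * k⁻¹ := by rw [he']
      _ = e * (k * k) * k⁻¹ := by rw [hze, hkk]
      _ = e * k := by group
  have h4 : orderOf k = 4 := GQ.orderOf_of_sq hkk hz2 (h.hyp.zz_ne hK)
  have hek : e * k ∈ normalizer (K : Set G) := by
    have h1 : e * k ∈ cj (f * (k * f * k⁻¹)) K := by
      rw [← key]
      exact conj_mem_cj hk
    refine h.norm_h3 (h.hyp.conj K hK _) hK h1 ?_ ?_
    · rw [← key]
      have h2 : orderOf ((f * (k * f * k⁻¹)) * k * (f * (k * f * k⁻¹))⁻¹) = 4 := orderOf_conj_four h4 _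
      rw [h2]
    · calc e * k * zz K = e * (k * zz K) := by group
        _ = e * zz K * k := by rw [hkz]; group
        _ = zz K * (e * k) := by rw [← hze]; group
  have heK : e ∈ normalizer (K : Set G) := by
    have h1 := mul_mem hek (inv_mem (le_normalizer hk))
    rwa [mul_inv_cancel_right] at h1
  -- `e (k e k⁻¹) = zz K`
  have hr : e * (k * e * k⁻¹) ∈ K := by
    have h1 := (mem_normalizer_iff.1 heK _).1 hk
    have h2 : e⁻¹ = e := inv_eq_of_mul_eq_one_left hee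
    have h3 : e * (k * e * k⁻¹) = e * k * e⁻¹ * k⁻¹ := by rw [h2]; group
    rw [h3]
    exact K.mul_mem h1 (K.inv_mem hk)
  have hc2 := hEk e heE e heE
  have hr2 : e * (k * e * k⁻¹) * (e * (k * e * k⁻¹)) = 1 := by
    calc e * (k * e * k⁻¹) * (e * (k * e * k⁻¹)) = e * ((k * e * k⁻¹) * e) * (k * e * k⁻¹) := by group
      _ = (e * e) * (k * (e * e) * k⁻¹) := by rw [← hc2]; group
      _ = 1 := by rw [hee]; group
  have hr1 : e * (k * e * k⁻¹) ≠ 1 := by
    intro h1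
    apply he1
    refine CV1.TFree.eq_one_of_center hO hO2 hE heE fun y hy => ?_
    have h2 : k * e * k⁻¹ = e := by
      have h3 : e * (e * (k * e * k⁻¹)) = e := by rw [h1, mul_one]
      rwa [← mul_assoc, hee, one_mul] at h3
    have h3 := hEk y hy e heE
    rwa [h2] at h3
  have hz := h.hyp.eq_zz hK hr hr2 hr1
  -- `f z f⁻¹ = k e k⁻¹`
  have h5 : f * zz K * f⁻¹ = k * e * k⁻¹ := by
    rw [he', hze, ← hz, ← mul_assoc, hee, one_mul]
  apply hne
  have h6 := hEk f hf e heE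
  have h7 : zz K = k * e * k⁻¹ := by
    calc zz K = f⁻¹ * (f * zz K * f⁻¹) * f := by group
      _ = f⁻¹ * (k * e * k⁻¹ * f) := by rw [h5]; group
      _ = k * e * k⁻¹ := by rw [← h6]; group
  rw [h5, h7]

/-- **a simple normal subgroup with trivial centraliser** -/
theorem exists_fsimp (h : CVW (cls K) U) (hgen : normalClosure (K : Set G) = ⊤) :
    ∃ F : Subgroup G, FSimp F ∧ 2 ∣ Nat.card F := by
  have hK : K ∈ cls K := self_mem_cls K
  obtain ⟨E, hE, hEz⟩ := exists_comp hO hO2 h hK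
  have hEn : E.Normal := by
    rw [← normalizer_eq_top_iff, eq_top_iff, ← hgen]
    -- the conjugates of `K` normalise `E`
    have h1 : normalClosure (K : Set G) ≤ normalizer (E : Set G) := by
      rw [normalClosure, closure_le]
      intro x hx
      rw [Group.mem_conjugatesOfSet_iff] at hx
      obtain ⟨a, ha, hax⟩ := hx
      obtain ⟨g, rfl⟩ := isConj_iff.1 hax
      exact norm_comp hO hO2 hev h (K := cj g K) ⟨g, rfl⟩ hE (conj_mem_cj ha)
    exact h1
  haveI := hEn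
  refine ⟨E, ⟨hEn, CV1.TFree.simple hO hO2 hE, fun hc => ?_, ?_⟩, hev E hE.2⟩
  · exact quasisimple_not_isMulCommutative hE.2 ⟨⟨fun a b => Subtype.ext (hc a a.2 b b.2)⟩⟩
  · -- the centraliser
    by_contra hC
    obtain ⟨C, hCdef⟩ : ∃ C, C = centralizer (E : Set G) := ⟨_, rfl⟩
    have hCn : C.Normal := by rw [hCdef]; infer_instance
    rw [← hCdef] at hC
    have hCO : OO C = ⊥ := by
      have h3 : (OO C).Normal := by
        refine ⟨fun n hn g => ?_⟩
        have h4 : cj g C = C := mem_normalizer_iff_cj.1 (by rw [normalizer_eq_top_iff.2 hCn]; exact mem_top g)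
        have h5 : cj g (OO C) = OO C := by rw [← OO_cj, h4]
        rw [← h5]
        exact conj_mem_cj hn
      rw [eq_bot_iff, ← hO]
      refine Lib.Cores.le_pPrimeCore h3 ?_
      rw [Nat.coprime_comm]
      exact (Nat.Prime.coprime_iff_not_dvd Nat.prime_two).2 (odd_OO C)
    have hzC : zz K ∉ C := by
      intro h1
      apply hEz
      intro x hx
      rw [hCdef, mem_centralizer_iff] at h1
      exact mem_centralizer_singleton_iff.2 (h1 x hx)
    have hKC : K ≤ normalizer (C : Set G) := by rw [normalizer_eq_top_iff.2 hCn]; exact le_top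
    have h1 := h.hyp.lemma_two (fun L hL => h.two L hL) hK hKC hCO hzC
    have h2 : K ≤ centralizer (C : Set G) := by
      intro k hk
      rw [mem_centralizer_iff]
      intro c hc
      exact (h.hyp.comm_of_not_mem hK (h.two K hK) hKC hzC hc (mem_centralizer_singleton_iff.1 (h1 hc)) k hk).symm
    -- `C` is central
    have h3 : centralizer (C : Set G) = ⊤ := by
      rw [eq_top_iff, ← hgen]
      exact normalClosure_le_normal h2
    apply hC
    rw [eq_bot_iff]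
    intro c hc
    rw [mem_bot]
    have hcc : ∀ x : G, c * x = x * c := by
      intro x
      have : x ∈ centralizer (C : Set G) := by rw [h3]; exact mem_top x
      exact mem_centralizer_iff.1 this c hc
    -- an abelian normal subgroup
    by_contra hc1
    haveI : Fact (Nat.Prime 2) := ⟨Nat.prime_two⟩
    have hzn : ∀ j : ℕ, (zpowers (c ^ j)).Normal := by
      intro j
      refine ⟨fun n hn g => ?_⟩
      obtain ⟨i, rfl⟩ := hn
      have h4 : g * (c ^ j) ^ i * g⁻¹ = (c ^ j) ^ i := by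
        have h5 : Commute g c := (hcc g).symm
        have h6 : Commute g ((c ^ j) ^ i) := (h5.pow_right j).zpow_right i
        rw [h6.eq, mul_inv_cancel_right]
      simp only
      rw [h4]
      exact ⟨i, rfl⟩
    by_cases h2c : 2 ∣ orderOf c
    · obtain ⟨m, hm⟩ := h2c
      have hpos := orderOf_pos c
      have hd1 : c ^ m ≠ 1 := by
        intro hh
        have := Nat.le_of_dvd (by omega) (orderOf_dvd_of_pow_eq_one hh)
        omega
      have hd2 : (c ^ m) ^ 2 = 1 := by rw [← pow_mul, mul_comm, ← hm, pow_orderOf_eq_one]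
      have h4 : IsPGroup 2 (zpowers (c ^ m)) := by
        apply IsPGroup.of_card (n := 1)
        rw [Nat.card_zpowers, orderOf_eq_prime hd2 hd1, pow_one]
      have h5 := Lib.Cores.le_pCore (hzn m) h4
      rw [hO2, le_bot_iff, zpowers_eq_bot] at h5
      exact hd1 h5
    · have h4 : zpowers c ≤ pPrimeCore 2 G := by
        have h5 := hzn 1
        rw [pow_one] at h5
        refine Lib.Cores.le_pPrimeCore h5 ?_
        rw [Nat.card_zpowers, Nat.coprime_comm]
        exact (Nat.Prime.coprime_iff_not_dvd Nat.prime_two).2 h2c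
      rw [hO, le_bot_iff, zpowers_eq_bot] at h4
      exact hc1 h4

end comp

end Cfsg.Agent.Cit.Nil.CVT
end

-- part: Cit/Nil/CVT/Red
section
/-!
# (6b)(CV), the frame: reduction of T to the simple case

`TW K U`  : the world: `O(G) = 1`, the class of `K` generates `G`;
`TConc K` : `zz K ∈ O_2(G)` or there are no orthogonal members;
`TLt n`   : `TW K U → TConc K` for the groups of order less than `n`;
`SC K U F` : the simple case: `F` is simple, normal, with trivial centraliser, `TLt (|G|)`;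
`SimpleStmt` : there are no orthogonal members in the simple case.

* `tLt` : `SimpleStmt` implies `TLt n` for all `n`.
-/

set_option autoImplicit false
set_option linter.style.haveILetI false
set_option linter.unusedSectionVars false

namespace Cfsg.Agent.Cit.Nil.CVT

open Subgroup Cfsg Cit Tau CV CV1 Cfsg.Agent.Cit.Comp
open Cfsg.Agent.Cit.Nil.ROne (FSimp)

universe u

/-- the world of T -/
structure TW {G : Type*} [Group G] (K : Subgroup G) (U : Subgroup G → Subgroup G) : Prop where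
  cvw : CVW (cls K) U
  gen : normalClosure (K : Set G) = ⊤
  odd : pPrimeCore 2 G = ⊥

/-- the conclusion of T -/
def TConc {G : Type*} [Group G] (K : Subgroup G) : Prop :=
  zz K ∈ pCore 2 G ∨ ∀ L ∈ cls K, ¬ Orth K L

/-- T for the groups of order less than `n` -/
def TLt (n : ℕ) : Prop := ∀ (G : Type u) [Group G] [Finite G] (K : Subgroup G) (U : Subgroup G → Subgroup G),
  Nat.card G < n → TW K U → TConc K

/-- the simple case -/
structure SC {G : Type u} [Group G] (K : Subgroup G) (U : Subgroup G → Subgroup G) (F : Subgroup G) : Prop where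
  cvw : CVW (cls K) U
  f : FSimp F
  even : 2 ∣ Nat.card F
  ih : TLt.{u} (Nat.card G)

/-- **the simple case** -/
def SimpleStmt : Prop := ∀ (G : Type u) [Group G] [Finite G] (K : Subgroup G) (U : Subgroup G → Subgroup G)
  (F : Subgroup G), SC.{u} K U F → ∀ L ∈ cls K, ¬ Orth K L

section

variable {G : Type u} [Group G] [Finite G] {K L : Subgroup G} {U : Subgroup G → Subgroup G}

theorem OO_top_eq_bot (h : pPrimeCore 2 G = ⊥) : OO (⊤ : Subgroup G) = ⊥ := by
  have h3 : (OO (⊤ : Subgroup G)).Normal := by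
    refine ⟨fun n hn g => ?_⟩
    have h4 : cj g (⊤ : Subgroup G) = ⊤ := by
      rw [eq_top_iff]
      intro x _
      rw [mem_cj]
      exact mem_top _
    have h5 : cj g (OO (⊤ : Subgroup G)) = OO (⊤ : Subgroup G) := by rw [← OO_cj, h4]
    rw [← h5]
    exact conj_mem_cj hn
  rw [eq_bot_iff, ← h]
  refine Lib.Cores.le_pPrimeCore h3 ?_
  rw [Nat.coprime_comm]
  exact (Nat.Prime.coprime_iff_not_dvd Nat.prime_two).2 (odd_OO _)

/-- `O(G / Z) = 1` for a central 2-group `Z` -/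
theorem pPrimeCore_quot {G' : Type*} [Group G'] [Finite G'] {f : G →* G'} (hf : Function.Surjective f)
    (hC : f.ker ≤ center G) (h2 : IsPGroup 2 f.ker) (h : pPrimeCore 2 G = ⊥) : pPrimeCore 2 G' = ⊥ := by
  have hn : ((pPrimeCore 2 G').comap f).Normal := (Lib.Cores.pPrimeCore_normal 2 (G := G')).comap f
  have hZN : f.ker ≤ (pPrimeCore 2 G').comap f := by
    intro x hx
    rw [mem_comap, MonoidHom.mem_ker.1 hx]
    exact one_mem _
  have h1 := le_of_odd_relIndex hn hC hZN h2 (OO_top_eq_bot h) (by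
    rw [relIndex_ker, Subgroup.map_comap_eq_self_of_surjective hf]
    have h3 := Lib.Cores.pPrimeCore_coprime (G := G') 2
    rw [Nat.coprime_comm] at h3
    exact (Nat.Prime.coprime_iff_not_dvd Nat.prime_two).1 h3)
  rw [eq_bot_iff]
  intro y hy
  obtain ⟨x, rfl⟩ := hf y
  exact mem_bot.2 (MonoidHom.mem_ker.1 (h1 hy))

/-- central quotients -/
theorem TW.quot (h : TW K U) {G' : Type*} [Group G'] [Finite G'] {f : G →* G'} (hf : Function.Surjective f)
    (hC : f.ker ≤ center G) (h2 : IsPGroup 2 f.ker) (hz : zz K ∉ f.ker) :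
    TW (K.map f) (imgU f (cls K) U) := by
  have hKC : ∀ L ∈ cls K, L ⊓ f.ker = ⊥ := by
    rintro _ ⟨g, rfl⟩
    refine CVW.inf_eq_bot h.cvw ⟨g, rfl⟩ fun h1 => hz ?_
    rw [h.cvw.hyp.zz_cj (self_mem_cls K)] at h1
    have h3 := (f.normal_ker).conj_mem _ h1 g⁻¹
    have h4 : g⁻¹ * (g * zz K * g⁻¹) * g⁻¹⁻¹ = zz K := by group
    rwa [h4] at h3
  have h1 := CVW.imgc h.cvw hf hC hKC
  rw [img_cls hf] at h1
  refine ⟨h1, ?_, pPrimeCore_quot hf hC h2 h.odd⟩
  have h3 := map_normalClosure (K : Set G) f hf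
  rw [h.gen, ← MonoidHom.range_eq_map, MonoidHom.range_eq_top.2 hf] at h3
  rw [h3]
  rfl

/-- **reduction to the simple case** -/
theorem tConc_of (hev : EvQ G) (hS : SimpleStmt.{u}) (h : TW K U) (ih : TLt.{u} (Nat.card G)) : TConc K := by
  haveI : Fact (Nat.Prime 2) := ⟨Nat.prime_two⟩
  have hK : K ∈ cls K := self_mem_cls K
  by_contra hcon
  rw [TConc, not_or] at hcon
  obtain ⟨hz, hL⟩ := hcon
  push Not at hL
  obtain ⟨L, hL, hKL⟩ := hL
  -- `O_2(G)` is central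
  have hcen : pCore 2 G ≤ center G := by
    have hPn : (pCore 2 G).Normal := Lib.Cores.pCore_normal 2
    have h1 : K ≤ centralizer (pCore 2 G : Set G) := by
      intro k hk
      rw [mem_centralizer_iff]
      intro n hn
      exact (h.cvw.hyp.lemma_one hK (h.cvw.two K hK) (Lib.Cores.pCore_isPGroup 2)
        (by rw [normalizer_eq_top_iff.2 hPn]; exact le_top) hz k hk n hn).symm
    have h2 : centralizer (pCore 2 G : Set G) = ⊤ := by
      rw [eq_top_iff, ← h.gen]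
      exact normalClosure_le_normal h1
    intro x hx
    rw [mem_center_iff]
    intro g
    have h3 : g ∈ centralizer (pCore 2 G : Set G) := by rw [h2]; exact mem_top g
    exact (mem_centralizer_iff.1 h3 x hx).symm
  by_cases hP : pCore 2 G = ⊥
  · obtain ⟨F, hF, hF2⟩ := exists_fsimp h.odd hP hev h.cvw h.gen
    exact hS G K U F ⟨h.cvw, hF, hF2, ih⟩ L hL hKL
  · -- a central quotient
    haveI hPn : (pCore 2 G).Normal := Lib.Cores.pCore_normal 2
    have hf : Function.Surjective (QuotientGroup.mk' (pCore 2 G)) := QuotientGroup.mk'_surjective _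
    have hker : (QuotientGroup.mk' (pCore 2 G)).ker = pCore 2 G := QuotientGroup.ker_mk' _
    have hlt : Nat.card (G ⧸ pCore 2 G) < Nat.card G := by
      rw [card_eq_card_quotient_mul_card_subgroup (pCore 2 G)]
      have h3 : 1 < Nat.card (pCore 2 G) := by
        rw [← not_le]
        exact fun h4 => hP (card_le_one_iff_eq_bot _ |>.1 h4)
      have h4 : 0 < Nat.card (G ⧸ pCore 2 G) := Nat.card_pos
      nlinarith
    have hw := h.quot hf (by rw [hker]; exact hcen) (by rw [hker]; exact Lib.Cores.pCore_isPGroup 2)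
      (by rw [hker]; exact hz)
    have hinf : K ⊓ (QuotientGroup.mk' (pCore 2 G)).ker = ⊥ := by
      rw [hker]
      exact CVW.inf_eq_bot h.cvw hK hz
    rcases ih _ (K.map (QuotientGroup.mk' (pCore 2 G))) _ hlt hw with h3 | h3
    · apply hz
      have h4 : zz (K.map (QuotientGroup.mk' (pCore 2 G))) = QuotientGroup.mk' (pCore 2 G) (zz K) :=
        QuoCen.zz_map_of_inf h.cvw.hyp hK hinf
      rw [h4] at h3
      have h5 : (pCore 2 (G ⧸ pCore 2 G)).comap (QuotientGroup.mk' (pCore 2 G)) ≤ pCore 2 G := by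
        refine Lib.Cores.le_pCore ((Lib.Cores.pCore_normal 2).comap _) ?_
        refine (Lib.Cores.pCore_isPGroup 2).comap_of_ker_isPGroup _ ?_
        rw [hker]
        exact Lib.Cores.pCore_isPGroup 2
      exact h5 h3
    · obtain ⟨g, rfl⟩ := hL
      refine h3 _ ?_ (CVW.orth_map h.cvw hK hinf hKL)
      exact ⟨QuotientGroup.mk' (pCore 2 G) g, by rw [cj_map]⟩

end

/-- **T from the simple case** -/
theorem tLt (hev : ∀ (G : Type u) [Group G] [Finite G], EvQ G) (hS : SimpleStmt.{u}) : ∀ n, TLt.{u} n := by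
  intro n
  induction n with
  | zero => intro G _ _ K U h; omega
  | succ n ih =>
    intro G _ _ K U hlt h
    rcases Nat.lt_succ_iff_lt_or_eq.1 hlt with h1 | h1
    · exact ih G K U h1 h
    · refine tConc_of (hev G) hS h ?_
      rw [h1]
      exact ih

end Cfsg.Agent.Cit.Nil.CVT
end

private theorem dce_814ec18f94c0 : _root_.True := by
  try have : _root_.True := by simp only [_root_.Cfsg.Agent.Cit.Nil.CVT.TConc.eq_1]
  try have : _root_.True := by simp only [_root_.Cfsg.Agent.Cit.Nil.CV1.TFree.WZ.eq_1]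
  exact _root_.True.intro
end

-- part: Cit/Nil/CVT/Sub
section
set_option linter.all false
open scoped Cfsg.Agent.FastGrp

/-!
# (6b)(CV), the frame: the subnormal closure `X` of a member `K` in `H`, and the block `K ^ X`

* `SNC H K X` : `X` is the smallest subnormal subgroup of `H` containing `K`; `exists_snc`, `SNC.cj'`, `SNC.norm`,
  `SNC.gen`, `SNC.odd`, `SNC.two`;
* `SNC.lk` : `L ≤ H`, `y ∈ L`, `x ∈ cj y K`, `cj x L = K` imply `L ≤ X`;
* `CVW.third` : linked roots (with a symmetric bond) satisfy the condition of `SNC.lk`;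
* `BL K X` : the block; `SNC.tw` : `X` with the class of `K` is a world `TW`;
* `SNC.cases` : `zz K ∈ O_2(H)` or two members of the block do not commute.
-/

set_option autoImplicit false
set_option linter.style.haveILetI false
set_option linter.unusedSectionVars false

namespace Cfsg.Agent.Cit.Nil.CVT

open Subgroup Cfsg Cit Tau CV CV1 Cfsg.Agent.Cit.Comp

universe u

section snc

variable {G : Type*} [Group G] {H K L M N X Y : Subgroup G} {g x y : G}

/-- `X` is the subnormal closure of `K` in `H` -/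
structure SNC (H K X : Subgroup G) : Prop where
  KX : K ≤ X
  XH : X ≤ H
  sn : (X.subgroupOf H).IsSubnormal
  min : ∀ Y : Subgroup G, Y ≤ H → (Y.subgroupOf H).IsSubnormal → K ≤ Y → X ≤ Y

theorem exists_snc [Finite G] (hKH : K ≤ H) : ∃ X, SNC H K X := by
  let S : Set (Subgroup G) := {Y | Y ≤ H ∧ (Y.subgroupOf H).IsSubnormal ∧ K ≤ Y}
  have hS : S.Nonempty := ⟨H, le_rfl, by rw [subgroupOf_self]; exact IsSubnormal.top, hKH⟩
  obtain ⟨X, hX⟩ := (Set.toFinite S).exists_minimal hS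
  refine ⟨X, hX.prop.2.2, hX.prop.1, hX.prop.2.1, fun Y hY hYs hKY => ?_⟩
  have h1 : X ⊓ Y ∈ S := by
    refine ⟨inf_le_left.trans hX.prop.1, ?_, le_inf hX.prop.2.2 hKY⟩
    have h2 : (X ⊓ Y).subgroupOf H = X.subgroupOf H ⊓ Y.subgroupOf H := comap_inf _ _ _
    rw [h2]
    exact hX.prop.2.1.inf hYs
  exact (hX.le_of_le h1 inf_le_left).trans inf_le_right

theorem SNC.unique (h : SNC H K X) (h' : SNC H K Y) : X = Y :=
  le_antisymm (h.min Y h'.XH h'.sn h'.KX) (h'.min X h.XH h.sn h.KX)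

theorem isSubnormal_cj {H J : Subgroup G} {g : G} (hs : (J.subgroupOf H).IsSubnormal) :
    ((cj g J).subgroupOf (cj g H)).IsSubnormal := by
  let e : H ≃* (cj g H : Subgroup G) := H.equivMapOfInjective (MulAut.conj g).toMonoidHom (MulAut.conj g).injective
  have h1 := hs.map (f := e.toMonoidHom) e.surjective
  convert h1 using 1
  ext x
  rw [Subgroup.mem_subgroupOf, Subgroup.mem_map]
  constructor
  · intro hx
    have hx' : g⁻¹ * (x : G) * g ∈ J := mem_cj.1 hx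
    have hxH : g⁻¹ * (x : G) * g ∈ H := mem_cj.1 x.2
    refine ⟨⟨_, hxH⟩, hx', Subtype.ext ?_⟩
    change g * (g⁻¹ * (x : G) * g) * g⁻¹ = x
    group
  · rintro ⟨y, hy, rfl⟩
    change g * (y : G) * g⁻¹ ∈ cj g J
    exact conj_mem_cj hy

theorem SNC.cj' (h : SNC H K X) (g : G) : SNC (cj g H) (cj g K) (cj g X) := by
  refine ⟨cj_mono g h.KX, cj_mono g h.XH, isSubnormal_cj h.sn, fun Y hY hYs hKY => ?_⟩
  have h1 : X ≤ cj g⁻¹ Y := by
    refine h.min _ ?_ ?_ ?_
    · have := cj_mono g⁻¹ hY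
      rwa [cj_inv_cj] at this
    · have := isSubnormal_cj (g := g⁻¹) hYs
      rwa [cj_inv_cj] at this
    · have := cj_mono g⁻¹ hKY
      rwa [cj_inv_cj] at this
  have h2 := cj_mono g h1
  rwa [cj_cj_inv] at h2

theorem SNC.cj_of_norm (h : SNC H K X) (hg : g ∈ normalizer (H : Set G)) : SNC H (cj g K) (cj g X) := by
  have h1 := h.cj' g
  rwa [mem_normalizer_iff_cj.1 hg] at h1

/-- the stabiliser of `K` normalises `X` -/
theorem SNC.norm (h : SNC H K X) (hg : g ∈ normalizer (H : Set G)) (hK : g ∈ normalizer (K : Set G)) :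
    g ∈ normalizer (X : Set G) := by
  have h1 := h.cj_of_norm hg
  rw [mem_normalizer_iff_cj.1 hK] at h1
  exact mem_normalizer_iff_cj.2 (h1.unique h)

/-- `X` is the subnormal closure of its conjugates of `K` -/
theorem SNC.of_mem (h : SNC H K X) (hg : g ∈ X) : SNC H (cj g K) X := by
  have h1 := h.cj_of_norm (le_normalizer (h.XH hg))
  rwa [mem_normalizer_iff_cj.1 (le_normalizer hg)] at h1

/-- `K` generates `X` as a normal subgroup -/
theorem SNC.gen (h : SNC H K X) : normalClosure ((K.subgroupOf X : Subgroup X) : Set X) = ⊤ := by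
  obtain ⟨N, hN⟩ : ∃ N, N = normalClosure ((K.subgroupOf X : Subgroup X) : Set X) := ⟨_, rfl⟩
  rw [← hN]
  have hNn : N.Normal := by rw [hN]; exact normalClosure_normal
  have hNX : N.map X.subtype ≤ X := map_subtype_le N
  have h0 : (N.map X.subtype).subgroupOf X = N := by
    rw [subgroupOf, comap_map_eq_self_of_injective X.subtype_injective]
  have h1 : X ≤ N.map X.subtype := by
    refine h.min _ (hNX.trans h.XH) ?_ ?_
    · refine IsSubnormal.step _ _ (comap_mono hNX) h.sn ?_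
      refine (normal_subgroupOf_iff_le_normalizer (comap_mono hNX)).2 ?_
      intro x hx
      have h3 : X ≤ normalizer (N.map X.subtype : Set G) := by
        rw [← normal_subgroupOf_iff_le_normalizer hNX, h0]
        exact hNn
      exact le_normalizer_comap H.subtype (h3 hx)
    · have h4 : K.subgroupOf X ≤ N := by
        rw [hN]
        exact le_normalClosure
      have h5 := map_mono (f := X.subtype) h4
      rwa [map_subgroupOf_eq_of_le h.KX] at h5
  rw [eq_top_iff]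
  intro x _
  obtain ⟨y, hy, hyx⟩ := h1 x.2
  have h2 : y = x := Subtype.ext hyx
  rwa [← h2]

/-- the smallest subnormal subgroup: members linked to `K` -/
theorem SNC.lk (h : SNC H K X) (hLH : L ≤ H) (hy : y ∈ L) (hx : x ∈ cj y K) (hxL : cj x L = K) : L ≤ X := by
  -- for all subnormal `N` of `H`
  have key : ∀ N : Subgroup H, N.IsSubnormal → K ≤ N.map H.subtype → L ≤ N.map H.subtype := by
    intro N hN
    induction hN with
    | top =>
      intro _ l hl
      exact ⟨⟨l, hLH hl⟩, mem_top _, rfl⟩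
    | step N M hNM hM hn ih =>
      intro hK
      have hLM := ih (hK.trans (map_mono hNM))
      have hMN : M.map H.subtype ≤ normalizer (N.map H.subtype : Set G) := by
        rw [normal_subgroupOf_iff_le_normalizer hNM] at hn
        exact (map_mono hn).trans (le_normalizer_map H.subtype)
      have h1 : cj y K ≤ N.map H.subtype := by
        have h2 := cj_mono y hK
        rwa [mem_normalizer_iff_cj.1 (hMN (hLM hy))] at h2
      have h2 : x ∈ N.map H.subtype := h1 hx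
      have h3 : cj x L ≤ cj x (N.map H.subtype) := by
        rw [hxL, mem_normalizer_iff_cj.1 (le_normalizer h2)]
        exact hK
      exact cj_le_cj.1 h3
  have h1 := key _ h.sn (by rw [map_subgroupOf_eq_of_le h.XH]; exact h.KX)
  rwa [map_subgroupOf_eq_of_le h.XH] at h1

variable [Finite G]

theorem SNC.odd (h : SNC H K X) (hH : pPrimeCore 2 H = ⊥) : pPrimeCore 2 X = ⊥ := by
  -- transport along `X ≃* X.subgroupOf H`
  have h1 := Lib.PComponents.map_pPrimeCore_le_of_isSubnormal (p := 2) h.sn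
  rw [hH, le_bot_iff, Subgroup.map_eq_bot_iff_of_injective _ (Subgroup.subtype_injective _)] at h1
  have h2 := Lib.Cores.map_equiv_pPrimeCore (subgroupOfEquivOfLe h.XH) 2
  rw [h1, Subgroup.map_bot] at h2
  exact h2.symm

theorem SNC.two (h : SNC H K X) : (pCore 2 X).map X.subtype ≤ (pCore 2 H).map H.subtype := by
  have h1 := PLocal.SubnormalCore.map_subtype_pCore_le (p := 2) h.sn
  have h2 := Lib.Cores.map_equiv_pCore (subgroupOfEquivOfLe h.XH) 2
  rintro _ ⟨x, hx, rfl⟩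
  rw [← h2] at hx
  obtain ⟨y, hy, rfl⟩ := hx
  exact ⟨_, h1 ⟨y, hy, rfl⟩, rfl⟩

end snc

/-! ### Linked roots -/

section third

variable {G : Type*} [Group G] [Finite G] {Om : Set (Subgroup G)} {U : Subgroup G → Subgroup G} {A H K L M N X : Subgroup G}
  {g v w x y : G}

/-- linked roots with a symmetric bond: `M = cj y K` is linked to `L` and moves it to `K` -/
theorem third (h : CVW Om U) (hA : IsA Om U A) (hK : K ∈ Om) (hvK : v ∈ U K) (hv : v ∈ RR Om U A) (hL : L ∈ Om)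
    (hwL : w ∈ U L) (hw : w ∈ RR Om U A) (hs : al Om U v w = al Om U w v) (h0 : al Om U v w ≠ 0)
    (h2 : al Om U v w ≠ 2) : ∃ y ∈ L, ∃ x ∈ cj y K, cj x L = K := by
  obtain ⟨y, hy, hyX⟩ := h.exists_y hL
  have hyA : y ∈ normalizer (A : Set G) := h.K_le_norm hA hL hwL hw.2.1 hw.1 hy
  obtain ⟨x₀, hx₀, hx₀X⟩ := h.exists_y hK
  have e1 : y * v * y⁻¹ = v * pw w (-al Om U w v) := h.al_spec hA hL hwL hw.2.1 hw.1 hy hyX hv.1
  have hv' : y * v * y⁻¹ ∈ RR Om U A := h.RR_conj hyA hv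
  have hyKX : y * x₀ * y⁻¹ ∉ Tau.XX U (cj y K) := fun hh => hx₀X ((conj_mem_XX (h.vch.cj K hK y)).mp hh)
  have e2 : y * x₀ * y⁻¹ * w * (y * x₀ * y⁻¹)⁻¹ = w * pw (y * v * y⁻¹) (-al Om U (y * v * y⁻¹) w) :=
    h.al_spec hA (h.hyp.conj K hK y) (h.vch.conj_mem hK hvK y) hv'.2.1 hv'.1 (conj_mem_cj hx₀) hyKX hw.1
  -- `al (y v y⁻¹) w = - al v w`
  have e3 : al Om U (y * v * y⁻¹) w = -al Om U v w := by
    have h3 : y * w⁻¹ * y⁻¹ = w := by
      have h4 := h.y_inv hL hy hyX hwL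
      calc y * w⁻¹ * y⁻¹ = (y * w * y⁻¹)⁻¹ := by group
        _ = w := by rw [h4, inv_inv]
    have h5 := h.al_conj hA hyA hv (A.inv_mem hw.1)
    rw [h3, h.al_inv hA hv hw.1] at h5
    exact h5
  rw [e3, neg_neg] at e2
  obtain ⟨a, ha⟩ : ∃ a, a = al Om U v w := ⟨_, rfl⟩
  rw [← hs] at e1
  rw [← ha] at e1 e2 h0 h2
  have hc : Commute v w := h.comm hA hv.1 hw.1
  have hcp : ∀ m n, Commute (pw v m) (pw w n) := fun m n => hc.pow_pow _ _
  -- the image of `w`
  have key : y * x₀ * y⁻¹ * w * (y * x₀ * y⁻¹)⁻¹ = pw v a := by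
    rw [e2, e1]
    have h6 : pw (v * pw w (-a)) a = pw v a * pw (pw w (-a)) a := by
      exact (show Commute v (pw w (-a)) from hc.pow_right _).mul_pow _
    have h7 : pw (pw w (-a)) a = w⁻¹ := by
      have h8 : a = 1 ∨ a = -1 := by
        revert h0 h2
        clear * -
        revert a
        decide
      rcases h8 with rfl | rfl
      · rw [pw_one, pw_neg_one hw.2.1]
      · rw [neg_neg, pw_one, pw_neg_one hw.2.1]
    rw [h6, h7]
    have h9 : Commute w (pw v a) := (hc.symm).pow_right _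
    rw [← mul_assoc, h9.eq, mul_inv_cancel_right]
  refine ⟨y, hy, y * x₀ * y⁻¹, conj_mem_cj hx₀, ?_⟩
  have hm : y * x₀ * y⁻¹ * w * (y * x₀ * y⁻¹)⁻¹ ∈ U (cj (y * x₀ * y⁻¹) L) := h.vch.conj_mem hL hwL _
  refine h.eq_of_mem (h.hyp.conj L hL _) hK hm ?_ (orderOf_conj_four hw.2.1 _)
  rw [key]
  exact pw_mem hvK a

end third

/-! ### The block -/

section block

variable {G : Type u} [Group G] [Finite G] {Om : Set (Subgroup G)} {U : Subgroup G → Subgroup G} {A H K L M N X : Subgroup G}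
  {g v w x y : G}

/-- the block of `K` in `X` -/
def BL (K X : Subgroup G) : Set (Subgroup G) := {L | ∃ g ∈ X, L = cj g K}

theorem orth_cj (h : Orth K L) (g : G) : Orth (cj g K) (cj g L) := by
  refine ⟨fun hh => h.1 (cj_inj.1 hh), ?_⟩
  rintro _ ⟨x, hx, rfl⟩ _ ⟨y, hy, rfl⟩
  have := h.2 x hx y hy
  simp only [MulEquiv.coe_toMonoidHom, ← map_mul, this]

theorem self_mem_BL : K ∈ BL K X := ⟨1, X.one_mem, (cj_one K).symm⟩

theorem BL_le (hKX : K ≤ X) (hL : L ∈ BL K X) : L ≤ X := by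
  obtain ⟨g, hg, rfl⟩ := hL
  have h1 := cj_mono g hKX
  rwa [mem_normalizer_iff_cj.1 (le_normalizer hg)] at h1

theorem BL_mem (h : CVW Om U) (hK : K ∈ Om) (hL : L ∈ BL K X) : L ∈ Om := by
  obtain ⟨g, -, rfl⟩ := hL
  exact h.hyp.conj K hK g

theorem subgroupOf_mem_cls (hKX : K ≤ X) (hL : L ∈ BL K X) : L.subgroupOf X ∈ Cit.cls (K.subgroupOf X) := by
  obtain ⟨g, hg, rfl⟩ := hL
  exact cj_mem_cls_subgroupOf hKX hg

theorem SNC.of_BL (h : SNC H K X) (hL : L ∈ BL K X) : SNC H L X := by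
  obtain ⟨g, hg, rfl⟩ := hL
  exact h.of_mem hg

/-- linked members of `H` belong to the block -/
theorem SNC.lk_BL (h : SNC H K X) (hM : M ∈ BL K X) (hLH : L ≤ H) (hy : y ∈ L) (hx : x ∈ cj y M) (hxL : cj x L = M) :
    L ∈ BL K X := by
  have hLX := (h.of_BL hM).lk hLH hy hx hxL
  have h1 : cj y M ≤ X := by
    have h2 := cj_mono y (BL_le h.KX hM)
    rwa [mem_normalizer_iff_cj.1 (le_normalizer (hLX hy))] at h2
  obtain ⟨g, hg, rfl⟩ := hM
  refine ⟨x⁻¹ * g, X.mul_mem (X.inv_mem (h1 hx)) hg, ?_⟩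
  rw [cj_mul, ← hxL, cj_inv_cj]

/-- an element normalising `H` and conjugating `K` to a member of the block preserves the block -/
theorem SNC.cj_BL (h : SNC H K X) (hg : g ∈ normalizer (H : Set G)) (hL : L ∈ BL K X) (hgL : cj g L ∈ BL K X)
    (hM : M ∈ BL K X) : cj g M ∈ BL K X := by
  have h1 : cj g X = X := by
    have h2 := (h.of_BL hL).cj_of_norm hg
    exact h2.unique (h.of_BL hgL)
  obtain ⟨a, ha, rfl⟩ := hL
  obtain ⟨b, hb, hgb⟩ := hgL
  obtain ⟨c, hc, rfl⟩ := hM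
  -- `g c K = (g c a⁻¹ g⁻¹) g a K`
  refine ⟨g * (c * a⁻¹) * g⁻¹ * b, X.mul_mem ?_ hb, ?_⟩
  · rw [← h1]
    exact conj_mem_cj (X.mul_mem hc (X.inv_mem ha))
  · rw [cj_mul (g * (c * a⁻¹) * g⁻¹) b, ← hgb, ← cj_mul, ← cj_mul, ← cj_mul]
    congr 1
    group

/-- the world on `X` -/
theorem SNC.tw (h : SNC H K X) (w : CVW Om U) (hK : K ∈ Om) (hH : pPrimeCore 2 H = ⊥) :
    TW (K.subgroupOf X) (uH X U) :=
  ⟨CVW.cls_restr w hK h.KX, h.gen, h.odd hH⟩

/-- **the block**: `zz K ∈ O_2(H)` or the members of the block do not commute -/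
theorem SNC.cases (h : SNC H K X) (w : CVW Om U) (hK : K ∈ Om) (hH : pPrimeCore 2 H = ⊥)
    (ih : TLt.{u} (Nat.card G)) (hX : X ≠ ⊤) :
    zz K ∈ (pCore 2 X).map X.subtype ∨ ∀ M ∈ BL K X, ∀ N ∈ BL K X, ¬ Orth M N := by
  have hcard : Nat.card X < Nat.card G := by
    rw [← card_top (G := G)]
    have h2 : (X : Set G) ⊂ ((⊤ : Subgroup G) : Set G) := by
      rw [Set.ssubset_def]
      refine ⟨fun x _ => mem_top x, fun hh => hX ?_⟩
      rw [eq_top_iff]
      exact hh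
    exact Set.Finite.card_lt_card (Set.toFinite _) h2
  have hKX : (K.subgroupOf X).map X.subtype = K := map_subgroupOf_eq_of_le h.KX
  rcases ih X _ _ hcard (h.tw w hK hH) with h1 | h1
  · left
    refine ⟨_, h1, ?_⟩
    have h2 : ((zz (K.subgroupOf X) : X) : G) = zz ((K.subgroupOf X).map X.subtype) := by
      have h3 := (CVW.restr w X).hyp.orderOf_zz (subgroupOf_mem_restr hK h.KX)
      refine w.hyp.uniq _ (by rw [hKX]; exact hK) _ ?_ ?_
      · exact ⟨_, (CVW.restr w X).hyp.zz_mem (subgroupOf_mem_restr hK h.KX), rfl⟩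
      · rw [orderOf_coe]; exact h3
    rw [hKX] at h2
    exact h2
  · right
    rintro M hM N hN hMN
    obtain ⟨a, ha, rfl⟩ := id hM
    -- conjugate `M` to `K`
    have hNX := BL_le h.KX hN
    have h3 : Orth (K.subgroupOf X) ((cj a⁻¹ N).subgroupOf X) := by
      have h4 : Orth K (cj a⁻¹ N) := by
        have h5 := orth_cj hMN a⁻¹
        rwa [cj_inv_cj] at h5
      have h6 : cj a⁻¹ N ≤ X := by
        have h2 := cj_mono a⁻¹ hNX
        rwa [mem_normalizer_iff_cj.1 (le_normalizer (X.inv_mem ha))] at h2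
      refine ⟨fun h7 => h4.1 ?_, fun x hx y hy => Subtype.ext (h4.2 x hx y hy)⟩
      rw [← map_subgroupOf_eq_of_le h.KX, h7, map_subgroupOf_eq_of_le h6]
    refine h1 _ ?_ h3
    obtain ⟨b, hb, rfl⟩ := hN
    rw [← cj_mul]
    exact cj_mem_cls_subgroupOf h.KX (X.mul_mem (X.inv_mem ha) hb)

end block

end Cfsg.Agent.Cit.Nil.CVT
end

-- part: Cit/Nil/CVT/Un
section
set_option linter.all false
open scoped Cfsg.Agent.FastGrp

/-!
# (6b)(CV), the frame: unlinked members over one involution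

`Unl U K L` : `K` is not linked to `L`. The members of `H` unlinked to all members are a world `RW` of rank one. R1 for this
world: if `K ≠ K'` are unlinked members over one involution then every member commutes with `K` or is `K`, so
`K ≤ O_2(H)` (`un`).
-/

set_option autoImplicit false
set_option linter.style.haveILetI false
set_option linter.unusedSectionVars false

namespace Cfsg.Agent.Cit.Nil.CVT

open Subgroup Cfsg Cit Tau CV CV1

universe u

/-- `K` is not linked to `L` -/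
def Unl {G : Type*} [Group G] (U : Subgroup G → Subgroup G) (K L : Subgroup G) : Prop :=
  ∀ v ∈ U K, ∀ w ∈ U L, orderOf v = 4 → orderOf w = 4 → v * w = w * v → K = L ∨ ∀ x ∈ K, ∀ y ∈ L, x * y = y * x

/-- R1 for all worlds of rank one -/
def R1Stmt : Prop := ∀ (G : Type u) [Group G] [Finite G] (Om : Set (Subgroup G)) (U : Subgroup G → Subgroup G),
  OO (⊤ : Subgroup G) = ⊥ → RW Om U → R1 Om ⊤

variable {G : Type*} [Group G] [Finite G] {Om : Set (Subgroup G)} {U : Subgroup G → Subgroup G} {K L M : Subgroup G}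

/-- the unlinked members -/
def unl (Om : Set (Subgroup G)) (U : Subgroup G → Subgroup G) : Set (Subgroup G) :=
  {K | K ∈ Om ∧ ∀ L ∈ Om, Unl U K L}

theorem Unl.cj (w : CVW Om U) (hK : K ∈ Om) (hL : L ∈ Om) (h : Unl U K L) (g : G) :
    Unl U (Cit.cj g K) (Cit.cj g L) := by
  intro v hv x hx hv4 hx4 hc
  rw [w.vch.cj K hK] at hv
  rw [w.vch.cj L hL] at hx
  obtain ⟨v, hv, rfl⟩ := hv
  obtain ⟨x, hx, rfl⟩ := hx
  have e : ∀ a : G, (MulAut.conj g).toMonoidHom a = MulAut.conj g a := fun a => rfl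
  rw [e, e] at hc
  rw [e] at hv4 hx4
  rw [(MulAut.conj g).orderOf_eq] at hv4 hx4
  rw [← map_mul, ← map_mul] at hc
  rcases h v hv x hx hv4 hx4 ((MulAut.conj g).injective hc) with h1 | h1
  · left; rw [h1]
  · right
    rintro _ ⟨a, ha, rfl⟩ _ ⟨b, hb, rfl⟩
    rw [e, e, ← map_mul, ← map_mul, h1 a ha b hb]

theorem cj_mem_unl (w : CVW Om U) (hK : K ∈ unl Om U) (g : G) : cj g K ∈ unl Om U := by
  refine ⟨w.hyp.conj K hK.1 g, fun L hL => ?_⟩
  have h1 := (hK.2 (cj g⁻¹ L) (w.hyp.conj L hL _)).cj w hK.1 (w.hyp.conj L hL _) g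
  rwa [← cj_mul, mul_inv_cancel, cj_one] at h1

/-- the unlinked members are a world of rank one -/
theorem rw_unl (w : CVW Om U) : RW (unl Om U) U :=
  { CVW.sub w (fun _ h => h.1) (fun _ hK g => cj_mem_unl w hK g) with
    lin := fun _ hK L hL v hv x hx hv4 hx4 hc => hK.2 L hL.1 v hv x hx hv4 hx4 hc }

/-- two members normalising each other commute -/
theorem comm_of_norm (w : CVW Om U) (hK : K ∈ Om) (hL : L ∈ Om) (hn : L ≤ normalizer (K : Set G)) (hne : K ≠ L) :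
    ∀ x ∈ K, ∀ y ∈ L, x * y = y * x := by
  haveI : Fact (Nat.Prime 2) := ⟨Nat.prime_two⟩
  have hT : IsPGroup 2 (K ⊔ L : Subgroup G) := (w.two K hK).to_sup_of_normal_left' (w.two L hL) hn
  have h1 : K ∈ OmS Om (K ⊔ L) := mem_OmS_of_le hK ⟨le_rfl, w.two K hK, by rw [relIndex_self]; omega⟩ le_sup_left
  have h2 : L ∈ OmS Om (K ⊔ L) := mem_OmS_of_le hL ⟨le_rfl, w.two L hL, by rw [relIndex_self]; omega⟩ le_sup_right
  exact fun x hx y hy => w.hyp.comm hT h1 h2 hne ⟨hx, (le_sup_left : K ≤ K ⊔ L) hx⟩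
    ⟨hy, (le_sup_right : L ≤ K ⊔ L) hy⟩

/-- **two unlinked members over one involution are in `O_2(G)`** -/
theorem un (w : CVW Om U) (hO : OO (⊤ : Subgroup G) = ⊥) (hR : R1 (unl Om U) ⊤) (hK : K ∈ unl Om U)
    {K' : Subgroup G} (hK' : K' ∈ unl Om U) (hz : zz K' = zz K) (hne : K ≠ K') : K ≤ pCore 2 G := by
  have hor : Orth K K' := ⟨hne, fun x hx y hy => w.comm_of_zz_eq hK.1 hK'.1 hz.symm hne hx hy⟩
  have hadj : ∀ {A B : Subgroup G}, A ∈ unl Om U → B ∈ unl Om U → (¬ ∀ x ∈ A, ∀ y ∈ B, x * y = y * x) →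
      CV1.Adj (unl Om U) ⊤ A B := by
    intro A B hA hB hc
    refine ⟨⟨hA, le_top⟩, ⟨hB, le_top⟩, fun h1 => hc ?_⟩
    rw [hO, le_bot_iff, commutator_eq_bot_iff_le_centralizer] at h1
    exact fun x hx y hy => (mem_centralizer_iff.1 (h1 hx) y hy).symm
  -- the members commute with `K`
  have key : ∀ N ∈ unl Om U, N ≠ K → ∀ x ∈ K, ∀ y ∈ N, x * y = y * x := by
    intro N hN hNK
    by_contra hc
    have h1 : ∀ x ∈ N, ∀ y ∈ K', x * y = y * x := by
      by_contra h2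
      exact hR K hK K' hK' le_top le_top hor
        ((Relation.ReflTransGen.single (hadj hK hN hc)).tail (hadj hN hK' h2))
    apply hc
    refine comm_of_norm w hK.1 hN.1 ?_ (Ne.symm hNK)
    by_contra h2
    obtain ⟨k, hk, hkn, hkk⟩ := exists_sq_not_mem w hN.1 h2
    apply hkn
    refine w.norm_h3 hN.1 hK.1 hk ?_ ?_
    · have h3 : orderOf k = 4 := by
        haveI : Fact (Nat.Prime 2) := ⟨Nat.prime_two⟩
        have h4 := w.hyp.zz_mul hN.1
        have h5 := w.hyp.zz_ne hN.1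
        have e2 : (4 : ℕ) = 2 ^ (1 + 1) := by norm_num
        rw [e2]
        refine orderOf_eq_prime_pow ?_ ?_
        · rw [pow_one, pow_two, hkk]; exact h5
        · rw [show 2 ^ (1 + 1) = 2 + 2 by norm_num, pow_add, pow_two, hkk, h4]
      omega
    · rw [← hz]
      exact h1 k hk _ (w.hyp.zz_mem hK'.1)
  have hKn : ∀ g : G, K ≤ normalizer (cj g K : Set G) ∧ cj g K ≤ normalizer (K : Set G) := by
    intro g
    by_cases h1 : cj g K = K
    · rw [h1]; exact ⟨le_normalizer, le_normalizer⟩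
    · have h2 := key _ (cj_mem_unl w hK g) h1
      constructor
      · exact fun x hx => OneBasic.mem_normalizer_of_cent fun y hy => h2 x hx y hy
      · exact fun y hy => OneBasic.mem_normalizer_of_cent fun x hx => (h2 x hx y hy).symm
  have hnc : normalClosure (K : Set G) ≤ normalizer (K : Set G) := by
    rw [normalClosure, closure_le]
    intro x hx
    obtain ⟨a, ha, hax⟩ := Group.mem_conjugatesOfSet_iff.1 hx
    obtain ⟨c, rfl⟩ := isConj_iff.1 hax
    exact (hKn c).2 (conj_mem_cj ha)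
  have hsn : K.IsSubnormal := by
    refine IsSubnormal.step _ _ (le_normalClosure) (normalClosure_normal (s := (K : Set G))).isSubnormal ?_
    exact (normal_subgroupOf_iff_le_normalizer le_normalClosure).2 hnc
  exact SignalizersComponents.CompBasic.subnormal_pGroup_le_pCore hsn (w.two K hK.1)

/-- the same from `R1Stmt`; in particular for `v ∈ U K` -/
theorem un_of {G : Type u} [Group G] [Finite G] {Om : Set (Subgroup G)} {U : Subgroup G → Subgroup G}
    {K K' : Subgroup G} (hR : R1Stmt.{u}) (w : CVW Om U) (hO : OO (⊤ : Subgroup G) = ⊥) (hK : K ∈ Om) (hK' : K' ∈ Om)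
    (hu : ∀ L ∈ Om, Unl U K L) (hu' : ∀ L ∈ Om, Unl U K' L) (hz : zz K = zz K') (hne : K ≠ K') : K ≤ pCore 2 G :=
  un w hO (hR G _ U hO (rw_unl w)) ⟨hK, hu⟩ ⟨hK', hu'⟩ hz.symm hne

end Cfsg.Agent.Cit.Nil.CVT
end

-- part: Cit/Nil/CVT/Unl
section
set_option linter.all false
open scoped Cfsg.Agent.FastGrp

/-!
# (6b)(CV), the frame: unlinked members of `C(e)`

* `gTwo_lk` : a bond with `al w v = - al v w` gives the linked root `rf w v` of `v`;
* `exists_mem_A` : commuting roots of `C(e)` and `e` lie in a common weak closure;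
* `unl_of_hall` : if no root of the block in `A` is linked to `v`, then `K` is unlinked in `C(e)`;
* `unl_of_zz` : then all members of `C(e)` over `zz K` are unlinked;
* `block_un` : so `K` is the only member of `C(e)` over `zz K` or `U K ≤ O_2(C(e))`.
-/

set_option autoImplicit false
set_option linter.style.haveILetI false
set_option linter.unusedSectionVars false

namespace Cfsg.Agent.Cit.Nil.CVT

open Subgroup Cfsg Cit Tau CV CV1 Cfsg.Agent.Cit.Comp

universe u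

section

variable {G : Type*} [Group G] [Finite G] {Om : Set (Subgroup G)} {U : Subgroup G → Subgroup G}
  {A H K L M N X : Subgroup G} {a e g v w x y : G}

/-- `G_2` bonds -/
theorem gTwo_lk (h : CVW Om U) (hA : IsA Om U A) (hv : v ∈ RR Om U A) (hw : w ∈ RR Om U A) (hl : Lk Om U v w)
    (hg : al Om U w v = -al Om U v w) : al Om U v (rf Om U w v) = -1 ∧ al Om U (rf Om U w v) v = -1 := by
  have h1 : al Om U v (rf Om U w v) = al Om U v v - al Om U w v * al Om U v w := h.al_rf_left hA hw hv hv.1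
  have h2 : al Om U (rf Om U w v) v = al Om U v v - al Om U w v * al Om U v w := by
    rw [h.al_rf' hA hw hv hv.1]
  have h3 : al Om U v v - al Om U w v * al Om U v w = -1 := by
    rw [h.al_self hA hv, hg]
    rcases (lk_iff v w).1 hl with h3 | h3 <;> rw [h3] <;> decide
  exact ⟨h1.trans h3, h2.trans h3⟩

theorem lk_of_neg_one (h1 : al Om U v w = -1) : Lk Om U v w := (lk_iff v w).2 (Or.inr h1)

/-- commuting roots in `C(e)` -/
theorem exists_mem_A (h : CVW Om U) (hA : IsA Om U A) (he : e ∈ A) (hK : K ∈ Om) (hvK : v ∈ U K) (hv : v ∈ RR Om U A)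
    (hL : L ∈ Om) (hLe : L ≤ centralizer {e}) (hx : x ∈ U L) (hx4 : orderOf x = 4) (hc : v * x = x * v) :
    ∃ m, m * e = e * m ∧ cj m K = K ∧ m * x * m⁻¹ ∈ RR Om U A := by
  obtain ⟨M, hM⟩ : ∃ M, M = normalizer (K : Set G) ⊓ centralizer {e} := ⟨_, rfl⟩
  have hAM : A ≤ M := by
    rw [hM]
    exact le_inf (h.A_le_norm hA hK hvK hv.2.1 hv.1) fun a ha => mem_centralizer_singleton_iff.2 (h.comm hA ha he)
  have hxK : x ∈ normalizer (K : Set G) := by
    refine h.norm_of_norm_U hK hvK hv.2.1 ?_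
    rw [← hc, mul_inv_cancel_right]
    exact hvK
  have hxM : x ∈ M := by
    rw [hM]
    exact ⟨hxK, hLe (h.vch.le L hL hx)⟩
  obtain ⟨S, hS, hAS⟩ := exists_syl_ge (CVW.isA_two hA) hAM
  obtain ⟨T, hT, hxT⟩ := exists_syl_ge (CVW.two_zpowers hx4) (zpowers_le.2 hxM)
  obtain ⟨g, hg, hgS⟩ := hS.exists_conj hT
  have hgM := M.inv_mem hg
  rw [hM] at hgM
  refine ⟨g⁻¹, mem_centralizer_singleton_iff.1 hgM.2, mem_normalizer_iff_cj.1 hgM.1, ?_⟩
  have h1 : g⁻¹ * x * g⁻¹⁻¹ ∈ S := by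
    have h2 : x ∈ T := hxT (mem_zpowers x)
    rw [← hgS, mem_cj] at h2
    rwa [inv_inv]
  have h3 : g⁻¹ * x * g⁻¹⁻¹ ∈ RR Om U S :=
    ⟨h1, orderOf_conj_four hx4 _, cj g⁻¹ L, h.hyp.conj L hL _, h.vch.conj_mem hL hx _⟩
  rwa [← RR_WW, h.WW_eq hA hS.2.1 hAS] at h3

/-- no root of the block is linked to `v`: `K` is unlinked in `C(e)` -/
theorem unl_of_hall (h : CVW Om U) (hA : IsA Om U A) (he : e ∈ A) (hK : K ∈ Om) (hX : SNC (centralizer {e}) K X)
    (hvK : v ∈ U K) (hv : v ∈ RR Om U A) (hall : ∀ u ∈ RB Om U A (BL K X), ¬ Lk Om U v u) (hL : L ∈ Om)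
    (hLe : L ≤ centralizer {e}) : Unl U K L := by
  have hKe : K ≤ centralizer {e} := hX.KX.trans hX.XH
  intro v₁ hv₁ w hw hv4 hw4 hc
  have hvw : v * w = w * v := by
    rcases h.eq_or_inv hK hv₁ hv4 hvK hv.2.1 with h1 | h1
    · rw [h1]; exact hc
    · rw [h1]; exact ((show Commute v₁ w from hc).inv_left).eq
  obtain ⟨m, hme, hmK, hmw⟩ := exists_mem_A h hA he hK hvK hv hL hLe hw hw4 hvw
  have hL' : cj m L ∈ Om := h.hyp.conj L hL m
  have hmH : m ∈ centralizer {e} := mem_centralizer_singleton_iff.2 hme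
  have hLe' : cj m L ≤ centralizer {e} := by
    have h1 := cj_mono m hLe
    rwa [mem_normalizer_iff_cj.1 (le_normalizer hmH)] at h1
  have hwL' : m * w * m⁻¹ ∈ U (cj m L) := h.vch.conj_mem hL hw m
  -- linked members of the block
  have key : ∀ w' ∈ RR Om U A, ∀ L' ∈ Om, w' ∈ U L' → L' ≤ centralizer {e} → al Om U v w' = al Om U w' v →
      ¬ Lk Om U v w' := by
    intro w' hw' L' hL' hwL' hLe' hs hl
    obtain ⟨y, hy, x, hx, hxL⟩ := third h hA hK hvK hv hL' hwL' hw' hs hl.1 hl.2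
    exact hall w' ⟨hw', L', hX.lk_BL self_mem_BL hLe' hy hx hxL, hwL'⟩ hl
  by_cases h0 : al Om U v (m * w * m⁻¹) = 0
  · right
    have h1 := (h.comm_of_al_zero hA hK hvK hv.2.1 hv.1 hL' hwL' hmw.2.1 hmw.1 h0).2
    intro x hx y hy
    have hx' : m * x * m⁻¹ ∈ K := by
      rw [← hmK]; exact conj_mem_cj hx
    have h2 := h1 _ hx' _ (conj_mem_cj (g := m) hy)
    have h3 : m * (x * y) * m⁻¹ = m * (y * x) * m⁻¹ := by
      calc m * (x * y) * m⁻¹ = m * x * m⁻¹ * (m * y * m⁻¹) := by group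
        _ = m * y * m⁻¹ * (m * x * m⁻¹) := h2
        _ = m * (y * x) * m⁻¹ := by group
    simpa using h3
  by_cases h2 : al Om U v (m * w * m⁻¹) = 2
  · left
    have h3 : K = cj m L := by
      rcases h.al_two hA hv hmw h2 with h4 | h4
      · rw [h4] at hwL'
        exact h.eq_of_mem hK hL' hvK hwL' hv.2.1
      · rw [h4] at hwL'
        refine h.eq_of_mem hK hL' hvK ?_ hv.2.1
        rw [← inv_inv v]
        exact (U _).inv_mem hwL'
    have h4 : cj m K = cj m L := by rw [hmK]; exact h3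
    exact cj_inj.1 h4
  · exfalso
    have hl : Lk Om U v (m * w * m⁻¹) := ⟨h0, h2⟩
    rcases h.al_odd_symm hA hv hmw h0 h2 with h3 | h3
    · exact key _ hmw _ hL' hwL' hLe' h3.symm hl
    · obtain ⟨g1, g2⟩ := gTwo_lk h hA hv hmw hl h3
      obtain ⟨L₁, hL₁, hwL₁, y, hy, hyX, hyA, -, hrf⟩ := h.exists_root hA hmw
      have hLL : L₁ = cj m L := h.eq_of_mem hL₁ hL' hwL₁ hwL' hmw.2.1
      rw [hLL] at hy
      have h4 : rf Om U (m * w * m⁻¹) v ∈ U (cj y K) := by
        rw [← hrf v hv.1]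
        exact h.vch.conj_mem hK hvK y
      have h5 : cj y K ≤ centralizer {e} := by
        have h6 := cj_mono y hKe
        rwa [mem_normalizer_iff_cj.1 (le_normalizer (hLe' hy))] at h6
      exact key _ (h.rf_mem hA hmw hv) _ (h.hyp.conj K hK y) h4 h5 (g1.trans g2.symm) (lk_of_neg_one g1)

/-- members over the same involution -/
theorem unl_of_zz (h : CVW Om U) (hK : K ∈ Om) (hM : M ∈ Om) (hz : zz K = zz M)
    (hu : ∀ L ∈ Om, L ≤ H → Unl U K L) : ∀ L ∈ Om, L ≤ H → Unl U M L := by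
  intro L hL hLH
  by_cases hKM : K = M
  · rw [← hKM]; exact hu L hL hLH
  intro v' hv' w hw hv4' hw4 hc
  by_contra hcon
  push Not at hcon
  obtain ⟨hML, x₀, hx₀, y₀, hy₀, hxy⟩ := hcon
  obtain ⟨v, hv, hv4⟩ := h.exists_v hK
  have hKv := h.sq_eq hK hv hv4
  have hMv := h.sq_eq hM hv' hv4'
  -- `w` normalises `K`
  have hwz : w * zz K = zz K * w := by
    rw [hz, ← hMv]
    exact ((show Commute w v' from hc.symm).mul_right (show Commute w v' from hc.symm)).eq
  have hwK : w ∈ normalizer (K : Set G) := h.norm_h3 hL hK (h.vch.le L hL hw) (by rw [hw4]) hwz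
  have hvw : v * w = w * v := (h.comm_of_norm hL hK hw hw4 hv hv4 hwK).symm
  have hvv : v * v' = v' * v := h.comm_of_zz_eq hK hM hz hKM (h.vch.le K hK hv) (h.vch.le M hM hv')
  -- a common weak closure
  haveI : Fact (Nat.Prime 2) := ⟨Nat.prime_two⟩
  have hP1 : IsPGroup 2 (zpowers v' ⊔ zpowers w : Subgroup G) := by
    refine (CVW.two_zpowers hv4').to_sup_of_normal_right' (CVW.two_zpowers hw4) ?_
    rw [zpowers_le]
    refine centralizer_le_normalizer _ ?_
    rw [← zpowers_le, zpowers_le]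
    intro y hy
    obtain ⟨i, rfl⟩ := mem_zpowers_iff.1 hy
    exact ((show Commute v' w from hc).zpow_right i).symm.eq
  have hP : IsPGroup 2 (zpowers v ⊔ (zpowers v' ⊔ zpowers w) : Subgroup G) := by
    refine (CVW.two_zpowers hv4).to_sup_of_normal_right' hP1 ?_
    rw [zpowers_le]
    refine centralizer_le_normalizer _ ?_
    have h1 : zpowers v' ⊔ zpowers w ≤ centralizer {v} := by
      rw [sup_le_iff, zpowers_le, zpowers_le, mem_centralizer_singleton_iff, mem_centralizer_singleton_iff]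
      exact ⟨hvv.symm, hvw.symm⟩
    intro y hy
    exact mem_centralizer_singleton_iff.1 (h1 hy)
  obtain ⟨S, hS⟩ := hP.exists_le_sylow
  obtain ⟨B, hB⟩ : ∃ B, B = WW Om U (S : Subgroup G) := ⟨_, rfl⟩
  have hBA : IsA Om U B := ⟨S, hB⟩
  have hvB : v ∈ RR Om U B := by
    rw [hB, RR_WW]; exact ⟨hS (mem_sup_left (mem_zpowers v)), hv4, K, hK, hv⟩
  have hvB' : v' ∈ RR Om U B := by
    rw [hB, RR_WW]; exact ⟨hS (mem_sup_right (mem_sup_left (mem_zpowers v'))), hv4', M, hM, hv'⟩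
  have hwB : w ∈ RR Om U B := by
    rw [hB, RR_WW]; exact ⟨hS (mem_sup_right (mem_sup_right (mem_zpowers w))), hw4, L, hL, hw⟩
  -- `M` and `L` are linked
  have hl : Lk Om U w v' := by
    refine ⟨fun h0 => ?_, fun h2 => ?_⟩
    · exact hxy ((h.comm_of_al_zero hBA hL hw hw4 hwB.1 hM hv' hv4' hvB'.1 h0).2 y₀ hy₀ x₀ hx₀).symm
    · rcases h.al_two hBA hwB hvB' h2 with h3 | h3
      · exact hML (h.eq_of_mem hM hL hv' (by rw [h3]; exact hw) hv4')
      · exact hML (h.eq_of_mem hM hL hv' (by rw [h3]; exact (U L).inv_mem hw) hv4')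
  obtain ⟨L₁, hL₁, hwL₁, y, hy, hyX, hyB, hyy, hrf⟩ := h.exists_root hBA hwB
  have hLL : L₁ = L := h.eq_of_mem hL₁ hL hwL₁ hw hw4
  rw [hLL] at hy hyX
  -- `y` moves `zz K`
  have hmove : y * zz K * y⁻¹ = zz K * zz L := by
    have h1 := hrf (zz K) (h.zz_mem_A hBA hK hv hv4 hvB.1)
    rw [h1, rf]
    have h2 : al Om U w (zz K) = 2 := by
      rw [hz, ← hMv, h.al_sq hBA hwB hvB'.1]
      exact (lk_iff' w v').1 hl
    rw [h2]
    have h3 : (-2 : ZMod 4) = 2 := by decide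
    rw [h3, h.pw_two_eq hL hw hw4]
  have hne : al Om U w v ≠ 0 := by
    intro h0
    have h1 := (h.comm_of_al_zero hBA hL hw hw4 hwB.1 hK hv hv4 hvB.1 h0).2 y hy (zz K) (h.hyp.zz_mem hK)
    rw [h1, mul_inv_cancel_right] at hmove
    exact h.hyp.zz_ne hL (left_eq_mul.1 hmove)
  have hne2 : al Om U w v ≠ 2 := by
    intro h2
    have h1 : al Om U w (v * v) = 0 := by
      rw [h.al_sq hBA hwB hvB.1, h2]; decide
    rw [hKv, hz, ← hMv, h.al_sq hBA hwB hvB'.1, (lk_iff' w v').1 hl] at h1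
    exact absurd h1 (by decide)
  rcases hu L hL hLH v hv w hw hv4 hw4 hvw with h1 | h1
  · rw [← h1] at hw
    rcases h.eq_or_inv hK hv hv4 hw hw4 with h3 | h3
    · exact hne2 (by rw [h3, h.al_self hBA hvB])
    · apply hne2
      rw [h3, h.al_neg hBA hvB hvB.1, h.al_self hBA hvB]
      decide
  · apply hne
    refine h.al_eq hBA hL hw hw4 hwB.1 hy hyX hvB.1 ?_
    rw [neg_zero, pw_zero, mul_one, ← h1 v (h.vch.le K hK hv) y hy, mul_inv_cancel_right]

end

section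

variable {G : Type u} [Group G] [Finite G] {Om : Set (Subgroup G)} {U : Subgroup G → Subgroup G}
  {A H K L M N X : Subgroup G} {a e g v w x y : G}

theorem unl_restr (hu : ∀ L ∈ Om, L ≤ H → Unl U K L) (hKH : K ≤ H) :
    ∀ J ∈ restr Om H, Unl (uH H U) (K.subgroupOf H) J := by
  intro J hJ v hv w hw hv4 hw4 hc
  have hKe : (K.subgroupOf H).map H.subtype = K := map_subgroupOf_eq_of_le hKH
  rw [mem_uH, hKe] at hv
  rw [mem_uH] at hw
  rw [← orderOf_coe] at hv4 hw4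
  rcases hu (J.map H.subtype) hJ (map_subtype_le J) v hv w hw hv4 hw4 (congrArg Subtype.val hc) with h1 | h1
  · left
    apply Subgroup.map_injective H.subtype_injective
    rw [hKe, h1]
  · right
    intro x hx y hy
    exact Subtype.ext (h1 x hx y ⟨y, hy, rfl⟩)

theorem coe_zz (h : CVW Om U) (hK : K ∈ Om) (hKH : K ≤ H) : ((zz (K.subgroupOf H) : H) : G) = zz K := by
  have hKe : (K.subgroupOf H).map H.subtype = K := map_subgroupOf_eq_of_le hKH
  have h1 : ((zz (K.subgroupOf H) : H) : G) = zz ((K.subgroupOf H).map H.subtype) := by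
    have h3 := (CVW.restr h H).hyp.orderOf_zz (subgroupOf_mem_restr hK hKH)
    refine h.hyp.uniq _ (by rw [hKe]; exact hK) _ ?_ ?_
    · exact ⟨_, (CVW.restr h H).hyp.zz_mem (subgroupOf_mem_restr hK hKH), rfl⟩
    · rw [orderOf_coe]; exact h3
  rwa [hKe] at h1

/-- two members of `H` over one involution, one unlinked in `H` -/
theorem le_of_unl (hR : R1Stmt.{u}) (h : CVW Om U) (hH : pPrimeCore 2 H = ⊥) (hK : K ∈ Om) (hM : M ∈ Om)
    (hz : zz K = zz M) (hne : K ≠ M) (hKH : K ≤ H) (hMH : M ≤ H) (hu : ∀ L ∈ Om, L ≤ H → Unl U K L) :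
    K ≤ (pCore 2 H).map H.subtype := by
  have h1 : zz (K.subgroupOf H) = zz (M.subgroupOf H) := by
    apply Subtype.ext
    rw [coe_zz h hK hKH, coe_zz h hM hMH]
    exact hz
  have h2 := un_of hR (CVW.restr h H) (OO_top_eq_bot hH) (subgroupOf_mem_restr hK hKH) (subgroupOf_mem_restr hM hMH)
    (unl_restr hu hKH) (unl_restr (unl_of_zz h hK hM hz hu) hMH) h1 (fun h3 => hne (by
      rw [← map_subgroupOf_eq_of_le hKH, h3, map_subgroupOf_eq_of_le hMH]))
  rw [← map_subgroupOf_eq_of_le hKH]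
  exact map_mono h2

end

end Cfsg.Agent.Cit.Nil.CVT
end

-- part: Cit/Nil/CVA2/Defs
section
set_option linter.all false
open scoped Cfsg.Agent.FastGrp

/-!
# (6b)(CV), components of type `A2`: the interface

`Lkd Om K L` : linked members (different, `zz K`, `zz L` commute, not orthogonal);
`Cl Om` : the class relation (chains of linked members);
`Elem Om U` : the elementary facts (E) of `blueprints/CIT-6b-CV-A2-helper256.md` (v2), proved for `CVA.AW Om U` elsewhere.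
-/

set_option autoImplicit false
set_option linter.style.haveILetI false
set_option linter.unusedSectionVars false

namespace Cfsg.Agent.Cit.Nil.CVA2

open Subgroup Cfsg Cit Tau CV CV1 CVT

variable {G : Type*} [Group G] {Om : Set (Subgroup G)} {U : Subgroup G → Subgroup G} {A K L M N T X : Subgroup G}
  {g : G}

/-- linked members -/
structure Lkd (Om : Set (Subgroup G)) (K L : Subgroup G) : Prop where
  mK : K ∈ Om
  mL : L ∈ Om
  ne : K ≠ L
  comm : zz K * zz L = zz L * zz K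
  north : ¬ Orth K L

/-- the class relation -/
def Cl (Om : Set (Subgroup G)) : Subgroup G → Subgroup G → Prop := Relation.ReflTransGen (Lkd Om)

/-- **the elementary facts (E)** -/
structure Elem (Om : Set (Subgroup G)) (U : Subgroup G → Subgroup G) : Prop where
  cvw : CVW Om U
  /-- E1 -/
  inj : ∀ K ∈ Om, ∀ L ∈ Om, zz K = zz L → K = L
  /-- E2 -/
  commV : ∀ K ∈ Om, ∀ L ∈ Om, zz K * zz L = zz L * zz K → ∀ v ∈ U K, ∀ w ∈ U L, v * w = w * v
  /-- E2b, E2e -/
  third : ∀ K L, Lkd Om K L → ∃ M, Lkd Om K M ∧ Lkd Om L M ∧ zz M = zz K * zz L ∧ (∃ y ∈ L, M = cj y K) ∧ U M ≤ U K ⊔ U L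
  /-- E2c -/
  moves : ∀ K L, Lkd Om K L → ∃ y ∈ L, y * zz K ≠ zz K * y
  /-- E2d -/
  link : ∀ K L M, Lkd Om K L → Lkd Om K M → zz L * zz M = zz M * zz L → ¬ Orth L M
  /-- E2d: at most three pairwise linked members -/
  four : ∀ K L M N, Lkd Om K L → Lkd Om K M → Lkd Om K N → Lkd Om L M → Lkd Om L N → Lkd Om M N → False
  /-- E2e -/
  sign : ∀ K L, Lkd Om K L → ∀ g : G, g * zz K = zz K * g → g * zz L = zz L * g → ∀ v ∈ U K, orderOf v = 4 →
    ∀ w ∈ U L, orderOf w = 4 → (g * v * g⁻¹ = v ↔ g * w * g⁻¹ = w)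
  /-- E4 -/
  omul : ∀ K ∈ Om, ∀ L ∈ Om, Orth K L → ∀ M ∈ Om, zz M ≠ zz K * zz L
  /-- E3 -/
  trans : ∀ T : Subgroup G, IsPGroup 2 T → ∀ K ∈ Om, ∀ L ∈ Om, ∀ M ∈ Om, zz K ∈ T → zz L ∈ T → zz M ∈ T →
    ¬ Orth K L → ¬ Orth L M → ¬ Orth K M
  /-- E3' -/
  chain : ∀ T : Subgroup G, IsPGroup 2 T → ∀ K ∈ Om, ∀ L ∈ Om, zz K ∈ T → zz L ∈ T → ¬ Orth K L → Cl Om K L
  /-- E5: every involution of `A` centralises a member of every component -/
  cent : ∀ A, IsA Om U A → ∀ e ∈ A, e * e = 1 → ∀ K ∈ Om, U K ≤ A → ∃ L ∈ Om, U L ≤ A ∧ Cl Om K L ∧ ∀ x ∈ L, x * e = e * x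
  /-- P: every member with `zz K ∈ T` is equal or linked to one with `U L ≤ A` -/
  rep : ∀ S : Sylow 2 G, ∀ K ∈ Om, zz K ∈ (S : Subgroup G) → ∃ L ∈ Om, U L ≤ WW Om U (S : Subgroup G) ∧ ¬ Orth K L
  /-- E6 -/
  fixz : ∀ S : Sylow 2 G, ∀ g ∈ (S : Subgroup G), ∀ K ∈ Om, U K ≤ WW Om U (S : Subgroup G) → ¬ Orth K (cj g K) →
    ∃ L ∈ Om, U L ≤ WW Om U (S : Subgroup G) ∧ Cl Om K L ∧ g * zz L = zz L * g
  /-- NS: the elements `zz N` of a Sylow group do not move the components -/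
  noswap : ∀ T : Subgroup G, IsPGroup 2 T → ∀ N ∈ Om, zz N ∈ T → ∀ K ∈ Om, zz K ∈ T → ¬ Orth K (cj (zz N) K)
  /-- counting: `Finset`s of pairwise orthogonal members of `A`, fixed points of an involution -/
  count : ∀ A, IsA Om U A → ∀ g ∈ normalizer (A : Set G), g * g = 1 → ∀ J : Finset (Subgroup G),
    (∀ K ∈ J, K ∈ Om ∧ U K ≤ A) → (∀ K ∈ J, ∀ L ∈ J, K ≠ L → Orth K L) →
    2 ^ J.card ≤ Nat.card {e : G // e ∈ A ∧ e * e = 1 ∧ g * e = e * g}

/-! ### Conjugation -/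

variable [Finite G]

theorem orth_cj_iff : Orth (cj g K) (cj g L) ↔ Orth K L := by
  refine ⟨fun h => ?_, fun h => orth_cj h g⟩
  have h1 := orth_cj h g⁻¹
  rwa [cj_inv_cj, cj_inv_cj] at h1

theorem Orth.symm' (h : Orth K L) : Orth L K := ⟨fun e => h.1 e.symm, fun x hx y hy => (h.2 y hy x hx).symm⟩

theorem zz_cj' (h : Hyp Om) (hK : K ∈ Om) (g : G) : zz (cj g K) = g * zz K * g⁻¹ := (h.zz_cj hK g)

theorem Lkd.symm (h : Lkd Om K L) : Lkd Om L K := ⟨h.mL, h.mK, h.ne.symm, h.comm.symm, fun hh => h.north (Orth.symm' hh)⟩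

theorem Lkd.cj (hyp : Hyp Om) (h : Lkd Om K L) (g : G) : Lkd Om (cj g K) (cj g L) where
  mK := hyp.conj K h.mK g
  mL := hyp.conj L h.mL g
  ne := fun hh => h.ne (cj_inj.1 hh)
  comm := by
    rw [zz_cj' hyp h.mK, zz_cj' hyp h.mL]
    calc g * zz K * g⁻¹ * (g * zz L * g⁻¹) = g * (zz K * zz L) * g⁻¹ := by group
      _ = g * (zz L * zz K) * g⁻¹ := by rw [h.comm]
      _ = g * zz L * g⁻¹ * (g * zz K * g⁻¹) := by group
  north := fun hh => h.north (orth_cj_iff.1 hh)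

theorem Cl.refl (K : Subgroup G) : Cl Om K K := Relation.ReflTransGen.refl

theorem Cl.trans (h1 : Cl Om K L) (h2 : Cl Om L M) : Cl Om K M := Relation.ReflTransGen.trans h1 h2

theorem Cl.symm (h : Cl Om K L) : Cl Om L K := by
  induction h with
  | refl => exact Relation.ReflTransGen.refl
  | tail _ h2 ih => exact (Relation.ReflTransGen.single h2.symm).trans ih

theorem Cl.step (h : Lkd Om K L) : Cl Om K L := Relation.ReflTransGen.single h

theorem Cl.cj (hyp : Hyp Om) (h : Cl Om K L) (g : G) : Cl Om (cj g K) (cj g L) := by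
  induction h with
  | refl => exact Relation.ReflTransGen.refl
  | tail _ h2 ih => exact ih.tail (h2.cj hyp g)

theorem Cl.mem (h : Cl Om K L) (hK : K ∈ Om) : L ∈ Om := by
  induction h with
  | refl => exact hK
  | tail _ h2 _ => exact h2.mL

namespace Elem

variable (e : Elem Om U)

include e

/-- an element commuting with `zz K` normalises `K` -/
theorem cj_eq (hK : K ∈ Om) (hg : g * zz K = zz K * g) : cj g K = K := by
  apply e.inj _ (e.cvw.hyp.conj K hK g) _ hK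
  rw [zz_cj' e.cvw.hyp hK, hg, mul_inv_cancel_right]

theorem norm (hK : K ∈ Om) (hg : g * zz K = zz K * g) : g ∈ normalizer (K : Set G) :=
  mem_normalizer_iff_cj.2 (e.cj_eq hK hg)

/-- different members with commuting `zz`s are orthogonal or linked -/
theorem orth_or (hK : K ∈ Om) (hL : L ∈ Om) (hc : zz K * zz L = zz L * zz K) : K = L ∨ Orth K L ∨ Lkd Om K L := by
  by_cases h1 : K = L
  · exact Or.inl h1
  by_cases h2 : Orth K L
  · exact Or.inr (Or.inl h2)
  · exact Or.inr (Or.inr ⟨hK, hL, h1, hc, h2⟩)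

end Elem

end Cfsg.Agent.Cit.Nil.CVA2
end

-- part: Cit/Nil/CV/FW
section
set_option linter.all false
open scoped Cfsg.Agent.FastGrp

/-!
# (6b)(CV), rank at least three, section 4: the world `FW`

`fw_of` : `F*(G) = F` simple has a strongly embedded subgroup (S1174 for the involutions of `A ∩ F`), so its involutions are
conjugate in `F`, and are the `zz K`.
-/

set_option autoImplicit false
set_option linter.style.haveILetI false
set_option linter.unusedSectionVars false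

namespace Cfsg.Agent.Cit.CV

open Subgroup Cfsg Cit Tau Cit.Nil

variable {G : Type*} [Group G] [Finite G] {Om : Set (Subgroup G)} {U : Subgroup G → Subgroup G}
  {A B K L N F : Subgroup G} {a b e f g s t u v w x y : G}

/-- the world at the end of (CV), rank at least three -/
structure FW (Om : Set (Subgroup G)) (U : Subgroup G → Subgroup G) (F : Subgroup G) : Prop where
  cw : CV3.CW Om U
  nos : ∀ A, IsA Om U A → ∀ N ∈ Om, zz N ∈ normalizer (A : Set G) → zz N ∈ A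
  /-- no involution of `B` normalises `A ≠ B` -/
  noi : ∀ A, IsA Om U A → ∀ B, IsA Om U B → A ≠ B → ∀ t ∈ B, t * t = 1 → t ∈ normalizer (A : Set G) → t = 1
  f : ROne.FSimp F
  zF : ∀ K ∈ Om, zz K ∈ F
  inv : ∀ x ∈ F, x * x = 1 → x ≠ 1 → ∃ K ∈ Om, zz K = x
  con : ∀ K ∈ Om, ∀ L ∈ Om, ∃ g ∈ F, g * zz K * g⁻¹ = zz L

/-- the world of helper995 -/
theorem FW.fh (h : FW Om U F) : CV3.FH Om U F := ⟨h.cw, h.f.nor, h.zF, h.inv, h.con⟩

theorem twoCV_of_cw (h : CV3.CW Om U) : TwoCV Om U :=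
  ⟨h.c1, fun A hA B hB hAB => h.c2 A B hA hB hAB⟩

theorem threeCV_of_cw (h : CV3.CW Om U) : ThreeCV Om U := fun _ hA _ hN hs => CV3.no_s h hA hN hs

/-- `zz K ∈ F` -/
theorem CVW.mem_of_fsimp (h : CVW Om U) (f : ROne.FSimp F) (h2 : 2 ∣ Nat.card F) (hK : K ∈ Om) : zz K ∈ F := by
  haveI := f.nor
  haveI := f.sim
  have hO : OO F = ⊥ := by
    have h3 : (OO F).Normal := by
      refine ⟨fun n hn g => ?_⟩
      have h4 : cj g F = F := mem_normalizer_iff_cj.1 (by rw [normalizer_eq_top_iff.2 f.nor]; exact mem_top g)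
      have h5 : cj g (OO F) = OO F := by rw [← OO_cj, h4]
      rw [← h5]
      exact conj_mem_cj hn
    by_contra hne
    have h4 := f.le (N := OO F) (fun g _ n hn => h3.conj_mem n hn g) hne
    exact odd_OO F (h2.trans (card_dvd_of_le h4))
  by_contra hn
  have h4 := h.hyp.lemma_two (K := K) (M := F) h.two hK
    (by rw [normalizer_eq_top_iff.2 f.nor]; exact le_top) hO hn
  apply h.hyp.zz_ne hK
  have h5 : zz K ∈ centralizer (F : Set G) := by
    rw [mem_centralizer_iff]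
    exact fun g hg => mem_centralizer_singleton_iff.1 (h4 hg)
  rwa [f.cen, mem_bot] at h5

/-- the elements of square one in `A ⊓ F` -/
def EE (h : CVW Om U) (hA : IsA Om U A) (F : Subgroup G) : Subgroup G where
  carrier := {x | x ∈ A ∧ x ∈ F ∧ x * x = 1}
  one_mem' := ⟨A.one_mem, F.one_mem, one_mul 1⟩
  mul_mem' := by
    rintro a b ⟨a1, a2, a3⟩ ⟨b1, b2, b3⟩
    refine ⟨A.mul_mem a1 b1, F.mul_mem a2 b2, ?_⟩
    calc a * b * (a * b) = a * (b * a) * b := by group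
      _ = (a * a) * (b * b) := by rw [← h.comm hA a1 b1]; group
      _ = 1 := by rw [a3, b3, one_mul]
  inv_mem' := by
    rintro a ⟨a1, a2, a3⟩
    exact ⟨A.inv_mem a1, F.inv_mem a2, by rw [← mul_inv_rev, a3, inv_one]⟩

/-- the involutions of `A` are strongly closed in `S ≥ A` -/
theorem CVW.closed (h : CVW Om U) (h2 : TwoCV Om U) (h3 : ThreeCV Om U)
    (hlk : ∀ A, IsA Om U A → ∃ v ∈ RR Om U A, ∃ w ∈ RR Om U A, Lk Om U v w) (hA : IsA Om U A) {S : Subgroup G}
    (hS : IsPGroup 2 S) (hAS : A ≤ S) (hu : u ∈ A) (hu2 : u * u = 1) (hg : g * u * g⁻¹ ∈ S) : g * u * g⁻¹ ∈ A := by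
  have hB : IsA Om U (cj g A) := h.isA_cj hA g
  have h5 : g * u * g⁻¹ ∈ cj g A := conj_mem_cj hu
  by_cases hAB : A = cj g A
  · rw [hAB]; exact h5
  have h4 := h.no_inv h2 h3 hlk hA hB hAB h5 (by
    calc g * u * g⁻¹ * (g * u * g⁻¹) = g * (u * u) * g⁻¹ := by group
      _ = 1 := by rw [hu2, mul_one, mul_inv_cancel]) (h.le_norm hA hS hAS hg)
  rw [h4]; exact A.one_mem

/-- **`F` has a strongly embedded subgroup** -/
theorem exists_se (h : CV3.CW Om U) (f : ROne.FSimp F) (h2 : 2 ∣ Nat.card F) (hne : Om.Nonempty)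
    (hc : CloEnd.Crit1174 F) : ∃ H : Subgroup F, IsStronglyEmbedded H := by
  haveI := f.nor
  haveI := f.sim
  have hh := h.toCVW
  have hz : ∀ K ∈ Om, zz K ∈ F := fun K hK => hh.mem_of_fsimp f h2 hK
  -- a Sylow 2-subgroup containing a member
  obtain ⟨K, hK⟩ := hne
  obtain ⟨S, hKS⟩ := (h.two K hK).exists_le_sylow
  set A := WW Om U (S : Subgroup G) with hAdef
  have hA : IsA Om U A := ⟨S, rfl⟩
  have hAS : A ≤ S := WW_le _
  obtain ⟨v, hvK, hv4⟩ := hh.exists_v hK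
  have hvA : v ∈ A := subset_closure ⟨hKS (hh.vch.le K hK hvK), hv4, K, hK, hvK⟩
  have hzA : zz K ∈ A := by rw [← hh.sq_eq hK hvK hv4]; exact A.mul_mem hvA hvA
  have hlk : ∀ A, IsA Om U A → ∃ v ∈ RR Om U A, ∃ w ∈ RR Om U A, Lk Om U v w := by
    intro B hB
    obtain ⟨g, rfl⟩ := hh.isA_conj hA hB
    have hv : g * v * g⁻¹ ∈ RR Om U (cj g A) := (hh.RR_cj g).1 ⟨hvA, hv4, K, hK, hvK⟩
    obtain ⟨w, hw, hl⟩ := h.rk _ hB _ hv
    exact ⟨_, hv, w, hw, hl⟩
  obtain ⟨T, hT⟩ := ROne.exists_sylow_subgroupOf f.nor S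
  set E := (EE hh hA F).subgroupOf F with hE
  refine hc T E ?_ ?_ ?_
  · intro hb
    have h4 : (⟨zz K, hz K hK⟩ : F) ∈ E := ⟨hzA, hz K hK, hh.hyp.zz_mul hK⟩
    rw [hb, mem_bot] at h4
    exact hh.hyp.zz_ne hK (congrArg Subtype.val h4)
  · refine ⟨fun x hx => ?_, fun x hx g hg => ?_⟩
    · rw [hT]; exact hAS hx.1
    · rw [hT] at hg
      have h4 := hh.closed (twoCV_of_cw h) (threeCV_of_cw h) hlk hA S.isPGroup' hAS hx.1 hx.2.2 hg
      refine ⟨h4, (g * x * g⁻¹).2, ?_⟩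
      have h5 : (x : G) * x = 1 := hx.2.2
      change (g : G) * x * (g : G)⁻¹ * ((g : G) * x * (g : G)⁻¹) = 1
      calc (g : G) * x * (g : G)⁻¹ * ((g : G) * x * (g : G)⁻¹) = g * (x * x) * (g : G)⁻¹ := by group
        _ = 1 := by rw [h5, mul_one, mul_inv_cancel]
  · -- the centralisers lie in `N(A)`
    intro htop
    have h4 : (⨆ t : {t : F // t ∈ E ∧ orderOf t = 2}, centralizer ({(t : F)} : Set F)) ≤
        (normalizer (A : Set G)).subgroupOf F := by
      refine iSup_le fun t c hc => ?_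
      obtain ⟨⟨t, htF⟩, ht, ht2⟩ := t
      have ht1 : t ≠ 1 := by
        rintro rfl
        rw [show (⟨1, htF⟩ : F) = 1 from rfl, orderOf_one] at ht2
        omega
      refine h.c1 A hA t ht.1 ht.2.2 ht1 ?_
      rw [mem_centralizer_singleton_iff] at hc ⊢
      exact congrArg Subtype.val hc
    rw [htop, top_le_iff, subgroupOf_eq_top] at h4
    -- `A ⊓ F` is normalised by `F`
    have h5 : A ⊓ F = ⊥ := by
      refine f.eq_bot (fun g hg n hn => ?_) fun x hx y hy => hh.comm hA hx.1 hy.1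
      exact ⟨(mem_normalizer_iff.mp (h4 hg) _).mp hn.1, f.nor.conj_mem _ hn.2 g⟩
    have h6 : zz K ∈ A ⊓ F := ⟨hzA, hz K hK⟩
    rw [h5, mem_bot] at h6
    exact hh.hyp.zz_ne hK h6

theorem fw_of (h : CV3.CW Om U) (f : ROne.FSimp F) (h2 : 2 ∣ Nat.card F) (hne : Om.Nonempty)
    (hc : CloEnd.Crit1174 F) : FW Om U F := by
  have hh := h.toCVW
  have hz : ∀ K ∈ Om, zz K ∈ F := fun K hK => hh.mem_of_fsimp f h2 hK
  obtain ⟨H, hH⟩ := exists_se h f h2 hne hc
  have key : ∀ x (hx : x ∈ F) y (hy : y ∈ F), x * x = 1 → x ≠ 1 → y * y = 1 → y ≠ 1 → ∃ g ∈ F, g * x * g⁻¹ = y := by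
    intro x hx y hy hx2 hx1 hy2 hy1
    have h3 := TwoFusion.StronglyEmbeddedBasic.isConj_of_involutions hH (⟨x, hx⟩ : F) ⟨y, hy⟩
      (by rw [← Subgroup.orderOf_coe]; exact orderOf_eq_prime (by rw [pow_two]; exact hx2) hx1)
      (by rw [← Subgroup.orderOf_coe]; exact orderOf_eq_prime (by rw [pow_two]; exact hy2) hy1)
    obtain ⟨g, hg⟩ := isConj_iff.1 h3
    exact ⟨g, g.2, congrArg Subtype.val hg⟩
  obtain ⟨K, hK⟩ := hne
  have hlk : ∀ A, IsA Om U A → ∃ v ∈ RR Om U A, ∃ w ∈ RR Om U A, Lk Om U v w := by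
    intro B hB
    obtain ⟨v, hvK, hv4⟩ := hh.exists_v hK
    obtain ⟨S, hKS⟩ := (h.two K hK).exists_le_sylow
    obtain ⟨g, rfl⟩ := hh.isA_conj (A := WW Om U (S : Subgroup G)) ⟨S, rfl⟩ hB
    have hvA : v ∈ WW Om U (S : Subgroup G) := subset_closure ⟨hKS (hh.vch.le K hK hvK), hv4, K, hK, hvK⟩
    have hv : g * v * g⁻¹ ∈ RR Om U (cj g (WW Om U (S : Subgroup G))) := (hh.RR_cj g).1 ⟨hvA, hv4, K, hK, hvK⟩
    obtain ⟨w, hw, hl⟩ := h.rk _ hB _ hv
    exact ⟨_, hv, w, hw, hl⟩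
  refine ⟨h, fun A hA N hN hs => CV3.no_s h hA hN hs,
    fun A hA B hB hAB t htB ht2 htA => hh.no_inv (twoCV_of_cw h) (threeCV_of_cw h) hlk hA hB hAB htB ht2 htA,
    f, hz, fun x hx hx2 hx1 => ?_, fun K hK L hL => ?_⟩
  · obtain ⟨g, hg, h3⟩ := key _ (hz K hK) x hx (hh.hyp.zz_mul hK) (hh.hyp.zz_ne hK) hx2 hx1
    exact ⟨cj g K, hh.hyp.conj K hK g, by rw [hh.hyp.zz_cj hK]; exact h3⟩
  · exact key _ (hz K hK) _ (hz L hL) (hh.hyp.zz_mul hK) (hh.hyp.zz_ne hK) (hh.hyp.zz_mul hL) (hh.hyp.zz_ne hL)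

end Cfsg.Agent.Cit.CV
end

-- part: Cit/Nil/CVA2/Conn0A
section
set_option linter.all false
open scoped Cfsg.Agent.FastGrp

/-!
# (6b)(CV), components of type `A2`: CONN0, part A

`F` is a simple normal subgroup with trivial centraliser; one class of members, no orthogonal members.

* `zz_mem` : `zz K ∈ F`; `exists_lkd` : `K` is linked to a conjugate under `F`;
* `exists_syl` : `zz K` is central in a Sylow 2-subgroup of `F`;
* `conn_of` : the class relation has one class if `F` has no strongly embedded subgroup.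
-/

set_option autoImplicit false
set_option linter.style.haveILetI false
set_option linter.unusedSectionVars false

namespace Cfsg.Agent.Cit.Nil.CVA2

open Subgroup Cfsg Cit Tau CV CV1 CVT Cfsg.Agent.Cit.Comp
open Cfsg.Agent.Cit.Nil.ROne (FSimp)
open scoped commutatorElement

variable {G : Type*} [Group G] [Finite G] {Om : Set (Subgroup G)} {U : Subgroup G → Subgroup G}
  {A F K L M N P T X : Subgroup G} {a b g s t u v w x y z : G}

/-! ### The simple normal subgroup -/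

theorem fs_pCore (f : FSimp F) : pCore 2 G = ⊥ := by
  haveI : Fact (Nat.Prime 2) := ⟨Nat.prime_two⟩
  by_contra hb
  have h1 : F ≤ pCore 2 G := f.le (fun g _ n hn => (Lib.Cores.pCore_normal 2 (G := G)).conj_mem n hn g) hb
  have h2 : IsPGroup 2 F := (Lib.Cores.pCore_isPGroup 2).to_le h1
  haveI := f.sim
  haveI : Nontrivial F := IsSimpleGroup.toNontrivial
  have h3 : center F ≠ ⊥ := by
    have := h2.center_nontrivial
    exact (nontrivial_iff_ne_bot _).1 this
  have h4 : center F = ⊤ := (inferInstance : (center F).Normal).eq_bot_or_eq_top.resolve_left h3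
  refine f.na fun x hx y hy => ?_
  have h5 : (⟨x, hx⟩ : F) ∈ center F := by rw [h4]; exact mem_top _
  have h6 := mem_center_iff.1 h5 ⟨y, hy⟩
  exact (congrArg Subtype.val h6).symm

theorem fs_center (f : FSimp F) : center F = ⊥ := by
  haveI := f.sim
  rcases (inferInstance : (center F).Normal).eq_bot_or_eq_top with h | h
  · exact h
  · exfalso
    refine f.na fun x hx y hy => ?_
    have h5 : (⟨x, hx⟩ : F) ∈ center F := by rw [h]; exact mem_top _
    have h6 := mem_center_iff.1 h5 ⟨y, hy⟩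
    exact (congrArg Subtype.val h6).symm

theorem fs_perfect (f : FSimp F) : commutator F = ⊤ := by
  haveI := f.sim
  rcases (inferInstance : (commutator F).Normal).eq_bot_or_eq_top with h | h
  · exfalso
    refine f.na fun x hx y hy => ?_
    have h1 : ⁅(⟨x, hx⟩ : F), (⟨y, hy⟩ : F)⁆ ∈ commutator F := by
      rw [_root_.commutator_def]
      exact commutator_mem_commutator (mem_top _) (mem_top _)
    rw [h, mem_bot, commutatorElement_eq_one_iff_mul_comm] at h1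
    exact congrArg Subtype.val h1
  · exact h

theorem fs_quasi (f : FSimp F) : IsQuasisimple F := by
  haveI := f.sim
  refine ⟨⟨fs_perfect f⟩, ?_⟩
  have e : F ⧸ center F ≃* F := (QuotientGroup.quotientMulEquivOfEq (fs_center f)).trans QuotientGroup.quotientBot
  haveI : Nontrivial (F ⧸ center F) := e.toEquiv.nontrivial
  exact IsSimpleGroup.isSimpleGroup_of_surjective e.symm.toMonoidHom e.symm.surjective

theorem fs_comp (f : FSimp F) : IsComponent F := ⟨f.nor.isSubnormal, fs_quasi f⟩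

theorem fs_not_cent (f : FSimp F) (hz : z ≠ 1) : ¬ F ≤ centralizer {z} := by
  intro h
  apply hz
  have h1 : z ∈ centralizer (F : Set G) := by
    rw [mem_centralizer_iff]
    exact fun x hx => mem_centralizer_singleton_iff.1 (h hx)
  rwa [f.cen, mem_bot] at h1

/-! ### `zz K ∈ F` -/

section world

variable (e : Elem Om U) (f : FSimp F) (hO : pPrimeCore 2 G = ⊥) (hev : EvQ G)
  (no : ∀ K ∈ Om, ∀ L ∈ Om, ¬ Orth K L) (one : ∀ K ∈ Om, ∀ L ∈ Om, ∃ g, L = cj g K)

include e no in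
theorem lkd_of (hK : K ∈ Om) (hL : L ∈ Om) (hne : K ≠ L) (hc : zz K * zz L = zz L * zz K) : Lkd Om K L :=
  ⟨hK, hL, hne, hc, no K hK L hL⟩

include e f hO hev no

theorem exists_lkd (hK : K ∈ Om) : ∃ x ∈ F, Lkd Om K (cj x K) := by
  obtain ⟨x, hx, h1, h2⟩ := CVT.exists_conj hO (fs_pCore f) hev e.cvw hK (fs_comp f)
    (fs_not_cent f (e.cvw.hyp.zz_ne hK))
  have h3 := e.cvw.hyp.conj K hK x
  refine ⟨x, hx, lkd_of e no hK h3 ?_ ?_⟩
  · intro hh
    apply h2
    rw [← e.cvw.hyp.zz_cj hK, ← hh]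
  · rw [e.cvw.hyp.zz_cj hK]
    exact h1

include one in
theorem zz_mem (hK : K ∈ Om) : zz K ∈ F := by
  haveI := f.nor
  obtain ⟨x, hx, hl⟩ := exists_lkd e f hO hev no hK
  obtain ⟨M, hKM, -, hz, -⟩ := e.third _ _ hl
  have h1 : zz M ∈ F := by
    rw [hz, e.cvw.hyp.zz_cj hK]
    have h2 : zz K * (x * zz K * x⁻¹) = (zz K * x * (zz K)⁻¹) * x⁻¹ := by
      rw [e.cvw.hyp.zz_inv hK]; group
    rw [h2]
    exact F.mul_mem (f.nor.conj_mem x hx _) (F.inv_mem hx)
  obtain ⟨g, rfl⟩ := one M hKM.mL K hK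
  rw [e.cvw.hyp.zz_cj hKM.mL]
  exact f.nor.conj_mem _ h1 g

end world

/-! ### A 2-group acting on an odd set -/

theorem exists_fixed (hP : IsPGroup 2 P) {D : Set (Subgroup G)} (hD : ∀ g ∈ P, ∀ L ∈ D, cj g L ∈ D)
    (hodd : ¬ 2 ∣ Nat.card D) : ∃ L ∈ D, ∀ g ∈ P, cj g L = L := by
  haveI : Fact (Nat.Prime 2) := ⟨Nat.prime_two⟩
  let act : MulAction P D :=
    { smul := fun g L => ⟨cj (g : G) L, hD g g.2 L L.2⟩
      one_smul := fun L => Subtype.ext (cj_one _)
      mul_smul := fun g h L => Subtype.ext (by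
        change cj ((g : G) * h) (L : Subgroup G) = cj (g : G) (cj (h : G) L)
        rw [cj_mul]) }
  letI := act
  haveI : Finite D := Set.toFinite D
  obtain ⟨L, hL⟩ := hP.nonempty_fixed_point_of_prime_not_dvd_card D hodd
  exact ⟨L, L.2, fun g hg => congrArg Subtype.val (hL ⟨g, hg⟩)⟩

section world

variable (e : Elem Om U) (no : ∀ K ∈ Om, ∀ L ∈ Om, ¬ Orth K L)

include e no

/-- the Sylow group fixes one of the members of the component -/
theorem exists_fix (S : Sylow 2 G) (hK : K ∈ Om) (hKA : U K ≤ WW Om U (S : Subgroup G)) :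
    ∃ L ∈ Om, U L ≤ WW Om U (S : Subgroup G) ∧ ∀ g ∈ (S : Subgroup G), g * zz L = zz L * g := by
  classical
  obtain ⟨A, hAd⟩ : ∃ A, A = WW Om U (S : Subgroup G) := ⟨_, rfl⟩
  have hA : IsA Om U A := ⟨S, hAd⟩
  rw [← hAd] at hKA ⊢
  have hSA : (S : Subgroup G) ≤ normalizer (A : Set G) := by
    rw [hAd]
    exact le_normalizer.trans (e.cvw.sylow_norm S)
  obtain ⟨D, hDd⟩ : ∃ D : Set (Subgroup G), D = {L | L ∈ Om ∧ U L ≤ A} := ⟨_, rfl⟩
  have hKD : K ∈ D := by rw [hDd]; exact ⟨hK, hKA⟩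
  have hD : ∀ g ∈ (S : Subgroup G), ∀ L ∈ D, cj g L ∈ D := by
    intro g hg L hL
    rw [hDd] at hL ⊢
    refine ⟨e.cvw.hyp.conj L hL.1 g, ?_⟩
    rw [e.cvw.vch.cj L hL.1]
    have h1 := cj_mono g hL.2
    rwa [mem_normalizer_iff_cj.1 (hSA hg)] at h1
  have hzA : ∀ L ∈ D, zz L ∈ A := by
    intro L hL
    rw [hDd] at hL
    obtain ⟨v, hv, hv4⟩ := e.cvw.exists_v hL.1
    rw [← e.cvw.sq_eq hL.1 hv hv4]
    exact A.mul_mem (hL.2 hv) (hL.2 hv)
  have hlk : ∀ L ∈ D, ∀ M ∈ D, L ≠ M → Lkd Om L M := by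
    intro L hL M hM hne
    have h1 := hL
    have h2 := hM
    rw [hDd] at h1 h2
    exact lkd_of e no h1.1 h2.1 hne (e.cvw.comm hA (hzA L hL) (hzA M hM))
  have hodd : ¬ 2 ∣ Nat.card D := by
    by_cases h1 : ∃ L ∈ D, L ≠ K
    · obtain ⟨L, hL, hne⟩ := h1
      have hKL := hlk K hKD L hL hne.symm
      obtain ⟨M, hKM, hLM, -, -, hUM⟩ := e.third _ _ hKL
      have hMD : M ∈ D := by
        rw [hDd] at hL ⊢
        exact ⟨hKM.mL, hUM.trans (sup_le hKA hL.2)⟩
      have h2 : D = {K, L, M} := by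
        ext N
        simp only [Set.mem_insert_iff, Set.mem_singleton_iff]
        constructor
        · intro hN
          by_contra hcon
          push Not at hcon
          exact e.four K L M N hKL hKM (hlk K hKD N hN (Ne.symm hcon.1)) hLM (hlk L hL N hN (Ne.symm hcon.2.1))
            (hlk M hMD N hN (Ne.symm hcon.2.2))
        · rintro (rfl | rfl | rfl)
          exacts [hKD, hL, hMD]
      have h3 : Nat.card D = 3 := by
        rw [h2, Nat.card_coe_set_eq, Set.ncard_eq_three]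
        exact ⟨K, L, M, hKL.ne, hKM.ne, hLM.ne, rfl⟩
      rw [h3]; decide
    · push Not at h1
      have h2 : D = {K} := by
        ext N
        rw [Set.mem_singleton_iff]
        exact ⟨fun hN => h1 N hN, fun hN => by rw [hN]; exact hKD⟩
      rw [h2, Nat.card_coe_set_eq, Set.ncard_singleton]
      decide
  obtain ⟨L, hL, hfix⟩ := exists_fixed S.isPGroup' hD hodd
  rw [hDd] at hL
  refine ⟨L, hL.1, hL.2, fun g hg => ?_⟩
  exact e.cvw.hyp.comm_zz hL.1 (mem_normalizer_iff_cj.2 (hfix g hg))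

end world

theorem isPGroup_zz (e : Elem Om U) (hK : K ∈ Om) : IsPGroup 2 (zpowers (zz K)) :=
  CloEnd.isPGroup_zpowers (e.cvw.hyp.zz_mul hK)

theorem U_le_WW (e : Elem Om U) (hK : K ∈ Om) (hT : U K ≤ T) : U K ≤ WW Om U T := by
  obtain ⟨v, hv, hv4⟩ := e.cvw.exists_v hK
  rw [e.cvw.U_eq hK hv hv4, zpowers_le]
  exact subset_closure ⟨hT hv, hv4, K, hK, hv⟩

theorem zz_mem_of_U (e : Elem Om U) (hK : K ∈ Om) (hT : U K ≤ T) : zz K ∈ T := by
  obtain ⟨v, hv, hv4⟩ := e.cvw.exists_v hK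
  rw [← e.cvw.sq_eq hK hv hv4]
  exact T.mul_mem (hT hv) (hT hv)

theorem cj_F (f : FSimp F) (g : G) : cj g F = F := by
  haveI := f.nor
  exact mem_normalizer_iff_cj.1 (by rw [normalizer_eq_top]; exact mem_top g)

theorem syl_F (f : FSimp F) {S : Subgroup G} (hS : Syl S ⊤) : Syl (S ⊓ F) F := by
  haveI := f.nor
  exact LB.syl_inf_normal hS le_top (by rw [normalizer_eq_top])

theorem syl_top_of_sylow (S : Sylow 2 G) : Syl (S : Subgroup G) ⊤ :=
  ⟨le_top, S.isPGroup', by rw [relIndex_top_right]; exact S.not_dvd_index⟩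

section world

variable (e : Elem Om U) (f : FSimp F) (no : ∀ K ∈ Om, ∀ L ∈ Om, ¬ Orth K L)
  (one : ∀ K ∈ Om, ∀ L ∈ Om, ∃ g, L = cj g K) (zF : ∀ K ∈ Om, zz K ∈ F)

include e f no one

/-- `zz K` is central in a Sylow 2-subgroup of `F` -/
theorem exists_syl (hK : K ∈ Om) : ∃ S : Sylow 2 F, (⟨zz K, zF K hK⟩ : F) ∈ S ∧
    ∀ s ∈ S, Commute s (⟨zz K, zF K hK⟩ : F) := by
  haveI : Fact (Nat.Prime 2) := ⟨Nat.prime_two⟩
  obtain ⟨P, hP⟩ := (e.cvw.two K hK).exists_le_sylow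
  have hKA : U K ≤ WW Om U (P : Subgroup G) := U_le_WW e hK ((e.cvw.vch.le K hK).trans hP)
  obtain ⟨L, hL, hUL, hcen⟩ := exists_fix e no P hK hKA
  obtain ⟨g, rfl⟩ := one L hL K hK
  have h1 : Syl (cj g ((P : Subgroup G) ⊓ F)) F := by
    have h2 := (syl_F f (syl_top_of_sylow P)).cj g
    rwa [cj_F f] at h2
  obtain ⟨S, hS⟩ := h1.exists_sylow
  refine ⟨S, ?_, fun s hs => ?_⟩
  · have h2 : (⟨zz (cj g L), zF _ hK⟩ : F) ∈ (S : Subgroup F) := by
      rw [hS, mem_subgroupOf]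
      change zz (cj g L) ∈ _
      rw [e.cvw.hyp.zz_cj hL]
      exact conj_mem_cj ⟨zz_mem_of_U e hL (hUL.trans (WW_le _)), zF L hL⟩
    exact h2
  · have h2 : s ∈ (S : Subgroup F) := hs
    rw [hS, mem_subgroupOf] at h2
    obtain ⟨p, hp, hps⟩ := h2
    have hps' : (s : G) = g * p * g⁻¹ := hps.symm
    apply Subtype.ext
    change (s : G) * zz (cj g L) = zz (cj g L) * s
    rw [hps', e.cvw.hyp.zz_cj hL]
    have h3 := hcen p hp.1
    calc g * p * g⁻¹ * (g * zz L * g⁻¹) = g * (p * zz L) * g⁻¹ := by group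
      _ = g * (zz L * p) * g⁻¹ := by rw [h3]
      _ = g * zz L * g⁻¹ * (g * p * g⁻¹) := by group

include zF

/-- `F` preserves the class of `K` -/
theorem cl_F (hse : ∀ H : Subgroup F, ¬ IsStronglyEmbedded H) (hc : CloEnd.Crit1175 F) (hK : K ∈ Om) (hg : g ∈ F) :
    Cl Om K (cj g K) := by
  have hyp := e.cvw.hyp
  obtain ⟨M, hM⟩ : ∃ M : Subgroup F, ∀ g : F, g ∈ M ↔ Cl Om K (cj (g : G) K) := by
    refine ⟨{ carrier := {g | Cl Om K (cj (g : G) K)}, mul_mem' := ?_, one_mem' := ?_, inv_mem' := ?_ }, fun g => Iff.rfl⟩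
    · intro a b ha hb
      have h1 : Cl Om (cj (a : G) K) (cj (a : G) (cj (b : G) K)) := Cl.cj hyp hb a
      rw [← cj_mul] at h1
      exact Cl.trans ha h1
    · change Cl Om K (cj (1 : G) K)
      rw [cj_one]
      exact Cl.refl K
    · intro a ha
      have h1 := Cl.cj hyp ha ((a : G)⁻¹)
      rw [cj_inv_cj] at h1
      exact h1.symm
  by_contra hcon
  have hMt : M ≠ ⊤ := by
    intro hh
    apply hcon
    exact (hM ⟨g, hg⟩).1 (by rw [hh]; exact mem_top _)
  obtain ⟨z, hz⟩ : ∃ z : F, z = ⟨zz K, zF K hK⟩ := ⟨_, rfl⟩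
  have hzv : (z : G) = zz K := by rw [hz]
  have hzc : ∀ x : F, ((x * z * x⁻¹ : F) : G) = zz (cj (x : G) K) := by
    intro x
    rw [hyp.zz_cj hK, ← hzv]
    rfl
  have hzM : z ∈ M := by
    rw [hM, hzv, e.cj_eq hK rfl]
    exact Cl.refl K
  have hz2 : orderOf z = 2 := by
    rw [← Subgroup.orderOf_coe, hzv]
    exact hyp.orderOf_zz hK
  obtain ⟨H, hH⟩ := hc M hMt z hz2 hzM (by rw [hz]; exact exists_syl e f no one zF hK) (by
    intro x hx
    rw [hM]
    -- two 2-elements of `M`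
    have h1 : zpowers (zz K) ≤ M.map F.subtype := by
      rw [zpowers_le]
      exact ⟨z, hzM, hzv⟩
    have h2 : zpowers (zz (cj (x : G) K)) ≤ M.map F.subtype := by
      rw [zpowers_le]
      exact ⟨_, hx, hzc x⟩
    have hxK := hyp.conj K hK (x : G)
    obtain ⟨T1, hT1, hl1⟩ := LB.exists_syl_ge (isPGroup_zz e hK) h1
    obtain ⟨T2, hT2, hl2⟩ := LB.exists_syl_ge (isPGroup_zz e hxK) h2
    obtain ⟨m, hm, hmT⟩ := hT1.exists_conj hT2
    obtain ⟨m, hm, rfl⟩ := hm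
    have h3 : zz (cj (m : G) K) ∈ T2 := by
      rw [hyp.zz_cj hK, ← hmT]
      exact conj_mem_cj (hl1 (mem_zpowers _))
    have h4 := e.chain T2 hT2.2.1 _ (hyp.conj K hK m) _ hxK h3 (hl2 (mem_zpowers _)) (no _ (hyp.conj K hK m) _ hxK)
    exact Cl.trans ((hM m).1 hm) h4) (by
    intro x hx hne c hc1
    have hxK := hyp.conj K hK (x : G)
    rw [hM]
    have h1 : Lkd Om K (cj (x : G) K) := by
      refine lkd_of e no hK hxK ?_ ?_
      · intro hh
        apply hne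
        apply Subtype.ext
        rw [hzc, ← hh, hzv]
      · rw [← hzc, ← hzv]
        exact congrArg Subtype.val hx.eq
    obtain ⟨N, hKN, -, hzN, -⟩ := e.third _ _ h1
    have h2 : cj (c : G) N = N := by
      apply e.cj_eq hKN.mL
      rw [hzN, ← hzc, ← hzv]
      exact congrArg Subtype.val (mem_centralizer_singleton_iff.1 hc1)
    have h3 := Cl.step hKN
    have h4 := Cl.cj hyp h3.symm c
    rw [h2] at h4
    exact Cl.trans h3 h4)
  exact hse H hH

/-- **one class of linked members** -/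
theorem conn_of (hse : ∀ H : Subgroup F, ¬ IsStronglyEmbedded H) (hc : CloEnd.Crit1175 F) (hK : K ∈ Om) (hL : L ∈ Om) :
    Cl Om K L := by
  have hyp := e.cvw.hyp
  obtain ⟨T1, hT1, hl1⟩ := LB.exists_syl_ge (isPGroup_zz e hK) (zpowers_le.2 (zF K hK))
  obtain ⟨T2, hT2, hl2⟩ := LB.exists_syl_ge (isPGroup_zz e hL) (zpowers_le.2 (zF L hL))
  obtain ⟨g, hg, hgT⟩ := hT1.exists_conj hT2
  have h3 : zz (cj g K) ∈ T2 := by
    rw [hyp.zz_cj hK, ← hgT]
    exact conj_mem_cj (hl1 (mem_zpowers _))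
  have h4 := e.chain T2 hT2.2.1 _ (hyp.conj K hK g) _ hL h3 (hl2 (mem_zpowers _)) (no _ (hyp.conj K hK g) _ hL)
  exact Cl.trans (cl_F e f no one zF hse hc hK hg) h4

end world

end Cfsg.Agent.Cit.Nil.CVA2
end

-- part: Cit/Nil/CVA2/EndA
section
set_option linter.all false
open scoped Cfsg.Agent.FastGrp

/-!
# (6b)(CV), components of type `A2`: the end, part A: blocks

`EW Om U` : the facts (E), F5, CONN.  `BB Om K` : the members in the class of `K` or orthogonal to `K`;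
`BS Om S` : the members whose class meets `S`.
`EW.bs_eq` : `BS Om S = BB Om K` if `zz K ∈ S`; `EW.bb_eq` : the sets `BB Om K` form a partition;
`ST B` : the stabiliser; `EW.exists_syl` : a 2-subgroup of `ST (BB Om K)` is contained in `S`, `BS Om S = BB Om K`;
`EW.cent_le` = G1; `EW.mem_of` = G2.
-/

set_option autoImplicit false
set_option linter.style.haveILetI false
set_option linter.unusedSectionVars false

namespace Cfsg.Agent.Cit.Nil.CVA2

open Subgroup Cfsg Cit Tau CV CV1 CVT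

variable {G : Type*} [Group G] {Om : Set (Subgroup G)} {U : Subgroup G → Subgroup G}
  {A H K L M N R S T X K' L' : Subgroup G} {e g s t u x y : G} {B : Set (Subgroup G)}

/-- the members in the class of `K` or orthogonal to `K` -/
def BB (Om : Set (Subgroup G)) (K : Subgroup G) : Set (Subgroup G) := {M | M ∈ Om ∧ (Cl Om K M ∨ Orth K M)}

/-- the members whose class meets `S` -/
def BS (Om : Set (Subgroup G)) (S : Subgroup G) : Set (Subgroup G) := {M | M ∈ Om ∧ ∃ L ∈ Om, zz L ∈ S ∧ Cl Om M L}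

/-- the stabiliser of a set of subgroups -/
def ST (B : Set (Subgroup G)) : Subgroup G where
  carrier := {g | cj g '' B = B}
  mul_mem' := by
    intro a b ha hb
    rw [Set.mem_ofPred_eq] at ha hb ⊢
    conv_rhs => rw [← ha, ← hb]
    rw [← Set.image_comp]
    congr 1
    funext K
    exact cj_mul a b K
  one_mem' := by
    rw [Set.mem_ofPred_eq]
    have : (cj (1 : G) : Subgroup G → Subgroup G) = id := by funext K; exact cj_one K
    rw [this, Set.image_id]
  inv_mem' := by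
    intro a ha
    rw [Set.mem_ofPred_eq] at ha ⊢
    conv_lhs => rw [← ha]
    rw [← Set.image_comp]
    have : (cj a⁻¹ ∘ cj a : Subgroup G → Subgroup G) = id := by funext K; exact cj_inv_cj a K
    rw [this, Set.image_id]

theorem mem_ST : g ∈ ST B ↔ cj g '' B = B := Iff.rfl

/-- the world of the end -/
structure EW (Om : Set (Subgroup G)) (U : Subgroup G → Subgroup G) : Prop where
  el : Elem Om U
  f5 : ∀ K L M, Lkd Om K L → M ∈ Om → Orth K M → Orth L M
  conn : ∀ u : G, orderOf u = 2 → ∀ K ∈ Om, K ≤ centralizer {u} →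
    ∃ X, SNC (centralizer {u}) K X ∧ ∀ L ∈ BL K X, Cl Om K L

variable [Finite G]

theorem sylow_of_syl (hS : Syl S ⊤) : ∃ T : Sylow 2 G, (T : Subgroup G) = S := by
  haveI : Fact (Nat.Prime 2) := ⟨Nat.prime_two⟩
  have h1 : ¬ 2 ∣ S.index := by rw [← relIndex_top_right]; exact hS.2.2
  exact ⟨hS.2.1.toSylow h1, rfl⟩

theorem syl_cj' (hS : Syl S ⊤) (g : G) : Syl (cj g S) ⊤ := by
  have := hS.cj g
  rwa [cj_top] at this

/-- 2-subgroups of a subnormal subgroup `X` of `H` are `X`-conjugate into a Sylow subgroup `R` of `H` -/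
theorem exists_conj_sub (hR : Syl R H) (hX : X ≤ H) (hs : (X.subgroupOf H).IsSubnormal) (hK : IsPGroup 2 K)
    (hKX : K ≤ X) : ∃ l ∈ X, cj l K ≤ R := by
  have h1 : ¬ 2 ∣ (R ⊓ X).relIndex X := by
    intro h2
    apply hR.2.2
    have h3 := Cfsg.Agent.SignalizersComponents.PCompCore.relIndex_dvd_index_of_subnormal (R.subgroupOf H) hs
    rw [relIndex_subgroupOf hX] at h3
    rw [inf_relIndex_right] at h2
    exact h2.trans h3
  have h2 : Syl (R ⊓ X) X := ⟨inf_le_right, hR.2.1.to_le inf_le_left, h1⟩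
  obtain ⟨Q, hQ, hKQ⟩ := Cit.exists_syl_ge hK hKX
  obtain ⟨l, hl, hlQ⟩ := hQ.exists_conj h2
  refine ⟨l, hl, ?_⟩
  calc cj l K ≤ cj l Q := cj_mono l hKQ
    _ = R ⊓ X := hlQ
    _ ≤ R := inf_le_left

/-- commuting involutions in a common Sylow subgroup -/
theorem exists_syl_two (hx : x * x = 1) (hy : y * y = 1) (hc : x * y = y * x) (hH : x ∈ H) (hH' : y ∈ H) :
    ∃ S, Syl S H ∧ x ∈ S ∧ y ∈ S := by
  have h2 : ∀ {x : G}, x * x = 1 → IsPGroup 2 (zpowers x) := by
    intro x hx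
    rintro ⟨y, k, rfl⟩
    refine ⟨1, Subtype.ext ?_⟩
    change (x ^ k) ^ 2 ^ 1 = 1
    rw [pow_one, ← zpow_natCast, ← zpow_mul, mul_comm, zpow_mul, zpow_natCast, pow_two, hx, one_zpow]
  have h3 : IsPGroup 2 (zpowers y ⊔ zpowers x : Subgroup G) := by
    refine two_sup_comm (h2 hx) (h2 hy) ?_
    rintro _ ⟨i, rfl⟩ _ ⟨j, rfl⟩
    exact (Commute.zpow_zpow (show Commute x y from hc) i j).eq
  obtain ⟨R, hR, hle⟩ := Cit.exists_syl_ge h3 (show zpowers y ⊔ zpowers x ≤ H from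
    sup_le (zpowers_le.2 hH') (zpowers_le.2 hH))
  exact ⟨R, hR, hle (mem_sup_right (mem_zpowers x)), hle (mem_sup_left (mem_zpowers y))⟩

theorem cj_BS (hyp : Hyp Om) (g : G) : cj g '' BS Om S = BS Om (cj g S) := by
  have key : ∀ (g : G) (S : Subgroup G), cj g '' BS Om S ⊆ BS Om (cj g S) := by
    rintro g S _ ⟨M, ⟨hM, L, hL, hz, hc⟩, rfl⟩
    refine ⟨hyp.conj M hM g, cj g L, hyp.conj L hL g, ?_, hc.cj hyp g⟩
    rw [zz_cj' hyp hL]
    exact conj_mem_cj hz
  refine Set.Subset.antisymm (key g S) ?_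
  intro M hM
  have h1 := key g⁻¹ (cj g S) ⟨M, hM, rfl⟩
  rw [cj_inv_cj] at h1
  exact ⟨cj g⁻¹ M, h1, cj_cj_inv g M⟩

theorem cj_BB (hyp : Hyp Om) (g : G) : cj g '' BB Om K = BB Om (cj g K) := by
  have key : ∀ (g : G) (K : Subgroup G), cj g '' BB Om K ⊆ BB Om (cj g K) := by
    rintro g K _ ⟨M, ⟨hM, hc⟩, rfl⟩
    refine ⟨hyp.conj M hM g, ?_⟩
    rcases hc with hc | hc
    · exact Or.inl (hc.cj hyp g)
    · exact Or.inr (orth_cj_iff.2 hc)
  refine Set.Subset.antisymm (key g K) ?_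
  intro M hM
  have h1 := key g⁻¹ (cj g K) ⟨M, hM, rfl⟩
  rw [cj_inv_cj] at h1
  exact ⟨cj g⁻¹ M, h1, cj_cj_inv g M⟩

theorem self_mem_BB (hK : K ∈ Om) : K ∈ BB Om K := ⟨hK, Or.inl (Cl.refl K)⟩

namespace EW

variable (w : EW Om U)
include w

theorem hyp : Hyp Om := w.el.cvw.hyp

theorem orth_cl (h : Cl Om K L) (hM : M ∈ Om) (ho : Orth K M) : Orth L M := by
  induction h with
  | refl => exact ho
  | tail _ h2 ih => exact w.f5 _ _ _ h2 hM ih

theorem not_orth (hL : L ∈ Om) (h : Cl Om K L) : ¬ Orth K L := fun ho => (w.orth_cl h hL ho).1 rfl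

theorem order_zz (hK : K ∈ Om) : orderOf (zz K) = 2 :=
  orderOf_eq_prime (by rw [pow_two]; exact w.hyp.zz_mul hK) (w.hyp.zz_ne hK)

/-- the class of a member centralised by an involution `t` meets the Sylow subgroups of `C(t)` -/
theorem mem_BS (ht : orderOf t = 2) (hK : K ∈ Om) (hKt : K ≤ centralizer {t}) (hR : Syl R (centralizer {t}))
    (hRS : R ≤ S) : K ∈ BS Om S := by
  obtain ⟨X, hX, hcl⟩ := w.conn t ht K hK hKt
  obtain ⟨l, hl, hle⟩ := exists_conj_sub hR hX.XH hX.sn (w.el.cvw.two K hK) hX.KX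
  have hL := w.hyp.conj K hK l
  exact ⟨hK, cj l K, hL, hRS (hle (w.hyp.zz_mem hL)), hcl _ ⟨l, hl, rfl⟩⟩

theorem bs_sub (hS : IsPGroup 2 S) (hK : K ∈ Om) (hz : zz K ∈ S) : BS Om S ⊆ BB Om K := by
  rintro M ⟨hM, L, hL, hzL, hc⟩
  refine ⟨hM, ?_⟩
  by_cases ho : Orth K L
  · right
    exact Orth.symm' (w.orth_cl hc.symm hK (Orth.symm' ho))
  · left
    exact (w.el.chain S hS K hK L hL hz hzL ho).trans hc.symm

/-- **(B)** -/
theorem bs_eq (hS : Syl S ⊤) (hK : K ∈ Om) (hz : zz K ∈ S) : BS Om S = BB Om K := by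
  have hzz := w.hyp.zz_mul hK
  have hmem : zz K ∈ centralizer {zz K} := mem_centralizer_singleton_iff.2 rfl
  obtain ⟨R, hR, hzR, -⟩ := exists_syl_two hzz hzz rfl hmem hmem
  obtain ⟨S₀, hS₀, hRS⟩ := exists_top hR.2.1
  have h1 : BB Om K = BS Om S₀ := by
    refine Set.Subset.antisymm ?_ (w.bs_sub hS₀.2.1 hK (hRS hzR))
    rintro M ⟨hM, hc | ho⟩
    · exact ⟨hM, K, hK, hRS hzR, hc.symm⟩
    · refine w.mem_BS (w.order_zz hK) hM ?_ hR hRS
      intro y hy
      exact mem_centralizer_singleton_iff.2 (ho.2 _ (w.hyp.zz_mem hK) y hy).symm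
  obtain ⟨g, -, hg⟩ := hS₀.exists_conj hS
  refine Set.eq_of_subset_of_ncard_le (w.bs_sub hS.2.1 hK hz) ?_ (Set.toFinite _)
  rw [h1, ← hg, ← cj_BS w.hyp g, Set.ncard_image_of_injective _ (cj_injective g)]

theorem bb_eq (hK : K ∈ Om) (hM : M ∈ BB Om K) : BB Om M = BB Om K := by
  have key : ∀ K ∈ Om, ∀ M ∈ Om, zz K * zz M = zz M * zz K → BB Om M = BB Om K := by
    intro K hK M hM hc
    obtain ⟨S, hS, h1, h2⟩ := exists_syl_two (w.hyp.zz_mul hK) (w.hyp.zz_mul hM) hc (mem_top (zz K)) (mem_top (zz M))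
    rw [← w.bs_eq hS hM h2, ← w.bs_eq hS hK h1]
  obtain ⟨hM, hc | ho⟩ := hM
  · clear hM
    induction hc with
    | refl => rfl
    | tail _ h2 ih => rw [key _ h2.mK _ h2.mL h2.comm, ih]
  · exact key K hK M hM (ho.2 _ (w.hyp.zz_mem hK) _ (w.hyp.zz_mem hM))

theorem mem_ST_BB (K : Subgroup G) : g ∈ ST (BB Om K) ↔ BB Om (cj g K) = BB Om K := by
  rw [mem_ST, cj_BB w.hyp]

theorem le_ST (hS : Syl S ⊤) (hK : K ∈ Om) (hz : zz K ∈ S) : S ≤ ST (BB Om K) := by
  intro g hg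
  rw [mem_ST, ← w.bs_eq hS hK hz, cj_BS w.hyp, mem_normalizer_iff_cj.1 (le_normalizer hg)]

/-- **(M1)** -/
theorem exists_syl (hK : K ∈ Om) (hT : IsPGroup 2 T) (hTM : T ≤ ST (BB Om K)) :
    ∃ S, Syl S ⊤ ∧ T ≤ S ∧ BS Om S = BB Om K := by
  have hzz := w.hyp.zz_mul hK
  obtain ⟨S₀, hS₀, hz, -⟩ := exists_syl_two hzz hzz rfl (mem_top (zz K)) (mem_top (zz K))
  have h1 := w.le_ST hS₀ hK hz
  have h2 : Syl S₀ (ST (BB Om K)) := by
    refine ⟨h1, hS₀.2.1, fun h3 => hS₀.2.2 ?_⟩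
    rw [relIndex_top_right]
    exact h3.trans (relIndex_dvd_index_of_le h1)
  obtain ⟨S₁, hS₁, hTS⟩ := Cit.exists_syl_ge hT hTM
  obtain ⟨m, hm, rfl⟩ := h2.exists_conj hS₁
  refine ⟨_, syl_cj' hS₀ m, hTS, ?_⟩
  rw [← cj_BS w.hyp, w.bs_eq hS₀ hK hz]
  exact hm

theorem exists_syl_elt (hK : K ∈ Om) (hx : x * x = 1) (hxM : x ∈ ST (BB Om K)) :
    ∃ S, Syl S ⊤ ∧ x ∈ S ∧ BS Om S = BB Om K := by
  obtain ⟨T, hT, hxT, -⟩ := exists_syl_two hx hx rfl hxM hxM
  obtain ⟨S, hS, hTS, h1⟩ := w.exists_syl hK hT.2.1 hT.1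
  exact ⟨S, hS, hTS hxT, h1⟩

/-- **(G1')** -/
theorem bb_eq_of_cent (ht : orderOf t = 2) (hK : K ∈ Om) (hKt : K ≤ centralizer {t}) (hL : L ∈ Om)
    (hLt : L ≤ centralizer {t}) : BB Om L = BB Om K := by
  obtain ⟨R, hR, hKR⟩ := Cit.exists_syl_ge (w.el.cvw.two K hK) hKt
  obtain ⟨S, hS, hRS⟩ := exists_top hR.2.1
  have h1 := w.mem_BS ht hL hLt hR hRS
  rw [w.bs_eq hS hK (hRS (hKR (w.hyp.zz_mem hK)))] at h1
  exact w.bb_eq hK h1

/-- **(G1)** -/
theorem cent_le (ht : orderOf t = 2) (hK : K ∈ Om) (hKt : K ≤ centralizer {t}) :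
    centralizer {t} ≤ ST (BB Om K) := by
  intro c hc
  rw [w.mem_ST_BB]
  refine w.bb_eq_of_cent ht hK hKt (w.hyp.conj K hK c) ?_
  have h1 : cj c (centralizer {t}) = centralizer {t} := mem_normalizer_iff_cj.1 (le_normalizer hc)
  rw [← h1]
  exact cj_mono c hKt

/-! ### representatives in `A` -/

theorem zz_mem_A (hK : K ∈ Om) (hKA : U K ≤ A) : zz K ∈ A := by
  obtain ⟨v, hv, hv4⟩ := w.el.cvw.exists_v hK
  rw [← w.el.cvw.sq_eq hK hv hv4]
  exact A.mul_mem (hKA hv) (hKA hv)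

theorem rep_of (hS : Syl S ⊤) (hK : K ∈ BS Om S) : ∃ L ∈ Om, U L ≤ WW Om U S ∧ Cl Om K L := by
  obtain ⟨T, rfl⟩ := sylow_of_syl hS
  obtain ⟨hK, L, hL, hzL, hc⟩ := hK
  obtain ⟨L', hL', hU, ho⟩ := w.el.rep T L hL hzL
  exact ⟨L', hL', hU, hc.trans (w.el.chain T hS.2.1 L hL L' hL' hzL (WW_le _ (w.zz_mem_A hL' hU)) ho)⟩

theorem isA (hS : Syl S ⊤) : IsA Om U (WW Om U S) := by
  obtain ⟨T, rfl⟩ := sylow_of_syl hS
  exact ⟨T, rfl⟩

/-- an element `g ∈ S` fixing the class of `K ∈ BS Om S` commutes with some `zz L`, `L` in this class -/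
theorem fix_of (hS : Syl S ⊤) (hg : g ∈ S) (hK : K ∈ BS Om S) (hc : Cl Om K (cj g K)) :
    ∃ L ∈ Om, Cl Om K L ∧ zz L ∈ WW Om U S ∧ g * zz L = zz L * g := by
  obtain ⟨L, hL, hU, hKL⟩ := w.rep_of hS hK
  have h1 : Cl Om L (cj g L) := hKL.symm.trans (hc.trans (hKL.cj w.hyp g))
  have h2 := w.not_orth (w.hyp.conj L hL g) h1
  obtain ⟨T, rfl⟩ := sylow_of_syl hS
  obtain ⟨L', hL', hU', hc', hg'⟩ := w.el.fixz T g hg L hL hU h2
  exact ⟨L', hL', hKL.trans hc', w.zz_mem_A hL' hU', hg'⟩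

/-- **(G2)**, main step: an involution centralising a member of another block is not contained in `ST (BB Om K)` -/
theorem block_eq (hK : K ∈ Om) (hu : orderOf u = 2) (hL : L ∈ Om) (hLu : L ≤ centralizer {u})
    (huM : u ∈ ST (BB Om K)) (hg : ∃ g, L = cj g K) : BB Om L = BB Om K := by
  classical
  by_contra hne
  obtain ⟨g, rfl⟩ := hg
  have huu : u * u = 1 := by rw [← pow_two, ← hu, pow_orderOf_eq_one]
  have hC := w.cent_le hu hL hLu
  obtain ⟨S, hS, huS, hSB⟩ := w.exists_syl_elt hK huu huM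
  obtain ⟨T, hTS⟩ := sylow_of_syl hS
  have hA := w.isA hS
  -- the two blocks
  have hdiff : ∀ {M : Subgroup G}, M ∈ Om → zz M ∈ ST (BB Om K) → zz M ∈ ST (BB Om (cj g K)) → False := by
    intro M hM h1 h2
    obtain ⟨S₁, hS₁, hz₁, e1⟩ := w.exists_syl_elt hK (w.hyp.zz_mul hM) h1
    obtain ⟨S₂, hS₂, hz₂, e2⟩ := w.exists_syl_elt hL (w.hyp.zz_mul hM) h2
    apply hne
    rw [← e1, ← e2, w.bs_eq hS₁ hM hz₁, w.bs_eq hS₂ hM hz₂]
  have hSle : S ≤ ST (BB Om K) := by
    intro x hx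
    rw [mem_ST, ← hSB, cj_BS w.hyp, mem_normalizer_iff_cj.1 (le_normalizer hx)]
  -- a maximal set of pairwise orthogonal members of `A`
  obtain ⟨J, hJ⟩ := (Set.toFinite {J : Finset (Subgroup G) | (∀ K ∈ J, K ∈ Om ∧ U K ≤ WW Om U S) ∧
    ∀ K ∈ J, ∀ L ∈ J, K ≠ L → Orth K L}).exists_maximal ⟨∅, by simp, by simp⟩
  have hJmax : ∀ L ∈ Om, U L ≤ WW Om U S → ∃ M ∈ J, Cl Om L M := by
    intro L hL hU
    by_contra hcon
    push Not at hcon
    have h1 : ∀ M ∈ J, Orth L M := by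
      intro M hM
      by_contra ho
      exact hcon M hM (w.el.chain S hS.2.1 L hL M (hJ.prop.1 M hM).1 (WW_le _ (w.zz_mem_A hL hU))
        (WW_le _ (w.zz_mem_A (hJ.prop.1 M hM).1 (hJ.prop.1 M hM).2)) ho)
    have h2 : L ∉ J := fun h3 => (h1 L h3).1 rfl
    have h3 : insert L J ≤ J := by
      refine hJ.le_of_ge ⟨?_, ?_⟩ (Finset.subset_insert _ _)
      · intro M hM
        rcases Finset.mem_insert.1 hM with rfl | hM
        · exact ⟨hL, hU⟩
        · exact hJ.prop.1 M hM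
      · intro M hM N hN hMN
        rcases Finset.mem_insert.1 hM with e1 | hM' <;> rcases Finset.mem_insert.1 hN with e2 | hN'
        · exact absurd (e1.trans e2.symm) hMN
        · rw [e1]; exact h1 N hN'
        · rw [e2]; exact Orth.symm' (h1 M hM')
        · exact hJ.prop.2 M hM' N hN' hMN
    exact h2 (h3 (Finset.mem_insert_self L J))
  have hJB : ∀ M ∈ BB Om K, ∃ N ∈ J, Cl Om M N := by
    intro M hM
    rw [← hSB] at hM
    obtain ⟨M', hM', hU', hc⟩ := w.rep_of hS hM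
    obtain ⟨N, hN, hc'⟩ := hJmax M' hM' hU'
    exact ⟨N, hN, hc.trans hc'⟩
  have hJB' : ∀ M ∈ BB Om (cj g K), ∃ N ∈ J.image (cj g), Cl Om M N := by
    intro M hM
    rw [← cj_BB w.hyp] at hM
    obtain ⟨M', hM', rfl⟩ := hM
    obtain ⟨N, hN, hc⟩ := hJB M' hM'
    exact ⟨cj g N, Finset.mem_image_of_mem _ hN, hc.cj w.hyp g⟩
  -- `u` fixes no component of `A`
  have hnS : S ≤ normalizer (WW Om U S : Set G) := le_normalizer.trans (w.el.cvw.normalizer_le S)
  have hcount := w.el.count _ hA u (hnS huS) huu J hJ.prop.1 hJ.prop.2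
  obtain ⟨K₁, hK₁⟩ : ∃ K₁, K₁ ∈ BB Om K := ⟨K, self_mem_BB hK⟩
  obtain ⟨K₂, hK₂, hU₂, -⟩ := w.rep_of hS (hSB ▸ hK₁)
  -- the elements of `C_A(u)` of order 2 fix no class of the other block
  have hfree : ∀ e ∈ WW Om U S, e * e = 1 → u * e = e * u → e ≠ 1 → ∀ M ∈ BB Om (cj g K), ¬ Cl Om M (cj e M) := by
    intro e heA hee heu he1 M hM hc
    have he2 : orderOf e = 2 := orderOf_eq_prime (by rw [pow_two]; exact hee) he1
    have heM' : e ∈ ST (BB Om (cj g K)) := hC (mem_centralizer_singleton_iff.2 heu.symm)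
    obtain ⟨S₂, hS₂, heS₂, hB₂⟩ := w.exists_syl_elt hL hee heM'
    obtain ⟨L₃, hL₃, hc₃, -, he₃⟩ := w.fix_of hS₂ heS₂ (hB₂ ▸ hM) hc
    obtain ⟨L₄, hL₄, hU₄, -, he₄⟩ := w.el.cent _ hA e heA hee K₂ hK₂ hU₂
    have h5 : BB Om L₄ = BB Om K := by rw [← hSB, w.bs_eq hS hL₄ (WW_le _ (w.zz_mem_A hL₄ hU₄))]
    have h6 : L₄ ≤ centralizer {e} := fun x hx => mem_centralizer_singleton_iff.2 (he₄ x hx)
    have h7 := w.cent_le he2 hL₄ h6
    rw [h5] at h7
    refine hdiff hL₃ (h7 (mem_centralizer_singleton_iff.2 he₃.symm)) ?_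
    have h8 : BB Om L₃ = BB Om (cj g K) := by
      rw [← w.bb_eq hL hM]
      exact w.bb_eq hM.1 ⟨hL₃, Or.inl hc₃⟩
    obtain ⟨S₃, hS₃, hz₃, -⟩ := exists_syl_two (w.hyp.zz_mul hL₃) (w.hyp.zz_mul hL₃) rfl (mem_top (zz L₃)) (mem_top (zz L₃))
    rw [← h8]
    exact w.le_ST hS₃ hL₃ hz₃ hz₃
  -- counting
  have hL' := self_mem_BB hL
  have hch : ∀ e : {e : G // e ∈ WW Om U S ∧ e * e = 1 ∧ u * e = e * u}, ∃ N : {N // N ∈ J.image (cj g)},
      Cl Om (cj (e : G) (cj g K)) N := by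
    intro e
    have h1 : (e : G) ∈ ST (BB Om (cj g K)) := hC (mem_centralizer_singleton_iff.2 e.2.2.2.symm)
    have h2 : cj (e : G) (cj g K) ∈ BB Om (cj g K) := by
      rw [mem_ST] at h1
      rw [← h1]
      exact ⟨_, hL', rfl⟩
    obtain ⟨N, hN, hc⟩ := hJB' _ h2
    exact ⟨⟨N, hN⟩, hc⟩
  choose f hf using hch
  have hinj : Function.Injective f := by
    intro e₁ e₂ h1
    have h2 : Cl Om (cj (e₁ : G) (cj g K)) (cj (e₂ : G) (cj g K)) := (hf e₁).trans (h1 ▸ (hf e₂).symm)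
    have h3 := h2.cj w.hyp (e₁ : G)⁻¹
    rw [cj_inv_cj, ← cj_mul] at h3
    by_contra hne'
    have hcA : (e₁ : G) * e₂ = e₂ * e₁ := w.el.cvw.comm hA e₁.2.1 e₂.2.1
    have hi : (e₁ : G)⁻¹ = e₁ := inv_eq_of_mul_eq_one_right e₁.2.2.1
    rw [hi] at h3
    refine hfree ((e₁ : G) * e₂) (mul_mem e₁.2.1 e₂.2.1) ?_ ?_ ?_ _ hL' h3
    · calc (e₁ : G) * e₂ * (e₁ * e₂) = e₁ * (e₂ * e₁) * e₂ := by group
        _ = (e₁ * e₁) * (e₂ * e₂) := by rw [← hcA]; group
        _ = 1 := by rw [e₁.2.2.1, e₂.2.2.1, one_mul]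
    · rw [← mul_assoc, e₁.2.2.2, mul_assoc, e₂.2.2.2, mul_assoc]
    · intro h4
      apply hne'
      apply Subtype.ext
      rw [← hi]
      exact inv_eq_of_mul_eq_one_right h4
  have h1 := Nat.card_le_card_of_injective f hinj
  have h2 : Nat.card {N // N ∈ J.image (cj g)} ≤ J.card := by
    rw [Nat.card_eq_fintype_card, Fintype.card_coe]
    exact Finset.card_image_le
  have h3 : J.card < 2 ^ J.card := Nat.lt_two_pow_self
  omega

/-- **(G2)** -/
theorem mem_of (hK : K ∈ Om) (hu : orderOf u = 2) (hKu : K ≤ centralizer {u}) (hg : g * u * g⁻¹ ∈ ST (BB Om K)) :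
    g ∈ ST (BB Om K) := by
  rw [w.mem_ST_BB]
  refine w.block_eq hK (u := g * u * g⁻¹) ?_ (w.hyp.conj K hK g) ?_ hg ⟨g, rfl⟩
  · rw [← MulAut.conj_apply, MulEquiv.orderOf_eq]; exact hu
  · rintro x hx
    rw [mem_cj] at hx
    have h1 := mem_centralizer_singleton_iff.1 (hKu hx)
    rw [mem_centralizer_singleton_iff]
    calc x * (g * u * g⁻¹) = g * ((g⁻¹ * x * g) * u) * g⁻¹ := by group
      _ = g * (u * (g⁻¹ * x * g)) * g⁻¹ := by rw [h1]
      _ = g * u * g⁻¹ * x := by group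

end EW

end Cfsg.Agent.Cit.Nil.CVA2
end

-- part: Cit/Nil/CVA2/End
section
set_option linter.all false
open scoped Cfsg.Agent.FastGrp

/-!
# (6b)(CV), components of type `A2`: the end

`E0 Om U A` : generated by the `zz K`, `U K ≤ A`.  `Act Om U A K w` : `w` acts on the class of `K` as `1` or as `zz K'`.
`EW.act_of_mem`, `EW.two` : commuting elements `w`, `w'` of this kind: `w * w'` centralises a member of the class;
`EW.not_le` : `F` does not fix the block; `false_of`.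
-/

set_option autoImplicit false
set_option linter.style.haveILetI false
set_option linter.unusedSectionVars false

namespace Cfsg.Agent.Cit.Nil.CVA2

open Subgroup Cfsg Cit Tau CV CV1 CVT Cfsg.Agent.Cit.Nil.ROne

variable {G : Type*} [Group G] {Om : Set (Subgroup G)} {U : Subgroup G → Subgroup G}
  {A F H K L M N R S T X K' L' : Subgroup G} {c d e g s t u x y w₁ w₂ : G}

/-- generated by the `zz K`, `U K ≤ A` -/
def E0 (Om : Set (Subgroup G)) (U : Subgroup G → Subgroup G) (A : Subgroup G) : Subgroup G :=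
  closure {z | ∃ K ∈ Om, U K ≤ A ∧ z = zz K}

/-- `w` acts on the class of `K` as `1` or as `zz K'`, `K'` in the class -/
def Act (Om : Set (Subgroup G)) (U : Subgroup G → Subgroup G) (A K : Subgroup G) (g : G) : Prop :=
  ∃ c : G, (c = 1 ∨ ∃ K' ∈ Om, U K' ≤ A ∧ Cl Om K K' ∧ c = zz K') ∧ ∀ L, Cl Om K L → ∀ x ∈ L, x * (c * g) = c * g * x

variable [Finite G]

theorem cj_E0 (hyp : Hyp Om) (vch : VChoice Om U) (g : G) (hx : x ∈ E0 Om U A) : g * x * g⁻¹ ∈ E0 Om U (cj g A) := by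
  have h1 : E0 Om U A ≤ cj g⁻¹ (E0 Om U (cj g A)) := by
    rw [E0, closure_le]
    rintro z ⟨K, hK, hU, rfl⟩
    have h2 : g * zz K * g⁻¹ ∈ E0 Om U (cj g A) := by
      rw [← zz_cj' hyp hK]
      refine subset_closure ⟨cj g K, hyp.conj K hK g, ?_, rfl⟩
      rw [vch.cj K hK g]
      exact cj_mono g hU
    rw [SetLike.mem_coe, mem_cj, inv_inv]
    exact h2
  have h2 := h1 hx
  rwa [mem_cj, inv_inv] at h2

namespace EW

variable (w : EW Om U)
include w

theorem e0_le (A : Subgroup G) : E0 Om U A ≤ A := by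
  rw [E0, closure_le]
  rintro z ⟨K, hK, hU, rfl⟩
  exact w.zz_mem_A hK hU

theorem act_of_mem (hS : Syl S ⊤) (hK : K ∈ BS Om S) (hx : x ∈ E0 Om U (WW Om U S)) : Act Om U (WW Om U S) K x := by
  have hA := w.isA hS
  obtain ⟨K₁, hK₁, hU₁, hc₁⟩ := w.rep_of hS hK
  have hcA : ∀ {a b : G}, a ∈ WW Om U S → b ∈ WW Om U S → a * b = b * a := fun ha hb => w.el.cvw.comm hA ha hb
  have hcmem : ∀ {c : G}, (c = 1 ∨ ∃ K' ∈ Om, U K' ≤ WW Om U S ∧ Cl Om K K' ∧ c = zz K') → c ∈ WW Om U S ∧ c * c = 1 := by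
    rintro c (rfl | ⟨K', hK', hU', -, rfl⟩)
    · exact ⟨one_mem _, one_mul 1⟩
    · exact ⟨w.zz_mem_A hK' hU', w.hyp.zz_mul hK'⟩
  rw [E0] at hx
  induction hx using closure_induction with
  | mem z hz =>
    obtain ⟨M, hM, hU, rfl⟩ := hz
    by_cases hc : Cl Om K M
    · refine ⟨zz M, Or.inr ⟨M, hM, hU, hc, rfl⟩, fun L _ x _ => ?_⟩
      rw [w.hyp.zz_mul hM, mul_one, one_mul]
    · refine ⟨1, Or.inl rfl, fun L hL x hx => ?_⟩
      have h1 : Orth K₁ M := by
        by_contra ho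
        exact hc (hc₁.trans (w.el.chain S hS.2.1 K₁ hK₁ M hM (WW_le _ (w.zz_mem_A hK₁ hU₁))
          (WW_le _ (w.zz_mem_A hM hU)) ho))
      have h2 : Orth L M := w.orth_cl (hc₁.symm.trans hL) hM h1
      rw [one_mul]
      exact h2.2 x hx _ (w.hyp.zz_mem hM)
  | one => exact ⟨1, Or.inl rfl, fun L _ x _ => by rw [one_mul, mul_one, one_mul]⟩
  | mul a b ha hb iha ihb =>
    obtain ⟨c, hc, h1⟩ := iha
    obtain ⟨d, hd, h2⟩ := ihb
    have hda : d * a = a * d := hcA (hcmem hd).1 (w.e0_le _ ha)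
    have h3 : ∀ L, Cl Om K L → ∀ x ∈ L, x * (c * d * (a * b)) = c * d * (a * b) * x := by
      intro L hL x hx
      have e1 : c * d * (a * b) = (c * a) * (d * b) := by
        calc c * d * (a * b) = c * (d * a) * b := by group
          _ = (c * a) * (d * b) := by rw [hda]; group
      rw [e1]
      exact (Commute.mul_right (h1 L hL x hx) (h2 L hL x hx)).eq
    rcases hc with rfl | ⟨K', hK', hU', hc', rfl⟩
    · refine ⟨d, hd, ?_⟩
      rw [one_mul] at h3
      exact h3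
    · rcases hd with rfl | ⟨K'', hK'', hU'', hc'', rfl⟩
      · refine ⟨zz K', Or.inr ⟨K', hK', hU', hc', rfl⟩, ?_⟩
        rw [mul_one] at h3
        exact h3
      · by_cases hKK : K' = K''
        · subst hKK
          refine ⟨1, Or.inl rfl, ?_⟩
          rw [w.hyp.zz_mul hK'] at h3
          exact h3
        · have hl : Lkd Om K' K'' := ⟨hK', hK'', hKK, hcA (w.zz_mem_A hK' hU') (w.zz_mem_A hK'' hU''),
            w.not_orth hK'' (hc'.symm.trans hc'')⟩
          obtain ⟨M, hM1, -, hzM, -, hUM⟩ := w.el.third K' K'' hl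
          refine ⟨zz M, Or.inr ⟨M, hM1.mL, hUM.trans (sup_le hU' hU''), hc'.trans (Cl.step hM1), rfl⟩, ?_⟩
          rw [hzM]
          exact h3
  | inv a ha iha =>
    obtain ⟨c, hc, h1⟩ := iha
    refine ⟨c, hc, fun L hL x hx => ?_⟩
    obtain ⟨hcA', hcc⟩ := hcmem hc
    have e1 : c * a⁻¹ = (c * a)⁻¹ := by
      rw [mul_inv_rev, inv_eq_of_mul_eq_one_right hcc]
      exact hcA hcA' ((WW Om U S).inv_mem (w.e0_le _ ha))
    rw [e1]
    exact (Commute.inv_right (h1 L hL x hx)).eq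

/-- commuting elements acting on the class as `zz`s: the product centralises a member -/
theorem two {A₁ A₂ : Subgroup G} (hK : K ∈ Om) (h1 : Act Om U A₁ K w₁) (h2 : Act Om U A₂ K w₂)
    (hc : w₁ * w₂ = w₂ * w₁) : ∃ L ∈ Om, Cl Om K L ∧ ∀ x ∈ L, x * (w₁ * w₂) = w₁ * w₂ * x := by
  obtain ⟨c, hcc, h1⟩ := h1
  obtain ⟨d, hdd, h2⟩ := h2
  rcases hcc with rfl | ⟨K₁, hK₁, -, hc₁, rfl⟩
  · rcases hdd with rfl | ⟨K₂, hK₂, -, hc₂, rfl⟩
    · refine ⟨K, hK, Cl.refl K, fun x hx => ?_⟩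
      have e1 : Commute x w₁ := by have := h1 K (Cl.refl K) x hx; rwa [one_mul] at this
      have e2 : Commute x w₂ := by have := h2 K (Cl.refl K) x hx; rwa [one_mul] at this
      exact (e1.mul_right e2).eq
    · refine ⟨K₂, hK₂, hc₂, fun x hx => ?_⟩
      have e1 : Commute x w₁ := by have := h1 K₂ hc₂ x hx; rwa [one_mul] at this
      have e2 : Commute x (zz K₂ * w₂) := h2 K₂ hc₂ x hx
      have e3 : Commute x (zz K₂) := w.hyp.comm_zz hK₂ (le_normalizer hx)
      have e4 : w₂ = zz K₂ * (zz K₂ * w₂) := by rw [← mul_assoc, w.hyp.zz_mul hK₂, one_mul]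
      rw [e4]
      exact (e1.mul_right (e3.mul_right e2)).eq
  · rcases hdd with rfl | ⟨K₂, hK₂, -, hc₂, rfl⟩
    · refine ⟨K₁, hK₁, hc₁, fun x hx => ?_⟩
      have e1 : Commute x w₂ := by have := h2 K₁ hc₁ x hx; rwa [one_mul] at this
      have e2 : Commute x (zz K₁ * w₁) := h1 K₁ hc₁ x hx
      have e3 : Commute x (zz K₁) := w.hyp.comm_zz hK₁ (le_normalizer hx)
      have e4 : w₁ = zz K₁ * (zz K₁ * w₁) := by rw [← mul_assoc, w.hyp.zz_mul hK₁, one_mul]
      rw [e4]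
      exact ((e3.mul_right e2).mul_right e1).eq
    · obtain ⟨z₁, hz₁⟩ : ∃ z₁, z₁ = zz K₁ := ⟨_, rfl⟩
      obtain ⟨z₂, hz₂⟩ : ∃ z₂, z₂ = zz K₂ := ⟨_, rfl⟩
      rw [← hz₁] at h1
      rw [← hz₂] at h2
      have zz₁ : z₁ * z₁ = 1 := by rw [hz₁]; exact w.hyp.zz_mul hK₁
      have zz₂ : z₂ * z₂ = 1 := by rw [hz₂]; exact w.hyp.zz_mul hK₂
      have zi₁ : z₁⁻¹ = z₁ := inv_eq_of_mul_eq_one_right zz₁
      have zi₂ : z₂⁻¹ = z₂ := inv_eq_of_mul_eq_one_right zz₂
      have m₁ : z₁ ∈ K₁ := by rw [hz₁]; exact w.hyp.zz_mem hK₁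
      have m₂ : z₂ ∈ K₂ := by rw [hz₂]; exact w.hyp.zz_mem hK₂
      obtain ⟨a, ha⟩ : ∃ a, a = z₁ * w₁ := ⟨_, rfl⟩
      obtain ⟨b, hb⟩ : ∃ b, b = z₂ * w₂ := ⟨_, rfl⟩
      rw [← ha] at h1
      rw [← hb] at h2
      have e₁ : w₁ = z₁ * a := by rw [ha, ← mul_assoc, zz₁, one_mul]
      have e₂ : w₂ = z₂ * b := by rw [hb, ← mul_assoc, zz₂, one_mul]
      have a₂ : Commute z₂ a := h1 K₂ hc₂ z₂ m₂
      have b₁ : Commute z₁ b := h2 K₁ hc₁ z₁ m₁
      have hww : w₁ * w₂ = z₁ * z₂ * (a * b) := by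
        rw [e₁, e₂]
        calc z₁ * a * (z₂ * b) = z₁ * (a * z₂) * b := by group
          _ = z₁ * z₂ * (a * b) := by rw [← a₂.eq]; group
      have hww' : w₂ * w₁ = z₂ * z₁ * (b * a) := by
        rw [e₁, e₂]
        calc z₂ * b * (z₁ * a) = z₂ * (b * z₁) * a := by group
          _ = z₂ * z₁ * (b * a) := by rw [← b₁.eq]; group
      -- `c₀` centralises the class
      obtain ⟨c₀, hc₀⟩ : ∃ c₀, c₀ = z₁ * z₂ * (z₁ * z₂) := ⟨_, rfl⟩
      have h3 : c₀ = b * a * (a * b)⁻¹ := by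
        rw [hww, hww'] at hc
        have h4 : (z₂ * z₁)⁻¹ = z₁ * z₂ := by rw [mul_inv_rev, zi₁, zi₂]
        calc c₀ = (z₂ * z₁)⁻¹ * (z₁ * z₂ * (a * b)) * (a * b)⁻¹ := by rw [hc₀, h4]; group
          _ = b * a * (a * b)⁻¹ := by rw [hc]; group
      have hcen : ∀ L, Cl Om K L → ∀ x ∈ L, Commute x c₀ := by
        intro L hL x hx
        have f1 : Commute x a := h1 L hL x hx
        have f2 : Commute x b := h2 L hL x hx
        rw [h3]
        exact (f2.mul_right f1).mul_right (f1.mul_right f2).inv_right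
      -- the member over `z₂ z₁ z₂`
      have hK₃ := w.hyp.conj K₁ hK₁ z₂
      have hz₃ : zz (cj z₂ K₁) = z₁ * c₀ := by
        rw [zz_cj' w.hyp hK₁, ← hz₁, zi₂, hc₀]
        calc z₂ * z₁ * z₂ = (z₁ * z₁) * z₂ * z₁ * z₂ := by rw [zz₁]; group
          _ = z₁ * (z₁ * z₂ * (z₁ * z₂)) := by group
      have hcl₃ : Cl Om K₁ (cj z₂ K₁) := by
        have f1 := (hc₁.symm.trans hc₂).cj w.hyp z₂
        rw [mem_normalizer_iff_cj.1 (le_normalizer m₂)] at f1
        exact (hc₁.symm.trans hc₂).trans f1.symm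
      have hz₁c : Commute z₁ c₀ := hcen K₁ hc₁ z₁ m₁
      have hcomm : z₁ * z₂ = z₂ * z₁ := by
        by_cases hKK : K₁ = cj z₂ K₁
        · have f1 : z₁ = z₁ * c₀ := by
            rw [← hz₃, ← hKK, hz₁]
          have f2 : c₀ = 1 := (left_eq_mul.1 f1)
          rw [hc₀] at f2
          calc z₁ * z₂ = (z₁ * z₂)⁻¹ := (inv_eq_of_mul_eq_one_right f2).symm
            _ = z₂ * z₁ := by rw [mul_inv_rev, zi₁, zi₂]
        · exfalso
          have hl : Lkd Om K₁ (cj z₂ K₁) := by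
            refine ⟨hK₁, hK₃, hKK, ?_, w.not_orth hK₃ hcl₃⟩
            rw [hz₃, ← hz₁]
            exact ((Commute.refl z₁).mul_right hz₁c).eq
          obtain ⟨M, hM1, -, hzM, -, -⟩ := w.el.third _ _ hl
          rw [hz₃, ← hz₁, ← mul_assoc, zz₁, one_mul] at hzM
          obtain ⟨y, hy, hyM⟩ := w.el.moves _ _ hM1.symm
          rw [hzM] at hyM
          exact hyM (hcen K₁ hc₁ y hy).eq
      by_cases hKK : K₁ = K₂
      · refine ⟨K₁, hK₁, hc₁, fun x hx => ?_⟩
        have f0 : z₁ = z₂ := by rw [hz₁, hz₂, hKK]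
        have f1 : Commute x a := h1 K₁ hc₁ x hx
        have f2 : Commute x b := h2 K₁ hc₁ x hx
        rw [hww, ← f0, zz₁, one_mul]
        exact (f1.mul_right f2).eq
      · have hl : Lkd Om K₁ K₂ := ⟨hK₁, hK₂, hKK, by rw [← hz₁, ← hz₂, hcomm], w.not_orth hK₂ (hc₁.symm.trans hc₂)⟩
        obtain ⟨M, hM1, -, hzM, -, -⟩ := w.el.third _ _ hl
        refine ⟨M, hM1.mL, hc₁.trans (Cl.step hM1), fun x hx => ?_⟩
        have f1 : Commute x a := h1 M (hc₁.trans (Cl.step hM1)) x hx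
        have f2 : Commute x b := h2 M (hc₁.trans (Cl.step hM1)) x hx
        have f3 : Commute x (z₁ * z₂) := by
          rw [hz₁, hz₂, ← hzM]
          exact w.hyp.comm_zz hM1.mL (le_normalizer hx)
        rw [hww]
        exact (f3.mul_right (f1.mul_right f2)).eq

/-- `F` does not fix the block of `K` -/
theorem not_le (f : FSimp F) (zF : ∀ K ∈ Om, zz K ∈ F) (hK : K ∈ Om) (hL : L ∈ Om) (ho : Orth K L) :
    ¬ F ≤ ST (BB Om K) := by
  intro hle
  -- all members are in the block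
  have hall : ∀ N ∈ Om, ∀ S, Syl S ⊤ → zz N ∈ S → BS Om S = BB Om K := by
    intro N hN S hS hz
    obtain ⟨S₁, hS₁, hz₁, h1⟩ := w.exists_syl_elt hK (w.hyp.zz_mul hN) (hle (zF N hN))
    rw [w.bs_eq hS hN hz, ← h1, w.bs_eq hS₁ hN hz₁]
  -- the `zz N` fix the class of `K`
  have hfix : ∀ N ∈ Om, Cl Om K (cj (zz N) K) := by
    intro N hN
    obtain ⟨S, hS, hz, -⟩ := exists_syl_two (w.hyp.zz_mul hN) (w.hyp.zz_mul hN) rfl (mem_top (zz N)) (mem_top (zz N))
    have h1 : K ∈ BS Om S := by rw [hall N hN S hS hz]; exact self_mem_BB hK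
    obtain ⟨-, M, hM, hzM, hc⟩ := h1
    have h2 := w.el.noswap S hS.2.1 N hN hz M hM hzM
    have h3 : zz (cj (zz N) M) ∈ S := by
      rw [zz_cj' w.hyp hM]
      exact S.mul_mem (S.mul_mem hz hzM) (S.inv_mem hz)
    have h4 := w.el.chain S hS.2.1 M hM _ (w.hyp.conj M hM _) hzM h3 h2
    exact hc.trans (h4.trans (hc.symm.cj w.hyp _))
  obtain ⟨E, hE⟩ : ∃ E : Subgroup G, E = closure {z | ∃ N ∈ Om, z = zz N} := ⟨_, rfl⟩
  obtain ⟨Y, hY⟩ : ∃ Y : Subgroup G, Y = closure {z | ∃ N, Cl Om K N ∧ z = zz N} := ⟨_, rfl⟩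
  have hEF : E ≤ F := by
    rw [hE, closure_le]
    rintro z ⟨N, hN, rfl⟩
    exact zF N hN
  have hYE : Y ≤ E := by
    rw [hY, closure_le]
    rintro z ⟨N, hN, rfl⟩
    rw [hE]
    exact subset_closure ⟨N, hN.mem hK, rfl⟩
  have hzY : zz K ∈ Y := by rw [hY]; exact subset_closure ⟨K, Cl.refl K, rfl⟩
  haveI := f.sim
  have hsimple : ∀ Z : Subgroup G, Z ≤ F → Z ≠ ⊥ → F ≤ normalizer (Z : Set G) → Z = F := by
    intro Z hZF hZ hn
    have h1 : (Z.subgroupOf F).Normal := (normal_subgroupOf_iff_le_normalizer hZF).2 hn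
    rcases h1.eq_bot_or_eq_top with h2 | h2
    · exfalso
      rw [subgroupOf_eq_bot, disjoint_iff, inf_eq_left.2 hZF] at h2
      exact hZ h2
    · rw [subgroupOf_eq_top] at h2
      exact le_antisymm hZF h2
  have hne : ∀ {Z : Subgroup G}, zz K ∈ Z → Z ≠ ⊥ := by
    rintro Z h1 rfl
    exact w.hyp.zz_ne hK (mem_bot.1 h1)
  have hEn : ∀ g : G, cj g E = E := by
    have key : ∀ g : G, cj g E ≤ E := by
      intro g
      have h1 : E ≤ cj g⁻¹ E := by
        conv_lhs => rw [hE]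
        rw [closure_le]
        rintro z ⟨N, hN, rfl⟩
        rw [SetLike.mem_coe, mem_cj, inv_inv, ← zz_cj' w.hyp hN, hE]
        exact subset_closure ⟨_, w.hyp.conj N hN g, rfl⟩
      have h2 := cj_mono g h1
      rwa [cj_cj_inv] at h2
    intro g
    refine le_antisymm (key g) ?_
    have h1 := cj_mono g (key g⁻¹)
    rwa [cj_cj_inv] at h1
  have hEeq : E = F := hsimple E hEF (hne (hYE hzY)) fun g _ => mem_normalizer_iff_cj.2 (hEn g)
  have hYeq : Y = F := by
    refine hsimple Y (hYE.trans hEF) (hne hzY) ?_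
    rw [← hEeq, hE, closure_le]
    rintro z ⟨N, hN, rfl⟩
    have key : cj (zz N) Y ≤ Y := by
      have h1 : Y ≤ cj (zz N)⁻¹ Y := by
        conv_lhs => rw [hY]
        rw [closure_le]
        rintro z ⟨M, hM, rfl⟩
        rw [SetLike.mem_coe, mem_cj, inv_inv, ← zz_cj' w.hyp (hM.mem hK), hY]
        exact subset_closure ⟨_, (hfix N hN).trans (hM.cj w.hyp _), rfl⟩
      have h2 := cj_mono (zz N) h1
      rwa [cj_cj_inv] at h2
    rw [SetLike.mem_coe, mem_normalizer_iff_cj]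
    exact Subgroup.eq_of_le_of_card_ge key (card_cj (zz N) Y).ge
  have hcen : zz L ∈ centralizer (F : Set G) := by
    rw [← hYeq, hY, mem_centralizer_iff]
    intro x hx
    have h1 : closure {z | ∃ N, Cl Om K N ∧ z = zz N} ≤ centralizer ({zz L} : Set G) := by
      rw [closure_le]
      rintro z ⟨N, hN, rfl⟩
      rw [SetLike.mem_coe, mem_centralizer_singleton_iff]
      exact (w.orth_cl hN hL ho).2 _ (w.hyp.zz_mem (hN.mem hK)) _ (w.hyp.zz_mem hL)
    exact mem_centralizer_singleton_iff.1 (h1 hx)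
  rw [f.cen, mem_bot] at hcen
  exact w.hyp.zz_ne hL hcen

end EW

set_option linter.unusedVariables false in
/-- **the end** -/
theorem false_of (e : Elem Om U) (one : ∀ K ∈ Om, ∀ L ∈ Om, ∃ g, L = cj g K) (f : FSimp F)
    (zF : ∀ K ∈ Om, zz K ∈ F) (f5 : ∀ K L M, Lkd Om K L → M ∈ Om → Orth K M → Orth L M)
    (conn : ∀ u : G, orderOf u = 2 → ∀ K ∈ Om, K ≤ centralizer {u} →
      ∃ X, SNC (centralizer {u}) K X ∧ ∀ L ∈ BL K X, Cl Om K L)
    (ho : ∃ K ∈ Om, ∃ L ∈ Om, Orth K L) (hc : CloEnd.Crit1175 F) : False := by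
  haveI : Fact (Nat.Prime 2) := ⟨Nat.prime_two⟩
  have w : EW Om U := ⟨e, f5, conn⟩
  obtain ⟨K, hK, L, hL, hKL⟩ := ho
  obtain ⟨S, hS, hz, -⟩ := exists_syl_two (w.hyp.zz_mul hK) (w.hyp.zz_mul hK) rfl (mem_top (zz K)) (mem_top (zz K))
  have hB := w.bs_eq hS hK hz
  have hKS : K ∈ BS Om S := by rw [hB]; exact self_mem_BB hK
  have hA := w.isA hS
  obtain ⟨K₁, hK₁, hU₁, hc₁⟩ := w.rep_of hS hKS
  have hAS : WW Om U S ≤ S := WW_le S
  have hE0 := w.e0_le (WW Om U S)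
  -- the central involution
  obtain ⟨x, hx, hxx, hx1, hxc⟩ := Cfsg.Agent.Cit.Nil.CV.TProd.exists_central hS.2.1 (hE0.trans hAS) (by
    intro g hg y hy
    have h1 := cj_E0 w.hyp w.el.cvw.vch g hy
    rwa [mem_normalizer_iff_cj.1 (w.el.cvw.normalizer_le S (le_normalizer hg))] at h1) (by
    intro h1
    have h2 : zz K₁ ∈ E0 Om U (WW Om U S) := subset_closure ⟨K₁, hK₁, hU₁, rfl⟩
    rw [h1, mem_bot] at h2
    exact w.hyp.zz_ne hK₁ h2)
  have hxF : x ∈ F := by
    have h1 : E0 Om U (WW Om U S) ≤ F := by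
      rw [E0, closure_le]
      rintro z ⟨N, hN, -, rfl⟩
      exact zF N hN
    exact h1 hx
  have hx2 : orderOf x = 2 := orderOf_eq_prime (by rw [pow_two]; exact hxx) hx1
  -- `x` centralises a member of the block
  obtain ⟨K₂, hK₂, hU₂, -, hx₂⟩ := w.el.cent _ hA x (hE0 hx) hxx K₁ hK₁ hU₁
  have hB₂ : BB Om K₂ = BB Om K := by rw [← hB, w.bs_eq hS hK₂ (hAS (w.zz_mem_A hK₂ hU₂))]
  have hcx : K₂ ≤ centralizer {x} := fun y hy => mem_centralizer_singleton_iff.2 (hx₂ y hy)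
  have hC := w.cent_le hx2 hK₂ hcx
  have hG2 : ∀ g : G, g * x * g⁻¹ ∈ ST (BB Om K) → g ∈ ST (BB Om K) := by
    intro g hg
    rw [← hB₂] at hg ⊢
    exact w.mem_of hK₂ hx2 hcx hg
  rw [hB₂] at hC
  -- products of commuting conjugates
  have h3 : ∀ g : G, Commute x (g * x * g⁻¹) → g * x * g⁻¹ ≠ x → centralizer {x * (g * x * g⁻¹)} ≤ ST (BB Om K) := by
    intro g hcg hne
    have hgM := hG2 g (hC (mem_centralizer_singleton_iff.2 hcg.eq.symm))
    have hS' := syl_cj' hS g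
    have hKS' : K ∈ BS Om (cj g S) := by
      rw [← cj_BS w.hyp, hB]
      rw [mem_ST] at hgM
      rw [hgM]
      exact self_mem_BB hK
    have hA' : cj g (WW Om U S) = WW Om U (cj g S) := (w.el.cvw.WW_cj g S).symm
    have hgx := cj_E0 w.hyp w.el.cvw.vch g hx
    rw [hA'] at hgx
    obtain ⟨M, hM, hcM, hMc⟩ := w.two hK (w.act_of_mem hS hKS hx) (w.act_of_mem hS' hKS' hgx) hcg.eq
    have hgg : g * x * g⁻¹ * (g * x * g⁻¹) = 1 := by
      calc g * x * g⁻¹ * (g * x * g⁻¹) = g * (x * x) * g⁻¹ := by group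
        _ = 1 := by rw [hxx]; group
    have h4 : orderOf (x * (g * x * g⁻¹)) = 2 := by
      refine orderOf_eq_prime ?_ ?_
      · rw [pow_two]
        calc x * (g * x * g⁻¹) * (x * (g * x * g⁻¹)) = x * ((g * x * g⁻¹) * x) * (g * x * g⁻¹) := by group
          _ = x * (x * (g * x * g⁻¹)) * (g * x * g⁻¹) := by rw [hcg.eq]
          _ = (x * x) * ((g * x * g⁻¹) * (g * x * g⁻¹)) := by group
          _ = 1 := by rw [hxx, hgg, one_mul]
      · intro h5
        apply hne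
        have h6 := inv_eq_of_mul_eq_one_right h5
        rw [← h6]
        exact inv_eq_of_mul_eq_one_right hxx
    have h5 := w.cent_le h4 hM (fun y hy => mem_centralizer_singleton_iff.2 (hMc y hy))
    rw [w.bb_eq hK ⟨hM, Or.inl hcM⟩] at h5
    exact h5
  -- S1175 in `F`
  haveI := f.nor
  haveI := f.sim
  obtain ⟨T, rfl⟩ := sylow_of_syl hS
  obtain ⟨H, hH⟩ : ∃ H : Subgroup F, IsStronglyEmbedded H := by
    refine hc ((ST (BB Om K)).subgroupOf F) ?_ ⟨x, hxF⟩ ?_ ?_ ?_ ?_ ?_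
    · rw [Ne, subgroupOf_eq_top]
      exact w.not_le f zF hK hL hKL
    · rw [← Subgroup.orderOf_coe]; exact hx2
    · rw [mem_subgroupOf]
      exact hC (mem_centralizer_singleton_iff.2 rfl)
    · have p1 : IsPGroup 2 ((T : Subgroup G).subgroupOf F) := T.isPGroup'.comap_subtype
      have p2 : ¬ 2 ∣ ((T : Subgroup G).subgroupOf F).index := fun h5 => T.not_dvd_index (h5.trans
        (Cfsg.Agent.SignalizersComponents.PCompCore.relIndex_dvd_index_of_subnormal (T : Subgroup G)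
          (inferInstance : F.Normal).isSubnormal))
      obtain ⟨P, hP⟩ : ∃ P : Sylow 2 F, (P : Subgroup F) = (T : Subgroup G).subgroupOf F := ⟨p1.toSylow p2, rfl⟩
      refine ⟨P, ?_, ?_⟩
      · have h5 : (⟨x, hxF⟩ : F) ∈ (P : Subgroup F) := by
          rw [hP, mem_subgroupOf]
          exact hAS (hE0 hx)
        exact h5
      · intro s hs
        have h5 : s ∈ (P : Subgroup F) := hs
        rw [hP, mem_subgroupOf] at h5
        exact Subtype.ext (hxc _ h5)
    · intro g hg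
      rw [mem_subgroupOf] at hg ⊢
      exact hG2 _ hg
    · intro g hcg hne y hy
      rw [mem_subgroupOf]
      have h4 : Commute x ((g : G) * x * (g : G)⁻¹) := congrArg Subtype.val hcg.eq
      refine h3 (g : G) h4 (fun h5 => hne (Subtype.ext h5)) ?_
      rw [mem_centralizer_singleton_iff] at hy ⊢
      exact congrArg Subtype.val hy
  have hcm : zz K * zz L = zz L * zz K := hKL.2 _ (w.hyp.zz_mem hK) _ (w.hyp.zz_mem hL)
  have h4 : orderOf (zz K * zz L) = 2 := by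
    refine orderOf_eq_prime ?_ ?_
    · rw [pow_two]
      calc zz K * zz L * (zz K * zz L) = zz K * (zz L * zz K) * zz L := by group
        _ = (zz K * zz K) * (zz L * zz L) := by rw [← hcm]; group
        _ = 1 := by rw [w.hyp.zz_mul hK, w.hyp.zz_mul hL, one_mul]
    · intro h5
      apply hKL.1
      apply e.inj K hK L hL
      have h6 := inv_eq_of_mul_eq_one_right h5
      rw [← h6]
      exact (inv_eq_of_mul_eq_one_right (w.hyp.zz_mul hK)).symm
  have h5 := Cfsg.Agent.TwoFusion.StronglyEmbeddedBasic.isConj_of_involutions hH ⟨zz K, zF K hK⟩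
    ⟨zz K * zz L, F.mul_mem (zF K hK) (zF L hL)⟩ (by rw [← Subgroup.orderOf_coe]; exact w.order_zz hK)
    (by rw [← Subgroup.orderOf_coe]; exact h4)
  obtain ⟨g, hg⟩ := isConj_iff.1 h5
  have h6 : (g : G) * zz K * (g : G)⁻¹ = zz K * zz L := congrArg Subtype.val hg
  rw [← zz_cj' w.hyp hK] at h6
  exact e.omul K hK L hL hKL _ (w.hyp.conj K hK g) h6

end Cfsg.Agent.Cit.Nil.CVA2

private theorem dce_7beadaa4ed52 : _root_.True := by
  try have : _root_.True := by simp only [_root_.Cfsg.Agent.Cit.Nil.CVA2.E0.eq_1]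
  exact _root_.True.intro
end

-- part: Cit/Nil/CompR/ProdTwo
section
set_option linter.all false
open scoped Cfsg.Agent.FastGrp

/-!
# S1309 (6b), COMP, any `r`, the product situation: the case `m = 2` of (F4); `Comp/ProdTwo.lean` for `GW`

* `Fram.mTwo` : `MTwo`, if `O(C(z₁ z₂)) = 1` for the C-pairs `z₁, z₂`.
-/

set_option autoImplicit false
set_option linter.style.haveILetI false
set_option linter.unusedSectionVars false

namespace Cfsg.Agent.Cit.Nil.CompR

open Subgroup Cfsg Cfsg.Agent.Cit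
open Cfsg.Agent.Cit.Nil.AN (Om Cl OneC Ce Cm)
open Cfsg.Agent.Cit.Nil.ROne (CP CS TT OneCls)
open Cfsg.Agent.OddOrderLocal.NilParts Cfsg.Agent.StdEven.Syl

variable {G : Type*} [Group G]

namespace Fram

variable {Z : Set G} {K : G → Subgroup G} {Sg Kl : G → Set G}

/-- **`m = 2`** -/
theorem mTwo [Finite G] (f : Fram Z K Sg Kl) (w : GW Z K) (S : Sylow 2 G)
    (cf : ∀ z ∈ Z, ∀ u ∈ Z, CP K z u → ∀ N : Subgroup G, N ≤ centralizer {z * u} →
      centralizer {z * u} ≤ normalizer (N : Set G) → Odd (Nat.card N) → N = ⊥) : MTwo Z K (S : Subgroup G) := by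
  intro z₁ z₂ hne hCS hall hone
  have hS := S.isPGroup'
  have hz1 : z₁ ∈ CS Z K (S : Subgroup G) := by rw [hCS]; exact Or.inl rfl
  have hz2 : z₂ ∈ CS Z K (S : Subgroup G) := by rw [hCS]; exact Or.inr rfl
  have hcp := w.com S hS hz1.1 hz2.1 hz1.2 hz2.2 hne
  have hcomm : z₁ * z₂ = z₂ * z₁ := w.comm_of_cp hz1.1 hz2.1 hcp
  have hzz1 := w.sq z₁ hz1.1
  have hzz2 := w.sq z₂ hz2.1
  set h := z₁ * z₂ with hh
  have h_ne : h ≠ 1 := w.cp_mul_ne hz2.1 hcp
  have hh2 : h * h = 1 := by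
    rw [hh]
    calc z₁ * z₂ * (z₁ * z₂) = z₁ * (z₂ * z₁) * z₂ := by group
      _ = z₁ * (z₁ * z₂) * z₂ := by rw [← hcomm]
      _ = (z₁ * z₁) * (z₂ * z₂) := by group
      _ = 1 := by rw [hzz1, hzz2, one_mul]
  have e1 : h * z₁ = z₂ := by rw [hcomm, mul_assoc, hzz1, mul_one]
  have e2 : h * z₂ = z₁ := by rw [hh, mul_assoc, hzz2, mul_one]
  have e3 : z₁ * h = z₂ := by rw [hh, ← mul_assoc, hzz1, one_mul]
  have hz1h : z₁ * h = h * z₁ := e3.trans e1.symm
  have hz1S : z₂ ∈ Sg z₁ := f.cs_sub w hS hz1 hz2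
  -- `z₂` is in another class
  have hn : z₂ ∉ Kl z₁ := by
    intro h3
    obtain ⟨s, hs, hsn⟩ := f.ex z₁ hz1.1
    obtain ⟨v, hv, hvS⟩ := f.meets w S hz1 hs
    have hvn : v ∉ Kl z₁ := fun h4 => hsn (by
      have h5 : s ∈ Kl v := f.kl_symm (f.mem_Z hz1.1 hs) hv
      rw [f.klEq z₁ hz1.1 v h4] at h5
      exact h5)
    rw [hCS] at hvS
    rcases hvS with rfl | rfl
    · exact hvn (f.self _ hz1.1)
    · exact hvn h3
  -- the main claim
  have key : ∀ c ∈ Sg z₁, Ce h (K c) → c = z₁ ∨ c = z₂ := by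
    intro c hc hch
    have hcZ := f.mem_Z hz1.1 hc
    have h3 : c ∈ CS Z K (S : Subgroup G) := by
      obtain ⟨v, hv, hvS⟩ := f.meets w S hz1 hc
      have hcv : c ∈ Kl v := f.kl_symm hcZ hv
      refine w.mem_CS_of_clique S hcZ fun y hy => ?_
      by_cases hyc : y = c
      · exact Or.inl hyc
      · right
        -- the element of `{z₁, z₂}` outside the class of `c`
        have main : ∀ a ∈ CS Z K (S : Subgroup G), ∀ b ∈ CS Z K (S : Subgroup G), h * b = a → c ∈ Kl a → b ∉ Kl a →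
            ∀ y, y = a ∨ y = b → y ≠ c → CP K y c := by
          intro a ha b hb hab hca hba y hy hyc
          have hcS : c ∈ Sg b := by
            rw [f.sgEq z₁ hz1.1 b (f.cs_sub w hS hz1 hb)]
            exact hc
          have h4 : CP K b c := f.cm b hb.1 c hcS fun h5 => hba (by
            have h6 : b ∈ Kl c := f.kl_symm hb.1 h5
            rwa [f.klEq a ha.1 c hca] at h6)
          rcases hy with rfl | rfl
          · have h5 : Ce (h * b) (K c) := hch.mul (w.cen_of_cp hb.1 h4.symm)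
            rw [hab] at h5
            exact w.csymm hcZ ha.1 (Ne.symm hyc) h5 |>.symm
          · exact h4
        rw [hCS] at hvS hy
        rcases hvS with rfl | rfl
        · exact main _ hz1 z₂ hz2 e2 hcv hn y hy hyc
        · refine main _ hz2 z₁ hz1 e1 hcv (fun h4 => hn (f.kl_symm hz2.1 h4)) y ?_ hyc
          exact hy.symm
    rw [hCS] at h3
    exact h3
  have inX : ∀ g : G, g * h = h * g → Ce h (K (g * z₁ * g⁻¹)) := by
    intro g hg
    have h3 := w.ce_conj hz1.1 g (show Ce h (K z₁) from w.TT_cen hS hz1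
      (mul_mem (subset_closure hz1) (subset_closure hz2)))
    have e : g * h * g⁻¹ = h := by rw [hg, mul_inv_cancel_right]
    rwa [e] at h3
  -- Z*
  have inv : ∀ g : G, g * h = h * g → g * z₁ * g⁻¹ = z₁ ∨ g * z₁ * g⁻¹ = z₂ := by
    intro g hg
    rw [← e1]
    have hz1n : z₁ ≠ 1 := w.ne z₁ hz1.1
    have hz2n : z₂ ≠ 1 := w.ne z₂ hz2.1
    refine Comp.zstar_mod hh2 h_ne (cf z₁ hz1.1 z₂ hz2.1 hcp) hz1h hzz1 hz1n (fun h3 => hz2n ?_) ?_ g hg
    · rw [← e3, ← h3, hzz1]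
    · intro g hg h3
      rw [e1]
      have hcZ : g * z₁ * g⁻¹ ∈ Z := w.conjZ z₁ hz1.1 g
      refine key _ ?_ (inX g hg)
      apply f.f3 z₁ hz1.1 _ hcZ
      have hci : (g * z₁ * g⁻¹)⁻¹ = g * z₁ * g⁻¹ := w.inv hcZ
      rcases h3 with h3 | h3
      · rw [← h3, mul_inv_cancel_right]
        exact f.selfS hz1.1
      · have h4 : g * z₁ * g⁻¹ * z₁ = h * (z₁ * (g * z₁ * g⁻¹)) := by
          rw [h3, ← mul_assoc, hh2, one_mul]
        have h5 : g * z₁ * g⁻¹ * z₁ * (g * z₁ * g⁻¹)⁻¹ = z₂ := by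
          rw [h4, ← mul_assoc, e1, mul_assoc z₂, mul_inv_cancel, mul_one]
        rw [h5]
        exact hz1S
  have inv2 : ∀ g : G, g * h = h * g → g * z₂ * g⁻¹ = z₁ ∨ g * z₂ * g⁻¹ = z₂ := by
    intro g hg
    have h3 : g * z₂ * g⁻¹ = h * (g * z₁ * g⁻¹) := by
      rw [← e1]
      calc g * (h * z₁) * g⁻¹ = (g * h) * z₁ * g⁻¹ := by group
        _ = h * (g * z₁ * g⁻¹) := by rw [hg]; group
    rcases inv g hg with h4 | h4
    · right
      rw [h3, h4, e1]
    · left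
      rw [h3, h4, e2]
  -- `S ≤ C(h)`
  have hSX : (S : Subgroup G) ≤ centralizer {h} := by
    intro s hs
    rw [mem_centralizer_singleton_iff]
    have h3 := f.cs_conj w hz1 hs
    have h4 := f.cs_conj w hz2 hs
    rw [hCS] at h3 h4
    have inj : s * z₁ * s⁻¹ ≠ s * z₂ * s⁻¹ := fun h5 => hne (mul_left_cancel (mul_right_cancel h5))
    have h5 : s * h * s⁻¹ = h := by
      have e : s * h * s⁻¹ = (s * z₁ * s⁻¹) * (s * z₂ * s⁻¹) := by rw [hh]; group
      rw [e]
      rcases h3 with h3 | h3 <;> rcases h4 with h4 | h4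
      · exact absurd (h3.trans h4.symm) inj
      · rw [h3, h4]
      · rw [h3, h4, ← hcomm]
      · exact absurd (h3.trans h4.symm) inj
    rw [mul_inv_eq_iff_eq_mul] at h5
    exact h5
  -- `Om h = {z₁, z₂}`
  have hOm : ∀ c ∈ Om Z K h, c = z₁ ∨ c = z₂ := by
    intro c hc
    have hcX : K c ≤ centralizer {h} := fun k hk => mem_centralizer_singleton_iff.2 (hc.2 k hk).symm
    obtain ⟨m, hm, hmS⟩ := exists_conj_into S hSX (w.two hc.1) hcX
    have h3 : m * c * m⁻¹ ∈ CS Z K (S : Subgroup G) := by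
      refine ⟨w.conjZ c hc.1 m, ?_⟩
      rw [w.conjK c hc.1]
      intro x hx
      rw [mem_cj] at hx
      have h4 := hmS _ hx
      have e : m * (m⁻¹ * x * m) * m⁻¹ = x := by group
      rwa [e] at h4
    have hm' : m⁻¹ * h = h * m⁻¹ := by
      have h4 := mem_centralizer_singleton_iff.1 (inv_mem hm)
      exact h4
    have e : c = m⁻¹ * (m * c * m⁻¹) * m⁻¹⁻¹ := by group
    rw [hCS] at h3
    rcases h3 with h3 | h3
    · rw [h3] at e
      rw [e]
      exact inv m⁻¹ hm'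
    · have h3' : m * c * m⁻¹ = z₂ := h3
      rw [h3'] at e
      rw [e]
      exact inv2 m⁻¹ hm'
  -- the class of `z₁` in `C(h)` is `{z₁}`
  have hcl : ∀ c ∈ Cl Z K h z₁, c = z₁ := by
    intro c hc
    have hc' : Relation.ReflTransGen (AN.St Z K h) z₁ c := hc
    clear hc
    induction hc' with
    | refl => rfl
    | tail h3 h4 ih =>
      rw [ih] at h4
      rcases hOm _ h4.1 with h5 | h5
      · exact h5
      · rw [h5] at h4
        exact absurd hcp.2 h4.2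
  have hz2O : z₂ ∈ Om Z K h := ⟨hz2.1, w.TT_cen hS hz2 (mul_mem (subset_closure hz1) (subset_closure hz2))⟩
  exact hne (hcl z₂ (hall z₂ hz2O)).symm

end Fram

end Cfsg.Agent.Cit.Nil.CompR
end
end
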